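import Mathlib
import Cfsg.Prelude.Def_GeometricClasses

/-!
Shared vocabulary for S5630 (Aschbacher's theorem for subgroups of `SL_n(q)`), architect helper61.
Everything is about subgroups of `GL ι F` (matrices acting on column vectors `ι → F`).
-/

set_option autoImplicit false

namespace Cfsg.Agent.Lib.Helper61.Asch

open Cfsg Cfsg.Geo
open scoped Matrix Kronecker MatrixGroups

variable {ι : Type} [Fintype ι] [DecidableEq ι] {F : Type*} [Field F]

/-- `K` normalizes the subgroup `N` (no containment assumed). -/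
def NormBy (K N : Subgroup (GL ι F)) : Prop := ∀ k ∈ K, ∀ x ∈ N, k * x * k⁻¹ ∈ N

/-- `K` normalizes the subalgebra `A` of the matrix algebra. -/
def NormAlg (K : Subgroup (GL ι F)) (A : Subalgebra F (Matrix ι ι F)) : Prop :=
  ∀ k ∈ K, ∀ x ∈ A, (k : Matrix ι ι F) * x * ((k⁻¹ : GL ι F) : Matrix ι ι F) ∈ A

/-- The subalgebra of the matrix algebra generated (= spanned) by the matrices of a subgroup. -/
def spanAlg (N : Subgroup (GL ι F)) : Subalgebra F (Matrix ι ι F) := Algebra.adjoin F (matrixSet N)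

/-- `x ↦ P (x ⊗ 1_b) P⁻¹`, the matrix `x ⊗ 1_b` being read on `ι` through `e : ι ≃ Fin a × Fin b`. -/
def tensorLeft (a b : ℕ) (e : ι ≃ Fin a × Fin b) (P : GL ι F) (x : Matrix (Fin a) (Fin a) F) : Matrix ι ι F :=
  (P : Matrix ι ι F) * Matrix.reindex e.symm e.symm (x ⊗ₖ (1 : Matrix (Fin b) (Fin b) F)) *
    ((P⁻¹ : GL ι F) : Matrix ι ι F)

/-- The subalgebra `A` is `P (M_a(F) ⊗ 1_b) P⁻¹`. -/
def IsTensorLeft (A : Subalgebra F (Matrix ι ι F)) (a b : ℕ) (e : ι ≃ Fin a × Fin b) (P : GL ι F) : Prop :=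
  ∀ M : Matrix ι ι F, M ∈ A ↔ ∃ x : Matrix (Fin a) (Fin a) F, M = tensorLeft a b e P x

/-- The conclusion "`K` lies in a member of one of the eight classes". -/
def Geom {n : ℕ} [Fintype F] (K : Subgroup (GL (Fin n) F)) : Prop :=
  ∃ M : Subgroup (GL (Fin n) F), InLinearClass n F M ∧ K ≤ M

end Cfsg.Agent.Lib.Helper61.Asch
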