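import Mathlib
import Cfsg.Prelude.Def_GeometricClasses
import Cfsg.Agent.Lib.Helper61.AschDefs

set_option autoImplicit false

namespace Cfsg.Agent.Lib.Helper61.Asch

open Cfsg Cfsg.Geo
open scoped Matrix Kronecker MatrixGroups

variable {ι : Type} [Fintype ι] [DecidableEq ι] {F : Type*} [Field F]

theorem mem_matrixSet {N : Subgroup (GL ι F)} {g : GL ι F} (hg : g ∈ N) :
    (g : Matrix ι ι F) ∈ matrixSet N := ⟨g, hg, rfl⟩

theorem coe_mem_spanAlg {N : Subgroup (GL ι F)} {g : GL ι F} (hg : g ∈ N) :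
    (g : Matrix ι ι F) ∈ spanAlg N := Algebra.subset_adjoin (mem_matrixSet hg)

theorem spanAlg_mono {N M : Subgroup (GL ι F)} (h : N ≤ M) : spanAlg N ≤ spanAlg M := by
  apply Algebra.adjoin_mono
  rintro _ ⟨g, hg, rfl⟩
  exact ⟨g, h hg, rfl⟩

/-- scalars commute with everything -/
theorem scalar_comm {z : GL ι F} (hz : z ∈ scalars ι F) (g : GL ι F) : z * g = g * z := by
  rw [mem_scalars_iff] at hz
  obtain ⟨c, hc⟩ := hz
  apply Units.ext
  rw [Units.val_mul, Units.val_mul, hc]
  simp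

theorem scalar_comm_mat {z : GL ι F} (hz : z ∈ scalars ι F) (M : Matrix ι ι F) :
    (z : Matrix ι ι F) * M = M * (z : Matrix ι ι F) := by
  rw [mem_scalars_iff] at hz
  obtain ⟨c, hc⟩ := hz
  rw [hc]
  simp

theorem coe_scalar_mem_bot {z : GL ι F} (hz : z ∈ scalars ι F) :
    (z : Matrix ι ι F) ∈ (⊥ : Subalgebra F (Matrix ι ι F)) := by
  rw [mem_scalars_iff] at hz
  obtain ⟨c, hc⟩ := hz
  rw [hc, Algebra.mem_bot]
  exact ⟨(c : F), by simp [Algebra.algebraMap_eq_smul_one]⟩

theorem spanAlg_sup_scalars (N : Subgroup (GL ι F)) : spanAlg (N ⊔ scalars ι F) = spanAlg N := by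
  apply le_antisymm
  · apply Algebra.adjoin_le
    rintro _ ⟨g, hg, rfl⟩
    -- g = x * z
    have hnorm : ∀ a ∈ N, ∀ b ∈ scalars ι F, a * b = b * a := fun a _ b hb => (scalar_comm hb a).symm
    rw [Subgroup.mul_normal N (scalars ι F)] at hg
    obtain ⟨x, hx, z, hz, rfl⟩ := Set.mem_mul.mp hg
    show ((x * z : GL ι F) : Matrix ι ι F) ∈ spanAlg N
    rw [Units.val_mul]
    refine (spanAlg N).mul_mem (coe_mem_spanAlg hx) ?_
    exact (bot_le : (⊥ : Subalgebra F (Matrix ι ι F)) ≤ spanAlg N) (coe_scalar_mem_bot hz)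
  · exact spanAlg_mono le_sup_left

theorem normAlg_spanAlg {K N : Subgroup (GL ι F)} (h : NormBy K N) : NormAlg K (spanAlg N) := by
  intro k hk x hx
  induction hx using Algebra.adjoin_induction with
  | mem x hx =>
    obtain ⟨g, hg, rfl⟩ := hx
    have := h k hk g hg
    have h2 : ((k * g * k⁻¹ : GL ι F) : Matrix ι ι F) ∈ spanAlg N := coe_mem_spanAlg this
    simpa [Units.val_mul] using h2
  | algebraMap r =>
    have : (k : Matrix ι ι F) * (algebraMap F (Matrix ι ι F) r) * ((k⁻¹ : GL ι F) : Matrix ι ι F)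
        = algebraMap F (Matrix ι ι F) r := by
      rw [Algebra.algebraMap_eq_smul_one, Matrix.mul_smul, Matrix.mul_one, Matrix.smul_mul,
        ← Units.val_mul, mul_inv_cancel, Units.val_one]
    rw [this]
    exact (spanAlg N).algebraMap_mem r
  | add x y _ _ hx hy =>
    rw [mul_add, add_mul]
    exact (spanAlg N).add_mem hx hy
  | mul x y _ _ hx hy =>
    have : (k : Matrix ι ι F) * (x * y) * ((k⁻¹ : GL ι F) : Matrix ι ι F)
        = ((k : Matrix ι ι F) * x * ((k⁻¹ : GL ι F) : Matrix ι ι F)) *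
          ((k : Matrix ι ι F) * y * ((k⁻¹ : GL ι F) : Matrix ι ι F)) := by
      have hkk : ((k⁻¹ : GL ι F) : Matrix ι ι F) * (k : Matrix ι ι F) = 1 := by
        rw [← Units.val_mul, inv_mul_cancel, Units.val_one]
      calc (k : Matrix ι ι F) * (x * y) * ((k⁻¹ : GL ι F) : Matrix ι ι F)
          = (k : Matrix ι ι F) * x * (1 : Matrix ι ι F) * y * ((k⁻¹ : GL ι F) : Matrix ι ι F) := by
            simp [mul_assoc]
        _ = _ := by rw [← hkk]; simp only [mul_assoc]
    rw [this]
    exact (spanAlg N).mul_mem hx hy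

/-- an element commuting with an absolutely irreducible group is a scalar -/
theorem mem_scalars_of_commute {X : Subgroup (GL ι F)} (hX : spanAlg X = ⊤) (g : GL ι F)
    (hg : ∀ x ∈ X, g * x = x * g) : g ∈ scalars ι F := by
  have hcomm : ∀ M : Matrix ι ι F, (g : Matrix ι ι F) * M = M * (g : Matrix ι ι F) := by
    intro M
    have hM : M ∈ spanAlg X := by rw [hX]; trivial
    induction hM using Algebra.adjoin_induction with
    | mem x hx =>
      obtain ⟨y, hy, rfl⟩ := hx
      have := hg y hy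
      have h2 := congrArg (fun u : GL ι F => (u : Matrix ι ι F)) this
      simpa [Units.val_mul] using h2
    | algebraMap r => simp [Algebra.algebraMap_eq_smul_one]
    | add x y _ _ hx hy => rw [mul_add, add_mul, hx, hy]
    | mul x y _ _ hx hy => rw [← mul_assoc, hx, mul_assoc, hy, mul_assoc]
  -- a matrix commuting with all matrices is scalar
  have hsc : (g : Matrix ι ι F) ∈ Set.range (Matrix.scalar ι : F →+* Matrix ι ι F) := by
    rw [← Matrix.center_eq_range]  
    rw [Semigroup.mem_center_iff]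
    exact fun M => (hcomm M).symm
  obtain ⟨c, hc⟩ := hsc
  by_cases hc0 : c = 0
  · subst hc0
    have h1 : (g : Matrix ι ι F) = 0 := by rw [← hc]; simp
    have h2 : ((g : Matrix ι ι F)) * ((g⁻¹ : GL ι F) : Matrix ι ι F) = 1 := by
      rw [← Units.val_mul, mul_inv_cancel, Units.val_one]
    rw [h1, zero_mul] at h2
    -- 0 = 1 in matrices: then everything is scalar anyway
    have h3 : (g : Matrix ι ι F) = ((1 : Fˣ) : F) • (1 : Matrix ι ι F) := by
      rw [h1, Units.val_one, one_smul, h2]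
    exact (mem_scalars_iff g).mpr ⟨1, h3⟩
  rw [mem_scalars_iff]
  refine ⟨Units.mk0 c hc0, ?_⟩
  rw [← hc]
  simp [Matrix.smul_one_eq_diagonal]

end Cfsg.Agent.Lib.Helper61.Asch
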