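import Mathlib
import Cfsg.Prelude.Def_GeometricClasses
import Cfsg.Agent.Lib.Helper61.AschDefs
import Cfsg.Agent.Lib.Helper61.AschBasic

set_option autoImplicit false

namespace Cfsg.Agent.Lib.Helper61.Asch

open Cfsg Cfsg.Geo
open scoped Matrix Kronecker MatrixGroups commutatorElement

variable {ι : Type} [Fintype ι] [DecidableEq ι] {F : Type*} [Field F]

local notation "Z" => scalars ι F

theorem normBy_iff_map {K N : Subgroup (GL ι F)} :
    NormBy K N ↔ ∀ k ∈ K, N.map (MulAut.conj k).toMonoidHom ≤ N := by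
  constructor
  · intro h k hk
    rintro _ ⟨x, hx, rfl⟩
    exact h k hk x hx
  · intro h k hk x hx
    exact h k hk ⟨x, hx, rfl⟩

theorem normBy_scalars (K : Subgroup (GL ι F)) : NormBy K Z := by
  intro k _ x hx
  exact (scalars_normal (ι := ι) (F := F)).conj_mem x hx k

theorem normBy_self (K : Subgroup (GL ι F)) : NormBy K K := by
  intro k hk x hx
  exact K.mul_mem (K.mul_mem hk hx) (K.inv_mem hk)

theorem NormBy.sup {K M N : Subgroup (GL ι F)} (hM : NormBy K M) (hN : NormBy K N) : NormBy K (M ⊔ N) := by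
  rw [normBy_iff_map] at *
  intro k hk
  rw [Subgroup.map_sup]
  exact sup_le_sup (hM k hk) (hN k hk)

theorem NormBy.commutator {K M N : Subgroup (GL ι F)} (hM : NormBy K M) (hN : NormBy K N) :
    NormBy K ⁅M, N⁆ := by
  rw [normBy_iff_map] at *
  intro k hk
  rw [Subgroup.map_commutator]
  exact Subgroup.commutator_mono (hM k hk) (hN k hk)

theorem NormBy.mono {K K' N : Subgroup (GL ι F)} (h : NormBy K N) (hK : K' ≤ K) : NormBy K' N :=
  fun k hk x hx => h k (hK hk) x hx

/-- elements of `A ⊔ Z` are products -/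
theorem mem_sup_scalars {A : Subgroup (GL ι F)} {g : GL ι F} (hg : g ∈ A ⊔ Z) :
    ∃ a ∈ A, ∃ z ∈ Z, g = a * z := by
  have : g ∈ ((A ⊔ Z : Subgroup (GL ι F)) : Set (GL ι F)) := hg
  rw [Subgroup.mul_normal A Z] at this
  obtain ⟨a, ha, z, hz, rfl⟩ := Set.mem_mul.mp this
  exact ⟨a, ha, z, hz, rfl⟩

theorem commutatorElement_mul_scalars {a b z w : GL ι F} (hz : z ∈ Z) (hw : w ∈ Z) :
    ⁅a * z, b * w⁆ = ⁅a, b⁆ := by
  rw [commutatorElement_def, commutatorElement_def]
  have h1 := scalar_comm hz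
  have h2 := scalar_comm hw
  calc a * z * (b * w) * (a * z)⁻¹ * (b * w)⁻¹
      = a * (z * (b * w) * z⁻¹) * a⁻¹ * (b * w)⁻¹ := by group
    _ = a * (b * w) * a⁻¹ * (b * w)⁻¹ := by rw [h1 (b * w)]; group
    _ = a * b * (w * a⁻¹ * w⁻¹) * b⁻¹ := by group
    _ = a * b * a⁻¹ * b⁻¹ := by rw [h2 a⁻¹]; group

theorem commutator_sup_scalars (A : Subgroup (GL ι F)) : ⁅A ⊔ Z, A ⊔ Z⁆ = ⁅A, A⁆ := by
  apply le_antisymm
  · rw [Subgroup.commutator_le]
    intro g₁ hg₁ g₂ hg₂
    obtain ⟨a, ha, z, hz, rfl⟩ := mem_sup_scalars hg₁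
    obtain ⟨b, hb, w, hw, rfl⟩ := mem_sup_scalars hg₂
    rw [commutatorElement_mul_scalars hz hw]
    exact Subgroup.commutator_mem_commutator ha hb
  · exact Subgroup.commutator_mono le_sup_left le_sup_left

theorem commutator_le_self (A : Subgroup (GL ι F)) : ⁅A, A⁆ ≤ A := by
  rw [Subgroup.commutator_le]
  intro a ha b hb
  rw [commutatorElement_def]
  exact A.mul_mem (A.mul_mem (A.mul_mem ha hb) (A.inv_mem ha)) (A.inv_mem hb)

/-- power of a product when the commutator is central -/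
theorem exists_mul_pow {x y : GL ι F} (hc : y * x * y⁻¹ * x⁻¹ ∈ Z) (k : ℕ) :
    ∃ z ∈ Z, (x * y) ^ k = z * x ^ k * y ^ k := by
  set c := y * x * y⁻¹ * x⁻¹ with hcdef
  have hyx : y * x = c * x * y := by rw [hcdef]; group
  have hcc := scalar_comm hc
  -- y^k x = c^k x y^k
  have h1 : ∀ k : ℕ, y ^ k * x = c ^ k * x * y ^ k := by
    intro k
    induction k with
    | zero => simp
    | succ k ih =>
      calc y ^ (k + 1) * x = y * (y ^ k * x) := by rw [pow_succ']; group
        _ = y * (c ^ k * x * y ^ k) := by rw [ih]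
        _ = c ^ k * (y * x) * y ^ k := by
            have := scalar_comm (Subgroup.pow_mem _ hc k) y
            calc y * (c ^ k * x * y ^ k) = (y * c ^ k) * x * y ^ k := by simp only [mul_assoc]
              _ = (c ^ k * y) * x * y ^ k := by rw [this]
              _ = _ := by simp only [mul_assoc]
        _ = c ^ k * (c * x * y) * y ^ k := by rw [hyx]
        _ = c ^ (k + 1) * x * y ^ (k + 1) := by rw [pow_succ, pow_succ']; simp only [mul_assoc]
  induction k with
  | zero => exact ⟨1, Subgroup.one_mem _, by simp⟩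
  | succ k ih =>
    obtain ⟨z, hz, hzk⟩ := ih
    refine ⟨z * c ^ k, Subgroup.mul_mem _ hz (Subgroup.pow_mem _ hc k), ?_⟩
    have hck := scalar_comm (Subgroup.pow_mem _ hc k)
    calc (x * y) ^ (k + 1) = (x * y) ^ k * (x * y) := pow_succ _ _
      _ = z * x ^ k * y ^ k * (x * y) := by rw [hzk]
      _ = z * x ^ k * (y ^ k * x) * y := by simp only [mul_assoc]
      _ = z * x ^ k * (c ^ k * x * y ^ k) * y := by rw [h1 k]
      _ = z * (x ^ k * c ^ k) * x * y ^ k * y := by simp only [mul_assoc]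
      _ = z * (c ^ k * x ^ k) * x * y ^ k * y := by rw [hck (x ^ k)]
      _ = z * c ^ k * x ^ (k + 1) * y ^ (k + 1) := by rw [pow_succ, pow_succ]; simp only [mul_assoc]

end Cfsg.Agent.Lib.Helper61.Asch
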