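import Mathlib
import Cfsg.Prelude.Def_Solvable

set_option autoImplicit false

namespace Cfsg.Agent.Lib.Helper61

open Cfsg

variable {G : Type*} [Group G]

/-- The order of `M ⊔ N` divides `|M| * |N|` when `N` is normal. -/
theorem card_sup_dvd_mul (M N : Subgroup G) [N.Normal] :
    Nat.card ↥(M ⊔ N) ∣ Nat.card ↥M * Nat.card ↥N := by
  have h1 : Nat.card ↥N * N.relIndex (M ⊔ N) = Nat.card ↥(M ⊔ N) := by
    have := Subgroup.relIndex_mul_relIndex (⊥ : Subgroup G) N (M ⊔ N) bot_le le_sup_right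
    rwa [Subgroup.relIndex_bot_left, Subgroup.relIndex_bot_left] at this
  rw [Subgroup.relIndex_sup_right] at h1
  rw [← h1, mul_comm]
  exact Nat.mul_dvd_mul_right (Subgroup.relIndex_dvd_card N M) _

theorem coprime_card_sup (p : ℕ) (M N : Subgroup G) [N.Normal]
    (hM : (Nat.card ↥M).Coprime p) (hN : (Nat.card ↥N).Coprime p) :
    (Nat.card ↥(M ⊔ N)).Coprime p :=
  Nat.Coprime.coprime_dvd_left (card_sup_dvd_mul M N) (Nat.Coprime.mul_left hM hN)

theorem pPrimeCore_normal (p : ℕ) (G : Type*) [Group G] : (pPrimeCore p G).Normal :=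
  Subgroup.sSup_normal _ (fun _ h => h.1)

theorem le_pPrimeCore {p : ℕ} {N : Subgroup G} (hN : N.Normal) (h : (Nat.card ↥N).Coprime p) :
    N ≤ pPrimeCore p G :=
  le_sSup ⟨hN, h⟩

/-- In a finite group, the `p'`-core is itself one of the normal subgroups of order prime to `p`. -/
theorem exists_max_pPrime (p : ℕ) (G : Type*) [Group G] [Finite G] :
    ∃ M : Subgroup G, M.Normal ∧ (Nat.card ↥M).Coprime p ∧
      ∀ N : Subgroup G, N.Normal → (Nat.card ↥N).Coprime p → N ≤ M := by
  classical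
  have hfin : Set.Finite {N : Subgroup G | N.Normal ∧ (Nat.card N).Coprime p} := Set.toFinite _
  have hne : {N : Subgroup G | N.Normal ∧ (Nat.card N).Coprime p}.Nonempty :=
    ⟨⊥, inferInstance, by simp⟩
  obtain ⟨M, hM, hmax⟩ := hfin.exists_maximal hne
  refine ⟨M, hM.1, hM.2, ?_⟩
  intro N hN hNp
  have := hN
  have := hM.1
  have hsup : (M ⊔ N) ∈ {N : Subgroup G | N.Normal ∧ (Nat.card N).Coprime p} :=
    ⟨inferInstance, coprime_card_sup p M N hM.2 hNp⟩
  have := hmax hsup le_sup_left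
  exact le_sup_right.trans this

theorem card_pPrimeCore_coprime (p : ℕ) (G : Type*) [Group G] [Finite G] :
    (Nat.card ↥(pPrimeCore p G)).Coprime p := by
  obtain ⟨M, hMn, hMp, hmax⟩ := exists_max_pPrime p G
  have : pPrimeCore p G = M := by
    apply le_antisymm
    · exact sSup_le fun N hN => hmax N hN.1 hN.2
    · exact le_pPrimeCore hMn hMp
  rw [this]; exact hMp

/-- `O_{p'}(G / O_{p'}(G)) = 1`. -/
theorem pPrimeCore_quotient_eq_bot (p : ℕ) (G : Type*) [Group G] [Finite G]
    [hn : (pPrimeCore p G).Normal] :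
    pPrimeCore p (G ⧸ pPrimeCore p G) = ⊥ := by
  rw [eq_bot_iff]
  apply sSup_le
  rintro Nbar ⟨hNn, hNp⟩
  have := hNn
  -- preimage
  set N : Subgroup G := Nbar.comap (QuotientGroup.mk' (pPrimeCore p G)) with hN
  have hNnorm : N.Normal := inferInstance
  have hker : pPrimeCore p G ≤ N := by
    intro x hx
    rw [hN, Subgroup.mem_comap]
    have : (QuotientGroup.mk' (pPrimeCore p G)) x = 1 := by
      rw [QuotientGroup.mk'_apply, QuotientGroup.eq_one_iff]; exact hx
    rw [this]; exact Nbar.one_mem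
  -- |N| = |O| * |Nbar|
  have hcard : Nat.card ↥N = Nat.card ↥(pPrimeCore p G) * Nat.card ↥Nbar := by
    have h1 := Subgroup.relIndex_mul_relIndex (⊥ : Subgroup G) (pPrimeCore p G) N bot_le hker
    rw [Subgroup.relIndex_bot_left, Subgroup.relIndex_bot_left] at h1
    rw [← h1]
    congr 1
    -- relIndex = card Nbar
    have h2 : (pPrimeCore p G).relIndex N = (⊥ : Subgroup (G ⧸ pPrimeCore p G)).relIndex Nbar := by
      have := Subgroup.relIndex_comap (⊥ : Subgroup (G ⧸ pPrimeCore p G))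
        (QuotientGroup.mk' (pPrimeCore p G)) N
      rw [MonoidHom.comap_bot, QuotientGroup.ker_mk'] at this
      rw [this, hN, Subgroup.map_comap_eq_self_of_surjective (QuotientGroup.mk'_surjective _)]
    rw [h2, Subgroup.relIndex_bot_left]
  have hNp' : (Nat.card ↥N).Coprime p := by
    rw [hcard]
    exact Nat.Coprime.mul_left (card_pPrimeCore_coprime p G) hNp
  have hle : N ≤ pPrimeCore p G := le_pPrimeCore hNnorm hNp'
  intro x hx
  obtain ⟨g, rfl⟩ := QuotientGroup.mk'_surjective (pPrimeCore p G) x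
  have hg : g ∈ N := by rw [hN, Subgroup.mem_comap]; exact hx
  rw [Subgroup.mem_bot, QuotientGroup.mk'_apply, QuotientGroup.eq_one_iff]
  exact hle hg

end Cfsg.Agent.Lib.Helper61
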