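import Mathlib
import Cfsg.Prelude.Def_CaseTheorems
import Cfsg.Agent.Lib.Helper61.PPrimeCore

set_option autoImplicit false

namespace Cfsg.Agent.Lib.Helper61

open Cfsg

variable {K : Type*} [Group K]

theorem pCore_isPGroup (p : ℕ) (K : Type*) [Group K] : IsPGroup p ↥(pCore p K) :=
  Sylow.sSup_of_normal _ (fun _ h => h.2) (fun _ h => h.1)

theorem le_pCore {p : ℕ} {N : Subgroup K} (hN : N.Normal) (h : IsPGroup p ↥N) : N ≤ pCore p K :=
  le_sSup ⟨hN, h⟩

theorem pCore_le_sylow {p : ℕ} [Fact p.Prime] (P : Sylow p K) : pCore p K ≤ (P : Subgroup K) :=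
  (pCore_isPGroup p K).le_sylow_of_normal P

/-- A nilpotent normal subgroup of a finite group with trivial `p'`-core is a `p`-group. -/
theorem isPGroup_of_normal_nilpotent [Finite K] (p : ℕ) [hp : Fact p.Prime] (h : pPrimeCore p K = ⊥)
    (D : Subgroup K) [hDn : D.Normal] (hD : Group.IsNilpotent ↥D) : IsPGroup p ↥D := by
  have key : ∀ q : ℕ, q.Prime → q ∣ Nat.card ↥D → q = p := by
    intro q hq hqd
    by_contra hne
    have : Fact q.Prime := ⟨hq⟩
    obtain ⟨Q⟩ : Nonempty (Sylow q ↥D) := inferInstance
    have hQn : (Q : Subgroup ↥D).Normal := inferInstance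
    have hQc : (Q : Subgroup ↥D).Characteristic := Q.characteristic_of_normal hQn
    have hQK : ((Q : Subgroup ↥D).map D.subtype).Normal := ConjAct.normal_of_characteristic_of_normal
    have hcard : (Nat.card ↥((Q : Subgroup ↥D).map D.subtype)).Coprime p := by
      rw [Subgroup.card_map_of_injective D.subtype_injective]
      obtain ⟨n, hn⟩ := IsPGroup.iff_card.mp Q.isPGroup'
      rw [hn]
      exact Nat.Coprime.pow_left n ((Nat.coprime_primes hq hp.out).mpr hne)
    have hle := le_pPrimeCore hQK hcard
    rw [h] at hle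
    have hbot : (Q : Subgroup ↥D) = ⊥ := by
      rw [eq_bot_iff]
      intro x hx
      have h1 : D.subtype x ∈ (⊥ : Subgroup K) := hle ⟨x, hx, rfl⟩
      rw [Subgroup.mem_bot] at h1 ⊢
      exact Subtype.ext h1
    exact Q.ne_bot_of_dvd_card hqd hbot
  have hcard : Nat.card ↥D = p ^ (Nat.card ↥D).primeFactorsList.length :=
    Nat.eq_prime_pow_of_unique_prime_dvd Nat.card_pos.ne' (fun hd hdd => key _ hd hdd)
  exact IsPGroup.of_card hcard

/-- The derived series of a subgroup, computed in the ambient group. -/
def dser (C : Subgroup K) : ℕ → Subgroup K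
  | 0 => C
  | n + 1 => ⁅dser C n, dser C n⁆

theorem dser_normal (C : Subgroup K) [C.Normal] : ∀ n, (dser C n).Normal
  | 0 => by unfold dser; infer_instance
  | n + 1 => by
    have := dser_normal C n
    unfold dser
    infer_instance

theorem dser_le_derivedSeries (C : Subgroup K) : ∀ n, dser C n ≤ derivedSeries K n
  | 0 => by unfold dser; simp
  | n + 1 => by
    have := dser_le_derivedSeries C n
    unfold dser
    rw [derivedSeries_succ]
    exact Subgroup.commutator_mono this this

theorem dser_le (C : Subgroup K) : ∀ n, dser C n ≤ C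
  | 0 => le_of_eq rfl
  | n + 1 => by
    have := dser_le C n
    unfold dser
    calc ⁅dser C n, dser C n⁆ ≤ ⁅C, C⁆ := Subgroup.commutator_mono this this
      _ ≤ C := by
        rw [Subgroup.commutator_le]
        intro a ha b hb
        exact C.mul_mem (C.mul_mem (C.mul_mem ha hb) (C.inv_mem ha)) (C.inv_mem hb)

/-- Hall-Higman Lemma 1.2.3 for solvable groups: in a finite solvable group with trivial `p'`-core,
`O_p` contains its centralizer. -/
theorem centralizer_pCore_le [Finite K] (p : ℕ) [hp : Fact p.Prime] (hs : Group.IsSolvable K)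
    (h : pPrimeCore p K = ⊥) :
    Subgroup.centralizer (pCore p K : Set K) ≤ pCore p K := by
  set R := pCore p K with hR
  set C := Subgroup.centralizer (R : Set K) with hC
  have hCn : C.Normal := Subgroup.normal_centralizer
  obtain ⟨N, hN⟩ := hs.solvable
  have hbot : dser C N = ⊥ := by
    rw [eq_bot_iff, ← hN]; exact dser_le_derivedSeries C N
  have hcomm : ⁅R, C⁆ = ⊥ := by
    rw [Subgroup.commutator_comm, Subgroup.commutator_eq_bot_iff_le_centralizer]
  have key : ∀ k, k ≤ N → dser C (N - k) ≤ R := by
    intro k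
    induction k with
    | zero => intro _; rw [Nat.sub_zero, hbot]; exact bot_le
    | succ k ih =>
      intro hk
      have ih' := ih (by omega)
      have e : N - k = (N - (k + 1)) + 1 := by omega
      rw [e] at ih'
      set D := dser C (N - (k + 1)) with hD
      have hDn : D.Normal := dser_normal C _
      have hDC : D ≤ C := dser_le C _
      have hDD : ⁅D, D⁆ ≤ R := ih'
      have hnil : Group.IsNilpotent ↥D := by
        rw [Subgroup.isNilpotent_iff_lowerCentralSeries]
        refine ⟨2, ?_⟩
        rw [Subgroup.lowerCentralSeries_succ, Subgroup.lowerCentralSeries_succ,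
          Subgroup.lowerCentralSeries_zero, eq_bot_iff, ← hcomm]
        exact Subgroup.commutator_mono hDD hDC
      have hDp : IsPGroup p ↥D := isPGroup_of_normal_nilpotent p h D hnil
      exact le_pCore hDn hDp
  have := key N le_rfl
  rwa [Nat.sub_self] at this

/-- For a normal subgroup `R`, the index of its centralizer divides `|Aut R|`. -/
theorem index_centralizer_dvd_card_mulAut (R : Subgroup K) [R.Normal] :
    (Subgroup.centralizer (R : Set K)).index ∣ Nat.card (MulAut ↥R) := by
  have hker : (MulAut.conjNormal : K →* MulAut ↥R).ker = Subgroup.centralizer (R : Set K) := by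
    ext g
    rw [MonoidHom.mem_ker, Subgroup.mem_centralizer_iff]
    constructor
    · intro hg r hr
      have h1 := DFunLike.congr_fun hg ⟨r, hr⟩
      have h2 := congrArg Subtype.val h1
      rw [MulAut.conjNormal_apply] at h2
      have h3 : g * r * g⁻¹ = r := h2
      calc r * g = (g * r * g⁻¹) * g := by rw [h3]
        _ = g * r := by group
    · intro hg
      ext r
      rw [MulAut.conjNormal_apply]
      have h1 := hg r r.2
      show g * r * g⁻¹ = r
      calc g * (r : K) * g⁻¹ = (r * g) * g⁻¹ := by rw [h1]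
        _ = r := by group
  rw [← hker, Subgroup.index_ker]
  exact Subgroup.card_subgroup_dvd_card _

/-- For a normal cyclic 2-subgroup `R`, the index of its centralizer is a power of 2. -/
theorem index_centralizer_cyclic_two [Finite K] (R : Subgroup K) [R.Normal] (hc : IsCyclic ↥R)
    (h2 : IsPGroup 2 ↥R) : ∃ j : ℕ, (Subgroup.centralizer (R : Set K)).index = 2 ^ j := by
  have h1 := index_centralizer_dvd_card_mulAut R
  rw [IsCyclic.card_mulAut] at h1
  obtain ⟨k, hk⟩ := IsPGroup.iff_card.mp h2
  rw [hk] at h1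
  rcases Nat.eq_zero_or_pos k with h0 | h0
  · rw [h0, pow_zero, Nat.totient_one, Nat.dvd_one] at h1
    exact ⟨0, by rw [h1, pow_zero]⟩
  · rw [Nat.totient_prime_pow Nat.prime_two h0] at h1
    have : 2 ^ (k - 1) * (2 - 1) = 2 ^ (k - 1) := by norm_num
    rw [this] at h1
    obtain ⟨j, _, hj⟩ := (Nat.dvd_prime_pow Nat.prime_two).mp h1
    exact ⟨j, hj⟩

/-- A finite group with a `p`-subgroup of `p`-power index is a `p`-group. -/
theorem isPGroup_of_index_pow [Finite K] (p : ℕ) [hp : Fact p.Prime] (C : Subgroup K)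
    (hC : IsPGroup p ↥C) (j : ℕ) (hj : C.index = p ^ j) : IsPGroup p K := by
  obtain ⟨k, hk⟩ := IsPGroup.iff_card.mp hC
  have : Nat.card K = p ^ (k + j) := by
    rw [← Subgroup.card_mul_index C, hk, hj, pow_add]
  exact IsPGroup.of_card this

/-- A finite solvable group with trivial odd core in which distinct Sylow 2-subgroups meet in
cyclic groups has a normal Sylow 2-subgroup. -/
theorem sylow_two_normal_of_cyclic_inter [Finite K] (hs : Group.IsSolvable K) (hO : pPrimeCore 2 K = ⊥)
    (hC : ∀ S T : Sylow 2 K, S ≠ T → IsCyclic ↥((S : Subgroup K) ⊓ (T : Subgroup K)))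
    (P : Sylow 2 K) : (P : Subgroup K).Normal := by
  have : Fact (Nat.Prime 2) := ⟨Nat.prime_two⟩
  by_cases h : ∃ S T : Sylow 2 K, S ≠ T
  · obtain ⟨S, T, hST⟩ := h
    have hcyc := hC S T hST
    have hRle : pCore 2 K ≤ (S : Subgroup K) ⊓ (T : Subgroup K) :=
      le_inf (pCore_le_sylow S) (pCore_le_sylow T)
    have hRc : IsCyclic ↥(pCore 2 K) :=
      isCyclic_of_injective (Subgroup.inclusion hRle) (Subgroup.inclusion_injective hRle)
    have hcent := centralizer_pCore_le 2 hs hO
    have hCp : IsPGroup 2 ↥(Subgroup.centralizer (pCore 2 K : Set K)) :=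
      (pCore_isPGroup 2 K).to_le hcent
    obtain ⟨j, hj⟩ := index_centralizer_cyclic_two (pCore 2 K) hRc (pCore_isPGroup 2 K)
    have hK : IsPGroup 2 K := isPGroup_of_index_pow 2 _ hCp j hj
    have htop : (P : Subgroup K) = ⊤ := by
      have h2 : IsPGroup 2 ↥(⊤ : Subgroup K) := by
        intro g
        obtain ⟨k, hk⟩ := hK g.1
        exact ⟨k, Subtype.ext hk⟩
      exact (P.3 h2 le_top).symm
    rw [htop]
    infer_instance
  · push Not at h
    have : Subsingleton (Sylow 2 K) := ⟨h⟩
    exact Sylow.normal_of_subsingleton P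

end Cfsg.Agent.Lib.Helper61
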