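import Mathlib
import Cfsg.Prelude.Def_Transfer
import Cfsg.Agent.Lib.Helper97.ThompsonPN
import Cfsg.Agent.Lib.Helper41.NPC
import Cfsg.Agent.Lib.Lead.ThompsonF
import Cfsg.Agent.Lib.Helper02.ThompsonJ
import Cfsg.Agent.Lib.Helper01.CoprimeSylow

set_option autoImplicit false

/-! Towards Thompson's theorem: a finite group with a nilpotent maximal subgroup of odd order is
solvable. -/

namespace Cfsg.Agent.Lib.Helper61

open Cfsg Cfsg.Agent.Lib.Helper97 Cfsg.Agent.Lib.Helper02

/-- A finite nilpotent group has a normal `p`-complement for every prime `p`. -/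
theorem pn_of_isNilpotent {M : Type*} [Group M] [Finite M] [hnil : Group.IsNilpotent M]
    (p : ℕ) [Fact p.Prime] : HasNormalPComplement p M := by
  have hp : p.Prime := Fact.out
  let S : Sylow p M := default
  have hSn : (S : Subgroup M).Normal := inferInstance
  apply Cfsg.Agent.Lib.Helper41.hasNormalPComplement_of_centric_normal S (S : Subgroup M)
    inf_le_left
  intro g hg
  have hCn : (Subgroup.centralizer ((S : Subgroup M) : Set M)).Normal :=
    Subgroup.normal_centralizer
  have hidx : (Subgroup.centralizer ((S : Subgroup M) : Set M)).index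
      = p ^ (Subgroup.centralizer ((S : Subgroup M) : Set M)).index.primeFactorsList.length := by
    apply Nat.eq_prime_pow_of_unique_prime_dvd Subgroup.index_ne_zero_of_finite
    intro q hq hqd
    by_contra hne
    have : Fact q.Prime := ⟨hq⟩
    let Q : Sylow q M := default
    have hQn : (Q : Subgroup M).Normal := inferInstance
    have hdisj : Disjoint (S : Subgroup M) (Q : Subgroup M) :=
      IsPGroup.disjoint_of_ne p q (fun h => hne h.symm) _ _ S.2 Q.2
    have hQC : (Q : Subgroup M) ≤ Subgroup.centralizer ((S : Subgroup M) : Set M) := by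
      intro x hx
      rw [Subgroup.mem_centralizer_iff]
      intro s hs
      exact (Subgroup.commute_of_normal_of_disjoint _ _ hSn hQn hdisj s x hs hx).eq
    exact Q.not_dvd_index (dvd_trans hqd (Subgroup.index_dvd_of_le hQC))
  exact mem_of_coprime_of_index_pow _ hidx g hg

/-- Intersecting normal `p`-complements over a finite set of primes. -/
theorem exists_normal_pi_complement {G : Type*} [Group G] [Finite G] (S : Finset ℕ)
    (hS : ∀ p ∈ S, ∃ N : Subgroup G, N.Normal ∧ (Nat.card N).Coprime p ∧ ∃ k : ℕ, N.index = p ^ k)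
    (hSp : ∀ p ∈ S, p.Prime) :
    ∃ K : Subgroup G, K.Normal ∧ (∀ p ∈ S, ¬ p ∣ Nat.card K) ∧
      ∀ q : ℕ, q.Prime → q ∣ K.index → q ∈ S := by
  classical
  induction S using Finset.induction_on with
  | empty =>
    refine ⟨⊤, inferInstance, by simp, ?_⟩
    intro q hq hqd
    rw [Subgroup.index_top] at hqd
    exact absurd (Nat.dvd_one.mp hqd) hq.ne_one
  | insert p S hpS ih =>
    obtain ⟨K, hKn, hK1, hK2⟩ := ih (fun q hq => hS q (Finset.mem_insert_of_mem hq))
      (fun q hq => hSp q (Finset.mem_insert_of_mem hq))
    obtain ⟨N, hNn, hNc, k, hk⟩ := hS p (Finset.mem_insert_self p S)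
    have hp : p.Prime := hSp p (Finset.mem_insert_self p S)
    refine ⟨K ⊓ N, inferInstance, ?_, ?_⟩
    · intro q hq hqd
      rcases Finset.mem_insert.mp hq with rfl | hq
      · have h1 : q ∣ Nat.card N := dvd_trans hqd (Subgroup.card_dvd_of_le inf_le_right)
        exact (Nat.Prime.coprime_iff_not_dvd hp).mp hNc.symm h1
      · exact hK1 q hq (dvd_trans hqd (Subgroup.card_dvd_of_le inf_le_left))
    · intro q hq hqd
      have h1 : (K ⊓ N).relIndex K * K.index = (K ⊓ N).index :=
        Subgroup.relIndex_mul_index inf_le_left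
      rw [← h1, Subgroup.inf_relIndex_left] at hqd
      rcases (Nat.Prime.dvd_mul hq).mp hqd with h | h
      · have h2 : q ∣ p ^ k := by
          rw [← hk]
          exact dvd_trans h (Subgroup.relIndex_dvd_index_of_normal N K)
        have h3 : q = p := (Nat.prime_dvd_prime_iff_eq hq hp).mp (hq.dvd_of_dvd_pow h2)
        rw [h3]
        exact Finset.mem_insert_self p S
      · exact Finset.mem_insert_of_mem (hK2 q hq h)


theorem not_dvd_index_of_normalizer_le {G : Type*} [Group G] [Finite G] {p : ℕ} [Fact p.Prime]
    (M : Subgroup G) (P₀ : Sylow p M)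
    (hN : Subgroup.normalizer (((P₀ : Subgroup M).map M.subtype : Subgroup G) : Set G) ≤ M) :
    ¬ p ∣ ((P₀ : Subgroup M).map M.subtype).index := by
  set P : Subgroup G := (P₀ : Subgroup M).map M.subtype with hP
  have hPM : P ≤ M := Subgroup.map_subtype_le _
  have hPp : IsPGroup p P := P₀.2.map _
  obtain ⟨n, hn⟩ := IsPGroup.iff_card.mp hPp
  have h1 := Sylow.card_quotient_normalizer_modEq_card_quotient hn
  rw [← Subgroup.index_eq_card, ← Subgroup.index_eq_card] at h1
  have h2 : P.subgroupOf M = P₀ :=
    Subgroup.comap_map_eq_self_of_injective M.subtype_injective _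
  have h3 : P.relIndex M = (P₀ : Subgroup M).index := by
    rw [Subgroup.relIndex, h2]
  have h4 : P.relIndex (Subgroup.normalizer (P : Set G)) ∣ P.relIndex M := by
    rw [← Subgroup.relIndex_mul_relIndex P _ M Subgroup.le_normalizer hN]
    exact Dvd.intro _ rfl
  intro hdvd
  have h5 : p ∣ P.relIndex (Subgroup.normalizer (P : Set G)) :=
    (Nat.ModEq.dvd_iff h1 dvd_rfl).mpr hdvd
  apply P₀.not_dvd_index
  rw [← h3]
  exact dvd_trans h5 h4


theorem normalizer_eq_of_corefree {G : Type*} [Group G] {M : Subgroup G} (hmax : IsCoatom M)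
    (hcore : ∀ N : Subgroup G, N.Normal → N ≤ M → N = ⊥) {X : Subgroup G} (hX : X ≠ ⊥)
    (hXM : X ≤ M) (hMX : M ≤ Subgroup.normalizer (X : Set G)) :
    Subgroup.normalizer (X : Set G) = M := by
  rcases eq_or_lt_of_le hMX with h | h
  · exact h.symm
  · exfalso
    have h1 := hmax.2 _ h
    exact hX (hcore X (Subgroup.normalizer_eq_top_iff.mp h1) hXM)

theorem exists_normal_complement_of_corefree {G : Type*} [Group G] [Finite G]
    (M : Subgroup G) (hmax : IsCoatom M) (hnil : Group.IsNilpotent M) (hodd : Odd (Nat.card M))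
    (hcore : ∀ N : Subgroup G, N.Normal → N ≤ M → N = ⊥) :
    ∃ K : Subgroup G, K.Normal ∧ (Nat.card K).Coprime (Nat.card M) ∧
      Nat.card K * Nat.card M = Nat.card G := by
  have key : ∀ p ∈ (Nat.card M).primeFactors,
      (∃ N : Subgroup G, N.Normal ∧ (Nat.card N).Coprime p ∧ ∃ k : ℕ, N.index = p ^ k) ∧
        ¬ p ∣ M.index := by
    intro p hpmem
    have hp : p.Prime := Nat.prime_of_mem_primeFactors hpmem
    have hpd : p ∣ Nat.card M := Nat.dvd_of_mem_primeFactors hpmem
    have : Fact p.Prime := ⟨hp⟩
    have hp2 : p ≠ 2 := by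
      rintro rfl
      exact (Nat.not_even_iff_odd.mpr hodd) (even_iff_two_dvd.mpr hpd)
    let P₀ : Sylow p M := default
    have hP₀n : (P₀ : Subgroup M).Normal := inferInstance
    set P : Subgroup G := (P₀ : Subgroup M).map M.subtype with hP
    have hPM : P ≤ M := Subgroup.map_subtype_le _
    have hPp : IsPGroup p P := P₀.2.map _
    have hPne : P ≠ ⊥ := by
      intro h
      rw [hP, Subgroup.map_eq_bot_iff_of_injective _ M.subtype_injective] at h
      exact P₀.ne_bot_of_dvd_card hpd h
    have hMP : M ≤ Subgroup.normalizer (P : Set G) := by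
      have h1 := Subgroup.le_normalizer_map (H := (P₀ : Subgroup M)) M.subtype
      rw [Subgroup.normalizer_eq_top, ← MonoidHom.range_eq_map, Subgroup.range_subtype] at h1
      exact h1
    have hNP : Subgroup.normalizer (P : Set G) = M :=
      normalizer_eq_of_corefree hmax hcore hPne hPM hMP
    have hPidx : ¬ p ∣ P.index := not_dvd_index_of_normalizer_le M P₀ hNP.le
    have hMidx : ¬ p ∣ M.index := fun h => hPidx (dvd_trans h (Subgroup.index_dvd_of_le hPM))
    refine ⟨?_, hMidx⟩
    let P' : Sylow p G := hPp.toSylow hPidx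
    have hP' : (P' : Subgroup G) = P := rfl
    -- Thompson subgroup
    have hJne : thompsonSubgroupOf p P ≠ ⊥ := thompsonOf_ne_bot hPp hPne
    have hJM : thompsonSubgroupOf p P ≤ M := le_trans (thompsonOf_le P) hPM
    have hNJ : Subgroup.normalizer (thompsonSubgroupOf p P : Set G) = M :=
      normalizer_eq_of_corefree hmax hcore hJne hJM
        (le_trans hMP (normalizer_le_normalizer_thompsonOf P))
    have hZne : ZC P ≠ ⊥ := ZC_ne_bot hPp hPne
    have hZM : ZC P ≤ M := le_trans inf_le_left hPM
    have hNZ : Subgroup.normalizer (ZC P : Set G) = M :=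
      normalizer_eq_of_corefree hmax hcore hZne hZM
        (le_trans hMP (normalizer_le_normalizer_ZC P))
    have hCZ : Subgroup.centralizer (ZC P : Set G) ≤ M := by
      rw [← hNZ]
      exact Subgroup.centralizer_le_normalizer _
    have : Group.IsNilpotent M := hnil
    have hM : HasNormalPComplement p M := pn_of_isNilpotent p
    have h1 : HasNormalPComplement p
        (Subgroup.normalizer (thompsonSubgroupOf p (P' : Subgroup G) : Set G)) :=
      pn_of_le hNJ.le hM
    have h2 : HasNormalPComplement p
        (Subgroup.centralizer (((P' : Subgroup G) ⊓ Subgroup.centralizer (P' : Set G)) : Set G)) :=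
      pn_of_le hCZ hM
    exact pn_iff.mp (Cfsg.Agent.Lib.Lead.thompson_normal_p_complement hp2 P' h1 h2)
  obtain ⟨K, hKn, hK1, hK2⟩ := exists_normal_pi_complement (Nat.card M).primeFactors
    (fun p hp => (key p hp).1) (fun p hp => Nat.prime_of_mem_primeFactors hp)
  have hMpos : Nat.card M ≠ 0 := Nat.card_pos.ne'
  have hca : (Nat.card M).Coprime (Nat.card K) := by
    apply Nat.coprime_of_dvd
    intro q hq hqM hqK
    exact hK1 q (Nat.mem_primeFactors.mpr ⟨hq, hqM, hMpos⟩) hqK
  have hbd : (K.index).Coprime (M.index) := by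
    apply Nat.coprime_of_dvd
    intro q hq hqK hqM
    exact (key q (hK2 q hq hqK)).2 hqM
  have e1 : Nat.card K * K.index = Nat.card G := Subgroup.card_mul_index K
  have e2 : Nat.card M * M.index = Nat.card G := Subgroup.card_mul_index M
  have h1 : Nat.card M ∣ K.index := by
    apply hca.dvd_of_dvd_mul_left
    rw [e1, ← e2]
    exact Dvd.intro _ rfl
  have h2 : K.index ∣ Nat.card M := by
    apply hbd.dvd_of_dvd_mul_right
    rw [e2, ← e1]
    exact Dvd.intro_left _ rfl
  have h3 : K.index = Nat.card M := Nat.dvd_antisymm h2 h1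
  refine ⟨K, hKn, hca.symm, ?_⟩
  rw [← h3]
  exact e1



theorem isSolvable_normal_complement {G : Type*} [Group G] [Finite G]
    (M : Subgroup G) (hmax : IsCoatom M) (hsolv : Group.IsSolvable M)
    (K : Subgroup G) (hKn : K.Normal) (hcop : (Nat.card K).Coprime (Nat.card M))
    (hcard : Nat.card K * Nat.card M = Nat.card G) : Group.IsSolvable K := by
  have hc : K.IsComplement' M := Subgroup.isComplement'_of_coprime hcard hcop
  have hdisj : K ⊓ M = ⊥ := hc.disjoint.eq_bot
  by_cases hK : K = ⊥
  · subst hK
    infer_instance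
  · have hK1 : Nat.card K ≠ 1 := fun h => hK (Subgroup.card_eq_one.mp h)
    set q := (Nat.card K).minFac with hq
    have hqp : q.Prime := Nat.minFac_prime hK1
    have hqd : q ∣ Nat.card K := Nat.minFac_dvd _
    have : Fact q.Prime := ⟨hqp⟩
    have hMK : M ≤ Subgroup.normalizer (K : Set G) := by
      rw [Subgroup.normalizer_eq_top]; exact le_top
    obtain ⟨Q, hQ, hMQ⟩ := Cfsg.Agent.Lib.Helper01.exists_invariant_isSylowIn (A := M) (K := K) q
      hMK hcop.symm (Or.inl hsolv)
    obtain ⟨hQK, hQp, hQi⟩ := hQ
    have hQne : Q ≠ ⊥ := by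
      rintro rfl
      rw [Subgroup.relIndex_bot_left] at hQi
      exact hQi hqd
    have hMQtop : M ⊔ Q = ⊤ := by
      rcases eq_or_lt_of_le (le_sup_left : M ≤ M ⊔ Q) with h | h
      · exfalso
        have hQM : Q ≤ M := by rw [h]; exact le_sup_right
        apply hQne
        rw [eq_bot_iff, ← hdisj]
        exact le_inf hQK hQM
      · exact hmax.2 _ h
    have hKQ : K ≤ Q := by
      intro k hk
      have h1 : k ∈ ((M ⊔ Q : Subgroup G) : Set G) := by rw [hMQtop]; trivial
      rw [Subgroup.coe_mul_of_left_le_normalizer_right M Q hMQ] at h1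
      obtain ⟨m, hm, x, hx, rfl⟩ := Set.mem_mul.mp h1
      have hmK : m ∈ K := by
        have := K.mul_mem hk (K.inv_mem (hQK hx))
        simpa using this
      have hm1 : m = 1 := by
        have : m ∈ K ⊓ M := ⟨hmK, hm⟩
        rw [hdisj] at this
        exact Subgroup.mem_bot.mp this
      rw [hm1, one_mul]
      exact hx
    have hKeq : K = Q := le_antisymm hKQ hQK
    have hKp : IsPGroup q K := by rw [hKeq]; exact hQp
    have := hKp.isNilpotent
    infer_instance

theorem isSolvable_of_normal_complement {G : Type*} [Group G] [Finite G]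
    (M : Subgroup G) (hsolv : Group.IsSolvable M)
    (K : Subgroup G) (hKn : K.Normal) (hKs : Group.IsSolvable K)
    (htop : K ⊔ M = ⊤) : Group.IsSolvable G := by
  have hsurj : Function.Surjective ((QuotientGroup.mk' K).comp M.subtype) := by
    intro y
    obtain ⟨g, rfl⟩ := QuotientGroup.mk'_surjective K y
    have h1 : g ∈ ((K ⊔ M : Subgroup G) : Set G) := by rw [htop]; trivial
    rw [Subgroup.normal_mul] at h1
    obtain ⟨k, hk, m, hm, rfl⟩ := Set.mem_mul.mp h1
    refine ⟨⟨m, hm⟩, ?_⟩
    show QuotientGroup.mk' K m = QuotientGroup.mk' K (k * m)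
    rw [map_mul]
    have : QuotientGroup.mk' K k = 1 := (QuotientGroup.eq_one_iff k).mpr hk
    rw [this, one_mul]
  have : Group.IsSolvable (G ⧸ K) := Group.isSolvable_of_surjective hsurj
  exact Group.isSolvable_of_ker_le_range K.subtype (QuotientGroup.mk' K)
    (by rw [QuotientGroup.ker_mk', Subgroup.range_subtype])


universe u

theorem thompson_nilpotent_maximal_aux : ∀ (n : ℕ) (G : Type u) [Group G] [Finite G],
    Nat.card G = n → ∀ (M : Subgroup G), IsCoatom M → Group.IsNilpotent M → Odd (Nat.card M) →
      Group.IsSolvable G := by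
  intro n
  induction n using Nat.strong_induction_on with
  | _ n ih =>
    intro G _ _ hn M hmax hnil hodd
    have hMs : Group.IsSolvable M := inferInstance
    by_cases hcore : ∀ N : Subgroup G, N.Normal → N ≤ M → N = ⊥
    · obtain ⟨K, hKn, hcop, hcard⟩ :=
        exists_normal_complement_of_corefree M hmax hnil hodd hcore
      have hKs := isSolvable_normal_complement M hmax hMs K hKn hcop hcard
      have hc : K.IsComplement' M := Subgroup.isComplement'_of_coprime hcard hcop
      exact isSolvable_of_normal_complement M hMs K hKn hKs hc.sup_eq_top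
    · push Not at hcore
      obtain ⟨N, hNn, hNM, hNne⟩ := hcore
      have hf : Function.Surjective (QuotientGroup.mk' N) := QuotientGroup.mk'_surjective N
      have hlt : Nat.card (G ⧸ N) < n := by
        have h1 := Subgroup.card_eq_card_quotient_mul_card_subgroup N
        have h2 : 1 < Nat.card N := (Subgroup.one_lt_card_iff_ne_bot N).mpr hNne
        have h3 : 0 < Nat.card (G ⧸ N) := Nat.card_pos
        rw [← hn, h1]
        nlinarith
      have hcm : Subgroup.comap (QuotientGroup.mk' N) (M.map (QuotientGroup.mk' N)) = M := by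
        rw [Subgroup.comap_map_eq, QuotientGroup.ker_mk', sup_eq_left.mpr hNM]
      have hmax' : IsCoatom (M.map (QuotientGroup.mk' N)) := by
        constructor
        · intro h
          apply hmax.1
          rw [← hcm, h, Subgroup.comap_top]
        · intro H' hH'
          have h1 : M ≤ H'.comap (QuotientGroup.mk' N) := Subgroup.map_le_iff_le_comap.mp hH'.le
          rcases eq_or_lt_of_le h1 with h | h
          · exfalso
            have h2 : H' = M.map (QuotientGroup.mk' N) := by
              rw [h, Subgroup.map_comap_eq_self_of_surjective hf]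
            exact (ne_of_gt hH') h2
          · have h2 := hmax.2 _ h
            rw [← Subgroup.map_comap_eq_self_of_surjective hf H', h2,
              Subgroup.map_top_of_surjective _ hf]
      have hnil' : Group.IsNilpotent (M.map (QuotientGroup.mk' N)) :=
        Group.nilpotent_of_surjective ((QuotientGroup.mk' N).subgroupMap M)
          ((QuotientGroup.mk' N).subgroupMap_surjective M)
      have hodd' : Odd (Nat.card (M.map (QuotientGroup.mk' N))) :=
        Odd.of_dvd_nat hodd (Subgroup.card_map_dvd M _)
      have hQs : Group.IsSolvable (G ⧸ N) :=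
        ih (Nat.card (G ⧸ N)) hlt (G ⧸ N) rfl _ hmax' hnil' hodd'
      have hNs : Group.IsSolvable N :=
        Group.isSolvable_of_isSolvable_injective (Subgroup.inclusion_injective hNM)
      exact Group.isSolvable_of_ker_le_range N.subtype (QuotientGroup.mk' N)
        (by rw [QuotientGroup.ker_mk', Subgroup.range_subtype])

/-- **Thompson**: a finite group with a nilpotent maximal subgroup of odd order is solvable. -/
theorem thompson_nilpotent_maximal {G : Type u} [Group G] [Finite G]
    (M : Subgroup G) (hmax : IsCoatom M) (hnil : Group.IsNilpotent M) (hodd : Odd (Nat.card M)) :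
    Group.IsSolvable G :=
  thompson_nilpotent_maximal_aux (Nat.card G) G rfl M hmax hnil hodd

end Cfsg.Agent.Lib.Helper61
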