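import Mathlib
import Cfsg.Agent.S3765
import Cfsg.Agent.Lib.Helper52.QuadAction
import Cfsg.Agent.Lib.Helper01.CoprimeSylow

/-!
# Consequences of the Hall–Higman–Shult lemma (S3765) for solvable groups of odd order
-/

set_option autoImplicit false
open Cfsg
open scoped commutatorElement

namespace Cfsg.Agent.Lib.Helper61.HHGlue

section holomorph

variable {X : Type*} [Group X] [Finite X]

open SemidirectProduct in
/-- `R` of prime order `r` normalizing the `q`-group `Q` (`q` odd), both normalizing the elementary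
abelian `ℓ`-group `V`, with `C_V(R) = 1`: then `[Q, R]` centralizes `V`. -/
theorem commutator_le_centralizer_of_fpf {ℓ q r : ℕ} (hℓ : ℓ.Prime) (hq : q.Prime) (hr : r.Prime)
    (hℓq : ℓ ≠ q) (hℓr : ℓ ≠ r) (hqr : q ≠ r) (hq2 : q ≠ 2)
    (V Q R : Subgroup X) (hV : IsElementaryAbelian ℓ V) (hQ : IsPGroup q Q)
    (hR : Nat.card R = r)
    (hRQ : R ≤ Subgroup.normalizer (Q : Set X)) (hRV : R ≤ Subgroup.normalizer (V : Set X))
    (hQV : Q ≤ Subgroup.normalizer (V : Set X))
    (hCV : V ⊓ Subgroup.centralizer (R : Set X) = ⊥) :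
    ⁅Q, R⁆ ≤ Subgroup.centralizer (V : Set X) := by
  classical
  by_cases hV1 : V = ⊥
  · rw [hV1]
    intro x _
    rw [Subgroup.mem_centralizer_iff]
    intro v hv
    have : v = 1 := by simpa using hv
    rw [this]; simp
  by_contra hcon
  have hfℓ : Fact ℓ.Prime := ⟨hℓ⟩
  letI : CommGroup V :=
    { (inferInstance : Group V) with
      mul_comm := fun x y => @mul_comm' _ _ hV.1 x y }
  have hexp : ∀ v : V, v ^ ℓ = 1 := fun v => Subtype.ext (by simpa using hV.2 v v.2)
  let c : MulAut V →* MulAut V := MonoidHom.id _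
  obtain ⟨hVe, hHV, hf, -⟩ :=
    Cfsg.Agent.Lib.Helper52.semidirect_model (p := ℓ) hexp c (fun _ _ h => h) 1
      (by intro w; simp)
  have hfin : Finite (V ⋊[c] MulAut V) := Finite.of_equiv _ (equivProd (φ := c)).symm
  set N := Subgroup.normalizer (V : Set X) with hN
  let ψ : ↥N →* MulAut V := V.normalizerMonoidHom
  let Φ : ↥N →* V ⋊[c] MulAut V := (inr : MulAut V →* V ⋊[c] MulAut V).comp ψ
  -- basic formulas
  have hΦconj : ∀ (y : ↥N) (v : V), Φ y * inl v * (Φ y)⁻¹ =
      inl (⟨(y : X) * v * (y : X)⁻¹, (y.2 v).mp v.2⟩ : V) := by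
    intro y v
    have := inl_aut (φ := c) (ψ y) v
    rw [map_inv] at this
    show inr (ψ y) * inl v * (inr (ψ y))⁻¹ = _
    rw [← this]
    rfl
  have hΦker : ∀ y : ↥N, Φ y = 1 ↔ (y : X) ∈ Subgroup.centralizer (V : Set X) := by
    intro y
    constructor
    · intro h
      rw [Subgroup.mem_centralizer_iff]
      intro v hv
      have h1 := hΦconj y ⟨v, hv⟩
      rw [h, one_mul, inv_one, mul_one] at h1
      have h2 := congrArg Subtype.val (inl_injective h1)
      simp only at h2
      calc v * (y : X) = ((y : X) * v * (y : X)⁻¹) * (y : X) := by rw [← h2]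
        _ = (y : X) * v := by group
    · intro h
      have h1 : ψ y = 1 := by
        have : y ∈ V.normalizerMonoidHom.ker := by
          rw [Subgroup.normalizerMonoidHom_ker, Subgroup.mem_subgroupOf]; exact h
        exact this
      show inr (ψ y) = 1
      rw [h1, map_one]
  set R' : Subgroup (V ⋊[c] MulAut V) := (R.subgroupOf N).map Φ with hR'
  set Q' : Subgroup (V ⋊[c] MulAut V) := (Q.subgroupOf N).map Φ with hQ'
  -- `R` has prime order
  have hfr : Fact (Nat.card ↥R).Prime := ⟨hR ▸ hr⟩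
  -- the elements of `R` acting trivially
  have hRnot : ¬ R ≤ Subgroup.centralizer (V : Set X) := by
    intro hle
    apply hV1
    rw [eq_bot_iff, ← hCV]
    intro v hv
    refine ⟨hv, ?_⟩
    show v ∈ Subgroup.centralizer (R : Set X)
    rw [Subgroup.mem_centralizer_iff]
    intro x hx
    exact (Subgroup.mem_centralizer_iff.mp (hle hx) v hv).symm
  -- the kernel of `Φ` on `R`
  let fR : ↥R →* V ⋊[c] MulAut V := Φ.comp (Subgroup.inclusion hRV)
  have hfRrange : fR.range = R' := by
    ext x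
    constructor
    · rintro ⟨y, rfl⟩
      exact ⟨Subgroup.inclusion hRV y, Subgroup.mem_subgroupOf.mpr y.2, rfl⟩
    · rintro ⟨y, hy, rfl⟩
      have hy := Subgroup.mem_subgroupOf.mp hy
      exact ⟨⟨y, hy⟩, rfl⟩
  have hfRinj : Function.Injective fR := by
    rw [← MonoidHom.ker_eq_bot_iff]
    rcases fR.ker.eq_bot_or_eq_top_of_prime_card with h | h
    · exact h
    · exfalso
      apply hRnot
      intro x hx
      have h1 : (⟨x, hx⟩ : ↥R) ∈ fR.ker := by rw [h]; trivial
      rw [MonoidHom.mem_ker] at h1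
      exact (hΦker _).mp h1
  have hcardR' : Nat.card R' = r := by
    rw [← hfRrange, ← hR]
    exact (Nat.card_congr (MonoidHom.ofInjective hfRinj).toEquiv).symm
  have hQ'p : IsPGroup q Q' := (hQ.comap_subtype (K := N)).map Φ
  have hR'Q' : R' ≤ Subgroup.normalizer (Q' : Set (V ⋊[c] MulAut V)) := by
    refine le_trans (Subgroup.map_mono ?_) (Subgroup.le_normalizer_map Φ)
    intro y hy
    have hy := Subgroup.mem_subgroupOf.mp hy
    rw [Subgroup.mem_normalizer_iff]
    intro z
    rw [Subgroup.mem_subgroupOf, Subgroup.mem_subgroupOf]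
    exact Subgroup.mem_normalizer_iff.mp (hRQ hy) z
  have hfaithRQ : R' ⊓ Subgroup.centralizer (Q' : Set (V ⋊[c] MulAut V)) = ⊥ := by
    rw [eq_bot_iff]
    intro x hx
    rw [Subgroup.mem_bot]
    by_contra hx1
    apply hcon
    -- the subgroup of R mapping into the centralizer is everything
    have hker : (Subgroup.centralizer (Q' : Set (V ⋊[c] MulAut V))).comap fR = ⊤ := by
      rcases ((Subgroup.centralizer (Q' : Set (V ⋊[c] MulAut V))).comap
        fR).eq_bot_or_eq_top_of_prime_card with h | h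
      · exfalso
        obtain ⟨y, hy, rfl⟩ := hx.1
        have hy := Subgroup.mem_subgroupOf.mp hy
        have h1 : (⟨y, hy⟩ : ↥R) ∈ (Subgroup.centralizer (Q' : Set (V ⋊[c] MulAut V))).comap fR :=
          hx.2
        rw [h, Subgroup.mem_bot] at h1
        apply hx1
        have : y = 1 := by
          apply Subtype.ext
          have := congrArg Subtype.val h1
          simpa using this
        rw [this, map_one]
      · exact h
    rw [Subgroup.commutator_le]
    intro z hz y hy
    have hyc : fR ⟨y, hy⟩ ∈ Subgroup.centralizer (Q' : Set (V ⋊[c] MulAut V)) := by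
      have : (⟨y, hy⟩ : ↥R) ∈ (Subgroup.centralizer (Q' : Set (V ⋊[c] MulAut V))).comap fR := by
        rw [hker]; trivial
      exact this
    have hzQ' : Φ ⟨z, hQV hz⟩ ∈ Q' :=
      ⟨⟨z, hQV hz⟩, Subgroup.mem_subgroupOf.mpr hz, rfl⟩
    have hcomm := Subgroup.mem_centralizer_iff.mp hyc _ hzQ'
    have hone : Φ (⁅(⟨z, hQV hz⟩ : ↥N), ⟨y, hRV hy⟩⁆) = 1 := by
      rw [map_commutatorElement, commutatorElement_eq_one_iff_commute]
      exact hcomm
    have h5 := (hΦker _).mp hone
    have h6 : ((⁅(⟨z, hQV hz⟩ : ↥N), ⟨y, hRV hy⟩⁆ : ↥N) : X) = ⁅z, y⁆ := by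
      simp [commutatorElement_def]
    rw [h6] at h5
    exact h5
  have hV'ne : (inl : V →* V ⋊[c] MulAut V).range ≠ ⊥ := by
    intro h
    apply hV1
    rw [eq_bot_iff]
    intro v hv
    have h1 : (inl (⟨v, hv⟩ : V) : V ⋊[c] MulAut V) ∈ (inl : V →* V ⋊[c] MulAut V).range :=
      ⟨_, rfl⟩
    rw [h, Subgroup.mem_bot] at h1
    have h2 : (⟨v, hv⟩ : V) = 1 := inl_injective (by rw [h1, map_one])
    have := congrArg Subtype.val h2
    simpa using this
  have hR'le : R' ≤ (inr : MulAut V →* V ⋊[c] MulAut V).range := by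
    rintro _ ⟨y, -, rfl⟩
    exact ⟨ψ y, rfl⟩
  have hQ'le : Q' ≤ (inr : MulAut V →* V ⋊[c] MulAut V).range := by
    rintro _ ⟨y, -, rfl⟩
    exact ⟨ψ y, rfl⟩
  have hfaith : (R' ⊔ Q') ⊓ Subgroup.centralizer
      (((inl : V →* V ⋊[c] MulAut V).range : Subgroup _) : Set (V ⋊[c] MulAut V)) = ⊥ := by
    rw [eq_bot_iff, ← hf]
    exact inf_le_inf_right _ (sup_le hR'le hQ'le)
  have hmain := Cfsg.Agent.S3765.result hℓ hq hr hℓq hℓr hqr R' Q'
    (inl : V →* V ⋊[c] MulAut V).range hcardR' hQ'p hR'Q' hfaithRQ hVe hV'ne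
    (hR'le.trans hHV) (hQ'le.trans hHV) hfaith (fun h => absurd h hq2)
  apply hmain
  rw [eq_bot_iff]
  rintro _ ⟨⟨v, rfl⟩, hvc⟩
  rw [Subgroup.mem_bot]
  have hvR : (v : X) ∈ V ⊓ Subgroup.centralizer (R : Set X) := by
    refine ⟨v.2, ?_⟩
    show (v : X) ∈ Subgroup.centralizer (R : Set X)
    rw [Subgroup.mem_centralizer_iff]
    intro x hx
    have hxR' : Φ ⟨x, hRV hx⟩ ∈ R' :=
      ⟨⟨x, hRV hx⟩, Subgroup.mem_subgroupOf.mpr hx, rfl⟩
    have h1 := Subgroup.mem_centralizer_iff.mp hvc _ hxR'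
    have h2 := hΦconj ⟨x, hRV hx⟩ v
    have h3 : Φ ⟨x, hRV hx⟩ * inl v * (Φ ⟨x, hRV hx⟩)⁻¹ = inl v := by
      rw [h1]; group
    rw [h3] at h2
    have h4 := congrArg Subtype.val (inl_injective h2)
    simp only at h4
    calc x * (v : X) = (x * (v : X) * x⁻¹) * x := by group
      _ = (v : X) * x := by rw [← h4]
  rw [hCV, Subgroup.mem_bot] at hvR
  have : v = 1 := Subtype.ext hvR
  rw [this, map_one]

end holomorph

section main

variable {X : Type*} [Group X] [Finite X]

theorem conj_mem_centralizer_of_mem_normalizer {V : Subgroup X} {y c : X}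
    (hy : y ∈ Subgroup.normalizer (V : Set X)) (hc : c ∈ Subgroup.centralizer (V : Set X)) :
    y * c * y⁻¹ ∈ Subgroup.centralizer (V : Set X) := by
  rw [Subgroup.mem_centralizer_iff] at hc ⊢
  intro v hv
  have hv' : y⁻¹ * v * y ∈ V := by
    have := (Subgroup.mem_normalizer_iff.mp (Subgroup.inv_mem _ hy) v).mp hv
    simpa using this
  have h1 := hc _ hv'
  calc v * (y * c * y⁻¹) = y * ((y⁻¹ * v * y) * c) * y⁻¹ := by group
    _ = y * (c * (y⁻¹ * v * y)) * y⁻¹ := by rw [h1]
    _ = y * c * y⁻¹ * v := by group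

/-- the elements of `K` whose commutators with `R` centralize `V` -/
def commCent (K R V : Subgroup X) (hKV : K ≤ Subgroup.normalizer (V : Set X)) : Subgroup X where
  carrier := {k | k ∈ K ∧ ∀ x ∈ R, ⁅k, x⁆ ∈ Subgroup.centralizer (V : Set X)}
  one_mem' := ⟨K.one_mem, fun x _ => by
    rw [commutatorElement_one_left]; exact Subgroup.one_mem _⟩
  mul_mem' := by
    rintro a b ⟨haK, ha⟩ ⟨hbK, hb⟩
    refine ⟨K.mul_mem haK hbK, fun x hx => ?_⟩
    have h1 : ⁅a * b, x⁆ = a * ⁅b, x⁆ * a⁻¹ * ⁅a, x⁆ := by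
      simp only [commutatorElement_def]; group
    rw [h1]
    exact Subgroup.mul_mem _ (conj_mem_centralizer_of_mem_normalizer (hKV haK) (hb x hx)) (ha x hx)
  inv_mem' := by
    rintro a ⟨haK, ha⟩
    refine ⟨K.inv_mem haK, fun x hx => ?_⟩
    have h1 : ⁅a⁻¹, x⁆ = a⁻¹ * ⁅a, x⁆⁻¹ * a⁻¹⁻¹ := by
      simp only [commutatorElement_def]; group
    rw [h1]
    exact conj_mem_centralizer_of_mem_normalizer (Subgroup.inv_mem _ (hKV haK))
      (Subgroup.inv_mem _ (ha x hx))

/-- **S3769**: `G = KR` solvable of odd order, `R` of prime order, `C_V(R) = 1`. -/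
theorem commutator_le_centralizer (G : Subgroup X) (hsolv : Group.IsSolvable G)
    (hodd : Odd (Nat.card G)) (V : Subgroup X) {ℓ : ℕ} (hℓ : ℓ.Prime)
    (hV : Cfsg.IsElementaryAbelian ℓ V) (hℓG : ¬ ℓ ∣ Nat.card G)
    (hGV : G ≤ Subgroup.normalizer (V : Set X)) (K R : Subgroup X) (hKG : K ≤ G)
    (hKn : G ≤ Subgroup.normalizer (K : Set X)) (hHall : (Nat.card K).Coprime (K.relIndex G))
    (hRG : R ≤ G) (hR : (Nat.card R).Prime) (hKR : K ⊓ R = ⊥)
    (hCV : V ⊓ Subgroup.centralizer (R : Set X) = ⊥) :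
    ⁅R, K⁆ ≤ Subgroup.centralizer (V : Set X) := by
  classical
  set r := Nat.card R with hr
  -- `r` divides the index of `K` in `G`
  have hKn' : (K.subgroupOf G).Normal := by
    constructor
    intro k hk g
    rw [Subgroup.mem_subgroupOf] at hk ⊢
    have := (Subgroup.mem_normalizer_iff.mp (hKn g.2) k).mp hk
    simpa using this
  have hrdvd : r ∣ K.relIndex G := by
    let f : ↥R →* ↥G ⧸ K.subgroupOf G :=
      (QuotientGroup.mk' (K.subgroupOf G)).comp (Subgroup.inclusion hRG)
    have hinj : Function.Injective f := by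
      rw [injective_iff_map_eq_one]
      intro x hx
      have h1 : Subgroup.inclusion hRG x ∈ K.subgroupOf G := by
        rw [← QuotientGroup.eq_one_iff]; exact hx
      rw [Subgroup.mem_subgroupOf] at h1
      have h2 : (x : X) ∈ K ⊓ R := ⟨h1, x.2⟩
      rw [hKR, Subgroup.mem_bot] at h2
      exact Subtype.ext h2
    have := Subgroup.card_dvd_of_injective f hinj
    rwa [← Subgroup.index_eq_card] at this
  have hcopKr : (Nat.card K).Coprime r := hHall.coprime_dvd_right hrdvd
  have hKdvd : Nat.card K ∣ Nat.card G := Subgroup.card_dvd_of_le hKG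
  have hRdvd : r ∣ Nat.card G := Subgroup.card_dvd_of_le hRG
  have hℓr : ℓ ≠ r := fun h => hℓG (h ▸ hRdvd)
  have hKV : K ≤ Subgroup.normalizer (V : Set X) := hKG.trans hGV
  have hRV : R ≤ Subgroup.normalizer (V : Set X) := hRG.trans hGV
  have hKsolv : Group.IsSolvable ↥K :=
    solvable_of_solvable_injective (Subgroup.inclusion_injective hKG)
  set T := commCent K R V hKV with hT
  have hTK : T ≤ K := fun k hk => hk.1
  have hrel : T.relIndex K = 1 := by
    by_contra hne
    obtain ⟨q, hq, hqd⟩ := Nat.exists_prime_and_dvd hne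
    have hfq : Fact q.Prime := ⟨hq⟩
    obtain ⟨Q, hQ, hRQ⟩ := Cfsg.Agent.Lib.Helper01.exists_invariant_isSylowIn (A := R) (K := K) q
      (hRG.trans hKn) (hcopKr.symm) (Or.inr hKsolv)
    have hQT : Q ≤ T := by
      intro z hz
      refine ⟨hQ.1 hz, fun x hx => ?_⟩
      by_cases hQ1 : Q = ⊥
      · rw [hQ1, Subgroup.mem_bot] at hz
        rw [hz, commutatorElement_one_left]; exact Subgroup.one_mem _
      · -- `q` divides `|K|`
        have hqQ : q ∣ Nat.card Q := by
          obtain ⟨n, hn⟩ := IsPGroup.iff_card.mp hQ.2.1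
          rcases Nat.eq_zero_or_pos n with h0 | h0
          · exfalso; apply hQ1
            rw [h0, pow_zero] at hn
            exact Subgroup.card_eq_one.mp hn
          · rw [hn]; exact dvd_pow_self q h0.ne'
        have hqK : q ∣ Nat.card K := hqQ.trans (Subgroup.card_dvd_of_le hQ.1)
        have hqG : q ∣ Nat.card G := hqK.trans hKdvd
        have hℓq : ℓ ≠ q := fun h => hℓG (h ▸ hqG)
        have hqr : q ≠ r := by
          intro h
          have h1 : q ∣ Nat.gcd (Nat.card K) r := Nat.dvd_gcd hqK (h ▸ dvd_rfl)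
          rw [hcopKr] at h1
          exact hq.one_lt.ne' (Nat.dvd_one.mp h1)
        have hq2 : q ≠ 2 := by
          intro h
          rw [h] at hqG
          exact (Nat.not_even_iff_odd.mpr hodd) (even_iff_two_dvd.mpr hqG)
        have hcore := commutator_le_centralizer_of_fpf hℓ hq hR hℓq hℓr hqr hq2 V Q R hV hQ.2.1
          rfl hRQ hRV (hQ.1.trans hKV) hCV
        exact hcore (Subgroup.commutator_mem_commutator hz hx)
    have h1 : T.relIndex K ∣ Q.relIndex K := Subgroup.relIndex_dvd_of_le_left K hQT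
    exact hQ.2.2 (hqd.trans h1)
  have hKT : K ≤ T := Subgroup.relIndex_eq_one.mp hrel
  rw [Subgroup.commutator_le]
  intro x hx k hk
  have h1 := (hKT hk).2 x hx
  rw [← commutatorElement_inv]
  exact Subgroup.inv_mem _ h1

end main

end Cfsg.Agent.Lib.Helper61.HHGlue
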