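import Mathlib
import Cfsg.Agent.Lib.Helper61.HHGlue
import Cfsg.Agent.Lib.Helper03.PGroupFrattini
import Cfsg.Agent.Lib.Helper01.Coprime
import Cfsg.Agent.S0029
import Cfsg.Agent.Lib.Helper01.Fitting
import Cfsg.Agent.Lib.Helper01.PCore
import Cfsg.Agent.Lib.Helper13.Fitting
import Cfsg.Agent.Lib.Helper54.Subnormal
import Cfsg.Agent.Lib.Helper67.FStar
import Cfsg.Agent.Lib.Helper01.CoprimeSylow
import Cfsg.Agent.Lib.Helper01.PPrimeCore

/-!
# Prime action on a solvable group of odd order with `C_{F(K)}(R) = 1` (Bender–Glauberman 3.x)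
-/

set_option autoImplicit false
open Cfsg
open scoped commutatorElement

namespace Cfsg.Agent.Lib.Helper61.PrimeAction

variable {G : Type*} [Group G] [Finite G]

/-- Coprime action, lifting fixed points: if `A` normalizes `N ≤ P` and `P`, coprimely, with
`C_P(A) = 1`, then every `v ∈ P` whose coset `vN` is `A`-invariant lies in `N`. -/
theorem mem_of_coset_fixed {A N P : Subgroup G} (hNP : N ≤ P)
    (hAN : A ≤ Subgroup.normalizer (N : Set G)) (hAP : A ≤ Subgroup.normalizer (P : Set G))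
    (hcop : (Nat.card P).Coprime (Nat.card A))
    (hsolv : Group.IsSolvable N ∨ Group.IsSolvable A)
    (hCP : P ⊓ Subgroup.centralizer (A : Set G) = ⊥) {v : G} (hv : v ∈ P)
    (hfix : ∀ a ∈ A, v⁻¹ * a * v * a⁻¹ ∈ N) : v ∈ N := by
  have hcopN : (Nat.card N).Coprime (Nat.card A) :=
    Nat.Coprime.coprime_dvd_left (Subgroup.card_dvd_of_le hNP) hcop
  obtain ⟨n, hn, hnA⟩ :=
    Cfsg.Agent.Lib.Helper01.exists_mul_inv_normalizes hAN hcopN hsolv v hfix
  have hcP : n * v⁻¹ ∈ P := mul_mem (hNP hn) (inv_mem hv)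
  have hdisj : P ⊓ A = ⊥ := by
    rw [eq_bot_iff]
    intro g hg
    rw [Subgroup.mem_bot]
    have h1 : orderOf g ∣ Nat.card P := by
      have := orderOf_dvd_natCard (⟨g, hg.1⟩ : P)
      rwa [Subgroup.orderOf_mk] at this
    have h2 : orderOf g ∣ Nat.card A := by
      have := orderOf_dvd_natCard (⟨g, hg.2⟩ : A)
      rwa [Subgroup.orderOf_mk] at this
    exact orderOf_eq_one_iff.1 (Nat.eq_one_of_dvd_coprimes hcop h1 h2)
  have hc := Cfsg.Agent.Lib.Helper01.mem_centralizer_of_conj_smul_eq hAP hdisj hcP hnA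
  have h1 : n * v⁻¹ ∈ P ⊓ Subgroup.centralizer (A : Set G) := ⟨hcP, hc⟩
  rw [hCP, Subgroup.mem_bot] at h1
  have : v = n := by
    have := congrArg (· * v) h1
    simp at this
    exact this.symm
  rw [this]; exact hn

/-- `x` of prime order `r` normalizing the `q`-group `Q` (`q` odd), `P` a normal `ℓ`-subgroup with
`C_P(x) = 1` (distinct primes): then `[Q, ⟨x⟩]` centralizes `P`. -/
theorem commutator_le_centralizer_pgroup {ℓ q r : ℕ} (hℓ : ℓ.Prime) (hq : q.Prime) (hr : r.Prime)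
    (hℓq : ℓ ≠ q) (hℓr : ℓ ≠ r) (hqr : q ≠ r) (hq2 : q ≠ 2)
    (P Q : Subgroup G) [hPn : P.Normal] (x : G) (hP : IsPGroup ℓ P) (hQ : IsPGroup q Q)
    (hx : orderOf x = r) (hxQ : x ∈ Subgroup.normalizer (Q : Set G))
    (hCP : P ⊓ Subgroup.centralizer ((Subgroup.zpowers x : Subgroup G) : Set G) = ⊥) :
    ⁅Q, Subgroup.zpowers x⁆ ≤ Subgroup.centralizer (P : Set G) := by
  classical
  haveI : Fact ℓ.Prime := ⟨hℓ⟩
  set Φ : Subgroup G := (frattini ↥P).map P.subtype with hΦ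
  haveI hΦn : Φ.Normal := ConjAct.normal_of_characteristic_of_normal
  set π : G →* G ⧸ Φ := QuotientGroup.mk' Φ with hπ
  have hker : π.ker = Φ := QuotientGroup.ker_mk' Φ
  have hπ1 : ∀ g : G, π g = 1 ↔ g ∈ Φ := fun g => by
    rw [← MonoidHom.mem_ker, hker]
  have hΦP : Φ ≤ P := by
    rintro _ ⟨y, -, rfl⟩
    exact y.2
  set R : Subgroup G := Subgroup.zpowers x with hR
  have hRcard : Nat.card R = r := by rw [Nat.card_zpowers, hx]
  have hcopPR : (Nat.card P).Coprime (Nat.card R) := by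
    obtain ⟨n, hn⟩ := IsPGroup.iff_card.1 hP
    rw [hn, hRcard]
    exact Nat.Coprime.pow_left n ((Nat.coprime_primes hℓ hr).2 hℓr)
  have hRQ : R ≤ Subgroup.normalizer (Q : Set G) := Subgroup.zpowers_le.2 hxQ
  have htopP : Subgroup.normalizer (P : Set G) = ⊤ := Subgroup.normalizer_eq_top P
  have htopΦ : Subgroup.normalizer (Φ : Set G) = ⊤ := Subgroup.normalizer_eq_top Φ
  haveI : Group.IsSolvable R := by
    haveI : IsMulCommutative R := inferInstance
    infer_instance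
  -- the quotient data
  have hVn : (P.map π).Normal := hPn.map π (QuotientGroup.mk'_surjective Φ)
  have htopV : Subgroup.normalizer ((P.map π : Subgroup (G ⧸ Φ)) : Set (G ⧸ Φ)) = ⊤ :=
    Subgroup.normalizer_eq_top _
  have hV : IsElementaryAbelian ℓ (P.map π) := by
    refine ⟨⟨⟨?_⟩⟩, ?_⟩
    · rintro ⟨_, a, ha, rfl⟩ ⟨_, b, hb, rfl⟩
      apply Subtype.ext
      show π a * π b = π b * π a
      have h1 : ⁅(⟨a, ha⟩ : P), ⟨b, hb⟩⁆ ∈ frattini ↥P :=
        Cfsg.Agent.Lib.Helper03.commutator_le_frattini_of_isPGroup hP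
          (Subgroup.commutator_mem_commutator (Subgroup.mem_top _) (Subgroup.mem_top _))
      have h2 : ⁅a, b⁆ ∈ Φ := ⟨_, h1, by simp [commutatorElement_def]⟩
      have h3 : π ⁅a, b⁆ = 1 := (hπ1 _).2 h2
      rw [map_commutatorElement, commutatorElement_eq_one_iff_mul_comm] at h3
      exact h3
    · rintro _ ⟨a, ha, rfl⟩
      rw [← map_pow, hπ1]
      exact ⟨_, Cfsg.Agent.Lib.Helper03.pow_mem_frattini_of_isPGroup hP ⟨a, ha⟩, by simp⟩
  have hRcard' : Nat.card (R.map π) = r := by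
    rw [Cfsg.Agent.Lib.Helper01.card_map_of_coprime π R, hRcard]
    rw [hker]
    exact (Nat.Coprime.coprime_dvd_left (Subgroup.card_dvd_of_le hΦP) hcopPR).symm
  have hRQ' : R.map π ≤ Subgroup.normalizer ((Q.map π : Subgroup (G ⧸ Φ)) : Set (G ⧸ Φ)) :=
    le_trans (Subgroup.map_mono hRQ) (Subgroup.le_normalizer_map π)
  have hCV' : P.map π ⊓ Subgroup.centralizer ((R.map π : Subgroup (G ⧸ Φ)) : Set (G ⧸ Φ)) = ⊥ := by
    rw [eq_bot_iff]
    rintro _ ⟨⟨v, hv, rfl⟩, hc⟩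
    rw [Subgroup.mem_bot, hπ1]
    have hc' : π v ∈ Subgroup.centralizer ((R.map π : Subgroup (G ⧸ Φ)) : Set (G ⧸ Φ)) := hc
    rw [Subgroup.mem_centralizer_iff] at hc'
    apply mem_of_coset_fixed hΦP (by rw [htopΦ]; exact le_top) (by rw [htopP]; exact le_top)
      hcopPR (Or.inr inferInstance) hCP hv
    intro a ha
    rw [← hπ1]
    have h1 := hc' (π a) ⟨a, ha, rfl⟩
    simp only [map_mul, map_inv]
    rw [mul_assoc (π v)⁻¹, h1]
    group
  have hmain := Cfsg.Agent.Lib.Helper61.HHGlue.commutator_le_centralizer_of_fpf hℓ hq hr hℓq hℓr hqr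
    hq2 (P.map π) (Q.map π) (R.map π) hV (hQ.map π) hRcard' hRQ'
    (by rw [htopV]; exact le_top) (by rw [htopV]; exact le_top) hCV'
  rw [← Subgroup.map_commutator] at hmain
  -- back to `G`
  have hAQ : ⁅Q, R⁆ ≤ Q := by
    rw [Subgroup.commutator_le]
    intro g hg h hh
    rw [commutatorElement_def, mul_assoc, mul_assoc]
    refine mul_mem hg ?_
    rw [← mul_assoc]
    exact ((hRQ hh) g⁻¹).1 (inv_mem hg)
  apply Cfsg.Agent.S0029.result ⁅Q, R⁆ P (by rw [htopP]; exact le_top)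
  · haveI : Fact q.Prime := ⟨hq⟩
    obtain ⟨n, hn⟩ := IsPGroup.iff_card.1 (hQ.to_le hAQ)
    obtain ⟨m, hm⟩ := IsPGroup.iff_card.1 (hP.to_subgroup (frattini ↥P))
    rw [hn, hm]
    exact Nat.Coprime.pow n m ((Nat.coprime_primes hq hℓ).2 hℓq.symm)
  · intro a ha k hk
    rw [← hΦ, ← hπ1]
    have h1 : π a ∈ Subgroup.centralizer ((P.map π : Subgroup (G ⧸ Φ)) : Set (G ⧸ Φ)) :=
      hmain ⟨a, ha, rfl⟩
    rw [Subgroup.mem_centralizer_iff] at h1
    have h2 := h1 (π k) ⟨k, hk, rfl⟩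
    simp only [map_mul, map_inv]
    rw [← h2]
    group

section FitQ

variable {X : Type*} [Group X] [Finite X]

/-- If `D ⊴ X` contains `F(X)` with `D / F(X)` a `q`-group, then `C_D(O_{q'}(F(X))) ≤ F(X)`. -/
theorem inf_centralizers_le_fitting (q : ℕ) [hq : Fact q.Prime] (D : Subgroup X) [hDn : D.Normal]
    (hDq : ∀ d ∈ D, ∃ a : ℕ, d ^ q ^ a ∈ Cfsg.fittingSubgroup X) :
    D ⊓ ⨅ ℓ : {ℓ : ℕ // ℓ.Prime ∧ ℓ ≠ q}, Subgroup.centralizer (Cfsg.pCore (ℓ : ℕ) X : Set X) ≤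
      Cfsg.fittingSubgroup X := by
  classical
  set N : Subgroup X := ⨆ ℓ : {ℓ : ℕ // ℓ.Prime ∧ ℓ ≠ q}, Cfsg.pCore (ℓ : ℕ) X with hN
  set C : Subgroup X :=
    D ⊓ ⨅ ℓ : {ℓ : ℕ // ℓ.Prime ∧ ℓ ≠ q}, Subgroup.centralizer (Cfsg.pCore (ℓ : ℕ) X : Set X) with hC
  have hcoreN : ∀ ℓ : ℕ, (Cfsg.pCore ℓ X).Normal := fun ℓ => Cfsg.Agent.Lib.Helper01.pCore_normal ℓ
  haveI hNn : N.Normal := by
    haveI : ∀ ℓ : {ℓ : ℕ // ℓ.Prime ∧ ℓ ≠ q}, (Cfsg.pCore (ℓ : ℕ) X).Normal := fun ℓ => hcoreN ℓ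
    exact Subgroup.iSup_normal _
  haveI hCn : C.Normal := by
    haveI : ∀ ℓ : {ℓ : ℕ // ℓ.Prime ∧ ℓ ≠ q},
        (Subgroup.centralizer (Cfsg.pCore (ℓ : ℕ) X : Set X)).Normal := fun ℓ => by
      haveI := hcoreN ℓ
      exact Subgroup.normal_centralizer
    haveI : (⨅ ℓ : {ℓ : ℕ // ℓ.Prime ∧ ℓ ≠ q},
        Subgroup.centralizer (Cfsg.pCore (ℓ : ℕ) X : Set X)).Normal := Subgroup.normal_iInf_normal this
    infer_instance
  -- elements of `C` centralize `N`
  have hCN : ∀ c ∈ C, ∀ n ∈ N, n * c = c * n := by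
    intro c hc n hn
    have hle : N ≤ Subgroup.centralizer ({c} : Set X) := by
      apply iSup_le
      intro ℓ y hy
      rw [Subgroup.mem_centralizer_iff]
      intro z hz
      rw [Set.mem_singleton_iff] at hz
      subst hz
      have h1 := (Subgroup.mem_iInf.1 hc.2 ℓ)
      rw [Subgroup.mem_centralizer_iff] at h1
      exact (h1 y hy).symm
    have := hle hn
    rw [Subgroup.mem_centralizer_iff] at this
    exact (this c rfl).symm
  -- `O_q(X)` centralizes `N`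
  have hQN : ∀ u ∈ Cfsg.pCore q X, ∀ n ∈ N, n * u = u * n := by
    intro u hu n hn
    have hle : N ≤ Subgroup.centralizer ({u} : Set X) := by
      apply iSup_le
      intro ℓ y hy
      rw [Subgroup.mem_centralizer_iff]
      intro z hz
      rw [Set.mem_singleton_iff] at hz
      subst hz
      haveI : Fact (ℓ : ℕ).Prime := ⟨ℓ.2.1⟩
      have hdis : Disjoint (Cfsg.pCore q X) (Cfsg.pCore (ℓ : ℕ) X) :=
        IsPGroup.disjoint_of_ne q ℓ ℓ.2.2.symm _ _ (Cfsg.Agent.Lib.Helper01.pCore_isPGroup q)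
          (Cfsg.Agent.Lib.Helper01.pCore_isPGroup ℓ)
      exact (Subgroup.commute_of_normal_of_disjoint _ _ (hcoreN q) (hcoreN ℓ) hdis z y hu hy)
    have := hle hn
    rw [Subgroup.mem_centralizer_iff] at this
    exact (this u rfl).symm
  -- `F(X) ≤ N ⊔ O_q(X)`
  have hF : Cfsg.fittingSubgroup X ≤ Cfsg.pCore q X ⊔ N := by
    rw [Cfsg.Agent.Lib.Helper01.fitting_eq_iSup_pCore]
    apply iSup_le
    intro p
    by_cases hpq : (p : ℕ) = q
    · rw [hpq]; exact le_sup_left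
    · exact le_trans (le_iSup (fun ℓ : {ℓ : ℕ // ℓ.Prime ∧ ℓ ≠ q} => Cfsg.pCore (ℓ : ℕ) X)
        ⟨(p : ℕ), p.2, hpq⟩) le_sup_right
  -- the map to `X ⧸ N`
  let f : ↥C →* X ⧸ N := (QuotientGroup.mk' N).comp C.subtype
  have hker : f.ker ≤ Subgroup.center ↥C := by
    intro c hc
    rw [MonoidHom.mem_ker] at hc
    have hcN : (c : X) ∈ N := by
      have : (QuotientGroup.mk' N) (c : X) = 1 := hc
      rwa [← MonoidHom.mem_ker, QuotientGroup.ker_mk'] at this
    rw [Subgroup.mem_center_iff]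
    intro c'
    apply Subtype.ext
    simp only [Subgroup.coe_mul]
    exact (hCN c' c'.2 c hcN).symm
  have hrange : IsPGroup q f.range := by
    rintro ⟨_, c, rfl⟩
    obtain ⟨a, ha⟩ := hDq c c.2.1
    have h1 := hF ha
    rw [← SetLike.mem_coe, Subgroup.mul_normal] at h1
    obtain ⟨u, hu, n, hn, hun⟩ := Set.mem_mul.1 h1
    obtain ⟨b, hb⟩ := (Cfsg.Agent.Lib.Helper01.pCore_isPGroup (G := X) q) ⟨u, hu⟩
    have hub : u ^ q ^ b = 1 := by
      have := congrArg Subtype.val hb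
      simpa using this
    refine ⟨a + b, ?_⟩
    apply Subtype.ext
    simp only [Subgroup.coe_pow, Subgroup.coe_one]
    show (f c) ^ q ^ (a + b) = 1
    rw [← map_pow]
    show (QuotientGroup.mk' N) ((c : X) ^ q ^ (a + b)) = 1
    rw [← MonoidHom.mem_ker, QuotientGroup.ker_mk', pow_add, pow_mul, ← hun]
    have hcomm : Commute u n := (hQN u hu n hn).symm
    rw [hcomm.mul_pow, hub, one_mul]
    exact pow_mem hn _
  haveI : Finite f.range := inferInstance
  have hnil : Group.IsNilpotent ↥C := by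
    haveI h2 : Group.IsNilpotent f.range := hrange.isNilpotent
    have h3 : (f.rangeRestrict).ker ≤ Subgroup.center ↥C := by
      rw [MonoidHom.ker_rangeRestrict]; exact hker
    exact isNilpotent_of_ker_le_center f.rangeRestrict h3
  exact Cfsg.Agent.Lib.Helper13.le_fittingSubgroup C hCn hnil

end FitQ

/-- Variant of `commutator_le_centralizer_pgroup` with the arithmetic hypotheses in cardinality
form (so that trivial `P`, `Q` are allowed). -/
theorem commutator_le_centralizer_pgroup' {ℓ q r : ℕ} (hℓ : ℓ.Prime) (hq : q.Prime) (hr : r.Prime)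
    (hℓq : ℓ ≠ q) (P Q : Subgroup G) [hPn : P.Normal] (x : G) (hP : IsPGroup ℓ P)
    (hQ : IsPGroup q Q) (hPr : (Nat.card P).Coprime r) (hQr : (Nat.card Q).Coprime r)
    (hQodd : Odd (Nat.card Q))
    (hx : orderOf x = r) (hxQ : x ∈ Subgroup.normalizer (Q : Set G))
    (hCP : P ⊓ Subgroup.centralizer ((Subgroup.zpowers x : Subgroup G) : Set G) = ⊥) :
    ⁅Q, Subgroup.zpowers x⁆ ≤ Subgroup.centralizer (P : Set G) := by
  haveI : Fact ℓ.Prime := ⟨hℓ⟩
  haveI : Fact q.Prime := ⟨hq⟩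
  by_cases hP1 : P = ⊥
  · intro y _
    rw [Subgroup.mem_centralizer_iff]
    intro v hv
    have : v = 1 := by
      rw [hP1] at hv
      simpa using hv
    rw [this]; simp
  by_cases hQ1 : Q = ⊥
  · rw [hQ1, Subgroup.commutator_bot_left]
    exact bot_le
  have hdvdP : ℓ ∣ Nat.card P := by
    obtain ⟨n, hn⟩ := IsPGroup.iff_card.1 hP
    have hn0 : n ≠ 0 := by
      rintro rfl
      rw [pow_zero] at hn
      exact hP1 (Subgroup.eq_bot_of_card_eq _ hn)
    rw [hn]; exact dvd_pow_self ℓ hn0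
  have hdvdQ : q ∣ Nat.card Q := by
    obtain ⟨n, hn⟩ := IsPGroup.iff_card.1 hQ
    have hn0 : n ≠ 0 := by
      rintro rfl
      rw [pow_zero] at hn
      exact hQ1 (Subgroup.eq_bot_of_card_eq _ hn)
    rw [hn]; exact dvd_pow_self q hn0
  have hℓr : ℓ ≠ r := by
    rintro rfl
    exact (Nat.Prime.coprime_iff_not_dvd hℓ).1 hPr.symm hdvdP
  have hqr : q ≠ r := by
    rintro rfl
    exact (Nat.Prime.coprime_iff_not_dvd hq).1 hQr.symm hdvdQ
  have hq2 : q ≠ 2 := by
    rintro rfl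
    rw [← Nat.not_even_iff_odd] at hQodd
    exact hQodd (even_iff_two_dvd.2 hdvdQ)
  exact commutator_le_centralizer_pgroup hℓ hq hr hℓq hℓr hqr hq2 P Q x hP hQ hx hxQ hCP

/-- The elements `g` with `[g, x] ∈ F`, for a normal subgroup `F`. -/
def commSub (F : Subgroup G) [hF : F.Normal] (x : G) : Subgroup G where
  carrier := {g | ⁅g, x⁆ ∈ F}
  one_mem' := by
    show ⁅(1 : G), x⁆ ∈ F
    rw [commutatorElement_one_left]; exact one_mem F
  mul_mem' := by
    intro g h hg hh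
    have e : ⁅g * h, x⁆ = g * ⁅h, x⁆ * g⁻¹ * ⁅g, x⁆ := by
      simp only [commutatorElement_def]; group
    show ⁅g * h, x⁆ ∈ F
    rw [e]
    exact mul_mem (hF.conj_mem _ hh g) hg
  inv_mem' := by
    intro g hg
    have e : ⁅g⁻¹, x⁆ = g⁻¹ * (⁅g, x⁆)⁻¹ * g⁻¹⁻¹ := by
      simp only [commutatorElement_def]; group
    show ⁅g⁻¹, x⁆ ∈ F
    rw [e]
    exact hF.conj_mem _ (inv_mem hg) g⁻¹

omit [Finite G] in
theorem mem_commSub {F : Subgroup G} [hF : F.Normal] {x g : G} :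
    g ∈ commSub F x ↔ ⁅g, x⁆ ∈ F := Iff.rfl

section Main

variable (K : Subgroup G)

theorem fittingOf_normal [hKn : K.Normal] : (Cfsg.fittingOf K).Normal := by
  unfold Cfsg.fittingOf
  haveI := Cfsg.Agent.Lib.Helper67.fitting_characteristic (G := ↥K)
  exact ConjAct.normal_of_characteristic_of_normal

theorem pCoreOf_normal [hKn : K.Normal] (ℓ : ℕ) : (Cfsg.pCoreOf ℓ K).Normal := by
  unfold Cfsg.pCoreOf
  haveI := Cfsg.Agent.Lib.Helper01.pCore_characteristic (G := ↥K) ℓ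
  exact ConjAct.normal_of_characteristic_of_normal

omit [Finite G] in
theorem fittingOf_le : Cfsg.fittingOf K ≤ K := by
  unfold Cfsg.fittingOf
  exact Subgroup.map_subtype_le _

theorem pCoreOf_le_fittingOf (ℓ : ℕ) [Fact ℓ.Prime] : Cfsg.pCoreOf ℓ K ≤ Cfsg.fittingOf K := by
  unfold Cfsg.pCoreOf Cfsg.fittingOf
  exact Subgroup.map_mono (Cfsg.Agent.Lib.Helper01.pCore_le_fitting ℓ)

/-- `C_D(O_{q'}(F(K))) ≤ F(K)` for `D ⊴ G`, `D ≤ K` with `D F(K)/F(K)` a `q`-group. -/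
theorem mem_fittingOf_of_centralizes (q : ℕ) [Fact q.Prime] (D : Subgroup G) [hDn : D.Normal]
    (hDK : D ≤ K) (hDq : ∀ d ∈ D, ∃ a : ℕ, d ^ q ^ a ∈ Cfsg.fittingOf K) {c : G} (hc : c ∈ D)
    (hcent : ∀ ℓ : ℕ, ℓ.Prime → ℓ ≠ q → c ∈ Subgroup.centralizer (Cfsg.pCoreOf ℓ K : Set G)) :
    c ∈ Cfsg.fittingOf K := by
  haveI : (D.subgroupOf K).Normal := inferInstance
  have hDq' : ∀ d ∈ D.subgroupOf K, ∃ a : ℕ, d ^ q ^ a ∈ Cfsg.fittingSubgroup ↥K := by
    intro d hd
    obtain ⟨a, ha⟩ := hDq (d : G) (Subgroup.mem_subgroupOf.1 hd)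
    refine ⟨a, ?_⟩
    obtain ⟨y, hy, hyd⟩ := ha
    have : y = d ^ q ^ a := Subtype.ext (by simpa using hyd)
    rwa [← this]
  have h := inf_centralizers_le_fitting (X := ↥K) q (D.subgroupOf K) hDq'
  have hmem : (⟨c, hDK hc⟩ : ↥K) ∈ D.subgroupOf K ⊓ ⨅ ℓ : {ℓ : ℕ // ℓ.Prime ∧ ℓ ≠ q},
      Subgroup.centralizer (Cfsg.pCore (ℓ : ℕ) ↥K : Set ↥K) := by
    refine Subgroup.mem_inf.2 ⟨Subgroup.mem_subgroupOf.2 hc, ?_⟩
    rw [Subgroup.mem_iInf]
    intro ℓ
    rw [Subgroup.mem_centralizer_iff]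
    intro y hy
    have h1 := hcent ℓ ℓ.2.1 ℓ.2.2
    rw [Subgroup.mem_centralizer_iff] at h1
    have h2 := h1 (y : G) (Subgroup.mem_map_of_mem K.subtype hy)
    exact Subtype.ext h2
  exact ⟨_, h hmem, rfl⟩

/-- `x` of prime order `r` (coprime to `|K|`, `G` of odd order) with `C_{F(K)}(x) = 1`; if `D ⊴ G`,
`F(K) ≤ D ≤ K` and `D / F(K)` is a `q`-group, then `[D, x] ≤ F(K)`. -/
theorem commutator_mem_fittingOf_of_section [hKn : K.Normal] {r : ℕ} (hr : r.Prime) (x : G)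
    (hx : orderOf x = r) (hodd : Odd (Nat.card G)) (hcop : (Nat.card K).Coprime r)
    (hfix : Cfsg.fittingOf K ⊓
      Subgroup.centralizer ((Subgroup.zpowers x : Subgroup G) : Set G) = ⊥)
    (q : ℕ) [hq : Fact q.Prime] (D : Subgroup G) [hDn : D.Normal] (hDK : D ≤ K)
    (hFD : Cfsg.fittingOf K ≤ D) (hDq : ∀ d ∈ D, ∃ a : ℕ, d ^ q ^ a ∈ Cfsg.fittingOf K) :
    ∀ d ∈ D, ⁅d, x⁆ ∈ Cfsg.fittingOf K := by
  classical
  haveI hFn : (Cfsg.fittingOf K).Normal := fittingOf_normal K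
  set F := Cfsg.fittingOf K with hF
  set R : Subgroup G := Subgroup.zpowers x with hR
  have hRcard : Nat.card R = r := by rw [Nat.card_zpowers, hx]
  haveI : Group.IsSolvable R := by
    haveI : IsMulCommutative R := inferInstance
    infer_instance
  have hDcop : (Nat.card D).Coprime r :=
    Nat.Coprime.coprime_dvd_left (Subgroup.card_dvd_of_le hDK) hcop
  obtain ⟨Q, hQsyl, hRQ⟩ := Cfsg.Agent.Lib.Helper01.exists_invariant_isSylowIn (A := R) (K := D) q
    (by rw [Subgroup.normalizer_eq_top D]; exact le_top) (by rw [hRcard]; exact hDcop.symm)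
    (Or.inl inferInstance)
  obtain ⟨hQD, hQp, hQidx⟩ := hQsyl
  -- `D ≤ F ⊔ Q`
  have hDle : D ≤ F ⊔ Q := by
    rw [← Subgroup.relIndex_eq_one]
    have h1 : (F ⊔ Q).relIndex D ∣ Q.relIndex D := Subgroup.relIndex_dvd_of_le_left D le_sup_right
    have h2 : (F ⊔ Q).relIndex D ∣ F.relIndex D := Subgroup.relIndex_dvd_of_le_left D le_sup_left
    have h3 : ∃ n : ℕ, F.relIndex D = q ^ n := by
      have hpg : IsPGroup q (↥D ⧸ F.subgroupOf D) := by
        intro y
        obtain ⟨d, rfl⟩ := QuotientGroup.mk_surjective y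
        obtain ⟨a, ha⟩ := hDq d d.2
        refine ⟨a, ?_⟩
        rw [← QuotientGroup.mk_pow, QuotientGroup.eq_one_iff]
        exact Subgroup.mem_subgroupOf.2 (by simpa using ha)
      obtain ⟨n, hn⟩ := IsPGroup.iff_card.1 hpg
      exact ⟨n, by rw [Subgroup.relIndex, Subgroup.index_eq_card]; exact hn⟩
    obtain ⟨n, hn⟩ := h3
    rw [hn] at h2
    obtain ⟨m, -, hm⟩ := (Nat.dvd_prime_pow hq.out).1 h2
    rcases Nat.eq_zero_or_pos m with h0 | hpos
    · rw [hm, h0, pow_zero]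
    · exfalso
      apply hQidx
      refine dvd_trans ?_ h1
      rw [hm]
      exact dvd_pow_self q hpos.ne'
  -- the subgroup of elements with `[g, x] ∈ F`
  have hFS : F ≤ commSub F x := by
    intro f hf
    rw [mem_commSub, commutatorElement_def, mul_assoc, mul_assoc]
    refine mul_mem hf ?_
    rw [← mul_assoc]
    exact hFn.conj_mem _ (inv_mem hf) x
  have hQS : Q ≤ commSub F x := by
    intro t ht
    rw [mem_commSub]
    have htD : t ∈ D := hQD ht
    have hcD : ⁅t, x⁆ ∈ D := by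
      rw [commutatorElement_def, mul_assoc, mul_assoc]
      refine mul_mem htD ?_
      rw [← mul_assoc]
      exact hDn.conj_mem _ (inv_mem htD) x
    apply mem_fittingOf_of_centralizes K q D hDK hDq hcD
    intro ℓ hℓ hℓq
    haveI : Fact ℓ.Prime := ⟨hℓ⟩
    haveI := pCoreOf_normal K ℓ
    have hPle : Cfsg.pCoreOf ℓ K ≤ F := pCoreOf_le_fittingOf K ℓ
    have hPK : Cfsg.pCoreOf ℓ K ≤ K := le_trans hPle (fittingOf_le K)
    have hB := commutator_le_centralizer_pgroup' hℓ hq.out hr hℓq (Cfsg.pCoreOf ℓ K) Q x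
      (Cfsg.Agent.Lib.Helper54.isPGroup_pCoreOf ℓ K) hQp
      (Nat.Coprime.coprime_dvd_left (Subgroup.card_dvd_of_le hPK) hcop)
      (Nat.Coprime.coprime_dvd_left (Subgroup.card_dvd_of_le hQD) hDcop)
      (Odd.of_dvd_nat hodd (Subgroup.card_subgroup_dvd_card Q)) hx
      (hRQ (Subgroup.mem_zpowers x))
      (by
        rw [eq_bot_iff, ← hfix]
        exact inf_le_inf_right _ hPle)
    exact hB (Subgroup.commutator_mem_commutator ht (Subgroup.mem_zpowers x))
  intro d hd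
  exact mem_commSub.1 ((sup_le hFS hQS) (hDle hd))

/-- Main step: `x` of prime order `r` acting coprimely on the normal subgroup `K` of the solvable
group `G` of odd order with `C_{F(K)}(x) = 1` centralizes `K / F(K)`. -/
theorem commutator_mem_fittingOf [hKn : K.Normal] [hsolv : Group.IsSolvable G] {r : ℕ}
    (hr : r.Prime) (x : G)
    (hx : orderOf x = r) (hodd : Odd (Nat.card G)) (hcop : (Nat.card K).Coprime r)
    (hfix : Cfsg.fittingOf K ⊓
      Subgroup.centralizer ((Subgroup.zpowers x : Subgroup G) : Set G) = ⊥) :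
    ∀ k ∈ K, ⁅k, x⁆ ∈ Cfsg.fittingOf K := by
  classical
  haveI hFn : (Cfsg.fittingOf K).Normal := fittingOf_normal K
  set F := Cfsg.fittingOf K with hF
  set π : G →* G ⧸ F := QuotientGroup.mk' F with hπ
  have hπ1 : ∀ g : G, π g = 1 ↔ g ∈ F := fun g => by
    rw [← MonoidHom.mem_ker, QuotientGroup.ker_mk']
  set Kb : Subgroup (G ⧸ F) := K.map π with hKb
  haveI hKbn : Kb.Normal := hKn.map π (QuotientGroup.mk'_surjective F)
  set xb : G ⧸ F := π x with hxb
  -- `xb` centralizes `O_q(Kb)` for every prime `q`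
  have hstep : ∀ q : ℕ, q.Prime → ∀ y ∈ Cfsg.pCoreOf q Kb, xb * y = y * xb := by
    intro q hq y hy
    haveI : Fact q.Prime := ⟨hq⟩
    haveI hOn : (Cfsg.pCoreOf q Kb).Normal := pCoreOf_normal Kb q
    set D : Subgroup G := K ⊓ (Cfsg.pCoreOf q Kb).comap π with hD
    haveI : D.Normal := inferInstance
    have hDK : D ≤ K := inf_le_left
    have hFD : F ≤ D := by
      refine le_inf (fittingOf_le K) ?_
      intro f hf
      show π f ∈ Cfsg.pCoreOf q Kb
      rw [(hπ1 f).2 hf]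
      exact one_mem _
    have hDq : ∀ d ∈ D, ∃ a : ℕ, d ^ q ^ a ∈ F := by
      intro d hd
      have h1 : π d ∈ Cfsg.pCoreOf q Kb := hd.2
      obtain ⟨a, ha⟩ := (Cfsg.Agent.Lib.Helper54.isPGroup_pCoreOf q Kb) ⟨π d, h1⟩
      refine ⟨a, ?_⟩
      rw [← hπ1, map_pow]
      have := congrArg Subtype.val ha
      simpa using this
    have hS3 := commutator_mem_fittingOf_of_section K hr x hx hodd hcop hfix q D hDK hFD hDq
    have hyK : y ∈ Kb := Cfsg.Agent.Lib.Helper54.pCoreOf_le q Kb hy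
    obtain ⟨k, hk, rfl⟩ := hyK
    have hkD : k ∈ D := ⟨hk, hy⟩
    have h3 : π ⁅k, x⁆ = 1 := (hπ1 _).2 (hS3 k hkD)
    rw [map_commutatorElement, commutatorElement_eq_one_iff_mul_comm] at h3
    exact h3.symm
  -- `xb` centralizes `F(Kb)`
  have hcentF : ∀ y ∈ Cfsg.fittingOf Kb, xb * y = y * xb := by
    rintro _ ⟨z, hz, rfl⟩
    let T : Subgroup ↥Kb := (Subgroup.centralizer ({xb} : Set (G ⧸ F))).subgroupOf Kb
    have hle : Cfsg.fittingSubgroup ↥Kb ≤ T := by
      rw [Cfsg.Agent.Lib.Helper01.fitting_eq_iSup_pCore]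
      apply iSup_le
      intro p w hw
      rw [Subgroup.mem_subgroupOf, Subgroup.mem_centralizer_iff]
      intro u hu
      rw [Set.mem_singleton_iff] at hu
      subst hu
      exact hstep p p.2 (w : G ⧸ F) (Subgroup.mem_map_of_mem _ hw)
    have h1 := hle hz
    rw [Subgroup.mem_subgroupOf, Subgroup.mem_centralizer_iff] at h1
    exact h1 xb rfl
  -- `C_{Kb}(F(Kb)) ≤ F(Kb)`
  haveI : Group.IsSolvable (G ⧸ F) := inferInstance
  haveI : Group.IsSolvable ↥Kb := inferInstance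
  have hCF : ∀ d ∈ Kb, (∀ f ∈ Cfsg.fittingOf Kb, f * d = d * f) → d ∈ Cfsg.fittingOf Kb := by
    intro d hd hdc
    have h1 : (⟨d, hd⟩ : ↥Kb) ∈
        Subgroup.centralizer ((Cfsg.fittingSubgroup ↥Kb : Subgroup ↥Kb) : Set ↥Kb) := by
      rw [Subgroup.mem_centralizer_iff]
      intro f hf
      exact Subtype.ext (hdc (f : G ⧸ F) (Subgroup.mem_map_of_mem _ hf))
    exact ⟨_, Cfsg.Agent.Lib.Helper13.centralizer_fittingSubgroup_le h1, rfl⟩
  haveI hF2n : (Cfsg.fittingOf Kb).Normal := fittingOf_normal Kb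
  intro k hk
  rw [← hπ1, map_commutatorElement, commutatorElement_eq_one_iff_mul_comm]
  set kb : G ⧸ F := π k with hkb'
  have hkb : kb ∈ Kb := Subgroup.mem_map_of_mem _ hk
  set d : G ⧸ F := kb⁻¹ * xb * kb * xb⁻¹ with hd
  have hdK : d ∈ Kb := by
    rw [hd, mul_assoc, mul_assoc]
    refine mul_mem (inv_mem hkb) ?_
    rw [← mul_assoc]
    exact hKbn.conj_mem _ hkb xb
  have hdc : ∀ f ∈ Cfsg.fittingOf Kb, f * d = d * f := by
    intro f hf
    have e1 : xb⁻¹ * f * xb = f := by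
      rw [mul_assoc, ← hcentF f hf, ← mul_assoc, inv_mul_cancel, one_mul]
    have hf2 : kb * f * kb⁻¹ ∈ Cfsg.fittingOf Kb := hF2n.conj_mem f hf kb
    have e2 : xb * (kb * f * kb⁻¹) * xb⁻¹ = kb * f * kb⁻¹ := by
      rw [hcentF _ hf2]; group
    calc f * d = kb⁻¹ * (kb * f * kb⁻¹) * xb * kb * xb⁻¹ := by rw [hd]; group
      _ = kb⁻¹ * (xb * (kb * f * kb⁻¹) * xb⁻¹) * xb * kb * xb⁻¹ := by rw [e2]
      _ = kb⁻¹ * xb * kb * f * xb⁻¹ := by group
      _ = kb⁻¹ * xb * kb * (xb⁻¹ * f * xb) * xb⁻¹ := by rw [e1]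
      _ = d * f := by rw [hd]; group
  have hdF : d ∈ Cfsg.fittingOf Kb := hCF d hdK hdc
  have hxd : Commute xb d := hcentF d hdF
  have hconj : xb * kb * xb⁻¹ = kb * d := by rw [hd]; group
  have hpow : ∀ n : ℕ, xb ^ n * kb * (xb ^ n)⁻¹ = kb * d ^ n := by
    intro n
    induction n with
    | zero => simp
    | succ n ih =>
      have hxdn : xb * d ^ n * xb⁻¹ = d ^ n := by
        rw [(hxd.pow_right n).eq]; group
      calc xb ^ (n + 1) * kb * (xb ^ (n + 1))⁻¹
          = xb * (xb ^ n * kb * (xb ^ n)⁻¹) * xb⁻¹ := by rw [pow_succ']; group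
        _ = xb * (kb * d ^ n) * xb⁻¹ := by rw [ih]
        _ = (xb * kb * xb⁻¹) * (xb * d ^ n * xb⁻¹) := by group
        _ = kb * d * d ^ n := by rw [hconj, hxdn]
        _ = kb * d ^ (n + 1) := by rw [pow_succ', mul_assoc]
  have hxr : xb ^ r = 1 := by
    rw [hxb, ← map_pow, ← hx, pow_orderOf_eq_one, map_one]
  have hdr : d ^ r = 1 := by
    have h1 := hpow r
    rw [hxr] at h1
    simpa using h1.symm
  have hd1 : d = 1 := by
    have h1 : orderOf d ∣ r := orderOf_dvd_of_pow_eq_one hdr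
    have h2 : orderOf d ∣ Nat.card Kb := by
      have := orderOf_dvd_natCard (⟨d, hdK⟩ : Kb)
      rwa [Subgroup.orderOf_mk] at this
    have h3 : Nat.card Kb ∣ Nat.card K := Subgroup.card_map_dvd K π
    exact orderOf_eq_one_iff.1 (Nat.eq_one_of_dvd_coprimes hcop (h2.trans h3) h1)
  rw [hd1, mul_one] at hconj
  calc kb * xb = (xb * kb * xb⁻¹) * xb := by rw [hconj]
    _ = xb * kb := by group

/-- Bender–Glauberman: in a solvable group of odd order, if `R` acts coprimely on the normal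
subgroup `K` in a prime manner (`C_K(x) = C_K(R)` for `x ∈ R#`) and `C_{F(K)}(R) = 1`,
then `[K, R] ≤ F(K)`. -/
theorem commutator_le_fittingOf [hKn : K.Normal] [hsolv : Group.IsSolvable G]
    (hodd : Odd (Nat.card G)) (R : Subgroup G) (hcop : (Nat.card K).Coprime (Nat.card R))
    (hprime : ∀ x ∈ R, x ≠ 1 → K ⊓ Subgroup.centralizer ({x} : Set G) =
      (K ⊓ Subgroup.centralizer (R : Set G)))
    (hF : Cfsg.fittingOf K ⊓ Subgroup.centralizer (R : Set G) = ⊥) :
    ⁅K, R⁆ ≤ Cfsg.fittingOf K := by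
  classical
  haveI hFn : (Cfsg.fittingOf K).Normal := fittingOf_normal K
  by_cases hR1 : R = ⊥
  · rw [hR1, Subgroup.commutator_bot_right]; exact bot_le
  have hRcard : Nat.card R ≠ 1 := by
    intro h
    exact hR1 (Subgroup.eq_bot_of_card_eq _ h)
  obtain ⟨r, hr, hrR⟩ := Nat.exists_prime_and_dvd hRcard
  haveI : Fact r.Prime := ⟨hr⟩
  obtain ⟨x', hx'⟩ := exists_prime_orderOf_dvd_card' r hrR
  set x : G := (x' : G) with hxdef
  have hxR : x ∈ R := x'.2
  have hx : orderOf x = r := by rw [hxdef, Subgroup.orderOf_coe]; exact hx'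
  have hx1 : x ≠ 1 := by
    intro h
    rw [h, orderOf_one] at hx
    exact hr.one_lt.ne hx
  have hcopr : (Nat.card K).Coprime r := Nat.Coprime.coprime_dvd_right hrR hcop
  set A : Subgroup G := Subgroup.zpowers x with hA
  have hAcard : Nat.card A = r := by rw [Nat.card_zpowers, hx]
  have hxA : ({x} : Set G) ⊆ (A : Set G) := by
    rw [Set.singleton_subset_iff]; exact Subgroup.mem_zpowers x
  have hfix : Cfsg.fittingOf K ⊓ Subgroup.centralizer ((A : Subgroup G) : Set G) = ⊥ := by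
    rw [eq_bot_iff]
    intro f hf
    have hfK : f ∈ K := fittingOf_le K hf.1
    have hfx : f ∈ Subgroup.centralizer ({x} : Set G) := Subgroup.centralizer_le hxA hf.2
    have h1 : f ∈ K ⊓ Subgroup.centralizer ({x} : Set G) := ⟨hfK, hfx⟩
    rw [hprime x hxR hx1] at h1
    rw [← hF]
    exact ⟨hf.1, h1.2⟩
  have hmain := commutator_mem_fittingOf K hr x hx hodd hcopr hfix
  haveI : Group.IsSolvable A := by
    haveI : IsMulCommutative A := inferInstance
    infer_instance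
  set F := Cfsg.fittingOf K with hFdef
  set π : G →* G ⧸ F := QuotientGroup.mk' F with hπ
  have hπ1 : ∀ g : G, π g = 1 ↔ g ∈ F := fun g => by
    rw [← MonoidHom.mem_ker, QuotientGroup.ker_mk']
  have hFK : F ≤ K := fittingOf_le K
  have hdisj : K ⊓ A = ⊥ := by
    rw [eq_bot_iff]
    intro g hg
    rw [Subgroup.mem_bot]
    have h1 : orderOf g ∣ Nat.card K := by
      have := orderOf_dvd_natCard (⟨g, hg.1⟩ : K)
      rwa [Subgroup.orderOf_mk] at this
    have h2 : orderOf g ∣ Nat.card A := by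
      have := orderOf_dvd_natCard (⟨g, hg.2⟩ : A)
      rwa [Subgroup.orderOf_mk] at this
    rw [hAcard] at h2
    exact orderOf_eq_one_iff.1 (Nat.eq_one_of_dvd_coprimes hcopr h1 h2)
  have hdecomp : ∀ k ∈ K, ∃ c ∈ K ⊓ Subgroup.centralizer (R : Set G), ∃ f ∈ F, k = c * f := by
    intro k hk
    have hfixk : ∀ a ∈ A, k⁻¹ * a * k * a⁻¹ ∈ F := by
      intro a ha
      obtain ⟨n, rfl⟩ := Subgroup.mem_zpowers_iff.1 ha
      rw [← hπ1]
      have h1 : π ⁅k⁻¹, x⁆ = 1 := (hπ1 _).2 (hmain k⁻¹ (inv_mem hk))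
      rw [map_commutatorElement, commutatorElement_eq_one_iff_mul_comm] at h1
      have h2 : Commute (π k⁻¹) (π x ^ n) := Commute.zpow_right h1 n
      simp only [map_mul, map_zpow, map_inv] at h2 ⊢
      rw [h2.eq]
      group
    obtain ⟨n, hn, hnA⟩ := Cfsg.Agent.Lib.Helper01.exists_mul_inv_normalizes (A := A) (N := F)
      (by rw [Subgroup.normalizer_eq_top F]; exact le_top)
      (by rw [hAcard]; exact Nat.Coprime.coprime_dvd_left (Subgroup.card_dvd_of_le hFK) hcopr)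
      (Or.inr inferInstance) k hfixk
    have hcK : n * k⁻¹ ∈ K := mul_mem (hFK hn) (inv_mem hk)
    have hc := Cfsg.Agent.Lib.Helper01.mem_centralizer_of_conj_smul_eq (A := A) (K := K)
      (by rw [Subgroup.normalizer_eq_top K]; exact le_top) hdisj hcK hnA
    have h2 : n * k⁻¹ ∈ K ⊓ Subgroup.centralizer (R : Set G) := by
      rw [← hprime x hxR hx1]
      exact ⟨hcK, Subgroup.centralizer_le hxA hc⟩
    exact ⟨(n * k⁻¹)⁻¹, inv_mem h2, n, hn, by group⟩
  rw [Subgroup.commutator_le]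
  intro k hk y hy
  obtain ⟨c, hc, f, hf, rfl⟩ := hdecomp k hk
  have hcy : c * y = y * c := by
    have : c ∈ Subgroup.centralizer (R : Set G) := (Subgroup.mem_inf.1 hc).2
    rw [Subgroup.mem_centralizer_iff] at this
    exact (this y hy).symm
  have hinv : c⁻¹ * y⁻¹ = y⁻¹ * c⁻¹ := by
    rw [← mul_inv_rev, ← mul_inv_rev, hcy]
  have e : ⁅c * f, y⁆ = c * ⁅f, y⁆ * c⁻¹ := by
    rw [commutatorElement_def, commutatorElement_def]
    calc c * f * y * (c * f)⁻¹ * y⁻¹ = c * f * y * f⁻¹ * (c⁻¹ * y⁻¹) := by group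
      _ = c * f * y * f⁻¹ * (y⁻¹ * c⁻¹) := by rw [hinv]
      _ = c * (f * y * f⁻¹ * y⁻¹) * c⁻¹ := by group
  rw [e]
  apply hFn.conj_mem
  rw [commutatorElement_def, mul_assoc, mul_assoc]
  refine mul_mem hf ?_
  rw [← mul_assoc]
  exact hFn.conj_mem _ (inv_mem hf) y

end Main

end Cfsg.Agent.Lib.Helper61.PrimeAction
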