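import Mathlib
import Cfsg.Agent.S1350
import Cfsg.Agent.S1429
import Cfsg.Agent.Lib.Helper58.BG139I
import Cfsg.Agent.Lib.Helper13.BG12B
import Cfsg.Agent.Lib.Helper57.BG139K3c

/-!
# Pack K-151 (S1355 + S1364), leaf H1 (keystone 135509)

`M_σ` not nilpotent ⟹ a complement `E` of `M_σ` is a nontrivial Hall `κ(M)`-subgroup and
`IsSigmaDecomposition M E ⊥`.
-/

set_option autoImplicit false

namespace Cfsg.Agent.Lib.Helper61.BG151

open Cfsg

/-- K-151-H1 -/
theorem exists_decomp_of_not_nilpotent {G : Type*} [Group G] [Finite G]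
    (hG : IsMinSimpleOddOrder G) {M : Subgroup G} (hM : IsCoatom M)
    (h51 : ∀ K : Subgroup G, IsPiHallOf (kappa M) K M → IsCyclic K)
    (hnn : ¬ Group.IsNilpotent (sigmaCore M)) :
    ∃ K : Subgroup G, IsSigmaDecomposition M K ⊥ ∧ K ≠ ⊥ := by
  have hP1 : ∀ q : ℕ, q.Prime → q ∣ Nat.card M → q ∉ sigma M → q ∈ kappa M := by
    by_contra hP1
    have hex : ∃ q : ℕ, q.Prime ∧ q ∣ Nat.card M ∧ q ∉ sigma M ∧ q ∉ kappa M := by
      by_contra h
      apply hP1
      intro q hq hqM hqs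
      by_contra hqk
      exact h ⟨q, hq, hqM, hqs, hqk⟩
    obtain ⟨q, hq, hqM, hqs, hqk⟩ := hex
    haveI : Fact q.Prime := ⟨hq⟩
    obtain ⟨S⟩ : Nonempty (Sylow q M) := inferInstance
    have hq' : q ∉ sigma M ∪ kappa M := by
      rintro (h | h)
      · exact hqs h
      · exact hqk h
    exact hnn (Cfsg.Agent.S1429.result hG M hM hP1 q hqM hq' S).2.2
  have hHall := (Cfsg.Agent.S1350.result hG M hM).1
  obtain ⟨E, hE, -⟩ := Cfsg.Agent.Lib.Helper13.BG12.exists_complIn_ge hG hM hHall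
    (K := ⊥) bot_le (by
      intro p hp hpd
      rw [Subgroup.card_bot] at hpd
      exact absurd (Nat.dvd_one.mp hpd) hp.one_lt.ne')
  have hr1 : (sigmaCore M).relIndex M = Nat.card E :=
    Cfsg.Agent.Lib.Helper13.BG12.relIndex_eq_card_of_complIn hE
  have hr2 : E.relIndex M = Nat.card (sigmaCore M) :=
    Cfsg.Agent.Lib.Helper57.BG139.relIndex_eq_card_of_complIn' hE
  have hHallE : IsPiHallOf (kappa M) E M := by
    refine ⟨hE.1, ?_, ?_⟩
    · intro p hp hpd
      apply hP1 p hp (hpd.trans (Subgroup.card_dvd_of_le hE.1))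
      intro hσ
      apply hHall.2.2 p hp hσ
      rw [hr1]
      exact hpd
    · intro p hp hκ hpd
      rw [hr2] at hpd
      exact hκ.2.2.1 (hHall.2.1 p hp hpd)
  have hMσM : sigmaCore M ≤ M := hE.2.1
  have hE1 : E ≠ ⊥ := by
    intro hbot
    have hMle : M ≤ sigmaCore M := by
      intro m hm
      obtain ⟨a, ha, b, hb, rfl⟩ := hE.2.2.2 m hm
      rw [hbot, Subgroup.mem_bot] at ha
      rw [ha, one_mul]
      exact hb
    have hle : M ≤ ⁅M, M⁆ :=
      hMle.trans (Cfsg.Agent.Lib.Helper58.BG139.sigmaCore_le_commutator hG hM hE)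
    by_cases hMbot : M = ⊥
    · apply hnn
      have hsb : sigmaCore M = ⊥ := by
        rw [eq_bot_iff, ← hMbot]
        exact hMσM
      rw [hsb]
      infer_instance
    · haveI : Group.IsSolvable ↥M := Cfsg.Agent.Lib.Helper55.ms_solvable hG hM.1
      haveI : Nontrivial ↥M := (Subgroup.nontrivial_iff_ne_bot M).mpr hMbot
      have hlt := Group.IsSolvable.commutator_lt_top_of_nontrivial ↥M
      apply hlt.ne
      rw [eq_top_iff]
      intro s _
      have h1 := hle s.2
      rw [← Subgroup.map_subtype_commutator] at h1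
      obtain ⟨c, hc, hcs⟩ := h1
      have : c = s := Subtype.ext hcs
      rw [← this]
      exact hc
  refine ⟨E, ⟨h51 E hHallE, hHallE, ?_, ?_⟩, hE1⟩
  · refine ⟨bot_le, sup_le hE.1 hMσM, bot_inf_eq _, ?_⟩
    intro m hm
    obtain ⟨a, ha, b, hb, rfl⟩ := hE.2.2.2 m hm
    exact ⟨1, Subgroup.mem_bot.mpr rfl, a * b, Subgroup.mul_mem_sup ha hb, (one_mul _).symm⟩
  · intro x _
    rw [Subgroup.mem_normalizer_iff]
    intro h
    simp only [Subgroup.mem_bot, conj_eq_one_iff]

end Cfsg.Agent.Lib.Helper61.BG151
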