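import Mathlib
import Cfsg.Agent.Lib.Helper02.BG1310Defs
import Cfsg.Agent.Lib.Helper64.BG14K
import Cfsg.Agent.Lib.Helper54.BG134A3a
import Cfsg.Agent.Lib.Helper16.BG134Asm
import Cfsg.Agent.Lib.Helper13.BG12B
import Cfsg.Agent.Lib.Helper31.FittingHall
import Cfsg.Agent.Lib.Helper55.Uniq2
import Cfsg.Agent.S1350

/-!
# K-LemmaD2, keystone 143114 (K-LD2-HD): the wrapper `hd : HD G`

From helper71's structure pack (`HNRS G`) and the conclusion for a nonregular maximal subgroup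
(`hZ`, keystone 143113) we get Lemma D = BG 13.10 in the form `HD G`.
-/

set_option autoImplicit false
set_option linter.unusedSectionVars false
set_option linter.unusedVariables false
set_option linter.style.haveILetI false

namespace Cfsg.Agent.Lib.Helper61.BG1310

open Cfsg Cfsg.Agent.Lib.Helper55 Cfsg.Agent.Lib.Helper31.BG134 Cfsg.Agent.Lib.Helper15.BG139
  Cfsg.Agent.Lib.Helper02.BG1310

variable {G : Type*} [Group G] [Finite G]

/-- if every Sylow `s`-subgroup of `M` is cyclic then `M` has `s`-rank at most `1` -/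
theorem pRankLE_one_of_sylow_cyclic {M : Type*} [Group M] [Finite M] {s : ℕ} (hs : s.Prime)
    (h : ∀ P : Sylow s M, IsCyclic P) : PRankLE s 1 M := by
  haveI : Fact s.Prime := ⟨hs⟩
  intro A _ hA
  have hAp : IsPGroup s A := by
    intro a
    refine ⟨1, ?_⟩
    apply Subtype.ext
    rw [pow_one, Subgroup.coe_pow, Subgroup.coe_one]
    exact hA a a.2
  obtain ⟨P, hP⟩ := hAp.exists_le_sylow
  haveI : IsCyclic ↥(P : Subgroup M) := h P
  haveI : IsCyclic ↥A := by
    have : IsCyclic ↥(A.subgroupOf (P : Subgroup M)) := inferInstance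
    exact isCyclic_of_surjective (Subgroup.subgroupOfEquivOfLe hP).toMonoidHom
      (MulEquiv.surjective _)
  rw [pow_one, ← IsCyclic.exponent_eq_card]
  apply Nat.le_of_dvd hs.pos
  apply Monoid.exponent_dvd_of_forall_pow_eq_one
  intro a
  apply Subtype.ext
  rw [Subgroup.coe_pow, Subgroup.coe_one]
  exact hA a a.2

/-- a subgroup of prime order `q` inside a subgroup whose order is divisible by `q` -/
theorem exists_le_card_eq_prime {E : Subgroup G} {q : ℕ} (hq : q.Prime) (hqE : q ∣ Nat.card E) :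
    ∃ Q : Subgroup G, Q ≤ E ∧ Nat.card Q = q := by
  haveI : Fact q.Prime := ⟨hq⟩
  obtain ⟨x, hx⟩ := exists_prime_orderOf_dvd_card' (G := E) q hqE
  refine ⟨Subgroup.zpowers (x : G), ?_, ?_⟩
  · rw [Subgroup.zpowers_le]; exact x.2
  · rw [Nat.card_zpowers, Subgroup.orderOf_coe, hx]

/-- **KEYSTONE 143114  K-LD2-HD**. -/
theorem hd (hG : IsMinSimpleOddOrder G) (hS : HNRS G)
    (hZ : ∀ M E E₁ E₃ : Subgroup G, NRS M E E₁ E₃ →
      CP M E ≠ ⊥ ∧ ∀ Q : Subgroup G, Q ≤ E → (Nat.card Q).Prime →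
        CP M Q = CP M E ∧ E ≤ Subgroup.normalizer (Q : Set G)) : HD G := by
  intro M hM hκ E hE
  -- a prime `s ∈ κ(M) \ τ₁(M)`
  obtain ⟨s, hsκ, hs1⟩ : ∃ s, s ∈ kappa M ∧ s ∉ tau1 M := by
    by_contra h
    apply hκ
    intro p hp
    by_contra hp1
    exact h ⟨p, hp, hp1⟩
  have hsp : s.Prime := hsκ.1
  have hsM : s ∣ Nat.card M := hsκ.2.1
  have hsσ : s ∉ sigma M := hsκ.2.2.1
  have hsrk : PRankLE s 1 M := pRankLE_one_of_sylow_cyclic hsp (fun P => (hsκ.2.2.2 P).1)
  have hs3 : s ∈ tau3 M := by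
    rcases Cfsg.Agent.Lib.Helper16.BG134.mem_tau_cases hG hM hsp hsM hsσ with h | h | h
    · exact absurd h hs1
    · exact absurd hsrk h.2.2.2
    · exact h
  -- general facts on `M`, `M_σ`, `E`
  have hHall : IsPiHallOf (sigma M) (sigmaCore M) M := (Cfsg.Agent.S1350.result hG M hM).1
  have hEM : E ≤ M := hE.1
  have hcard : Nat.card E * Nat.card (sigmaCore M) = Nat.card M :=
    Cfsg.Agent.Lib.Helper31.IsComplIn.card_mul hE
  have hEσ : ∀ p : ℕ, p.Prime → p ∣ Nat.card E → p ∉ sigma M :=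
    Cfsg.Agent.Lib.Helper13.BG12.complIn_prime_not_mem_sigma hHall hE
  have hMtop : M ≠ ⊤ := hM.1
  have hEtop : E ≠ ⊤ := fun h => hMtop (top_le_iff.mp (h ▸ hEM))
  have hEsolv : Group.IsSolvable ↥E := ms_solvable hG hEtop
  -- `s ∣ |E|`
  have hsE : s ∣ Nat.card E := by
    have h1 : s ∣ Nat.card E * Nat.card (sigmaCore M) := hcard ▸ hsM
    rcases (Nat.Prime.dvd_mul hsp).mp h1 with h | h
    · exact h
    · exact absurd (hHall.2.1 s hsp h) hsσ
  obtain ⟨S₀, hS₀E, hS₀c⟩ := exists_le_card_eq_prime hsp hsE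
  have hS₀C : CP M S₀ ≠ ⊥ :=
    Cfsg.Agent.Lib.Helper64.BG14.cent_ne_bot_of_mem_kappa hG hM hsκ (hS₀E.trans hEM) hS₀c
  -- the Hall subgroups
  obtain ⟨E₁, hE₁, -⟩ := Cfsg.Agent.Lib.Helper54.BG134.exists_isPiHallOf_ge hEsolv (tau1 M)
    (K := ⊥) bot_le (by
      intro p hp hpd
      rw [Subgroup.card_bot] at hpd
      exact absurd (Nat.dvd_one.mp hpd) hp.one_lt.ne')
  obtain ⟨E₃, hE₃, hS₀E₃⟩ := Cfsg.Agent.Lib.Helper54.BG134.exists_isPiHallOf_ge hEsolv (tau3 M)
    (K := S₀) hS₀E (by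
      intro p hp hpd
      rw [hS₀c] at hpd
      rw [(Nat.prime_dvd_prime_iff_eq hp hsp).mp hpd]
      exact hs3)
  have hnr : NR M E E₁ E₃ :=
    ⟨hG, hM, hE, hE₁, hE₃, ⟨S₀, hS₀E₃, by rw [hS₀c]; exact hsp, hS₀C⟩⟩
  have d : NRS M E E₁ E₃ := hS M E E₁ E₃ hnr
  obtain ⟨hCE, hQ⟩ := hZ M E E₁ E₃ d
  refine ⟨?_, ?_, ?_, d.hτ2, hCE⟩
  · -- (i) every prime divisor of `|E|` is in `κ(M)`
    intro q hq hqE
    obtain ⟨Q, hQE, hQc⟩ := exists_le_card_eq_prime hq hqE
    have hqM : q ∣ Nat.card M := hcard ▸ Dvd.dvd.mul_right hqE _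
    have hqσ : q ∉ sigma M := hEσ q hq hqE
    have hq1 : PRankLE q 1 M := by
      rcases Cfsg.Agent.Lib.Helper16.BG134.mem_tau_cases hG hM hq hqM hqσ with h | h | h
      · exact h.2.2.2.2
      · exact absurd h (d.hτ2 q)
      · exact h.2.2.2
    have hC : sigmaCore M ⊓ Subgroup.centralizer (Q : Set G) ≠ ⊥ := by
      have h1 := (hQ Q hQE (by rw [hQc]; exact hq)).1
      intro h
      apply hCE
      rw [← h1]
      exact h
    exact Cfsg.Agent.Lib.Helper64.BG14.mem_kappa_of_cent_ne_bot hG hM hq hqM hqσ hq1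
      (hQE.trans hEM) hQc hC
  · -- (ii) the centralizers of the non-identity elements of `E`
    intro x hxE hx1
    have hord : orderOf x ≠ 1 := by
      rw [Ne, orderOf_eq_one_iff]; exact hx1
    obtain ⟨q, hq, hqx⟩ := Nat.exists_prime_and_dvd hord
    obtain ⟨k, hk⟩ := hqx
    have hyo : orderOf (x ^ k) = q := by
      have hk0 : k ≠ 0 := by
        rintro rfl
        rw [mul_zero] at hk
        exact (orderOf_pos x).ne' hk
      rw [orderOf_pow_of_dvd hk0 ⟨q, by rw [hk, mul_comm]⟩, hk, Nat.mul_div_cancel _ (Nat.pos_of_ne_zero hk0)]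
    have hQE : Subgroup.zpowers (x ^ k) ≤ E := by
      rw [Subgroup.zpowers_le]; exact Subgroup.pow_mem _ hxE _
    have hQc : Nat.card (Subgroup.zpowers (x ^ k)) = q := by rw [Nat.card_zpowers, hyo]
    have h1 := (hQ _ hQE (by rw [hQc]; exact hq)).1
    apply le_antisymm
    · have h2 : sigmaCore M ⊓ Subgroup.centralizer ({x} : Set G) ≤
          CP M (Subgroup.zpowers (x ^ k)) := by
        refine inf_le_inf_left _ ?_
        intro z hz
        rw [Subgroup.mem_centralizer_iff] at hz ⊢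
        intro w hw
        obtain ⟨n, rfl⟩ := Subgroup.mem_zpowers_iff.mp hw
        have hc : Commute x z := hz x (Set.mem_singleton x)
        exact ((hc.pow_left k).zpow_left n).eq
      rw [h1] at h2
      exact h2
    · refine inf_le_inf_left _ ?_
      apply Subgroup.centralizer_le
      rw [Set.singleton_subset_iff]
      exact hxE
  · -- (iii)
    intro Q hQE hQp
    exact (hQ Q hQE hQp).2

end Cfsg.Agent.Lib.Helper61.BG1310
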