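import Mathlib
import Cfsg.Prelude.Def_GeometricClasses
import Cfsg.Agent.Lib.Helper61.AschDefs

/-!
Shared vocabulary for S5663 (Aschbacher's theorem for subgroups of `SU_n(q)`), architect helper61.
-/

set_option autoImplicit false

namespace Cfsg.Agent.Lib.Helper61.AschU

open Cfsg Cfsg.Geo
open scoped Matrix Kronecker MatrixGroups

/-- The conclusion "`K ⊓ GU_n(q)` lies in a member of one of the classes of the unitary case". -/
def UGeom (n q : ℕ) {F : Type*} [Field F] [Fintype F] (K : Subgroup (GL (Fin n) F)) : Prop :=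
  ∃ M : Subgroup (GL (Fin n) F), InUnitaryClass n F q M ∧ K ⊓ GU n F q ≤ M

/-- `g` multiplies the two-argument form `f` by `c`. -/
def IsSim {ι : Type} [Fintype ι] [DecidableEq ι] {F : Type*} [Field F]
    (f : (ι → F) → (ι → F) → F) (g : GL ι F) (c : F) : Prop :=
  ∀ u v, f ((g : Matrix ι ι F) *ᵥ u) ((g : Matrix ι ι F) *ᵥ v) = c * f u v

/-- The matrix on `Fin t → Fin m` of `1 ⊗ … ⊗ x ⊗ … ⊗ 1` (`x` in position `i`); same definition as
`Cfsg.Agent.Lib.Helper05.Asch.pureAt` / `Cfsg.Agent.Lib.Helper04.Asch.pureAt`. -/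
def pureAt {F : Type*} [Field F] (m t : ℕ) (i : Fin t) (x : Matrix (Fin m) (Fin m) F) :
    Matrix (Fin t → Fin m) (Fin t → Fin m) F :=
  fun u v => if ∀ j, j ≠ i → u j = v j then x (u i) (v i) else 0

/-- The `i`-th factor algebra of the tensor decomposition `(e, P)`: `x ↦ P (1 ⊗ … ⊗ x ⊗ … ⊗ 1) P⁻¹`. -/
def fac {F : Type*} [Field F] {n : ℕ} (m t : ℕ) (e : Fin n ≃ (Fin t → Fin m)) (P : GL (Fin n) F) (i : Fin t)
    (x : Matrix (Fin m) (Fin m) F) : Matrix (Fin n) (Fin n) F :=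
  (P : Matrix (Fin n) (Fin n) F) * Matrix.reindex e.symm e.symm (pureAt m t i x) *
    ((P⁻¹ : GL (Fin n) F) : Matrix (Fin n) (Fin n) F)

end Cfsg.Agent.Lib.Helper61.AschU
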