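import Mathlib
import Cfsg.Prelude.Def_GeometricClasses
import Cfsg.Agent.Lib.Helper61.AschDefs
import Cfsg.Agent.Lib.Helper61.AschBasic

set_option autoImplicit false

namespace Cfsg.Agent.Lib.Helper61.Asch

open Cfsg Cfsg.Geo
open scoped Matrix Kronecker MatrixGroups

variable {ι : Type} [Fintype ι] [DecidableEq ι] {F : Type*} [Field F]

/-- a subspace invariant under a set of matrices is invariant under the generated subalgebra -/
theorem map_le_of_mem_adjoin {S : Set (Matrix ι ι F)} {W : Submodule F (ι → F)}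
    (hW : ∀ s ∈ S, W.map (Matrix.toLin' s) ≤ W) {M : Matrix ι ι F} (hM : M ∈ Algebra.adjoin F S) :
    W.map (Matrix.toLin' M) ≤ W := by
  induction hM using Algebra.adjoin_induction with
  | mem x hx => exact hW x hx
  | algebraMap r =>
    rintro _ ⟨w, hw, rfl⟩
    rw [Algebra.algebraMap_eq_smul_one, map_smul, Matrix.toLin'_one]
    exact W.smul_mem r hw
  | add x y _ _ hx hy =>
    rintro _ ⟨w, hw, rfl⟩
    rw [map_add, LinearMap.add_apply]
    exact W.add_mem (hx ⟨w, hw, rfl⟩) (hy ⟨w, hw, rfl⟩)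
  | mul x y _ _ hx hy =>
    rintro _ ⟨w, hw, rfl⟩
    rw [Matrix.toLin'_mul, LinearMap.comp_apply]
    exact hx ⟨_, hy ⟨w, hw, rfl⟩, rfl⟩

theorem actsIrreducibly_of_spanAlg_eq_top {X : Subgroup (GL ι F)} (hX : spanAlg X = ⊤) :
    ActsIrreducibly (matrixSet X) := by
  intro W hW
  by_cases hb : W = ⊥
  · exact Or.inl hb
  right
  rw [Submodule.eq_bot_iff] at hb
  push_neg at hb
  obtain ⟨w, hwW, hw0⟩ := hb
  have : ∃ i, w i ≠ 0 := by
    by_contra h
    push_neg at h
    exact hw0 (funext h)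
  obtain ⟨i, hi⟩ := this
  rw [Submodule.eq_top_iff']
  intro v
  let M : Matrix ι ι F := Matrix.of fun a b => v a * (if b = i then (w i)⁻¹ else 0)
  have hMw : M *ᵥ w = v := by
    funext a
    simp only [Matrix.mulVec, dotProduct, M, Matrix.of_apply]
    rw [Finset.sum_eq_single i]
    · simp [hi]
    · intro b _ hb; simp [hb]
    · intro h; exact absurd (Finset.mem_univ i) h
  have hM : M ∈ Algebra.adjoin F (matrixSet X) := by
    have : M ∈ spanAlg X := by rw [hX]; trivial
    exact this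
  have := map_le_of_mem_adjoin hW hM ⟨w, hwW, rfl⟩
  rw [Matrix.toLin'_apply, hMw] at this
  exact this

theorem actsAbsolutelyIrreducibly_of_spanAlg_eq_top {X : Subgroup (GL ι F)} (hX : spanAlg X = ⊤) :
    ActsAbsolutelyIrreducibly (matrixSet X) := by
  refine ⟨actsIrreducibly_of_spanAlg_eq_top hX, ?_⟩
  intro M hM
  have hcomm : ∀ N : Matrix ι ι F, M * N = N * M := by
    intro N
    have hN : N ∈ spanAlg X := by rw [hX]; trivial
    induction hN using Algebra.adjoin_induction with
    | mem x hx => exact hM x hx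
    | algebraMap r => simp [Algebra.algebraMap_eq_smul_one]
    | add x y _ _ hx hy => rw [mul_add, add_mul, hx, hy]
    | mul x y _ _ hx hy => rw [← mul_assoc, hx, mul_assoc, hy, mul_assoc]
  have hsc : M ∈ Set.range (Matrix.scalar ι : F →+* Matrix ι ι F) := by
    rw [← Matrix.center_eq_range, Semigroup.mem_center_iff]
    exact fun N => (hcomm N).symm
  obtain ⟨c, hc⟩ := hsc
  exact ⟨c, by rw [← hc]; simp [Matrix.smul_one_eq_diagonal]⟩

/-- invariance under a subgroup: the map condition for `g` and `g⁻¹` gives the stabilizer condition -/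
theorem le_subspaceStabilizer {K : Subgroup (GL ι F)} {W : Submodule F (ι → F)}
    (hW : ∀ s ∈ matrixSet K, W.map (Matrix.toLin' s) ≤ W) : K ≤ subspaceStabilizer W := by
  intro g hg v
  show v ∈ (W : Set (ι → F)) ↔ (glToMat ι F g) *ᵥ v ∈ (W : Set (ι → F))
  constructor
  · intro hv
    have := hW _ (mem_matrixSet hg) ⟨v, hv, rfl⟩
    simpa using this
  · intro hv
    have := hW _ (mem_matrixSet (K.inv_mem hg)) ⟨_, hv, rfl⟩
    rw [Matrix.toLin'_apply] at this
    have h2 : ((g⁻¹ : GL ι F) : Matrix ι ι F) *ᵥ ((glToMat ι F g) *ᵥ v) = v := by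
      show ((g⁻¹ : GL ι F) : Matrix ι ι F) *ᵥ ((g : Matrix ι ι F) *ᵥ v) = v
      rw [Matrix.mulVec_mulVec, ← Units.val_mul, inv_mul_cancel, Units.val_one, Matrix.one_mulVec]
    rw [h2] at this
    exact this

/-- T1: a reducible group lies in a class 1 member. -/
theorem geom_of_reducible {n : ℕ} [Fintype F] (K : Subgroup (GL (Fin n) F))
    (hK : ¬ ActsIrreducibly (matrixSet K)) : Geom K := by
  unfold ActsIrreducibly at hK
  push_neg at hK
  obtain ⟨W, hW, hb, ht⟩ := hK
  exact ⟨subspaceStabilizer W, Or.inl ⟨W, hb, ht, rfl⟩, le_subspaceStabilizer hW⟩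

end Cfsg.Agent.Lib.Helper61.Asch
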