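import Cfsg.Agent.Lib.Helper69.OPbDefs
import Cfsg.Agent.Lib.Helper63.OhB
import Cfsg.Agent.Lib.Helper98.Os1

/-!
# K-OPb-1 (keystone 598901): a nondegenerate symmetric space over a finite field of odd characteristic contains an
isometric copy of every nondegenerate symmetric space of smaller dimension
-/

set_option autoImplicit false

namespace Cfsg.Agent.Lib.Helper61.OPb

open Module Cfsg.Agent.Lib.Helper98.Elus Cfsg.Agent.Lib.Helper98.Sy Cfsg.Agent.Lib.Helper98.Oh
  Cfsg.Agent.Lib.Helper69.OPb

universe u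
variable {F : Type u} [Field F] {V : Type u} [AddCommGroup V] [Module F V]

/-- a nonzero nondegenerate subspace of a symmetric space (`2 ≠ 0`) has a non-isotropic vector -/
theorem exists_norm_ne_zero (h2 : (2 : F) ≠ 0) (B : LinearMap.BilinForm F V)
    (hS : ∀ a b, B a b = B b a) (U : Submodule F V) (hU : NonDeg B U) (hne : U ≠ ⊥) :
    ∃ u ∈ U, B u u ≠ 0 := by
  by_contra hcon
  have hall : ∀ u ∈ U, B u u = 0 := by
    intro u hu
    by_contra h
    exact hcon ⟨u, hu, h⟩
  obtain ⟨u, hu, hu0⟩ := Submodule.exists_mem_ne_zero_of_ne_bot hne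
  apply hu0
  apply hU u hu
  intro v hv
  have h1 := hall (u + v) (U.add_mem hu hv)
  simp only [map_add, LinearMap.add_apply] at h1
  rw [hall u hu, hall v hv, hS v u, zero_add, add_zero] at h1
  have h3 : (2 : F) * B u v = 0 := by linear_combination h1
  exact (mul_eq_zero.mp h3).resolve_left h2

/-- a line spanned by a non-isotropic vector is nondegenerate -/
theorem nonDeg_span_singleton (B : LinearMap.BilinForm F V) (u : V) (hu : B u u ≠ 0) :
    NonDeg B (Submodule.span F {u}) := by
  intro x hx hx'
  obtain ⟨c, rfl⟩ := Submodule.mem_span_singleton.mp hx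
  have h := hx' u (Submodule.mem_span_singleton_self u)
  rw [map_smul, LinearMap.smul_apply, smul_eq_mul] at h
  rw [(mul_eq_zero.mp h).resolve_right hu, zero_smul]

/-- universality: a nondegenerate symmetric space of dimension `≥ 2` over a finite field of odd characteristic
represents every scalar -/
theorem exists_norm_eq [Fintype F] (h2 : (2 : F) ≠ 0) [FiniteDimensional F V]
    (B : LinearMap.BilinForm F V) (hS : ∀ a b, B a b = B b a) (U : Submodule F V) (hU : NonDeg B U)
    (hd : 2 ≤ finrank F U) (α : F) : ∃ u ∈ U, B u u = α := by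
  have hR : B.IsRefl := Cfsg.Agent.Lib.Helper98.Os.isRefl_of_symm hS
  have hne : U ≠ ⊥ := by
    intro h
    rw [h, finrank_bot] at hd
    omega
  obtain ⟨u₁, hu₁, ha⟩ := exists_norm_ne_zero h2 B hS U hU hne
  have hu₁0 : u₁ ≠ 0 := by
    intro h
    rw [h, map_zero] at ha
    exact ha rfl
  have hL : NonDeg B (Submodule.span F {u₁}) := nonDeg_span_singleton B u₁ ha
  have hLU : Submodule.span F {u₁} ≤ U := by
    rw [Submodule.span_le, Set.singleton_subset_iff]
    exact hu₁
  obtain ⟨-, -, hU', hfr⟩ := Cfsg.Agent.Lib.Helper98.Os.compl_props hR _ U hL hLU hU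
  rw [finrank_span_singleton hu₁0] at hfr
  have hne' : B.orthogonal (Submodule.span F {u₁}) ⊓ U ≠ ⊥ := by
    intro h
    rw [h, finrank_bot] at hfr
    omega
  obtain ⟨u₂, hu₂, hb⟩ := exists_norm_ne_zero h2 B hS _ hU' hne'
  obtain ⟨hu₂o, hu₂U⟩ := Submodule.mem_inf.mp hu₂
  have h12 : B u₁ u₂ = 0 :=
    LinearMap.BilinForm.mem_orthogonal_iff.mp hu₂o u₁ (Submodule.mem_span_singleton_self u₁)
  obtain ⟨x, y, hxy⟩ := Cfsg.Agent.Lib.Helper45.S2718K.binary h2 (B u₁ u₁) (B u₂ u₂) α ha hb
  refine ⟨x • u₁ + y • u₂, U.add_mem (U.smul_mem _ hu₁) (U.smul_mem _ hu₂U), ?_⟩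
  simp only [map_add, map_smul, LinearMap.add_apply, LinearMap.smul_apply, smul_eq_mul]
  rw [hS u₂ u₁, h12]
  linear_combination hxy

/-- the span of an orthogonal family of non-isotropic vectors is nondegenerate -/
theorem nonDeg_span_family (B : LinearMap.BilinForm F V) {ι : Type} [Fintype ι] [DecidableEq ι]
    (u : ι → V) (horth : ∀ i j, i ≠ j → B (u i) (u j) = 0) (hd : ∀ i, B (u i) (u i) ≠ 0) :
    NonDeg B (Submodule.span F (Set.range u)) := by
  intro w hw hw'
  obtain ⟨c, rfl⟩ := (Submodule.mem_span_range_iff_exists_fun F).mp hw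
  have hc : ∀ j, c j = 0 := by
    intro j
    have := hw' (u j) (Submodule.subset_span ⟨j, rfl⟩)
    rw [Cfsg.Agent.Lib.Helper63.Oh.orth_sum_apply B u horth c j] at this
    exact (mul_eq_zero.mp this).resolve_right (hd j)
  simp [hc]

/-- an orthogonal family with prescribed nonzero norms inside a nondegenerate subspace of bigger dimension -/
theorem exists_orth_family [Fintype F] (h2 : (2 : F) ≠ 0) [FiniteDimensional F V]
    (B : LinearMap.BilinForm F V) (hS : ∀ a b, B a b = B b a) (U : Submodule F V) (hU : NonDeg B U)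
    (n : ℕ) (α : ℕ → F) (hα : ∀ i, i < n → α i ≠ 0) (hlt : n < finrank F U) :
    ∀ k, k ≤ n → ∃ u : ℕ → V, (∀ i, i < k → u i ∈ U ∧ B (u i) (u i) = α i) ∧
      (∀ i, i < k → ∀ j, j < k → i ≠ j → B (u i) (u j) = 0) := by
  classical
  have hR : B.IsRefl := Cfsg.Agent.Lib.Helper98.Os.isRefl_of_symm hS
  intro k
  induction k with
  | zero =>
    intro _
    exact ⟨fun _ => 0, fun i hi => absurd hi (Nat.not_lt_zero i), fun i hi => absurd hi (Nat.not_lt_zero i)⟩
  | succ k ih =>
    intro hk
    obtain ⟨u, hu1, hu2⟩ := ih (by omega)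
    -- the span of the first `k` vectors
    let w : Fin k → V := fun i => u i
    have horth : ∀ i j : Fin k, i ≠ j → B (w i) (w j) = 0 := by
      intro i j hij
      exact hu2 i i.2 j j.2 (fun h => hij (Fin.ext h))
    have hdw : ∀ i : Fin k, B (w i) (w i) ≠ 0 := by
      intro i
      rw [(hu1 i i.2).2]
      exact hα i (by have := i.2; omega)
    have hli := Cfsg.Agent.Lib.Helper63.Oh.orth_linearIndependent B w horth hdw
    have hSnd := nonDeg_span_family B w horth hdw
    have hSU : Submodule.span F (Set.range w) ≤ U := by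
      rw [Submodule.span_le]
      rintro _ ⟨i, rfl⟩
      exact (hu1 i i.2).1
    have hSfr : finrank F (Submodule.span F (Set.range w)) = k := by
      rw [finrank_span_eq_card hli, Fintype.card_fin]
    obtain ⟨-, -, hU', hfr⟩ := Cfsg.Agent.Lib.Helper98.Os.compl_props hR _ U hSnd hSU hU
    rw [hSfr] at hfr
    obtain ⟨z, hz, hzz⟩ := exists_norm_eq h2 B hS _ hU' (by omega) (α k)
    obtain ⟨hzo, hzU⟩ := Submodule.mem_inf.mp hz
    have hzu : ∀ i, i < k → B (u i) z = 0 := by
      intro i hi
      exact LinearMap.BilinForm.mem_orthogonal_iff.mp hzo (u i)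
        (Submodule.subset_span ⟨⟨i, hi⟩, rfl⟩)
    refine ⟨fun i => if i = k then z else u i, ?_, ?_⟩
    · intro i hi
      by_cases hik : i = k
      · simp only [if_pos hik]
        rw [hik]
        exact ⟨hzU, hzz⟩
      · simp only [if_neg hik]
        exact hu1 i (by omega)
    · intro i hi j hj hij
      by_cases hik : i = k
      · have hjk : j ≠ k := fun h => hij (hik.trans h.symm)
        simp only [if_pos hik, if_neg hjk]
        rw [hS]
        exact hzu j (by omega)
      · by_cases hjk : j = k
        · simp only [if_neg hik, if_pos hjk]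
          exact hzu i (by omega)
        · simp only [if_neg hik, if_neg hjk]
          exact hu2 i (by omega) j (by omega) hij

/-- **LEAF 1** (general target) -/
theorem exists_sub_isoOnto [Fintype F] (h2 : (2 : F) ≠ 0) [FiniteDimensional F V]
    (B : LinearMap.BilinForm F V) (hS : ∀ a b, B a b = B b a)
    (U : Submodule F V) (hU : NonDeg B U)
    {V' : Type u} [AddCommGroup V'] [Module F V'] [FiniteDimensional F V']
    (B' : LinearMap.BilinForm F V') (hS' : ∀ a b, B' a b = B' b a) (hV' : NonDeg B' ⊤)
    (hlt : finrank F V' < finrank F U) :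
    ∃ W : Submodule F V, W ≤ U ∧ NonDeg B W ∧
      ∃ e : W ≃ₗ[F] V', ∀ u v : W, B' (e u) (e v) = B (u : V) (v : V) := by
  classical
  -- an orthogonal basis of `V'`
  have hinv : Invertible (2 : F) := invertibleOfNonzero h2
  have hsymm : LinearMap.IsSymm B' := by
    refine ⟨fun x y => ?_⟩
    simp only [RingHom.id_apply]
    exact hS' _ _
  obtain ⟨v, hv⟩ := LinearMap.BilinForm.exists_orthogonal_basis (B := B') hsymm
  have horthv : ∀ i j, i ≠ j → B' (v i) (v j) = 0 := by
    intro i j hij
    exact hv hij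
  have hav : ∀ i, B' (v i) (v i) ≠ 0 := by
    intro i hi
    apply v.ne_zero i
    apply hV' (v i) Submodule.mem_top
    intro w _
    rw [← v.sum_repr w, map_sum]
    apply Finset.sum_eq_zero
    intro j _
    rw [map_smul, smul_eq_mul]
    by_cases hij : i = j
    · rw [← hij, hi, mul_zero]
    · rw [horthv i j hij, mul_zero]
  obtain ⟨n, hn⟩ : ∃ n, n = finrank F V' := ⟨_, rfl⟩
  let α : ℕ → F := fun i => if h : i < finrank F V' then B' (v ⟨i, h⟩) (v ⟨i, h⟩) else 1
  have hα : ∀ i, i < finrank F V' → α i ≠ 0 := by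
    intro i hi
    simp only [α, dif_pos hi]
    exact hav _
  obtain ⟨u, hu1, hu2⟩ := exists_orth_family h2 B hS U hU (finrank F V') α hα hlt (finrank F V') le_rfl
  let w : Fin (finrank F V') → V := fun i => u i
  have hww : ∀ i : Fin (finrank F V'), B (w i) (w i) = B' (v i) (v i) := by
    intro i
    have := (hu1 i i.2).2
    simp only [α, dif_pos i.2] at this
    exact this
  have horth : ∀ i j : Fin (finrank F V'), i ≠ j → B (w i) (w j) = 0 := by
    intro i j hij
    exact hu2 i i.2 j j.2 (fun h => hij (Fin.ext h))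
  have hdw : ∀ i : Fin (finrank F V'), B (w i) (w i) ≠ 0 := by
    intro i
    rw [hww]
    exact hav i
  have hli := Cfsg.Agent.Lib.Helper63.Oh.orth_linearIndependent B w horth hdw
  have hWnd := nonDeg_span_family B w horth hdw
  have hWU : Submodule.span F (Set.range w) ≤ U := by
    rw [Submodule.span_le]
    rintro _ ⟨i, rfl⟩
    exact (hu1 i i.2).1
  refine ⟨Submodule.span F (Set.range w), hWU, hWnd, (Basis.span hli).equiv v (Equiv.refl _), ?_⟩
  have hb : ∀ i, ((Basis.span hli i : Submodule.span F (Set.range w)) : V) = w i :=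
    fun i => congrArg Subtype.val (Basis.span_apply hli i)
  -- compare the two forms on the basis
  have key : (B.restrict (Submodule.span F (Set.range w))) =
      (B'.comp ((Basis.span hli).equiv v (Equiv.refl _) : Submodule.span F (Set.range w) →ₗ[F] V')
        ((Basis.span hli).equiv v (Equiv.refl _) : Submodule.span F (Set.range w) →ₗ[F] V')) := by
    apply LinearMap.BilinForm.ext_basis (Basis.span hli)
    intro i j
    rw [LinearMap.BilinForm.comp_apply]
    show B ((Basis.span hli i : Submodule.span F (Set.range w)) : V)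
        ((Basis.span hli j : Submodule.span F (Set.range w)) : V) =
      B' ((Basis.span hli).equiv v (Equiv.refl _) (Basis.span hli i))
        ((Basis.span hli).equiv v (Equiv.refl _) (Basis.span hli j))
    rw [hb, hb, Basis.equiv_apply, Basis.equiv_apply, Equiv.refl_apply, Equiv.refl_apply]
    by_cases hij : i = j
    · rw [← hij, hww]
    · rw [horth i j hij, horthv i j hij]
  intro x y
  have := congrArg (fun C : LinearMap.BilinForm F (Submodule.span F (Set.range w)) => C x y) key
  simp only [LinearMap.BilinForm.comp_apply] at this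
  exact this.symm

/-- **LEAF 1** (target a subspace of the same space) -/
theorem exists_sub_isoCls [Fintype F] (h2 : (2 : F) ≠ 0) [FiniteDimensional F V]
    (B : LinearMap.BilinForm F V) (hS : ∀ a b, B a b = B b a)
    (U : Submodule F V) (hU : NonDeg B U) (W₀ : Submodule F V) (hW₀ : NonDeg B W₀)
    (hlt : finrank F W₀ < finrank F U) :
    ∃ W : Submodule F V, W ≤ U ∧ NonDeg B W ∧ IsoCls B W W₀ := by
  have hS' : ∀ a b : W₀, (B.restrict W₀) a b = (B.restrict W₀) b a := fun a b => hS _ _
  have hV' : NonDeg (B.restrict W₀) ⊤ := by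
    intro x _ hx
    apply Subtype.ext
    apply hW₀ (x : V) x.2
    intro y hy
    exact hx ⟨y, hy⟩ Submodule.mem_top
  obtain ⟨W, hWU, hWnd, e, he⟩ := exists_sub_isoOnto h2 B hS U hU (B.restrict W₀) hS' hV' hlt
  exact ⟨W, hWU, hWnd, e, fun w => he w w⟩

end Cfsg.Agent.Lib.Helper61.OPb
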