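import Mathlib

set_option autoImplicit false

/-! K-S2717-U8a (architect helper7): squares in a quadratic extension of finite fields. -/

namespace Cfsg.Agent.Lib.Helper61.S2717K

universe u v

/-- `ξ² = j ζ` with `ζ` a non-square of `F₀` (odd order `q₀`), `|F| = q₀²`:
`ξ` is a square in `F` iff `q₀ ≡ 3 mod 4`. -/
theorem isSquare_sqrt_iff {F₀ : Type v} {F : Type u} [Field F₀] [Fintype F₀] [Field F]
    [Fintype F] (j : F₀ →+* F) (hcard : Fintype.card F = Fintype.card F₀ ^ 2)
    (hodd : Odd (Fintype.card F₀))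
    (ζ : F₀) (hζ : ¬ IsSquare ζ) (ξ : F) (hξ : ξ ^ 2 = j ζ) :
    IsSquare ξ ↔ Fintype.card F₀ % 4 = 3 := by
  classical
  obtain ⟨r, hr⟩ := hodd
  have hζ0 : ζ ≠ 0 := by
    rintro rfl
    exact hζ ⟨0, by simp⟩
  have hξ0 : ξ ≠ 0 := by
    rintro rfl
    have : j ζ = 0 := by rw [← hξ]; simp
    exact hζ0 ((map_eq_zero j).1 this)
  have hF0 : ringChar F₀ ≠ 2 := by
    intro h
    have := (FiniteField.even_card_iff_char_two (F := F₀)).1 h
    omega
  have hF : ringChar F ≠ 2 := by
    intro h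
    have := (FiniteField.even_card_iff_char_two (F := F)).1 h
    rw [hcard, hr] at this
    have h2 : (2 * r + 1) ^ 2 = 2 * (2 * r * r + 2 * r) + 1 := by ring
    omega
  have hneg : (-1 : F) ≠ 1 := by
    intro h
    exact (Ring.neg_one_ne_one_of_char_ne_two hF) h
  -- Euler in F₀
  have hz : ζ ^ r = -1 := by
    have hd := FiniteField.pow_dichotomy hF0 hζ0
    have hi := FiniteField.isSquare_iff hF0 hζ0
    have hr2 : Fintype.card F₀ / 2 = r := by omega
    rw [hr2] at hd hi
    rcases hd with h | h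
    · exact absurd (hi.2 h) hζ
    · exact h
  have hc2 : Fintype.card F / 2 = 2 * (r * (r + 1)) := by
    rw [hcard, hr]
    have h2 : (2 * r + 1) ^ 2 = 2 * (2 * (r * (r + 1))) + 1 := by ring
    omega
  rw [FiniteField.isSquare_iff hF hξ0, hc2, pow_mul, hξ, ← map_pow, pow_mul, hz, map_pow,
    map_neg, map_one]
  constructor
  · intro h
    by_contra hne
    have hev : Even r := by
      rcases Nat.even_or_odd r with he | ho
      · exact he
      · exfalso
        obtain ⟨s, hs⟩ := ho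
        omega
    have : (-1 : F) ^ (r + 1) = -1 := by
      rw [pow_succ, hev.neg_one_pow, one_mul]
    rw [this] at h
    exact hneg h
  · intro h
    have hodd' : Odd r := by
      rcases Nat.even_or_odd r with he | ho
      · exfalso
        obtain ⟨s, hs⟩ := he
        omega
      · exact ho
    have : Even (r + 1) := by
      obtain ⟨s, hs⟩ := hodd'
      exact ⟨s + 1, by omega⟩
    exact this.neg_one_pow

/-- `η σ(η) = j ζ` with `ζ` a non-square of the fixed field: `η` is not a square. -/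
theorem not_isSquare_of_norm {F₀ : Type v} {F : Type u} [Field F₀] [Field F]
    (j : F₀ →+* F) (σ : RingAut F) (hσ : orderOf σ = 2)
    (hj' : ∀ d : F, σ d = d → ∃ c, j c = d)
    (ζ : F₀) (hζ : ¬ IsSquare ζ) (η : F) (hη : η * σ η = j ζ) : ¬ IsSquare η := by
  rintro ⟨θ, rfl⟩
  have hσ2 : ∀ x : F, σ (σ x) = x := by
    intro x
    have h := pow_orderOf_eq_one σ
    rw [hσ, pow_two] at h
    have := congrArg (fun τ : RingAut F => τ x) h
    simpa using this
  have hfix : σ (θ * σ θ) = θ * σ θ := by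
    rw [map_mul, hσ2, mul_comm]
  obtain ⟨c, hc⟩ := hj' _ hfix
  apply hζ
  refine ⟨c, j.injective ?_⟩
  rw [map_mul, hc, ← hη, map_mul]
  ring

/-- K-S2717-U8a. -/
theorem isSquare_torus_iff {F₀ : Type v} {F : Type u} [Field F₀] [Fintype F₀] [Field F]
    [Fintype F] (j : F₀ →+* F) (hcard : Fintype.card F = Fintype.card F₀ ^ 2)
    (hodd : Odd (Fintype.card F₀)) (σ : RingAut F) (hσ : orderOf σ = 2)
    (hj : ∀ c, σ (j c) = j c) (hj' : ∀ d : F, σ d = d → ∃ c, j c = d)
    (ζ : F₀) (hζ : ¬ IsSquare ζ) (ξ η : F) (hξ : ξ ^ 2 = j ζ) (hη : η * σ η = j ζ) (k : ℕ) :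
    IsSquare (ξ ^ k * (η / ξ)) ↔ (Even k ∧ Fintype.card F₀ % 4 = 1) := by
  classical
  have hζ0 : ζ ≠ 0 := by
    rintro rfl
    exact hζ ⟨0, by simp⟩
  have hξ0 : ξ ≠ 0 := by
    rintro rfl
    have : j ζ = 0 := by rw [← hξ]; simp
    exact hζ0 ((map_eq_zero j).1 this)
  have hη0 : η ≠ 0 := by
    rintro rfl
    have : j ζ = 0 := by rw [← hη]; simp
    exact hζ0 ((map_eq_zero j).1 this)
  have hηns := not_isSquare_of_norm j σ hσ hj' ζ hζ η hη
  have hξiff := isSquare_sqrt_iff j hcard hodd ζ hζ ξ hξ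
  have ht0 : η / ξ ≠ 0 := div_ne_zero hη0 hξ0
  have hx0 : ξ ^ k * (η / ξ) ≠ 0 := mul_ne_zero (pow_ne_zero _ hξ0) ht0
  have hχη : quadraticChar F η = -1 := quadraticChar_neg_one_iff_not_isSquare.2 hηns
  have hmul : quadraticChar F (η / ξ) * quadraticChar F ξ = -1 := by
    rw [← map_mul, div_mul_cancel₀ _ hξ0, hχη]
  rw [← quadraticChar_one_iff_isSquare hx0, map_mul, map_pow]
  have hmod : Fintype.card F₀ % 4 = 1 ∨ Fintype.card F₀ % 4 = 3 := by
    obtain ⟨r, hr⟩ := hodd
    omega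
  rcases hmod with h1 | h3
  · -- ξ is a non-square
    have hξns : ¬ IsSquare ξ := by
      rw [hξiff]; omega
    have hχξ : quadraticChar F ξ = -1 := quadraticChar_neg_one_iff_not_isSquare.2 hξns
    rw [hχξ] at hmul ⊢
    have hχt : quadraticChar F (η / ξ) = 1 := by
      have : quadraticChar F (η / ξ) * (-1) = -1 := hmul
      linarith
    rw [hχt, mul_one]
    constructor
    · intro h
      refine ⟨?_, h1⟩
      exact (neg_one_pow_eq_one_iff_even (by norm_num : (-1 : ℤ) ≠ 1)).1 h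
    · rintro ⟨hk, -⟩
      exact hk.neg_one_pow
  · have hξs : IsSquare ξ := hξiff.2 h3
    have hχξ : quadraticChar F ξ = 1 := (quadraticChar_one_iff_isSquare hξ0).2 hξs
    rw [hχξ] at hmul ⊢
    have hχt : quadraticChar F (η / ξ) = -1 := by
      have : quadraticChar F (η / ξ) * 1 = -1 := hmul
      linarith
    rw [hχt, one_pow, one_mul]
    constructor
    · intro h
      exfalso
      norm_num at h
    · rintro ⟨-, h⟩
      omega

end Cfsg.Agent.Lib.Helper61.S2717K
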