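import Mathlib
import Cfsg.Prelude.Def_GeometricClasses
import Cfsg.Agent.Lib.Helper95.TransvectionGen
import Cfsg.Agent.Lib.Helper07.GLComm

set_option autoImplicit false
set_option linter.unusedSectionVars false
set_option linter.unusedVariables false

namespace Cfsg.Agent.Lib.Helper61.SpMax

open scoped MatrixGroups Matrix
open Cfsg.Agent.Lib.Helper95

variable {ι : Type} [Fintype ι] [DecidableEq ι] {F : Type*} [Field F]
variable {f : (ι → F) → (ι → F) → F}

/-- The functional `x ↦ f x a` as a vector (to be paired via the dot product). -/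
def fv (f : (ι → F) → (ι → F) → F) (a : ι → F) : ι → F :=
  fun i => f (fun j => if i = j then 1 else 0) a

lemma fv_dot (hf : Cfsg.Geo.IsBilinearForm f) (a x : ι → F) : fv f a ⬝ᵥ x = f x a := by
  let L : (ι → F) →ₗ[F] F :=
    { toFun := fun x => f x a
      map_add' := fun x y => hf.add_left x y a
      map_smul' := fun c x => by simpa using hf.smul_left c x a }
  have h := LinearMap.pi_apply_eq_sum_univ L x
  change f x a = _ at h
  rw [h]
  unfold fv dotProduct
  refine Finset.sum_congr rfl (fun i _ => ?_)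
  change _ = x i • f _ a
  rw [smul_eq_mul, mul_comm]

lemma fv_add (hf : Cfsg.Geo.IsBilinearForm f) (a b : ι → F) : fv f (a + b) = fv f a + fv f b := by
  funext i
  simp only [fv, Pi.add_apply]
  exact hf.add_right _ a b

lemma fv_smul (hf : Cfsg.Geo.IsBilinearForm f) (c : F) (a : ι → F) : fv f (c • a) = c • fv f a := by
  funext i
  simp only [fv, Pi.smul_apply, smul_eq_mul]
  exact hf.smul_right c _ a

lemma fv_zero (hf : Cfsg.Geo.IsBilinearForm f) : fv f 0 = 0 := by
  have := fv_smul hf (0 : F) (0 : ι → F)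
  simpa using this

lemma fv_neg (hf : Cfsg.Geo.IsBilinearForm f) (a : ι → F) : fv f (-a) = - fv f a := by
  have := fv_smul hf (-1 : F) a
  simpa using this

lemma fv_sub (hf : Cfsg.Geo.IsBilinearForm f) (a b : ι → F) : fv f (a - b) = fv f a - fv f b := by
  rw [sub_eq_add_neg, fv_add hf, fv_neg hf, sub_eq_add_neg]

/-- Two vectors with the same dot products against everything are equal. -/
lemma eq_of_dot_eq (φ ψ : ι → F) (h : ∀ x, φ ⬝ᵥ x = ψ ⬝ᵥ x) : φ = ψ := by
  funext i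
  have := h (Pi.single i 1)
  simpa using this

/-- The linear map `a ↦ fv f a`. -/
def fvL (hf : Cfsg.Geo.IsBilinearForm f) : (ι → F) →ₗ[F] (ι → F) where
  toFun := fv f
  map_add' := fv_add hf
  map_smul' := fun c a => by simpa using fv_smul hf c a

lemma fv_injective (hf : Cfsg.Geo.IsSymplecticForm f) : Function.Injective (fvL hf.bilinear) := by
  rw [← LinearMap.ker_eq_bot, LinearMap.ker_eq_bot']
  intro a ha
  by_contra h0
  obtain ⟨⟨x, hx⟩, _⟩ := hf.nondegenerate a h0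
  apply hx
  rw [← fv_dot hf.bilinear]
  change fv f a = 0 at ha
  rw [ha, zero_dotProduct]

lemma fv_surjective (hf : Cfsg.Geo.IsSymplecticForm f) (ψ : ι → F) : ∃ c, fv f c = ψ := by
  have := (LinearMap.injective_iff_surjective (f := fvL hf.bilinear)).1 (fv_injective hf)
  exact this ψ

lemma fv_inj (hf : Cfsg.Geo.IsSymplecticForm f) {a b : ι → F} (h : fv f a = fv f b) : a = b :=
  fv_injective hf h


/-! ### Symplectic transvections -/

lemma st_dot (hf : Cfsg.Geo.IsSymplecticForm f) (a : ι → F) (l : F) : (l • fv f a) ⬝ᵥ a = 0 := by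
  rw [smul_dotProduct, fv_dot hf.bilinear, hf.alternating, smul_zero]

/-- The symplectic transvection `x ↦ x + (l * f x a) • a`. -/
def st (hf : Cfsg.Geo.IsSymplecticForm f) (a : ι → F) (l : F) : GL ι F :=
  tvGL (l • fv f a) a (st_dot hf a l)

lemma st_apply (hf : Cfsg.Geo.IsSymplecticForm f) (a : ι → F) (l : F) (x : ι → F) :
    ((st hf a l : GL ι F) : Matrix ι ι F) *ᵥ x = x + (l * f x a) • a := by
  unfold st
  rw [tvGL_apply, smul_dotProduct, fv_dot hf.bilinear, smul_eq_mul]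

lemma f_expand (hf : Cfsg.Geo.IsSymplecticForm f) (x y a : ι → F) (c d : F) :
    f (x + c • a) (y + d • a) = f x y + d * f x a + c * f a y := by
  rw [hf.bilinear.add_left, hf.bilinear.add_right, hf.bilinear.add_right, hf.bilinear.smul_left,
    hf.bilinear.smul_left, hf.bilinear.smul_right, hf.bilinear.smul_right, hf.alternating]
  ring

lemma st_isometry (hf : Cfsg.Geo.IsSymplecticForm f) (a : ι → F) (l : F) (x y : ι → F) :
    f (((st hf a l : GL ι F) : Matrix ι ι F) *ᵥ x) (((st hf a l : GL ι F) : Matrix ι ι F) *ᵥ y)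
      = f x y := by
  rw [st_apply, st_apply, f_expand hf, hf.skew a y]
  ring

lemma st_mem_sim (hf : Cfsg.Geo.IsSymplecticForm f) (a : ι → F) (l : F) :
    st hf a l ∈ Cfsg.Geo.similarityGroup f ⊓ Cfsg.Geo.specialLinear ι F := by
  refine ⟨⟨1, fun u v => ?_⟩, tvGL_mem_specialLinear _ _ _⟩
  rw [st_isometry hf, Units.val_one, one_mul]

lemma st_inv_isometry (hf : Cfsg.Geo.IsSymplecticForm f) (a : ι → F) (l : F) (x y : ι → F) :
    f ((((st hf a l)⁻¹ : GL ι F) : Matrix ι ι F) *ᵥ x) y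
      = f x (((st hf a l : GL ι F) : Matrix ι ι F) *ᵥ y) := by
  have := st_isometry hf a l ((((st hf a l)⁻¹ : GL ι F) : Matrix ι ι F) *ᵥ x) y
  rw [GL_mulVec_inv_mulVec] at this
  exact this.symm


/-! ### Transvections with a common centre -/

lemma GL_ext {g h : GL ι F}
    (H : ∀ x, (g : Matrix ι ι F) *ᵥ x = (h : Matrix ι ι F) *ᵥ x) : g = h := by
  apply Units.ext
  apply Matrix.mulVec_injective
  funext x
  exact H x

lemma tvGL_mul_same (ψ1 ψ2 b : ι → F) (h1 : ψ1 ⬝ᵥ b = 0) (h2 : ψ2 ⬝ᵥ b = 0)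
    (h : (ψ1 + ψ2) ⬝ᵥ b = 0) :
    tvGL ψ1 b h1 * tvGL ψ2 b h2 = tvGL (ψ1 + ψ2) b h := by
  apply GL_ext
  intro x
  rw [Units.val_mul, ← Matrix.mulVec_mulVec, tvGL_apply, tvGL_apply, tvGL_apply]
  rw [dotProduct_add, dotProduct_smul, h1, smul_zero, add_zero, add_dotProduct, add_smul]
  abel

lemma tvGL_zero_left (b : ι → F) (h : (0 : ι → F) ⬝ᵥ b = 0) : tvGL 0 b h = 1 := by
  apply GL_ext
  intro x
  rw [tvGL_apply, zero_dotProduct, zero_smul, add_zero, Units.val_one, Matrix.one_mulVec]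

lemma tvGL_zero_right (ψ : ι → F) (h : ψ ⬝ᵥ (0 : ι → F) = 0) : tvGL ψ 0 h = 1 := by
  apply GL_ext
  intro x
  rw [tvGL_apply, smul_zero, add_zero, Units.val_one, Matrix.one_mulVec]

lemma tvGL_inv_same (ψ b : ι → F) (h : ψ ⬝ᵥ b = 0) (h' : (-ψ) ⬝ᵥ b = 0) :
    (tvGL ψ b h)⁻¹ = tvGL (-ψ) b h' := by
  rw [inv_eq_iff_mul_eq_one, tvGL_mul_same ψ (-ψ) b h h' (by simp)]
  have : ψ + -ψ = 0 := by simp
  apply GL_ext
  intro x
  rw [tvGL_apply, this, zero_dotProduct, zero_smul, add_zero, Units.val_one, Matrix.one_mulVec]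

/-- Key step: a non-symplectic transvection with centre `b` in an overgroup of the symplectic
similarity group forces all transvections with centre `b`. -/
lemma all_center (hf : Cfsg.Geo.IsSymplecticForm f) (M : Subgroup (GL ι F))
    (hHM : Cfsg.Geo.similarityGroup f ⊓ Cfsg.Geo.specialLinear ι F ≤ M)
    (b c : ι → F) (hbc : f b c = 0) (hc : c ∉ Submodule.span F {b})
    (h0 : fv f c ⬝ᵥ b = 0) (ht : tvGL (fv f c) b h0 ∈ M) :
    ∀ (ψ : ι → F) (h : ψ ⬝ᵥ b = 0), tvGL ψ b h ∈ M := by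
  have hbl := hf.bilinear
  let T : Set (ι → F) := {ψ | ∃ h : ψ ⬝ᵥ b = 0, tvGL ψ b h ∈ M}
  have hadd : ∀ ψ1 ψ2, ψ1 ∈ T → ψ2 ∈ T → ψ1 + ψ2 ∈ T := by
    rintro ψ1 ψ2 ⟨h1, m1⟩ ⟨h2, m2⟩
    have h : (ψ1 + ψ2) ⬝ᵥ b = 0 := by rw [add_dotProduct, h1, h2, add_zero]
    exact ⟨h, by rw [← tvGL_mul_same ψ1 ψ2 b h1 h2 h]; exact M.mul_mem m1 m2⟩
  have hneg : ∀ ψ, ψ ∈ T → -ψ ∈ T := by
    rintro ψ ⟨h1, m1⟩
    have h : (-ψ) ⬝ᵥ b = 0 := by rw [neg_dotProduct, h1, neg_zero]
    exact ⟨h, by rw [← tvGL_inv_same ψ b h1 h]; exact M.inv_mem m1⟩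
  have hcT : fv f c ∈ T := ⟨h0, ht⟩
  -- Step 1
  have step1 : ∀ (d : ι → F) (l : F), f b d = 0 → fv f c + (l * f c d) • fv f d ∈ T := by
    intro d l hbd
    have hsM : st hf d l ∈ M := hHM (st_mem_sim hf d l)
    have hsb : ((st hf d l : GL ι F) : Matrix ι ι F) *ᵥ b = b := by
      rw [st_apply, hbd, mul_zero, zero_smul, add_zero]
    have hdot : (fv f c + (l * f c d) • fv f d) ⬝ᵥ b = 0 := by
      rw [add_dotProduct, smul_dotProduct, fv_dot hbl, fv_dot hbl, hbc, hbd, smul_zero, add_zero]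
    refine ⟨hdot, ?_⟩
    have hconj : st hf d l * tvGL (fv f c) b h0 * (st hf d l)⁻¹ ∈ M :=
      M.mul_mem (M.mul_mem hsM ht) (M.inv_mem hsM)
    have heq : st hf d l * tvGL (fv f c) b h0 * (st hf d l)⁻¹
        = tvGL (fv f c + (l * f c d) • fv f d) b hdot := by
      apply GL_ext
      intro x
      rw [Units.val_mul, Units.val_mul, ← Matrix.mulVec_mulVec, ← Matrix.mulVec_mulVec,
        tvGL_apply, tvGL_apply, Matrix.mulVec_add, Matrix.mulVec_smul, hsb,
        GL_mulVec_inv_mulVec, fv_dot hbl, st_inv_isometry hf, st_apply,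
        add_dotProduct, smul_dotProduct, fv_dot hbl, fv_dot hbl,
        hbl.add_right, hbl.smul_right, smul_eq_mul]
    rw [← heq]
    exact hconj
  -- Step 2
  have step2 : ∀ (d : ι → F) (μ : F), f b d = 0 → f c d ≠ 0 → μ • fv f d ∈ T := by
    intro d μ hbd hcd
    have h1 := step1 d (μ / f c d) hbd
    rw [div_mul_cancel₀ μ hcd] at h1
    have h2 := hadd _ _ h1 (hneg _ hcT)
    have : fv f c + μ • fv f d + -fv f c = μ • fv f d := by abel
    rw [this] at h2
    exact h2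
  -- Step 3
  obtain ⟨φ, hφS, hφc⟩ := exists_dotProduct_separating (Submodule.span F {b}) c hc
  obtain ⟨d0, hd0⟩ := fv_surjective hf φ
  have hbd0 : f b d0 = 0 := by
    rw [← fv_dot hbl, hd0]
    exact hφS b (Submodule.mem_span_singleton_self b)
  have hcd0 : f c d0 ≠ 0 := by
    rw [← fv_dot hbl, hd0, hφc]
    exact one_ne_zero
  -- Step 4
  intro ψ h
  obtain ⟨d', hd'⟩ := fv_surjective hf ψ
  have hbd' : f b d' = 0 := by rw [← fv_dot hbl, hd', h]
  have hψT : ψ ∈ T := by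
    by_cases hcd' : f c d' = 0
    · have h1 : fv f (d' + d0) ∈ T := by
        have := step2 (d' + d0) 1 (by rw [hbl.add_right, hbd', hbd0, add_zero])
          (by rw [hbl.add_right, hcd', zero_add]; exact hcd0)
        rwa [one_smul] at this
      have h2 : fv f d0 ∈ T := by
        have := step2 d0 1 hbd0 hcd0
        rwa [one_smul] at this
      have h3 := hadd _ _ h1 (hneg _ h2)
      rw [fv_add hbl, hd'] at h3
      have : ψ + fv f d0 + -fv f d0 = ψ := by abel
      rwa [this] at h3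
    · have := step2 d' 1 hbd' hcd'
      rwa [one_smul, hd'] at this
  obtain ⟨_, hm⟩ := hψT
  exact hm


/-! ### All transvections generate `SL` -/

lemma specialLinear_le_of_all_tvGL (M : Subgroup (GL ι F))
    (hM : ∀ (φ v : ι → F) (h : φ ⬝ᵥ v = 0), tvGL φ v h ∈ M) :
    Cfsg.Geo.specialLinear ι F ≤ M := by
  unfold Cfsg.Geo.specialLinear
  apply Cfsg.Agent.Lib.Helper07.ker_det_le_of_transvection_mem
  intro i j hij c
  have h0 : (Pi.single j c : ι → F) ⬝ᵥ (Pi.single i 1 : ι → F) = 0 := by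
    rw [single_dotProduct, Pi.single_apply, if_neg hij.symm, mul_zero]
  have : Matrix.SpecialLinearGroup.toGL (Matrix.SpecialLinearGroup.transvection hij c)
      = tvGL (Pi.single j c) (Pi.single i 1) h0 := by
    apply Units.ext
    rw [Matrix.SpecialLinearGroup.coe_GL_coe_matrix, Matrix.SpecialLinearGroup.transvection_coe,
      tvGL_val]
    unfold tvMat
    congr 1
    ext k l
    simp only [Matrix.single_apply, Matrix.vecMulVec_apply, Pi.single_apply]
    by_cases hk : k = i <;> by_cases hl : l = j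
    · subst hk; subst hl; simp
    · subst hk; simp [hl, Ne.symm hl]
    · subst hl; simp [hk, Ne.symm hk]
    · simp [hk, hl, Ne.symm hk, Ne.symm hl]
  rw [this]
  exact hM _ _ _


/-! ### The similarity criterion -/

/-- The `f`-adjoint-type map `L` with `f u (L a) = f (g u) (g a)`. -/
noncomputable def adjL (hf : Cfsg.Geo.IsSymplecticForm f) (g : GL ι F) :
    (ι → F) →ₗ[F] (ι → F) where
  toFun a := Classical.choose
    (fv_surjective hf (fv f ((g : Matrix ι ι F) *ᵥ a) ᵥ* (g : Matrix ι ι F)))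
  map_add' a b := by
    apply fv_inj hf
    rw [fv_add hf.bilinear, Classical.choose_spec (fv_surjective hf _),
      Classical.choose_spec (fv_surjective hf _), Classical.choose_spec (fv_surjective hf _),
      Matrix.mulVec_add, fv_add hf.bilinear, Matrix.add_vecMul]
  map_smul' c a := by
    apply fv_inj hf
    rw [RingHom.id_apply, fv_smul hf.bilinear, Classical.choose_spec (fv_surjective hf _),
      Classical.choose_spec (fv_surjective hf _),
      Matrix.mulVec_smul, fv_smul hf.bilinear, Matrix.smul_vecMul]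

lemma adjL_spec (hf : Cfsg.Geo.IsSymplecticForm f) (g : GL ι F) (u a : ι → F) :
    f u (adjL hf g a) = f ((g : Matrix ι ι F) *ᵥ u) ((g : Matrix ι ι F) *ᵥ a) := by
  have h := Classical.choose_spec
    (fv_surjective hf (fv f ((g : Matrix ι ι F) *ᵥ a) ᵥ* (g : Matrix ι ι F)))
  change fv f (adjL hf g a) = _ at h
  rw [← fv_dot hf.bilinear, h, ← Matrix.dotProduct_mulVec, fv_dot hf.bilinear]

/-- If `g` maps every symplectic transvection to a symplectic transvection (in the sense that the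
transported functional is proportional to the functional attached to the new centre), then `g` is
a similarity. -/
lemma mem_sim_of_forall (hf : Cfsg.Geo.IsSymplecticForm f) (g : GL ι F)
    (h : ∀ a : ι → F, ∃ μ : F, fv f a ᵥ* ((g⁻¹ : GL ι F) : Matrix ι ι F)
      = μ • fv f ((g : Matrix ι ι F) *ᵥ a)) :
    g ∈ Cfsg.Geo.similarityGroup f := by
  have hbl := hf.bilinear
  have hdep : ∀ a, ¬ LinearIndependent F ![a, adjL hf g a] := by
    intro a hli
    obtain ⟨μ, hμ⟩ := h a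
    have h1 : a = μ • adjL hf g a := by
      apply fv_inj hf
      apply eq_of_dot_eq
      intro u
      rw [fv_dot hbl, fv_dot hbl, hbl.smul_right, adjL_spec hf g u a, ← fv_dot hbl (_ *ᵥ a),
        ← smul_eq_mul, ← smul_dotProduct, ← hμ, ← Matrix.dotProduct_mulVec,
        GL_inv_mulVec_mulVec, fv_dot hbl]
    rw [LinearIndependent.pair_iff] at hli
    have := hli 1 (-μ) (by rw [one_smul, neg_smul, ← h1, add_neg_cancel])
    exact one_ne_zero this.1
  obtain ⟨c, hc⟩ := LinearMap.exists_eq_smul_id_of_forall_notLinearIndependent hdep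
  have hcf : ∀ u a, f ((g : Matrix ι ι F) *ᵥ u) ((g : Matrix ι ι F) *ᵥ a) = c * f u a := by
    intro u a
    rw [← adjL_spec hf g u a, hc, LinearMap.smul_apply, Module.End.one_apply, hbl.smul_right]
  by_cases hc0 : c = 0
  · refine ⟨1, fun u v => ?_⟩
    have hz : ∀ u v, f u v = 0 := by
      intro u v
      have := hcf (((g⁻¹ : GL ι F) : Matrix ι ι F) *ᵥ u) (((g⁻¹ : GL ι F) : Matrix ι ι F) *ᵥ v)
      rw [GL_mulVec_inv_mulVec, GL_mulVec_inv_mulVec, hc0, zero_mul] at this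
      exact this
    rw [hz, hz, mul_zero]
  · exact ⟨Units.mk0 c hc0, fun u v => by rw [hcf, Units.val_mk0]⟩


/-! ### Producing and moving full centres -/

/-- An element of an overgroup which is not a similarity yields a nonzero full centre. -/
lemma exists_full_center (hf : Cfsg.Geo.IsSymplecticForm f) (M : Subgroup (GL ι F))
    (hHM : Cfsg.Geo.similarityGroup f ⊓ Cfsg.Geo.specialLinear ι F ≤ M)
    (g : GL ι F) (hgM : g ∈ M) (hg : g ∉ Cfsg.Geo.similarityGroup f) :
    ∃ b : ι → F, b ≠ 0 ∧ ∀ (ψ : ι → F) (h : ψ ⬝ᵥ b = 0), tvGL ψ b h ∈ M := by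
  have hbl := hf.bilinear
  by_contra hcon
  apply hg
  apply mem_sim_of_forall hf
  intro a
  by_contra hμ
  push Not at hμ
  apply hcon
  obtain ⟨c, hc⟩ := fv_surjective hf (fv f a ᵥ* ((g⁻¹ : GL ι F) : Matrix ι ι F))
  have ha0 : a ≠ 0 := by
    rintro rfl
    apply hμ 0
    rw [fv_zero hbl, Matrix.zero_vecMul, zero_smul]
  have hb0 : (g : Matrix ι ι F) *ᵥ a ≠ 0 := by
    intro h0
    apply ha0
    apply GL_mulVec_inj g
    rw [h0, Matrix.mulVec_zero]
  refine ⟨(g : Matrix ι ι F) *ᵥ a, hb0, ?_⟩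
  have h0 : fv f c ⬝ᵥ ((g : Matrix ι ι F) *ᵥ a) = 0 := by
    rw [hc, conj_dot_eq, fv_dot hbl, hf.alternating]
  have hbc : f ((g : Matrix ι ι F) *ᵥ a) c = 0 := by
    rw [← fv_dot hbl]; exact h0
  have hcs : c ∉ Submodule.span F {(g : Matrix ι ι F) *ᵥ a} := by
    intro hmem
    obtain ⟨μ, rfl⟩ := Submodule.mem_span_singleton.mp hmem
    apply hμ μ
    rw [← hc, fv_smul hbl]
  have hsM : st hf a 1 ∈ M := hHM (st_mem_sim hf a 1)
  have ht : tvGL (fv f c) ((g : Matrix ι ι F) *ᵥ a) h0 ∈ M := by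
    have h1 : g * st hf a 1 * g⁻¹ ∈ M := M.mul_mem (M.mul_mem hgM hsM) (M.inv_mem hgM)
    have h2 : g * st hf a 1 * g⁻¹ = tvGL (fv f c) ((g : Matrix ι ι F) *ᵥ a) h0 := by
      unfold st
      rw [tvGL_conj g _ a (st_dot hf a 1) (by rw [conj_dot_eq]; exact st_dot hf a 1)]
      apply Units.ext
      simp only [tvGL_val]
      rw [one_smul, hc]
    rw [← h2]; exact h1
  exact all_center hf M hHM _ c hbc hcs h0 ht

/-- Full centres are closed under the overgroup. -/
lemma full_center_map (M : Subgroup (GL ι F)) (m : GL ι F) (hm : m ∈ M) (b : ι → F)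
    (hb : ∀ (ψ : ι → F) (h : ψ ⬝ᵥ b = 0), tvGL ψ b h ∈ M) :
    ∀ (ψ : ι → F) (h : ψ ⬝ᵥ ((m : Matrix ι ι F) *ᵥ b) = 0),
      tvGL ψ ((m : Matrix ι ι F) *ᵥ b) h ∈ M := by
  intro ψ h
  have h0 : (ψ ᵥ* (m : Matrix ι ι F)) ⬝ᵥ b = 0 := by
    rw [← Matrix.dotProduct_mulVec]; exact h
  exact tvGL_mem_of_conj M m hm ψ b h h0 (hb _ h0)

/-- Moving a full centre `b` to any `v` with `f b v ≠ 0`. -/
lemma full_center_step (hf : Cfsg.Geo.IsSymplecticForm f) (M : Subgroup (GL ι F))
    (hHM : Cfsg.Geo.similarityGroup f ⊓ Cfsg.Geo.specialLinear ι F ≤ M)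
    (b v : ι → F) (hbv : f b v ≠ 0)
    (hb : ∀ (ψ : ι → F) (h : ψ ⬝ᵥ b = 0), tvGL ψ b h ∈ M) :
    ∀ (ψ : ι → F) (h : ψ ⬝ᵥ v = 0), tvGL ψ v h ∈ M := by
  have hbl := hf.bilinear
  have hsM : st hf (v - b) (f b v)⁻¹ ∈ M := hHM (st_mem_sim hf _ _)
  have hsb : ((st hf (v - b) (f b v)⁻¹ : GL ι F) : Matrix ι ι F) *ᵥ b = v := by
    rw [st_apply, sub_eq_add_neg v b, hbl.add_right]
    have : f b (-b) = 0 := by
      have := hbl.smul_right (-1) b b
      rw [hf.alternating, mul_zero] at this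
      simpa using this
    rw [this, add_zero, inv_mul_cancel₀ hbv, one_smul]
    abel
  have := full_center_map M _ hsM b hb
  rw [hsb] at this
  exact this

/-- From one nonzero full centre, every vector is a full centre. -/
lemma all_tvGL_of_full_center (hf : Cfsg.Geo.IsSymplecticForm f) (M : Subgroup (GL ι F))
    (hHM : Cfsg.Geo.similarityGroup f ⊓ Cfsg.Geo.specialLinear ι F ≤ M)
    (b : ι → F) (hb0 : b ≠ 0)
    (hb : ∀ (ψ : ι → F) (h : ψ ⬝ᵥ b = 0), tvGL ψ b h ∈ M) :
    ∀ (ψ v : ι → F) (h : ψ ⬝ᵥ v = 0), tvGL ψ v h ∈ M := by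
  have hbl := hf.bilinear
  intro ψ v h
  by_cases hv0 : v = 0
  · subst hv0
    rw [tvGL_zero_right]
    exact M.one_mem
  obtain ⟨u, hu⟩ := (hf.nondegenerate b hb0).2
  obtain ⟨u', hu'⟩ := (hf.nondegenerate v hv0).1
  obtain ⟨w, hbw, hwv⟩ : ∃ w, f b w ≠ 0 ∧ f w v ≠ 0 := by
    by_cases h1 : f u v = 0
    · by_cases h2 : f b u' = 0
      · refine ⟨u + u', ?_, ?_⟩
        · rw [hbl.add_right, h2, add_zero]; exact hu
        · rw [hbl.add_left, h1, zero_add]; exact hu'
      · exact ⟨u', h2, hu'⟩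
    · exact ⟨u, hu, h1⟩
  have hw := full_center_step hf M hHM b w hbw hb
  exact full_center_step hf M hHM w v hwv hw ψ h

/-- The maximality half: any subgroup strictly between is everything. -/
lemma sim_max_aux (hf : Cfsg.Geo.IsSymplecticForm f) (M : Subgroup (GL ι F))
    (hHM : Cfsg.Geo.similarityGroup f ⊓ Cfsg.Geo.specialLinear ι F ≤ M)
    (hMSL : M ≤ Cfsg.Geo.specialLinear ι F) :
    M = Cfsg.Geo.similarityGroup f ⊓ Cfsg.Geo.specialLinear ι F ∨
      M = Cfsg.Geo.specialLinear ι F := by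
  by_cases hMH : M = Cfsg.Geo.similarityGroup f ⊓ Cfsg.Geo.specialLinear ι F
  · left; exact hMH
  · right
    obtain ⟨g, hgM, hgH⟩ := SetLike.exists_of_lt (lt_of_le_of_ne hHM (Ne.symm hMH))
    have hg : g ∉ Cfsg.Geo.similarityGroup f := fun h => hgH ⟨h, hMSL hgM⟩
    obtain ⟨b, hb0, hb⟩ := exists_full_center hf M hHM g hgM hg
    exact le_antisymm hMSL
      (specialLinear_le_of_all_tvGL M (all_tvGL_of_full_center hf M hHM b hb0 hb))


/-! ### Properness -/

/-- A transvection `tvGL (fv f c) b` with `f b c = 0`, `c ∉ span {b}`, `b ≠ 0` is not a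
similarity. -/
lemma tv_not_sim (hf : Cfsg.Geo.IsSymplecticForm f) (b c : ι → F) (hb0 : b ≠ 0)
    (hbc : f b c = 0) (hc : c ∉ Submodule.span F {b}) (h0 : fv f c ⬝ᵥ b = 0) :
    tvGL (fv f c) b h0 ∉ Cfsg.Geo.similarityGroup f := by
  have hbl := hf.bilinear
  rintro ⟨κ, hκ⟩
  have key : ∀ u v, (κ : F) * f u v = f u v + f v c * f u b + f u c * f b v := by
    intro u v
    rw [← hκ u v, tvGL_apply, tvGL_apply, fv_dot hbl, fv_dot hbl, f_expand hf]
  -- κ = 1
  obtain ⟨v0, hv0⟩ := (hf.nondegenerate b hb0).2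
  have hκ1 : (κ : F) = 1 := by
    have := key b v0
    rw [hbc, hf.alternating, mul_zero, zero_mul, add_zero, add_zero] at this
    have h2 : ((κ : F) - 1) * f b v0 = 0 := by rw [sub_mul, this, one_mul, sub_self]
    rcases mul_eq_zero.mp h2 with h3 | h3
    · exact sub_eq_zero.mp h3
    · exact absurd h3 hv0
  -- separating vector
  obtain ⟨φ, hφS, hφc⟩ := exists_dotProduct_separating (Submodule.span F {b}) c hc
  obtain ⟨d, hd⟩ := fv_surjective hf φ
  have hbd : f b d = 0 := by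
    rw [← fv_dot hbl, hd]
    exact hφS b (Submodule.mem_span_singleton_self b)
  have hcd : f c d = 1 := by rw [← fv_dot hbl, hd, hφc]
  obtain ⟨u0, hu0⟩ := (hf.nondegenerate b hb0).1
  have := key u0 d
  rw [hκ1, one_mul, hbd, mul_zero, add_zero, hf.skew d c, hcd] at this
  apply hu0
  have h4 : -1 * f u0 b = 0 := by
    have h5 : f u0 d + -1 * f u0 b = f u0 d + 0 := by rw [add_zero]; exact this.symm
    exact add_left_cancel h5
  simpa using h4

/-- Properness: with three distinct coordinates there is a transvection in `SL` outside the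
similarity group. -/
lemma sim_lt_specialLinear (hf : Cfsg.Geo.IsSymplecticForm f) (i0 i1 i2 : ι)
    (h01 : i0 ≠ i1) (h02 : i0 ≠ i2) (h12 : i1 ≠ i2) :
    Cfsg.Geo.similarityGroup f ⊓ Cfsg.Geo.specialLinear ι F < Cfsg.Geo.specialLinear ι F := by
  have hbl := hf.bilinear
  rw [SetLike.lt_iff_le_and_exists]
  refine ⟨inf_le_right, ?_⟩
  set b : ι → F := Pi.single i0 1 with hb
  set e1 : ι → F := Pi.single i1 1 with he1
  set e2 : ι → F := Pi.single i2 1 with he2
  have hb0 : b ≠ 0 := by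
    intro h
    have := congrFun h i0
    simp [hb] at this
  -- choose c
  obtain ⟨α, β, hαβ, hfc⟩ : ∃ α β : F, (α ≠ 0 ∨ β ≠ 0) ∧ f b (α • e1 + β • e2) = 0 := by
    by_cases h1 : f b e1 = 0
    · refine ⟨1, 0, Or.inl one_ne_zero, ?_⟩
      rw [one_smul, zero_smul, add_zero, h1]
    · refine ⟨f b e2, - f b e1, Or.inr (neg_ne_zero.mpr h1), ?_⟩
      rw [hbl.add_right, hbl.smul_right, hbl.smul_right]
      ring
  set c : ι → F := α • e1 + β • e2 with hc
  have hcs : c ∉ Submodule.span F {b} := by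
    intro hmem
    obtain ⟨μ, hμ⟩ := Submodule.mem_span_singleton.mp hmem
    have c1 := congrFun hμ i1
    have c2 := congrFun hμ i2
    simp only [hb, hc, he1, he2, Pi.smul_apply, Pi.add_apply, Pi.single_apply, smul_eq_mul,
      if_neg h01.symm, if_neg h02.symm, if_neg h12, if_neg h12.symm, if_true, mul_zero, mul_one,
      add_zero, zero_add] at c1 c2
    rcases hαβ with h | h
    · exact h c1.symm
    · exact h c2.symm
  have h0 : fv f c ⬝ᵥ b = 0 := by rw [fv_dot hbl]; exact hfc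
  exact ⟨tvGL (fv f c) b h0, tvGL_mem_specialLinear _ _ _,
    fun h => tv_not_sim hf b c hb0 hfc hcs h0 h.1⟩

/-- The symplectic similarity group is maximal in `SL`. -/
theorem sim_isMaximalIn (hf : Cfsg.Geo.IsSymplecticForm f) (i0 i1 i2 : ι)
    (h01 : i0 ≠ i1) (h02 : i0 ≠ i2) (h12 : i1 ≠ i2) :
    Cfsg.Geo.IsMaximalIn (Cfsg.Geo.specialLinear ι F)
      (Cfsg.Geo.similarityGroup f ⊓ Cfsg.Geo.specialLinear ι F) :=
  ⟨sim_lt_specialLinear hf i0 i1 i2 h01 h02 h12, fun M hHM hMSL => sim_max_aux hf M hHM hMSL⟩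

end Cfsg.Agent.Lib.Helper61.SpMax
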