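import Mathlib
import Cfsg.Prelude.Def_GeometricClasses
import Cfsg.Agent.Lib.Helper51.SUMax1

/-!
Subfield subgroups of `SU_n(q)` for the subfield of index two: field-theoretic preliminaries and
the rational structure `P • F₀ⁿ`.
-/

set_option autoImplicit false
set_option linter.unusedSectionVars false
set_option linter.unusedVariables false

namespace Cfsg.Agent.Lib.Helper61.SubfieldSU

open Matrix Cfsg.Agent.Lib.Helper08 Cfsg.Agent.Lib.Helper51

section field
variable {F : Type*} [Field F] [Fintype F] {q : ℕ}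

theorem card_sub (hF : Fintype.card F = q ^ 2) (F₀ : Subfield F)
    (hcard : Fintype.card F = Nat.card F₀ ^ 2) : Nat.card F₀ = q := by
  rw [hF] at hcard
  exact (Nat.pow_left_injective (by norm_num : (2 : ℕ) ≠ 0) hcard).symm

theorem two_le_q (hF : Fintype.card F = q ^ 2) : 2 ≤ q := by
  have h1 : 1 < Fintype.card F := Fintype.one_lt_card
  rw [hF] at h1
  by_contra h
  have : q ≤ 1 := by omega
  have : q ^ 2 ≤ 1 := by
    calc q ^ 2 ≤ 1 ^ 2 := Nat.pow_le_pow_left this 2
      _ = 1 := by norm_num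
  omega

theorem pow_q_of_mem (F₀ : Subfield F) (hq : Nat.card F₀ = q) {a : F} (ha : a ∈ F₀) :
    a ^ q = a := by
  classical
  haveI : Fintype F₀ := Fintype.ofFinite F₀
  have h1 : (⟨a, ha⟩ : F₀) ^ Fintype.card F₀ = ⟨a, ha⟩ := FiniteField.pow_card _
  rw [← Nat.card_eq_fintype_card, hq] at h1
  have h2 := congrArg (fun z : F₀ => (z : F)) h1
  simpa using h2

theorem mem_of_pow_q (hF : Fintype.card F = q ^ 2) (F₀ : Subfield F) (hq : Nat.card F₀ = q)
    {a : F} (ha : a ^ q = a) : a ∈ F₀ := by
  classical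
  by_contra hna
  have hq2 : 2 ≤ q := two_le_q hF
  let p : Polynomial F := Polynomial.X ^ q - Polynomial.X
  have hdeg : p.natDegree = q := FiniteField.X_pow_card_sub_X_natDegree_eq F (by omega)
  have hp0 : p ≠ 0 := FiniteField.X_pow_card_sub_X_ne_zero F (by omega)
  have hroot : ∀ b : F, b ^ q = b → b ∈ p.roots.toFinset := by
    intro b hb
    rw [Multiset.mem_toFinset, Polynomial.mem_roots hp0]
    simp [p, Polynomial.IsRoot, hb]
  haveI : Fintype F₀ := Fintype.ofFinite F₀
  let S : Finset F := insert a (Finset.univ.image (fun b : F₀ => (b : F)))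
  have hS : S ⊆ p.roots.toFinset := by
    intro b hb
    rw [Finset.mem_insert, Finset.mem_image] at hb
    rcases hb with rfl | ⟨c, _, rfl⟩
    · exact hroot _ ha
    · exact hroot _ (pow_q_of_mem F₀ hq c.2)
  have hcS : S.card = q + 1 := by
    rw [Finset.card_insert_of_notMem, Finset.card_image_of_injective _ Subtype.val_injective,
      Finset.card_univ, ← Nat.card_eq_fintype_card, hq]
    intro h
    rw [Finset.mem_image] at h
    obtain ⟨c, _, hc⟩ := h
    exact hna (hc ▸ c.2)
  have h1 := Finset.card_le_card hS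
  have h2 : p.roots.toFinset.card ≤ q := by
    calc p.roots.toFinset.card ≤ p.roots.card := Multiset.toFinset_card_le _
      _ ≤ p.natDegree := Polynomial.card_roots' p
      _ = q := hdeg
  omega

theorem exists_not_mem (hF : Fintype.card F = q ^ 2) (F₀ : Subfield F) (hq : Nat.card F₀ = q) :
    ∃ θ : F, θ ∉ F₀ := by
  by_contra hcon
  push Not at hcon
  have h1 : Nat.card F₀ = Nat.card F := by
    apply Nat.card_congr
    exact ⟨fun x => x.1, fun x => ⟨x, hcon x⟩, fun x => rfl, fun x => rfl⟩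
  rw [hq, Nat.card_eq_fintype_card, hF] at h1
  have := two_le_q hF
  nlinarith

/-- every element of `F` is `a + θ b` with `a, b ∈ F₀` -/
theorem exists_decomp (hF : Fintype.card F = q ^ 2) (F₀ : Subfield F) (hq : Nat.card F₀ = q)
    (θ : F) (hθ : θ ∉ F₀) (c : F) : ∃ a b : F, a ∈ F₀ ∧ b ∈ F₀ ∧ c = a + θ * b := by
  classical
  haveI : Fintype F₀ := Fintype.ofFinite F₀
  let f : F₀ × F₀ → F := fun ab => (ab.1 : F) + θ * (ab.2 : F)
  have hinj : Function.Injective f := by
    rintro ⟨a, b⟩ ⟨a', b'⟩ h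
    have h' : (a : F) + θ * (b : F) = (a' : F) + θ * (b' : F) := h
    by_cases hb : b = b'
    · subst hb
      have : (a : F) = (a' : F) := by linear_combination h'
      rw [Subtype.ext this]
    · exfalso
      have hne : (b : F) - (b' : F) ≠ 0 := by
        intro h0
        exact hb (Subtype.ext (sub_eq_zero.mp h0))
      have hθ' : θ = ((a' : F) - (a : F)) / ((b : F) - (b' : F)) := by
        field_simp
        linear_combination h'
      apply hθ
      rw [hθ']
      exact F₀.div_mem (F₀.sub_mem a'.2 a.2) (F₀.sub_mem b.2 b'.2)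
  have hcardeq : Fintype.card (F₀ × F₀) = Fintype.card F := by
    rw [Fintype.card_prod, ← Nat.card_eq_fintype_card, hq, hF]
    ring
  have hbij : Function.Bijective f :=
    (Fintype.bijective_iff_injective_and_card f).mpr ⟨hinj, hcardeq⟩
  obtain ⟨⟨a, b⟩, hab⟩ := hbij.2 c
  exact ⟨a, b, a.2, b.2, hab.symm⟩

theorem pow_q_ne (hF : Fintype.card F = q ^ 2) (F₀ : Subfield F) (hq : Nat.card F₀ = q)
    (θ : F) (hθ : θ ∉ F₀) : θ ^ q - θ ≠ 0 := by
  intro h
  exact hθ (mem_of_pow_q hF F₀ hq (sub_eq_zero.mp h))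

theorem norm_mem (hF : Fintype.card F = q ^ 2) (F₀ : Subfield F) (hq : Nat.card F₀ = q)
    (c : F) : c * c ^ q ∈ F₀ :=
  mem_of_pow_q hF F₀ hq (nm_fix hF c)

end field

end Cfsg.Agent.Lib.Helper61.SubfieldSU
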