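import Mathlib
import Cfsg.Prelude.Def_GeometricClasses
import Cfsg.Agent.Lib.Helper51.SUMax1
import Cfsg.Agent.Lib.Helper61.SubfieldSUA

/-!
Subfield subgroups of `SU_n(q)`: the rational structure `P • F₀ⁿ`, membership criteria for the
subfield subgroup.
-/

set_option autoImplicit false
set_option linter.unusedSectionVars false
set_option linter.unusedVariables false

namespace Cfsg.Agent.Lib.Helper61.SubfieldSU

open Matrix Cfsg.Agent.Lib.Helper08 Cfsg.Agent.Lib.Helper51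
open scoped Pointwise

section rat
variable {F : Type*} [Field F] [Fintype F] {q n : ℕ}

local notation "GLn" => Matrix.GeneralLinearGroup (Fin n) F
local notation "hh" => hform (Fin n) F q

/-- rational vectors: the `F₀`-span of the columns of `P` -/
def Rat (F₀ : Subfield F) (P : GLn) (x : Fin n → F) : Prop :=
  ∃ u : Fin n → F, (∀ i, u i ∈ F₀) ∧ x = P.1 *ᵥ u

variable {F₀ : Subfield F} {P : Matrix.GeneralLinearGroup (Fin n) F}

theorem rat_zero : Rat F₀ P 0 := ⟨0, fun i => F₀.zero_mem, by rw [Matrix.mulVec_zero]⟩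

theorem rat_add {x y : Fin n → F} (hx : Rat F₀ P x) (hy : Rat F₀ P y) : Rat F₀ P (x + y) := by
  obtain ⟨u, hu, rfl⟩ := hx
  obtain ⟨v, hv, rfl⟩ := hy
  exact ⟨u + v, fun i => F₀.add_mem (hu i) (hv i), by rw [Matrix.mulVec_add]⟩

theorem rat_smul {a : F} (ha : a ∈ F₀) {x : Fin n → F} (hx : Rat F₀ P x) : Rat F₀ P (a • x) := by
  obtain ⟨u, hu, rfl⟩ := hx
  exact ⟨a • u, fun i => F₀.mul_mem ha (hu i), by rw [Matrix.mulVec_smul]⟩

theorem rat_neg {x : Fin n → F} (hx : Rat F₀ P x) : Rat F₀ P (-x) := by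
  have := rat_smul (F₀.neg_mem F₀.one_mem) hx
  rwa [neg_one_smul] at this

theorem rat_sub {x y : Fin n → F} (hx : Rat F₀ P x) (hy : Rat F₀ P y) : Rat F₀ P (x - y) := by
  rw [sub_eq_add_neg]
  exact rat_add hx (rat_neg hy)

theorem rat_col (j : Fin n) : Rat F₀ P (P.1 *ᵥ Pi.single j 1) := by
  refine ⟨Pi.single j 1, fun i => ?_, rfl⟩
  by_cases h : i = j
  · subst h; rw [Pi.single_eq_same]; exact F₀.one_mem
  · rw [Pi.single_eq_of_ne h]; exact F₀.zero_mem

theorem scalars_normal : (Cfsg.Geo.scalars (Fin n) F).Normal := by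
  constructor
  intro s hs g
  rw [Cfsg.Geo.mem_scalars_iff] at hs ⊢
  obtain ⟨c, hc⟩ := hs
  refine ⟨c, ?_⟩
  rw [Units.val_mul, Units.val_mul, hc, Matrix.mul_smul, Matrix.mul_one, Matrix.smul_mul,
    ← Units.val_mul, mul_inv_cancel, Units.val_one]

/-- sufficient condition for membership in the subfield subgroup -/
theorem mem_subfield_of_rat (g : GLn) (c : F) (hc : c ≠ 0)
    (h : ∀ x, Rat F₀ P x → Rat F₀ P (c • g.1 *ᵥ x)) : g ∈ Cfsg.Geo.subfieldSubgroup F₀ P := by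
  classical
  let M : GLn := P⁻¹ * g * P
  let N : Matrix (Fin n) (Fin n) F := c • M.1
  have hN : ∀ i j, N i j ∈ F₀ := by
    intro i j
    obtain ⟨u, hu, hux⟩ := h _ (rat_col j)
    have h1 : N *ᵥ Pi.single j 1 = u := by
      simp only [N, M]
      rw [Matrix.smul_mulVec, gl_mul_act', gl_mul_act', ← Matrix.mulVec_smul, hux, gl_inv_act']
    have h2 : N i j = u i := by
      rw [← h1, Matrix.mulVec_single_one]; rfl
    rw [h2]; exact hu i
  let N₀ : Matrix (Fin n) (Fin n) F₀ := fun i j => ⟨N i j, hN i j⟩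
  have hmap : (F₀.subtype).mapMatrix N₀ = N := by ext i j; rfl
  have hdetM : M.1.det ≠ 0 := IsUnit.ne_zero ((Matrix.isUnit_iff_isUnit_det _).mp M.isUnit)
  have hdetN : N.det ≠ 0 := by
    simp only [N]
    rw [Matrix.det_smul]
    exact mul_ne_zero (pow_ne_zero _ hc) hdetM
  have hdet0 : N₀.det ≠ 0 := by
    intro h0
    apply hdetN
    rw [← hmap, ← RingHom.map_det, h0, map_zero]
  let g₀ : Matrix.GeneralLinearGroup (Fin n) F₀ := Matrix.GeneralLinearGroup.mkOfDetNeZero N₀ hdet0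
  let k₁ : GLn := Matrix.GeneralLinearGroup.map F₀.subtype g₀
  have hk₁ : k₁.1 = N := by
    ext i j
    rw [Matrix.GeneralLinearGroup.map_apply]
    rfl
  let s : GLn := Units.map (Matrix.scalar (Fin n) : F →+* Matrix (Fin n) (Fin n) F).toMonoidHom
    (Units.mk0 c⁻¹ (inv_ne_zero hc))
  have hs : s ∈ Cfsg.Geo.scalars (Fin n) F := ⟨_, rfl⟩
  have hs1 : s.1 = c⁻¹ • (1 : Matrix (Fin n) (Fin n) F) := by
    simp [s, Matrix.smul_one_eq_diagonal]
  have hks : k₁ * s = M := by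
    apply Units.ext
    rw [Units.val_mul, hk₁, hs1]
    simp only [N]
    rw [Matrix.mul_smul, Matrix.mul_one, smul_smul, inv_mul_cancel₀ hc, one_smul]
  have hk : k₁ * s ∈ (Matrix.GeneralLinearGroup.map (F₀.subtype : F₀ →+* F)).range ⊔
      Cfsg.Geo.scalars (Fin n) F :=
    mul_mem (Subgroup.mem_sup_left ⟨g₀, rfl⟩) (Subgroup.mem_sup_right hs)
  refine ⟨k₁ * s, hk, ?_⟩
  rw [hks]
  show MulAut.conj P M = g
  rw [MulAut.conj_apply]
  simp only [M]
  group

/-- necessary condition for membership in the subfield subgroup -/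
theorem rat_of_mem_subfield (g : GLn) (hg : g ∈ Cfsg.Geo.subfieldSubgroup F₀ P)
    (x : Fin n → F) (hx : Rat F₀ P x) : ∃ c : F, c ≠ 0 ∧ Rat F₀ P (c • g.1 *ᵥ x) := by
  classical
  haveI := scalars_normal (F := F) (n := n)
  obtain ⟨k, hk, rfl⟩ := hg
  have hk' : k ∈ (((Matrix.GeneralLinearGroup.map (n := Fin n) (F₀.subtype : F₀ →+* F)).range :
      Subgroup GLn) : Set GLn) * ((Cfsg.Geo.scalars (Fin n) F : Subgroup GLn) : Set GLn) := by
    rw [← Subgroup.mul_normal]; exact hk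
  obtain ⟨a, ⟨g₀, rfl⟩, s, hs, rfl⟩ := hk'
  obtain ⟨d, hd⟩ := (Cfsg.Geo.mem_scalars_iff s).mp hs
  obtain ⟨u, hu, rfl⟩ := hx
  refine ⟨(d : F)⁻¹, inv_ne_zero d.ne_zero,
    ⟨(Matrix.GeneralLinearGroup.map (F₀.subtype : F₀ →+* F) g₀).1 *ᵥ u, ?_, ?_⟩⟩
  · intro i
    rw [Matrix.mulVec, dotProduct]
    apply F₀.sum_mem
    intro j _
    rw [Matrix.GeneralLinearGroup.map_apply]
    exact F₀.mul_mem (g₀.1 i j).2 (hu j)
  · show (d : F)⁻¹ • (MulAut.conj P (Matrix.GeneralLinearGroup.map (F₀.subtype : F₀ →+* F) g₀ * s)).1 *ᵥ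
      (P.1 *ᵥ u) = _
    rw [MulAut.conj_apply, gl_mul_act', gl_inv_act', gl_mul_act', gl_mul_act', hd,
      Matrix.smul_mulVec, Matrix.one_mulVec, Matrix.mulVec_smul, Matrix.mulVec_smul, smul_smul,
      inv_mul_cancel₀ d.ne_zero, one_smul]

end rat

end Cfsg.Agent.Lib.Helper61.SubfieldSU
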