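import Mathlib
import Cfsg.Prelude.Def_GeometricClasses
import Cfsg.Agent.Lib.Helper61.AschDefs
import Cfsg.Agent.Lib.Helper61.AschBasic
import Cfsg.Agent.Lib.Helper61.AschGlueC

set_option autoImplicit false

namespace Cfsg.Agent.Lib.Helper61.Asch

open Cfsg Cfsg.Geo
open scoped Matrix Kronecker MatrixGroups commutatorElement

variable {ι : Type} [Fintype ι] [DecidableEq ι] {F : Type*} [Field F]

local notation "Z" => scalars ι F

/-- the subgroup `{x ∈ N | x ^ r ∈ Z}` when commutators of `N` are scalar -/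
def powSub (N : Subgroup (GL ι F)) (hcomm : ∀ x ∈ N, ∀ y ∈ N, x * y * x⁻¹ * y⁻¹ ∈ Z) (r : ℕ) :
    Subgroup (GL ι F) where
  carrier := {x | x ∈ N ∧ x ^ r ∈ Z}
  mul_mem' := by
    rintro x y ⟨hx, hxr⟩ ⟨hy, hyr⟩
    refine ⟨N.mul_mem hx hy, ?_⟩
    obtain ⟨z, hz, h⟩ := exists_mul_pow (hcomm y hy x hx) r
    rw [h]
    exact Subgroup.mul_mem _ (Subgroup.mul_mem _ hz hxr) hyr
  one_mem' := ⟨N.one_mem, by rw [one_pow]; exact Subgroup.one_mem _⟩
  inv_mem' := by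
    rintro x ⟨hx, hxr⟩
    exact ⟨N.inv_mem hx, by rw [inv_pow]; exact Subgroup.inv_mem _ hxr⟩

theorem exists_prime_exponent [Fintype F] (K N : Subgroup (GL ι F)) (hZN : Z ≤ N) (hNZ : ¬ N ≤ Z)
    (hKN : NormBy K N)
    (hcomm : ∀ x ∈ N, ∀ y ∈ N, x * y * x⁻¹ * y⁻¹ ∈ Z)
    (hmin : ∀ M : Subgroup (GL ι F), Z ≤ M → M ≤ N → NormBy K M → M = Z ∨ M = N) :
    ∃ r : ℕ, r.Prime ∧ ∀ x ∈ N, x ^ r ∈ Z := by
  rw [SetLike.not_le_iff_exists] at hNZ
  obtain ⟨x, hxN, hxZ⟩ := hNZ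
  have hex : ∃ d, 0 < d ∧ x ^ d ∈ Z := ⟨orderOf x, orderOf_pos x, by rw [pow_orderOf_eq_one]; exact Subgroup.one_mem _⟩
  classical
  let d := Nat.find hex
  have hd : 0 < d ∧ x ^ d ∈ Z := Nat.find_spec hex
  have hd1 : d ≠ 1 := by
    intro h
    have := hd.2
    rw [h, pow_one] at this
    exact hxZ this
  let r := d.minFac
  have hr : r.Prime := Nat.minFac_prime hd1
  have hrd : r ∣ d := Nat.minFac_dvd d
  obtain ⟨d', hd'⟩ := hrd
  have hd'pos : 0 < d' := by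
    rcases Nat.eq_zero_or_pos d' with h | h
    · rw [h, mul_zero] at hd'; omega
    · exact h
  have hd'lt : d' < d := by
    rw [hd']
    have := hr.two_le
    nlinarith
  have hy : x ^ d' ∉ Z := fun h => Nat.find_min hex hd'lt ⟨hd'pos, h⟩
  have hyr : (x ^ d') ^ r ∈ Z := by
    rw [← pow_mul, mul_comm, ← hd']
    exact hd.2
  refine ⟨r, hr, ?_⟩
  let M := powSub N hcomm r
  have hZM : Z ≤ M := fun z hz => ⟨hZN hz, Subgroup.pow_mem _ hz r⟩
  have hMN : M ≤ N := fun z hz => hz.1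
  have hKM : NormBy K M := by
    intro k hk z hz
    refine ⟨hKN k hk z hz.1, ?_⟩
    rw [conj_pow]
    exact (scalars_normal (ι := ι) (F := F)).conj_mem _ hz.2 k
  rcases hmin M hZM hMN hKM with h | h
  · exfalso
    have : x ^ d' ∈ M := ⟨N.pow_mem hxN d', hyr⟩
    rw [h] at this
    exact hy this
  · intro z hz
    have : z ∈ M := by rw [h]; exact hz
    exact this.2

theorem exists_minimal_normal [Fintype F] (K : Subgroup (GL ι F)) (hZK : Z ≤ K) (hKZ : ¬ K ≤ Z) :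
    ∃ N : Subgroup (GL ι F), Z ≤ N ∧ N ≤ K ∧ NormBy K N ∧ ¬ N ≤ Z ∧
      ∀ M : Subgroup (GL ι F), Z ≤ M → M ≤ N → NormBy K M → M = Z ∨ M = N := by
  let S : Set (Subgroup (GL ι F)) := {N | Z ≤ N ∧ N ≤ K ∧ NormBy K N ∧ ¬ N ≤ Z}
  have hS : S.Nonempty := ⟨K, hZK, le_refl _, normBy_self K, hKZ⟩
  obtain ⟨N, hN, hmin⟩ := Set.exists_min_image S (fun N => Nat.card N) (Set.toFinite S) hS
  obtain ⟨h1, h2, h3, h4⟩ := hN
  refine ⟨N, h1, h2, h3, h4, ?_⟩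
  intro M hZM hMN hKM
  by_cases hMZ : M ≤ Z
  · exact Or.inl (le_antisymm hMZ hZM)
  · right
    have := hmin M ⟨hZM, hMN.trans h2, hKM, hMZ⟩
    exact Subgroup.eq_of_le_of_card_ge hMN this

end Cfsg.Agent.Lib.Helper61.Asch
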