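import Mathlib
import Cfsg.Prelude.Def_GeometricClasses
import Cfsg.Agent.Lib.Helper61.AschDefs
import Cfsg.Agent.Lib.Helper61.AschBasic
import Cfsg.Agent.Lib.Helper61.AschGlueA
import Cfsg.Agent.Lib.Helper42.AschA1
import Cfsg.Agent.Lib.Helper38.AschA2
import Cfsg.Agent.Lib.Helper29.AschB1
import Cfsg.Agent.Lib.Helper41.AschB2
import Cfsg.Agent.Lib.Helper29.AschB3
import Cfsg.Agent.Lib.Helper14.AschB4
import Cfsg.Agent.Lib.Helper97.AschB5
import Cfsg.Agent.Lib.Helper63.AschB6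

set_option autoImplicit false

namespace Cfsg.Agent.Lib.Helper61.Asch

open Cfsg Cfsg.Geo
open Cfsg.Agent.Lib.Helper61
open scoped Matrix Kronecker MatrixGroups

variable {F : Type*} [Field F] [Fintype F] {n : ℕ}

/-- elements of `tensorLeft 1 b` are scalar matrices -/
theorem tensorLeft_one (b : ℕ) (e : Fin n ≃ Fin 1 × Fin b) (P : GL (Fin n) F) (x : Matrix (Fin 1) (Fin 1) F) :
    tensorLeft 1 b e P x = (x 0 0) • (1 : Matrix (Fin n) (Fin n) F) := by
  unfold tensorLeft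
  have h1 : x = (x 0 0) • (1 : Matrix (Fin 1) (Fin 1) F) := by
    ext i j
    fin_cases i; fin_cases j
    simp
  have h2 : (x ⊗ₖ (1 : Matrix (Fin b) (Fin b) F)) = (x 0 0) • (1 : Matrix (Fin 1 × Fin b) (Fin 1 × Fin b) F) := by
    conv_lhs => rw [h1]
    rw [Matrix.smul_kronecker, Matrix.one_kronecker_one]
  rw [h2]
  have h3 : Matrix.reindex e.symm e.symm ((x 0 0) • (1 : Matrix (Fin 1 × Fin b) (Fin 1 × Fin b) F))
      = (x 0 0) • (1 : Matrix (Fin n) (Fin n) F) := by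
    ext i j
    simp [Matrix.one_apply]
  rw [h3, Matrix.mul_smul, Matrix.mul_one, Matrix.smul_mul, ← Units.val_mul, mul_inv_cancel, Units.val_one]

theorem le_scalars_of_isTensorLeft_one {N : Subgroup (GL (Fin n) F)} (hn : 0 < n) (b : ℕ)
    (e : Fin n ≃ Fin 1 × Fin b)
    (P : GL (Fin n) F) (h : IsTensorLeft (spanAlg N) 1 b e P) : N ≤ scalars (Fin n) F := by
  intro g hg
  obtain ⟨x, hx⟩ := (h _).mp (coe_mem_spanAlg hg)
  rw [tensorLeft_one] at hx
  haveI : Nonempty (Fin n) := ⟨⟨0, hn⟩⟩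
  have hx0 : x 0 0 ≠ 0 := by
    intro h0
    rw [h0, zero_smul] at hx
    have h1 : (g : Matrix (Fin n) (Fin n) F) * ((g⁻¹ : GL (Fin n) F) : Matrix (Fin n) (Fin n) F) = 1 := by
      rw [← Units.val_mul, mul_inv_cancel, Units.val_one]
    rw [hx, zero_mul] at h1
    exact zero_ne_one h1
  rw [mem_scalars_iff]
  exact ⟨Units.mk0 _ hx0, hx⟩

/-- `b = 1`: the subalgebra is everything -/
theorem eq_top_of_isTensorLeft_one {A : Subalgebra F (Matrix (Fin n) (Fin n) F)} (a : ℕ)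
    (e : Fin n ≃ Fin a × Fin 1)
    (P : GL (Fin n) F) (h : IsTensorLeft A a 1 e P) : A = ⊤ := by
  rw [eq_top_iff]
  intro M _
  rw [h]
  let Y : Matrix (Fin a × Fin 1) (Fin a × Fin 1) F :=
    Matrix.reindex e e (((P⁻¹ : GL (Fin n) F) : Matrix (Fin n) (Fin n) F) * M * (P : Matrix (Fin n) (Fin n) F))
  refine ⟨Matrix.of fun i j => Y (i, 0) (j, 0), ?_⟩
  unfold tensorLeft
  have hY : (Matrix.of fun i j => Y (i, 0) (j, 0)) ⊗ₖ (1 : Matrix (Fin 1) (Fin 1) F) = Y := by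
    ext ⟨i, k⟩ ⟨j, l⟩
    fin_cases k; fin_cases l
    simp [Matrix.kroneckerMap_apply]
  rw [hY]
  have hr : Matrix.reindex e.symm e.symm Y
      = ((P⁻¹ : GL (Fin n) F) : Matrix (Fin n) (Fin n) F) * M * (P : Matrix (Fin n) (Fin n) F) := by
    ext i j
    simp [Y]
  rw [hr]
  have h1 : (P : Matrix (Fin n) (Fin n) F) * ((P⁻¹ : GL (Fin n) F) : Matrix (Fin n) (Fin n) F) = 1 := by
    rw [← Units.val_mul, mul_inv_cancel, Units.val_one]
  calc M = 1 * M * 1 := by simp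
    _ = _ := by rw [← h1]; simp only [mul_assoc]


theorem Geom.of_c2 {K : Subgroup (GL (Fin n) F)}
    (h : ∃ (t m : ℕ) (D : Fin t → Submodule F (Fin n → F)), IsMDecomposition m D ∧ K ≤ decompositionStabilizer D) :
    Geom K := by
  obtain ⟨t, m, D, hD, hK⟩ := h
  exact ⟨_, Or.inr (Or.inr (Or.inr (Or.inl ⟨t, m, D, hD, rfl⟩))), hK⟩

theorem Geom.of_c3 {K : Subgroup (GL (Fin n) F)}
    (h : ∃ (r : ℕ) (E : Subalgebra F (Matrix (Fin n) (Fin n) F)), r.Prime ∧ IsFieldSubalgebra r E ∧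
      K ≤ subalgebraNormalizer E) : Geom K := by
  obtain ⟨r, E, hr, hE, hK⟩ := h
  exact ⟨_, Or.inr (Or.inr (Or.inr (Or.inr (Or.inl ⟨r, E, hr, hE, rfl⟩)))), hK⟩

/-- T23: a `K`-normalized subgroup of an irreducible `K` not in a geometric class is scalar or absolutely
irreducible. -/
theorem normal_trichotomy (hn : 3 ≤ n) (K N : Subgroup (GL (Fin n) F))
    (hK : ActsIrreducibly (matrixSet K)) (hKN : NormBy K N) :
    Geom K ∨ N ≤ scalars (Fin n) F ∨ spanAlg N = ⊤ := by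
  have hKA : NormAlg K (spanAlg N) := normAlg_spanAlg hKN
  have hss := Cfsg.Agent.Lib.Helper42.Asch.isSemisimpleModule_of_normAlg K (spanAlg N) hK hKA
  by_cases hiso : IsIsotypic (spanAlg N) (Fin n → F)
  swap
  · exact Or.inl (Geom.of_c2 (Cfsg.Agent.Lib.Helper38.Asch.c2_of_not_isIsotypic K (spanAlg N) hK hKA hiso))
  haveI : IsSimpleRing (spanAlg N) := Cfsg.Agent.Lib.Helper29.Asch.isSimpleRing_of_isIsotypic (spanAlg N) (by omega) hss hiso
  by_cases hc : Subalgebra.center F (spanAlg N) = ⊥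
  swap
  · exact Or.inl (Geom.of_c3 (Cfsg.Agent.Lib.Helper41.Asch.c3_of_center_ne_bot K (spanAlg N) hKA hc))
  obtain ⟨a, ha, ⟨φ⟩⟩ := Cfsg.Agent.Lib.Helper29.Asch.exists_algEquiv_matrix_of_center_eq_bot (spanAlg N) hc
  obtain ⟨b, e, P, hφ⟩ := Cfsg.Agent.Lib.Helper14.Asch.exists_tensorLeft_of_algHom a ha ((spanAlg N).val.comp φ.toAlgHom)
  have hT : IsTensorLeft (spanAlg N) a b e P := by
    intro M
    constructor
    · intro hM
      refine ⟨φ.symm ⟨M, hM⟩, ?_⟩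
      rw [← hφ]
      simp
    · rintro ⟨x, rfl⟩
      rw [← hφ]
      exact (φ x).2
  have hcard : n = a * b := by
    have := Fintype.card_congr e
    simpa using this
  have hb : 0 < b := by
    rcases Nat.eq_zero_or_pos b with h | h
    · subst h; omega
    · exact h
  by_cases ha1 : a = 1
  · subst ha1
    exact Or.inr (Or.inl (le_scalars_of_isTensorLeft_one (by omega) b e P hT))
  by_cases hb1 : b = 1
  · subst hb1
    exact Or.inr (Or.inr (eq_top_of_isTensorLeft_one a e P hT))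
  left
  apply Cfsg.Agent.Lib.Helper63.Asch.geom_of_le_tensorProductSubgroup K a b e P (by omega) (by omega)
  intro k hk
  apply Cfsg.Agent.Lib.Helper97.Asch.mem_tensorProductSubgroup_of_normalizes (spanAlg N) a b e P ha hb hT k
  exact hKA k hk

end Cfsg.Agent.Lib.Helper61.Asch
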