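import Mathlib
import Cfsg.Prelude.Def_GeometricClasses
import Cfsg.Agent.Lib.Helper61.AschDefs
import Cfsg.Agent.Lib.Helper61.AschBasic
import Cfsg.Agent.Lib.Helper61.AschGlueA
import Cfsg.Agent.Lib.Helper61.AschGlueB
import Cfsg.Agent.Lib.Helper61.AschGlueC
import Cfsg.Agent.Lib.Helper61.AschGlueD
import Cfsg.Agent.Lib.Helper22.AschC4

set_option autoImplicit false

namespace Cfsg.Agent.Lib.Helper61.Asch

open Cfsg Cfsg.Geo
open Cfsg.Agent.Lib.Helper61
open scoped Matrix Kronecker MatrixGroups commutatorElement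

variable {F : Type*} [Field F] [Fintype F] {n : ℕ}

local notation "Z" => scalars (Fin n) F

theorem two_eq_zero_of_not_odd (h : ¬ Odd (Fintype.card F)) : (2 : F) = 0 := by
  have h2 : Fintype.card F % 2 = 0 := by
    rcases Nat.even_or_odd (Fintype.card F) with he | ho
    · exact Nat.even_iff.mp he
    · exact absurd ho h
  have := (FiniteField.even_card_iff_char_two).mpr h2
  haveI : CharP F 2 := by
    have := ringChar.charP F
    rwa [‹ringChar F = 2›] at this
  exact CharTwo.two_eq_zero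

theorem isSymplecticForm_polar (h2 : (2 : F) = 0) (Q : (Fin n → F) → F) (hQ : IsNondegenerateQuadraticForm Q) :
    IsSymplecticForm (QuadraticMap.polar Q) := by
  have hneg : ∀ a : F, -a = a := by
    intro a
    have : a + a = 0 := by rw [← two_mul, h2, zero_mul]
    exact neg_eq_of_add_eq_zero_left this
  refine ⟨hQ.polar_bilinear, ?_, ?_, hQ.nondegenerate⟩
  · intro v w
    rw [hneg, QuadraticMap.polar_comm]
  · intro v
    unfold QuadraticMap.polar
    have : v + v = (2 : F) • v := by rw [two_smul]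
    rw [this, hQ.smul, h2]
    have h3 : Q v + Q v = 0 := by rw [← two_mul, h2, zero_mul]
    have : (0 : F) ^ 2 * Q v - Q v - Q v = -(Q v + Q v) := by ring
    rw [this, h3, neg_zero]

theorem fixesForm_polar {X : Subgroup (GL (Fin n) F)} (Q : (Fin n → F) → F)
    (h : FixesQuadForm (matrixSet X) Q) : FixesForm (matrixSet X) (QuadraticMap.polar Q) := by
  intro s hs u v
  unfold QuadraticMap.polar
  rw [← Matrix.mulVec_add, h s hs, h s hs, h s hs]

theorem Geom.of_c5 {K : Subgroup (GL (Fin n) F)}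
    (h : ∃ (F₁ : Subfield F) (r : ℕ) (P : GL (Fin n) F), r.Prime ∧ Fintype.card F = Nat.card F₁ ^ r ∧
      K ≤ subfieldSubgroup F₁ P) : Geom K := by
  obtain ⟨F₁, r, P, hr, hc, hK⟩ := h
  exact ⟨_, Or.inr (Or.inr (Or.inr (Or.inr (Or.inr (Or.inr (Or.inl ⟨F₁, r, P, hr, hc, rfl⟩)))))), hK⟩

theorem Geom.of_symplectic {K : Subgroup (GL (Fin n) F)} (hn : 3 ≤ n) (f : (Fin n → F) → (Fin n → F) → F)
    (hf : IsSymplecticForm f) (hK : K ≤ similarityGroup f ∧ Even n) : Geom K := by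
  have h4 : 4 ≤ n := by
    obtain ⟨k, hk⟩ := hK.2
    omega
  exact ⟨_, Or.inr (Or.inr (Or.inr (Or.inr (Or.inr (Or.inr (Or.inr (Or.inr (Or.inr (Or.inl
    ⟨f, hf, hK.2, h4, rfl⟩))))))))), hK.1⟩

theorem Geom.of_unitary {K : Subgroup (GL (Fin n) F)} (hn : 3 ≤ n) (σ : F ≃+* F)
    (f : (Fin n → F) → (Fin n → F) → F)
    (hf : IsUnitaryForm σ f) (hK : K ≤ similarityGroup f) : Geom K :=
  ⟨_, Or.inr (Or.inr (Or.inr (Or.inr (Or.inr (Or.inr (Or.inr (Or.inr (Or.inr (Or.inr (Or.inl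
    ⟨σ, f, hf, hn, rfl⟩)))))))))), hK⟩

theorem Geom.of_quadratic {K : Subgroup (GL (Fin n) F)} (hn : 3 ≤ n) (Q : (Fin n → F) → F)
    (hQ : IsNondegenerateQuadraticForm Q) (hodd : Odd (Fintype.card F)) (hK : K ≤ quadSimilarityGroup Q) :
    Geom K :=
  ⟨_, Or.inr (Or.inr (Or.inr (Or.inr (Or.inr (Or.inr (Or.inr (Or.inr (Or.inr (Or.inr (Or.inr
    ⟨Q, hQ, hodd, hn, rfl⟩)))))))))), hK⟩

/-- if `X` is absolutely irreducible, normalized by `K`, and fixes a quadratic form, then `K` is geometric -/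
theorem geom_of_fixes_quad {K X : Subgroup (GL (Fin n) F)} (hn : 3 ≤ n) (hX : spanAlg X = ⊤) (hKX : NormBy K X)
    (Q : (Fin n → F) → F) (hQ : IsNondegenerateQuadraticForm Q) (hfix : FixesQuadForm (matrixSet X) Q) :
    Geom K := by
  by_cases hodd : Odd (Fintype.card F)
  · exact Geom.of_quadratic hn Q hQ hodd
      (Cfsg.Agent.Lib.Helper22.Asch.le_quadSimilarityGroup_of_fixes K X hX hKX hodd Q hQ hfix)
  · have h2 := two_eq_zero_of_not_odd hodd
    exact Geom.of_symplectic hn _ (isSymplecticForm_polar h2 Q hQ)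
      (Cfsg.Agent.Lib.Helper22.Asch.le_similarityGroup_of_fixes_symplectic K X hX hKX _ (isSymplecticForm_polar h2 Q hQ)
        (fixesForm_polar Q hfix))

end Cfsg.Agent.Lib.Helper61.Asch
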