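import Mathlib
import Cfsg.Prelude.Def_GeometricClasses
import Cfsg.Agent.Lib.Helper61.AschDefs
import Cfsg.Agent.Lib.Helper61.AschBasic
import Cfsg.Agent.Lib.Helper61.AschGlueA
import Cfsg.Agent.Lib.Helper61.AschGlueB
import Cfsg.Agent.Lib.Helper61.AschGlueC
import Cfsg.Agent.Lib.Helper61.AschGlueD
import Cfsg.Agent.Lib.Helper61.AschGlueE
import Cfsg.Agent.Lib.Helper22.AschC4
import Cfsg.Agent.Lib.Helper72.AschC6

set_option autoImplicit false

namespace Cfsg.Agent.Lib.Helper61.Asch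

open Cfsg Cfsg.Geo
open Cfsg.Agent.Lib.Helper61
open scoped Matrix Kronecker MatrixGroups commutatorElement

variable {F : Type*} [Field F] [Fintype F] {n : ℕ}

local notation "Z" => scalars (Fin n) F

/-- a group of scalars is reducible in dimension at least two -/
theorem not_le_scalars_of_irreducible (hn : 2 ≤ n) {K : Subgroup (GL (Fin n) F)}
    (hK : ActsIrreducibly (matrixSet K)) : ¬ K ≤ Z := by
  intro hKZ
  let i0 : Fin n := ⟨0, by omega⟩
  let i1 : Fin n := ⟨1, by omega⟩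
  let W : Submodule F (Fin n → F) := Submodule.span F {Pi.single i0 (1 : F)}
  have hW : ∀ s ∈ matrixSet K, W.map (Matrix.toLin' s) ≤ W := by
    rintro _ ⟨g, hg, rfl⟩
    obtain ⟨c, hc⟩ := (mem_scalars_iff g).mp (hKZ hg)
    rintro _ ⟨w, hw, rfl⟩
    show Matrix.toLin' (g : Matrix (Fin n) (Fin n) F) w ∈ W
    rw [hc, Matrix.toLin'_apply, Matrix.smul_mulVec, Matrix.one_mulVec]
    exact W.smul_mem _ hw
  rcases hK W hW with h | h
  · have : Pi.single i0 (1 : F) ∈ W := Submodule.subset_span rfl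
    rw [h, Submodule.mem_bot] at this
    have := congrFun this i0
    simp at this
  · have : Pi.single i1 (1 : F) ∈ W := by rw [h]; trivial
    rw [Submodule.mem_span_singleton] at this
    obtain ⟨a, ha⟩ := this
    have h1 := congrFun ha i1
    have hne : i1 ≠ i0 := by
      intro h
      have := congrArg Fin.val h
      simp [i0, i1] at this
    simp [Pi.single_apply, hne] at h1

/-- the residual case, core -/
theorem residual_core (hn : 3 ≤ n) (H K N P : Subgroup (GL (Fin n) F)) (hHK : H ≤ K)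
    (hG : ¬ Geom K) (hPN : P ≤ N) (hspanP : spanAlg P = ⊤) (hKP : NormBy K P) (hPH : P ≤ H)
    (hPperf : ⁅P, P⁆ = P) (hPZ : ¬ P ≤ Z) (hperf : P ⊔ Z = N)
    (hsimple : ¬ ∃ M : Subgroup (GL (Fin n) F), Z ≤ M ∧ M ≤ N ∧ NormBy N M ∧ M ≠ Z ∧ M ≠ N) :
    InLinearResidualClass H := by
  have hcent : ∀ h : GL (Fin n) F, (∀ x ∈ P, h * x * h⁻¹ * x⁻¹ ∈ Z) → h ∈ Z := by
    intro h hh
    apply mem_scalars_of_commute hspanP
    have hle : P ≤ Subgroup.centralizer {h} := by
      rw [← hPperf, Subgroup.commutator_le]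
      intro x hx y hy
      rw [Subgroup.mem_centralizer_iff]
      intro h' hh'
      rw [Set.mem_singleton_iff] at hh'
      subst hh'
      -- h' ⁅x,y⁆ = ⁅x,y⁆ h'
      have hx' : h' * x * h'⁻¹ = x * (x⁻¹ * (h' * x * h'⁻¹ * x⁻¹) * x) := by group
      have hy' : h' * y * h'⁻¹ = y * (y⁻¹ * (h' * y * h'⁻¹ * y⁻¹) * y) := by group
      have hzx : x⁻¹ * (h' * x * h'⁻¹ * x⁻¹) * x ∈ Z := by
        have := (scalars_normal (ι := Fin n) (F := F)).conj_mem _ (hh x hx) x⁻¹
        simpa using this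
      have hzy : y⁻¹ * (h' * y * h'⁻¹ * y⁻¹) * y ∈ Z := by
        have := (scalars_normal (ι := Fin n) (F := F)).conj_mem _ (hh y hy) y⁻¹
        simpa using this
      have h1 : h' * ⁅x, y⁆ * h'⁻¹ = ⁅h' * x * h'⁻¹, h' * y * h'⁻¹⁆ := by
        rw [commutatorElement_def, commutatorElement_def]; group
      have h2 : h' * ⁅x, y⁆ * h'⁻¹ = ⁅x, y⁆ := by
        rw [h1, hx', hy', commutatorElement_mul_scalars hzx hzy]
      calc h' * ⁅x, y⁆ = (h' * ⁅x, y⁆ * h'⁻¹) * h' := by group
        _ = ⁅x, y⁆ * h' := by rw [h2]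
    intro x hx
    have := hle hx
    rw [Subgroup.mem_centralizer_iff] at this
    exact (this h rfl)
  refine ⟨P, ⟨hPH, fun h hh x hx => hKP h (hHK hh) x hx, hPperf, ?_, ?_, fun h _ hh => hcent h hh,
    actsAbsolutelyIrreducibly_of_spanAlg_eq_top hspanP, ?_⟩, ?_, ?_, ?_⟩
  · -- simple
    haveI hnt : Nontrivial (P ⧸ (scalars (Fin n) F).subgroupOf P) := by
      rw [QuotientGroup.nontrivial_iff]  
      intro h
      apply hPZ
      intro x hx
      have : (⟨x, hx⟩ : P) ∈ (scalars (Fin n) F).subgroupOf P := by rw [h]; trivial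
      exact Subgroup.mem_subgroupOf.mp this
    refine ⟨fun L hL => ?_⟩
    let L' : Subgroup P := L.comap (QuotientGroup.mk' ((scalars (Fin n) F).subgroupOf P))
    have hL'n : L'.Normal := Subgroup.Normal.comap hL _
    have hZL' : (scalars (Fin n) F).subgroupOf P ≤ L' := by
      intro x hx
      show QuotientGroup.mk' _ x ∈ L
      have : QuotientGroup.mk' ((scalars (Fin n) F).subgroupOf P) x = 1 := by
        rw [QuotientGroup.mk'_apply, QuotientGroup.eq_one_iff]; exact hx
      rw [this]; exact L.one_mem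
    have hLmap : L = L'.map (QuotientGroup.mk' ((scalars (Fin n) F).subgroupOf P)) := by
      rw [Subgroup.map_comap_eq_self_of_surjective (QuotientGroup.mk'_surjective _)]
    let M : Subgroup (GL (Fin n) F) := L'.map P.subtype ⊔ Z
    have hZM : Z ≤ M := le_sup_right
    have hL'P : L'.map P.subtype ≤ P := by
      rintro _ ⟨x, _, rfl⟩; exact x.2
    have hMN : M ≤ N := by
      rw [← hperf]
      exact sup_le_sup hL'P (le_refl _)
    have hNM : NormBy N M := by
      apply NormBy.sup _ (normBy_scalars N)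
      intro k hk x hx
      obtain ⟨y, hy, rfl⟩ := hx
      rw [← hperf] at hk
      obtain ⟨p, hp, z, hz, rfl⟩ := mem_sup_scalars hk
      have h1 : p * z * (P.subtype y) * (p * z)⁻¹ = p * (P.subtype y) * p⁻¹ := by
        have := scalar_comm hz
        calc p * z * (P.subtype y) * (p * z)⁻¹ = p * (z * (P.subtype y) * z⁻¹) * p⁻¹ := by group
          _ = p * (P.subtype y) * p⁻¹ := by rw [this]; group
      rw [h1]
      have hmem : (⟨p, hp⟩ : P) * y * (⟨p, hp⟩ : P)⁻¹ ∈ L' := hL'n.conj_mem y hy ⟨p, hp⟩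
      exact ⟨_, hmem, rfl⟩
    by_cases hMZ : M = Z
    · left
      rw [hLmap]
      rw [Subgroup.map_eq_bot_iff, QuotientGroup.ker_mk']
      intro x hx
      rw [Subgroup.mem_subgroupOf]
      have : (x : GL (Fin n) F) ∈ M := le_sup_left (a := L'.map P.subtype) ⟨x, hx, rfl⟩
      rw [hMZ] at this
      exact this
    · right
      have hMN' : M = N := by
        by_contra hne
        exact hsimple ⟨M, hZM, hMN, hNM, hMZ, hne⟩
      have hL'top : L' = ⊤ := by
        rw [eq_top_iff]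
        intro x _
        have hxN : (x : GL (Fin n) F) ∈ M := by rw [hMN']; exact hPN x.2
        obtain ⟨l, hl, z, hz, hxlz⟩ := mem_sup_scalars hxN
        obtain ⟨l', hl', rfl⟩ := hl
        have hzP : z ∈ P := by
          have : z = (P.subtype l')⁻¹ * (x : GL (Fin n) F) := by rw [hxlz]; group
          rw [this]
          exact P.mul_mem (P.inv_mem l'.2) x.2
        have hz' : (⟨z, hzP⟩ : P) ∈ L' := hZL' (Subgroup.mem_subgroupOf.mpr hz)
        have : x = l' * ⟨z, hzP⟩ := by
          apply Subtype.ext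
          simpa using hxlz
        rw [this]
        exact L'.mul_mem hl' hz'
      rw [hLmap, hL'top, ← MonoidHom.range_eq_map, MonoidHom.range_eq_top]
      exact QuotientGroup.mk'_surjective _
  · -- nonabelian
    intro hcomm
    apply hPZ
    rw [← hPperf, Subgroup.commutator_le]
    intro x hx y hy
    have h1 := hcomm.is_comm.comm (QuotientGroup.mk' ((scalars (Fin n) F).subgroupOf P) ⟨x, hx⟩)
      (QuotientGroup.mk' ((scalars (Fin n) F).subgroupOf P) ⟨y, hy⟩)
    have h2 : QuotientGroup.mk' ((scalars (Fin n) F).subgroupOf P) (⁅(⟨x, hx⟩ : P), ⟨y, hy⟩⁆) = 1 := by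
      rw [commutatorElement_def, map_mul, map_mul, map_mul, map_inv, map_inv, h1]
      group
    rw [QuotientGroup.mk'_apply, QuotientGroup.eq_one_iff, Subgroup.mem_subgroupOf] at h2
    simpa [commutatorElement_def] using h2
  · -- no subfield
    intro F₀ hF₀ hreal
    exact hG (Geom.of_c5 (Cfsg.Agent.Lib.Helper72.Asch.le_subfieldSubgroup_of_realisable K P hspanP hKP F₀ hF₀ hreal))
  · rintro ⟨Q, hQ, hfix⟩
    exact hG (geom_of_fixes_quad hn hspanP hKP Q hQ hfix)
  · rintro ⟨f, hf, hfix⟩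
    exact hG (Geom.of_symplectic hn f hf
      (Cfsg.Agent.Lib.Helper22.Asch.le_similarityGroup_of_fixes_symplectic K P hspanP hKP f hf hfix))
  · rintro ⟨σ, f, hf, hfix⟩
    exact hG (Geom.of_unitary hn σ f hf
      (Cfsg.Agent.Lib.Helper22.Asch.le_similarityGroup_of_fixes_unitary K P hspanP hKP σ f hf hfix))


/-- the residual case -/
theorem residual_of_simple (hn : 3 ≤ n) (H K N : Subgroup (GL (Fin n) F)) (hK : K = H ⊔ Z)
    (hG : ¬ Geom K) (hNZ : ¬ N ≤ Z) (hKN : NormBy K N) (hNK : N ≤ K)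
    (hspan : spanAlg N = ⊤) (hperf : ⁅N, N⁆ ⊔ Z = N)
    (hsimple : ¬ ∃ M : Subgroup (GL (Fin n) F), Z ≤ M ∧ M ≤ N ∧ NormBy N M ∧ M ≠ Z ∧ M ≠ N) :
    InLinearResidualClass H := by
  have hHK : H ≤ K := by rw [hK]; exact le_sup_left
  have hPH : ⁅N, N⁆ ≤ H := by
    calc ⁅N, N⁆ ≤ ⁅K, K⁆ := Subgroup.commutator_mono hNK hNK
      _ = ⁅H, H⁆ := by rw [hK, commutator_sup_scalars]
      _ ≤ H := commutator_le_self H
  have hPperf : ⁅⁅N, N⁆, ⁅N, N⁆⁆ = ⁅N, N⁆ := by
    conv_rhs => rw [← hperf, commutator_sup_scalars]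
  have hPZ : ¬ ⁅N, N⁆ ≤ Z := by
    intro h
    apply hNZ
    rw [← hperf]
    exact sup_le h (le_refl _)
  exact residual_core hn H K N ⁅N, N⁆ hHK hG (commutator_le_self N)
    (by rw [← spanAlg_sup_scalars, hperf, hspan]) (hKN.commutator hKN) hPH hPperf hPZ hperf hsimple

end Cfsg.Agent.Lib.Helper61.Asch
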