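import Mathlib
import Cfsg.Prelude.Def_GeometricClasses

/-!
# K-O12-X4S2, part a: binary symmetric forms in explicit coordinates (helper61)
-/

set_option autoImplicit false

namespace Cfsg.Agent.Lib.Helper61.O12

open Cfsg Cfsg.Geo Matrix

variable {F : Type*} [Field F]

/-- the binary symmetric form with Gram matrix `!![p, r; r, s]`. -/
def q2 (p r s : F) (u v : Fin 2 → F) : F :=
  u 0 * p * v 0 + u 0 * r * v 1 + u 1 * r * v 0 + u 1 * s * v 1

/-- the canonical skew-adjoint matrix of `q2 p r s`. -/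
def J2 (p r s : F) : Matrix (Fin 2) (Fin 2) F := !![-r, -s; p, r]

/-- the element `x + y J` of `F[J]`. -/
def E2 (p r s x y : F) : Matrix (Fin 2) (Fin 2) F := x • 1 + y • J2 p r s

theorem J2_mulVec_zero (p r s : F) (u : Fin 2 → F) :
    (J2 p r s *ᵥ u) 0 = -r * u 0 + -s * u 1 := by
  simp [J2, Matrix.mulVec, dotProduct, Fin.sum_univ_two]

theorem J2_mulVec_one (p r s : F) (u : Fin 2 → F) :
    (J2 p r s *ᵥ u) 1 = p * u 0 + r * u 1 := by
  simp [J2, Matrix.mulVec, dotProduct, Fin.sum_univ_two]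

theorem q2_J2_skew (p r s : F) (u v : Fin 2 → F) :
    q2 p r s (J2 p r s *ᵥ u) v = - q2 p r s u (J2 p r s *ᵥ v) := by
  unfold q2
  rw [J2_mulVec_zero, J2_mulVec_one, J2_mulVec_zero, J2_mulVec_one]
  ring

theorem J2_mul_self (p r s : F) : J2 p r s * J2 p r s = (r ^ 2 - p * s) • (1 : Matrix (Fin 2) (Fin 2) F) := by
  ext i j
  fin_cases i <;> fin_cases j <;> simp [J2, Matrix.mul_apply, Fin.sum_univ_two] <;> ring

theorem E2_mul (p r s x y x' y' : F) :
    E2 p r s x y * E2 p r s x' y' = E2 p r s (x * x' + (r ^ 2 - p * s) * (y * y')) (x * y' + y * x') := by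
  ext i j
  fin_cases i <;> fin_cases j <;>
    simp [E2, J2, Matrix.mul_apply, Fin.sum_univ_two] <;> ring

theorem E2_add (p r s x y x' y' : F) :
    E2 p r s x y + E2 p r s x' y' = E2 p r s (x + x') (y + y') := by
  unfold E2
  rw [add_smul, add_smul]
  abel

theorem E2_smul (p r s c x y : F) : c • E2 p r s x y = E2 p r s (c * x) (c * y) := by
  unfold E2
  rw [smul_add, smul_smul, smul_smul]

theorem E2_one (p r s : F) : E2 p r s 1 0 = 1 := by
  unfold E2; simp

theorem E2_zero (p r s : F) : E2 p r s 0 0 = 0 := by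
  unfold E2; simp

theorem E2_J (p r s : F) : E2 p r s 0 1 = J2 p r s := by
  unfold E2; simp

/-- `x + y J = 0` forces `x = y = 0`. -/
theorem E2_inj (p r s x y : F) (h2 : (2 : F) ≠ 0) (hΔ : r ^ 2 - p * s ≠ 0)
    (h : E2 p r s x y = 0) : x = 0 ∧ y = 0 := by
  have h00 := congrFun (congrFun h 0) 0
  have h01 := congrFun (congrFun h 0) 1
  have h10 := congrFun (congrFun h 1) 0
  have h11 := congrFun (congrFun h 1) 1
  simp [E2, J2] at h00 h01 h10 h11
  by_cases hy : y = 0
  · subst hy
    simp at h00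
    exact ⟨h00, rfl⟩
  · exfalso
    have hs : s = 0 := by
      rcases h01 with h | h
      · exact absurd h hy
      · exact h
    have hp : p = 0 := by
      rcases h10 with h | h
      · exact absurd h hy
      · exact h
    have h2yr : 2 * (y * r) = 0 := by linear_combination h11 - h00
    have hr : r = 0 := by
      rcases mul_eq_zero.1 h2yr with h | h
      · exact absurd h h2
      · rcases mul_eq_zero.1 h with h | h
        · exact absurd h hy
        · exact h
    apply hΔ
    rw [hr, hp]; ring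

theorem q2_symm (p r s : F) (u v : Fin 2 → F) : q2 p r s u v = q2 p r s v u := by
  unfold q2; ring

theorem q2_add_left (p r s : F) (u u' v : Fin 2 → F) :
    q2 p r s (u + u') v = q2 p r s u v + q2 p r s u' v := by
  unfold q2; simp only [Pi.add_apply]; ring

theorem q2_smul_left (p r s c : F) (u v : Fin 2 → F) :
    q2 p r s (c • u) v = c * q2 p r s u v := by
  unfold q2; simp only [Pi.smul_apply, smul_eq_mul]; ring

theorem q2_add_right (p r s : F) (u v v' : Fin 2 → F) :
    q2 p r s u (v + v') = q2 p r s u v + q2 p r s u v' := by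
  unfold q2; simp only [Pi.add_apply]; ring

theorem q2_smul_right (p r s c : F) (u v : Fin 2 → F) :
    q2 p r s u (c • v) = c * q2 p r s u v := by
  unfold q2; simp only [Pi.smul_apply, smul_eq_mul]; ring

/-- Gram determinant identity. -/
theorem q2_gram (p r s : F) (a b : Fin 2 → F) :
    q2 p r s a a * q2 p r s b b - q2 p r s a b ^ 2 =
      (p * s - r ^ 2) * (a 0 * b 1 - a 1 * b 0) ^ 2 := by
  unfold q2; ring

/-- coordinates in a frame of `F²`. -/
theorem frame2 (a b u : Fin 2 → F) (hD : a 0 * b 1 - a 1 * b 0 ≠ 0) :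
    u = ((u 0 * b 1 - u 1 * b 0) * (a 0 * b 1 - a 1 * b 0)⁻¹) • a +
      ((a 0 * u 1 - a 1 * u 0) * (a 0 * b 1 - a 1 * b 0)⁻¹) • b := by
  have hDi : (a 0 * b 1 - a 1 * b 0) * (a 0 * b 1 - a 1 * b 0)⁻¹ = 1 := mul_inv_cancel₀ hD
  ext i
  fin_cases i
  · simp only [Fin.zero_eta, Pi.add_apply, Pi.smul_apply, smul_eq_mul]
    linear_combination (-(u 0)) * hDi
  · simp only [Fin.mk_one, Pi.add_apply, Pi.smul_apply, smul_eq_mul]
    linear_combination (-(u 1)) * hDi

/-- a skew-adjoint matrix is a multiple of `J`. -/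
theorem skew_eq_smul_J2 (p r s : F) (h2 : (2 : F) ≠ 0) (hΔ : r ^ 2 - p * s ≠ 0)
    (m : Matrix (Fin 2) (Fin 2) F)
    (hm : ∀ u v, q2 p r s (m *ᵥ u) v = - q2 p r s u (m *ᵥ v)) :
    ∃ t : F, m = t • J2 p r s := by
  have e0 : ∀ i, (m *ᵥ (Pi.single 0 1 : Fin 2 → F)) i = m i 0 := by
    intro i; simp
  have e1 : ∀ i, (m *ᵥ (Pi.single 1 1 : Fin 2 → F)) i = m i 1 := by
    intro i; simp
  have h00 := hm (Pi.single 0 1) (Pi.single 0 1)
  have h11 := hm (Pi.single 1 1) (Pi.single 1 1)
  have h01 := hm (Pi.single 0 1) (Pi.single 1 1)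
  unfold q2 at h00 h11 h01
  simp only [e0, e1] at h00 h11 h01
  simp at h00 h11 h01
  -- h00 : m00 p + m10 r = -(p m00 + r m10) etc
  have k1 : p * m 0 0 + r * m 1 0 = 0 := by
    have : 2 * (p * m 0 0 + r * m 1 0) = 0 := by linear_combination h00
    rcases mul_eq_zero.1 this with h | h
    · exact absurd h h2
    · exact h
  have k2 : r * m 0 1 + s * m 1 1 = 0 := by
    have : 2 * (r * m 0 1 + s * m 1 1) = 0 := by linear_combination h11
    rcases mul_eq_zero.1 this with h | h
    · exact absurd h h2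
    · exact h
  have k3 : r * m 0 0 + s * m 1 0 + p * m 0 1 + r * m 1 1 = 0 := by linear_combination h01
  have hΔi : (r ^ 2 - p * s) * (r ^ 2 - p * s)⁻¹ = 1 := mul_inv_cancel₀ hΔ
  refine ⟨(p * m 0 1 + r * m 1 1) * (r ^ 2 - p * s)⁻¹, ?_⟩
  ext i j
  fin_cases i <;> fin_cases j
  · simp only [Fin.zero_eta, Matrix.smul_apply, smul_eq_mul, J2]
    simp
    linear_combination (r ^ 2 - p * s)⁻¹ * (r * k3 - s * k1) - m 0 0 * hΔi
  · simp only [Fin.zero_eta, Fin.mk_one, Matrix.smul_apply, smul_eq_mul, J2]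
    simp
    linear_combination (r ^ 2 - p * s)⁻¹ * (r * k2) - m 0 1 * hΔi
  · simp only [Fin.zero_eta, Fin.mk_one, Matrix.smul_apply, smul_eq_mul, J2]
    simp
    linear_combination (r ^ 2 - p * s)⁻¹ * (r * k1 - p * k3) - m 1 0 * hΔi
  · simp only [Fin.mk_one, Matrix.smul_apply, smul_eq_mul, J2]
    simp
    linear_combination (r ^ 2 - p * s)⁻¹ * (-p * k2) - m 1 1 * hΔi

/-- anisotropic binary forms have non-square `r² - p s`. -/
theorem not_isSquare_of_aniso (p r s : F)
    (han : ∀ u : Fin 2 → F, u ≠ 0 → q2 p r s u u ≠ 0) : ¬ IsSquare (r ^ 2 - p * s) := by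
  rintro ⟨δ, hδ⟩
  by_cases hp : p = 0
  · apply han (Pi.single 0 1)
    · intro h
      have := congrFun h 0
      simp at this
    · unfold q2; simp [hp]
  · apply han ![δ - r, p]
    · intro h
      have := congrFun h 1
      simp at this
      exact hp this
    · unfold q2
      simp only [Matrix.cons_val_zero, Matrix.cons_val_one]
      linear_combination (-p) * hδ

end Cfsg.Agent.Lib.Helper61.O12
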