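import Mathlib
import Cfsg.Prelude.Def_GeometricClasses
import Cfsg.Agent.Lib.Helper11.TensorPlumb
import Cfsg.Agent.Lib.Helper18.SLMaxX5
import Cfsg.Agent.Lib.Helper61.O12X4S2a

/-!
# K-O12-X4S2, part b: plumbing (helper61)
-/

set_option autoImplicit false

namespace Cfsg.Agent.Lib.Helper61.O12

open Cfsg Cfsg.Geo Matrix
open scoped Kronecker MatrixGroups
open Cfsg.Agent.Lib.Helper11.TensorPlumb
open Cfsg.Agent.Lib.Helper18.SLMax (Phi Phi_add Phi_smul Phi_one Phi_mul Phi_inj Phi_conj Phi_zero)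

section Bilin

set_option linter.unusedSectionVars false

variable {F : Type*} [Field F] {κ : Type} [Fintype κ] [DecidableEq κ]

theorem x4_bsum_left (f : (κ → F) → (κ → F) → F) (hf : IsBilinearForm f)
    {α : Type*} (s : Finset α) (c : α → F) (v : α → κ → F) (x : κ → F) :
    f (∑ a ∈ s, c a • v a) x = ∑ a ∈ s, c a * f (v a) x := by
  classical
  induction s using Finset.induction_on with
  | empty =>
    have h := hf.smul_left 0 0 x
    rw [zero_smul, zero_mul] at h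
    simpa using h
  | insert a s ha ih =>
    rw [Finset.sum_insert ha, Finset.sum_insert ha, hf.add_left, hf.smul_left, ih]

theorem x4_bsum_right (f : (κ → F) → (κ → F) → F) (hf : IsBilinearForm f)
    {α : Type*} (s : Finset α) (c : α → F) (v : α → κ → F) (x : κ → F) :
    f x (∑ a ∈ s, c a • v a) = ∑ a ∈ s, c a * f x (v a) := by
  classical
  induction s using Finset.induction_on with
  | empty =>
    have h := hf.smul_right 0 x 0
    rw [zero_smul, zero_mul] at h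
    simpa using h
  | insert a s ha ih =>
    rw [Finset.sum_insert ha, Finset.sum_insert ha, hf.add_right, hf.smul_right, ih]

/-- a bilinear form given as a function is the form of its Gram matrix -/
theorem x4_bilin_eq_formOfGram (f : (κ → F) → (κ → F) → F) (hf : IsBilinearForm f)
    (x y : κ → F) : f x y = formOfGram id (gramMatrix f) x y := by
  have hx : x = ∑ a, x a • (Pi.single a (1 : F) : κ → F) := by
    ext k
    simp [Finset.sum_apply, Pi.single_apply]
  have hy : y = ∑ a, y a • (Pi.single a (1 : F) : κ → F) := by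
    ext k
    simp [Finset.sum_apply, Pi.single_apply]
  conv_lhs => rw [hx, x4_bsum_left f hf]
  unfold formOfGram gramMatrix
  apply Finset.sum_congr rfl
  intro a _
  conv_lhs => rw [hy, x4_bsum_right f hf, Finset.mul_sum]
  apply Finset.sum_congr rfl
  intro b _
  simp only [id]
  ring

theorem x4_zero_left (f : (κ → F) → (κ → F) → F) (hf : IsBilinearForm f) (x : κ → F) :
    f 0 x = 0 := by
  have h := hf.smul_left 0 0 x
  rwa [zero_smul, zero_mul] at h

theorem x4_zero_right (f : (κ → F) → (κ → F) → F) (hf : IsBilinearForm f) (x : κ → F) :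
    f x 0 = 0 := by
  have h := hf.smul_right 0 x 0
  rwa [zero_smul, zero_mul] at h

theorem x4_neg_right (f : (κ → F) → (κ → F) → F) (hf : IsBilinearForm f) (x y : κ → F) :
    f x (-y) = - f x y := by
  have h := hf.smul_right (-1) x y
  rwa [neg_one_smul, neg_one_mul] at h

theorem formOfGram_id_dot (G : Matrix κ κ F) (x y : κ → F) :
    formOfGram id G x y = x ⬝ᵥ (G *ᵥ y) := by
  unfold formOfGram
  simp only [dotProduct, Matrix.mulVec, id, Finset.mul_sum]
  apply Finset.sum_congr rfl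
  intro a _
  apply Finset.sum_congr rfl
  intro b _
  ring

end Bilin

section Two

variable {F : Type*} [Field F]

/-- a symmetric bilinear form on `F²` in explicit coordinates. -/
theorem bilin_eq_q2 (f : (Fin 2 → F) → (Fin 2 → F) → F) (hf : IsBilinearForm f)
    (hs : ∀ u v, f u v = f v u) (u v : Fin 2 → F) :
    f u v = q2 (f (Pi.single 0 1) (Pi.single 0 1)) (f (Pi.single 0 1) (Pi.single 1 1))
      (f (Pi.single 1 1) (Pi.single 1 1)) u v := by
  rw [x4_bilin_eq_formOfGram f hf]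
  unfold formOfGram gramMatrix q2
  simp only [Fin.sum_univ_two, id]
  rw [hs (Pi.single 1 1) (Pi.single 0 1)]
  ring

end Two

section Plumb

variable {F : Type*} [Field F] {n n₂ : ℕ}

theorem Phi_tau (e : Fin n ≃ Fin 2 × Fin n₂) (P : GL (Fin n) F) (x : Matrix (Fin 2) (Fin 2) F)
    (z : Fin 2 × Fin n₂ → F) :
    Phi e P x *ᵥ tau e P z = tau e P ((x ⊗ₖ (1 : Matrix (Fin n₂) (Fin n₂) F)) *ᵥ z) := by
  unfold Phi tau
  rw [Matrix.mulVec_mulVec, Matrix.mul_assoc, Matrix.mul_assoc, ← Units.val_mul, inv_mul_cancel,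
    Units.val_one, Matrix.mul_one, ← Matrix.mulVec_mulVec]
  congr 1
  rw [Matrix.submatrix_mulVec_equiv]
  have hz : (z ∘ ⇑e) ∘ ⇑e.symm = z := by
    ext q
    simp [Function.comp]
  rw [hz]

theorem conj_tau (e : Fin n ≃ Fin 2 × Fin n₂) (P : GL (Fin n) F) (a : GL (Fin 2) F)
    (b : GL (Fin n₂) F) (g₀ : GL (Fin 2 × Fin n₂) F)
    (hg₀ : (g₀ : Matrix (Fin 2 × Fin n₂) (Fin 2 × Fin n₂) F) =
      (a : Matrix (Fin 2) (Fin 2) F) ⊗ₖ (b : Matrix (Fin n₂) (Fin n₂) F))
    (z : Fin 2 × Fin n₂ → F) :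
    ((MulAut.conj P (glReindex e.symm g₀) : GL (Fin n) F) : Matrix (Fin n) (Fin n) F) *ᵥ tau e P z =
      tau e P (((a : Matrix (Fin 2) (Fin 2) F) ⊗ₖ (b : Matrix (Fin n₂) (Fin n₂) F)) *ᵥ z) := by
  have hval : ((MulAut.conj P (glReindex e.symm g₀) : GL (Fin n) F) : Matrix (Fin n) (Fin n) F) =
      P.1 * (g₀.1.submatrix e e) * P⁻¹.1 := rfl
  rw [hval]
  unfold tau
  rw [Matrix.mulVec_mulVec, Matrix.mul_assoc, Matrix.mul_assoc, ← Units.val_mul, inv_mul_cancel,
    Units.val_one, Matrix.mul_one, ← Matrix.mulVec_mulVec, ← hg₀]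
  congr 1
  rw [Matrix.submatrix_mulVec_equiv]
  have hz : (z ∘ ⇑e) ∘ ⇑e.symm = z := by
    ext q
    simp [Function.comp]
  rw [hz]

/-- adjoints of `m ⊗ 1` for the Kronecker form. -/
theorem kron_adjoint (G₁ : Matrix (Fin 2) (Fin 2) F) (G₂ : Matrix (Fin n₂) (Fin n₂) F)
    (m m' : Matrix (Fin 2) (Fin 2) F) (hmm : mᵀ * G₁ = G₁ * m') (z z' : Fin 2 × Fin n₂ → F) :
    formOfGram id (G₁ ⊗ₖ G₂) ((m ⊗ₖ (1 : Matrix (Fin n₂) (Fin n₂) F)) *ᵥ z) z' =
      formOfGram id (G₁ ⊗ₖ G₂) z ((m' ⊗ₖ (1 : Matrix (Fin n₂) (Fin n₂) F)) *ᵥ z') := by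
  rw [formOfGram_id_dot, formOfGram_id_dot]
  have h1 : ((m ⊗ₖ (1 : Matrix (Fin n₂) (Fin n₂) F)) *ᵥ z) ⬝ᵥ ((G₁ ⊗ₖ G₂) *ᵥ z') =
      z ⬝ᵥ (((m ⊗ₖ (1 : Matrix (Fin n₂) (Fin n₂) F))ᵀ * (G₁ ⊗ₖ G₂)) *ᵥ z') := by
    rw [← Matrix.mulVec_mulVec, Matrix.mulVec_transpose, dotProduct_comm,
      Matrix.dotProduct_mulVec, dotProduct_comm]
  rw [h1, Matrix.mulVec_mulVec]
  congr 2
  rw [← Matrix.kroneckerMap_transpose, Matrix.transpose_one, ← Matrix.mul_kronecker_mul,
    ← Matrix.mul_kronecker_mul, hmm, Matrix.one_mul, Matrix.mul_one]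

end Plumb

end Cfsg.Agent.Lib.Helper61.O12
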