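import Mathlib
import Cfsg.Prelude.Def_GeometricClasses
import Cfsg.Agent.Lib.Helper11.TensorPlumb
import Cfsg.Agent.Lib.Helper18.SLMaxX5
import Cfsg.Agent.Lib.Helper61.O12X4S2b

/-!
# K-O12-X4S2, part c: the common context (helper61)
-/

set_option autoImplicit false

namespace Cfsg.Agent.Lib.Helper61.O12

open Cfsg Cfsg.Geo Matrix
open scoped Kronecker MatrixGroups
open Cfsg.Agent.Lib.Helper11.TensorPlumb
open Cfsg.Agent.Lib.Helper18.SLMax (Phi Phi_add Phi_smul Phi_one Phi_mul Phi_inj Phi_conj Phi_zero)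

section Ctx

variable {F : Type*} [Field F] {n n₂ : ℕ}

/-- the data of the leaf, with the constant of the tensor structure exposed. -/
structure X4Ctx (Q : (Fin n → F) → F) (e : Fin n ≃ Fin 2 × Fin n₂) (P : GL (Fin n) F)
    (f₁ : (Fin 2 → F) → (Fin 2 → F) → F) (f₂ : (Fin n₂ → F) → (Fin n₂ → F) → F) (c : F) : Prop where
  hQ : IsNondegenerateQuadraticForm Q
  h2 : (2 : F) ≠ 0
  hn₂ : 0 < n₂
  hf₁ : IsSymmetricForm f₁
  hf₂ : IsSymmetricForm f₂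
  hc : c ≠ 0
  hB : ∀ x y : Fin 2 × Fin n₂ → F, QuadraticMap.polar Q (tau e P x) (tau e P y) =
    c * formOfGram id (gramMatrix f₁ ⊗ₖ gramMatrix f₂) x y

variable {Q : (Fin n → F) → F} {e : Fin n ≃ Fin 2 × Fin n₂} {P : GL (Fin n) F}
  {f₁ : (Fin 2 → F) → (Fin 2 → F) → F} {f₂ : (Fin n₂ → F) → (Fin n₂ → F) → F} {c : F}

theorem X4Ctx.polar_pt (C : X4Ctx Q e P f₁ f₂ c) (x x' : Fin 2 → F) (w w' : Fin n₂ → F) :
    QuadraticMap.polar Q (tau e P (pt x w)) (tau e P (pt x' w')) = c * (f₁ x x' * f₂ w w') := by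
  rw [C.hB, gram_pt id (fun _ _ => rfl), ← x4_bilin_eq_formOfGram f₁ C.hf₁.bilinear,
    ← x4_bilin_eq_formOfGram f₂ C.hf₂.bilinear]

theorem X4Ctx.two_mul_Q (C : X4Ctx Q e P f₁ f₂ c) (v : Fin n → F) :
    2 * Q v = QuadraticMap.polar Q v v := by
  have h := C.hQ.smul 2 v
  have hv : v + v = (2 : F) • v := by rw [two_smul]
  unfold QuadraticMap.polar
  rw [hv, h]
  ring

theorem X4Ctx.Q_eq_zero (C : X4Ctx Q e P f₁ f₂ c) (v : Fin n → F)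
    (h : QuadraticMap.polar Q v v = 0) : Q v = 0 := by
  have h1 := C.two_mul_Q v
  rw [h] at h1
  rcases mul_eq_zero.1 h1 with h | h
  · exact absurd h C.h2
  · exact h

theorem polar_isom {Q : (Fin n → F) → F} (g : GL (Fin n) F) (hg : g ∈ isometryGroup F Q)
    (u v : Fin n → F) :
    QuadraticMap.polar Q ((g : Matrix (Fin n) (Fin n) F) *ᵥ u) ((g : Matrix (Fin n) (Fin n) F) *ᵥ v) =
      QuadraticMap.polar Q u v := by
  have h : ∀ w, Q ((g : Matrix (Fin n) (Fin n) F) *ᵥ w) = Q w := fun w => hg w w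
  unfold QuadraticMap.polar
  rw [← Matrix.mulVec_add, h, h, h]

/-- the first Kronecker factor of an isometry is a similarity of `f₁`. -/
theorem X4Ctx.similarity (C : X4Ctx Q e P f₁ f₂ c) (a : GL (Fin 2) F) (b : GL (Fin n₂) F)
    (g₀ : GL (Fin 2 × Fin n₂) F)
    (hg₀ : (g₀ : Matrix (Fin 2 × Fin n₂) (Fin 2 × Fin n₂) F) =
      (a : Matrix (Fin 2) (Fin 2) F) ⊗ₖ (b : Matrix (Fin n₂) (Fin n₂) F))
    (hg : (MulAut.conj P (glReindex e.symm g₀) : GL (Fin n) F) ∈ isometryGroup F Q) :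
    ∃ lam : F, lam ≠ 0 ∧ ∀ x x' : Fin 2 → F,
      f₁ ((a : Matrix (Fin 2) (Fin 2) F) *ᵥ x) ((a : Matrix (Fin 2) (Fin 2) F) *ᵥ x') = lam * f₁ x x' := by
  have key : ∀ (x x' : Fin 2 → F) (w w' : Fin n₂ → F),
      f₁ ((a : Matrix (Fin 2) (Fin 2) F) *ᵥ x) ((a : Matrix (Fin 2) (Fin 2) F) *ᵥ x') *
        f₂ ((b : Matrix (Fin n₂) (Fin n₂) F) *ᵥ w) ((b : Matrix (Fin n₂) (Fin n₂) F) *ᵥ w') =
      f₁ x x' * f₂ w w' := by
    intro x x' w w'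
    have h := polar_isom _ hg (tau e P (pt x w)) (tau e P (pt x' w'))
    rw [conj_tau e P a b g₀ hg₀, conj_tau e P a b g₀ hg₀, kron_pt, kron_pt, C.polar_pt,
      C.polar_pt] at h
    exact mul_left_cancel₀ C.hc h
  -- choose witnesses
  have hw₀ : (Pi.single (⟨0, C.hn₂⟩ : Fin n₂) (1 : F) : Fin n₂ → F) ≠ 0 := by
    intro h
    have := congrFun h ⟨0, C.hn₂⟩
    simp at this
  obtain ⟨w₀', hφ⟩ := (C.hf₂.nondegenerate _ hw₀).2
  have hx₀ : (Pi.single (0 : Fin 2) (1 : F) : Fin 2 → F) ≠ 0 := by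
    intro h
    have := congrFun h 0
    simp at this
  obtain ⟨x₀', hx₀'⟩ := (C.hf₁.nondegenerate _ hx₀).2
  set w₀ : Fin n₂ → F := Pi.single (⟨0, C.hn₂⟩ : Fin n₂) (1 : F) with hw₀def
  set φ := f₂ w₀ w₀' with hφdef
  set ψ := f₂ ((b : Matrix (Fin n₂) (Fin n₂) F) *ᵥ w₀) ((b : Matrix (Fin n₂) (Fin n₂) F) *ᵥ w₀')
    with hψdef
  have hψ : ψ ≠ 0 := by
    intro h0
    have h := key (Pi.single 0 1) x₀' w₀ w₀'
    rw [← hψdef, h0, mul_zero] at h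
    exact (mul_ne_zero hx₀' hφ) h.symm
  refine ⟨φ * ψ⁻¹, mul_ne_zero hφ (inv_ne_zero hψ), fun x x' => ?_⟩
  have h := key x x' w₀ w₀'
  rw [← hψdef, ← hφdef] at h
  calc f₁ ((a : Matrix (Fin 2) (Fin 2) F) *ᵥ x) ((a : Matrix (Fin 2) (Fin 2) F) *ᵥ x')
      = f₁ ((a : Matrix (Fin 2) (Fin 2) F) *ᵥ x) ((a : Matrix (Fin 2) (Fin 2) F) *ᵥ x') * ψ * ψ⁻¹ := by
        rw [mul_assoc, mul_inv_cancel₀ hψ, mul_one]
    _ = φ * ψ⁻¹ * f₁ x x' := by rw [h]; ring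

/-- the explicit coordinates of `f₁`. -/
theorem X4Ctx.f₁_eq_q2 (C : X4Ctx Q e P f₁ f₂ c) (u v : Fin 2 → F) :
    f₁ u v = q2 (f₁ (Pi.single 0 1) (Pi.single 0 1)) (f₁ (Pi.single 0 1) (Pi.single 1 1))
      (f₁ (Pi.single 1 1) (Pi.single 1 1)) u v :=
  bilin_eq_q2 f₁ C.hf₁.bilinear C.hf₁.symm u v

theorem X4Ctx.card_eq (_C : X4Ctx Q e P f₁ f₂ c) : n = 2 * n₂ := by
  have h := Fintype.card_congr e
  simpa using h

theorem mulVec_injective_of_GL {k : ℕ} (a : GL (Fin k) F) (x y : Fin k → F)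
    (h : (a : Matrix (Fin k) (Fin k) F) *ᵥ x = (a : Matrix (Fin k) (Fin k) F) *ᵥ y) : x = y := by
  have h1 := congrArg (fun v => ((a⁻¹ : GL (Fin k) F) : Matrix (Fin k) (Fin k) F) *ᵥ v) h
  simpa [Matrix.mulVec_mulVec, ← Units.val_mul] using h1

theorem mulVec_surjective_of_GL {k : ℕ} (a : GL (Fin k) F) (y : Fin k → F) :
    ∃ x, (a : Matrix (Fin k) (Fin k) F) *ᵥ x = y :=
  ⟨((a⁻¹ : GL (Fin k) F) : Matrix (Fin k) (Fin k) F) *ᵥ y, by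
    simp [Matrix.mulVec_mulVec, ← Units.val_mul]⟩

end Ctx

end Cfsg.Agent.Lib.Helper61.O12
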