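import Mathlib
import Cfsg.Prelude.Def_GeometricClasses
import Cfsg.Agent.Lib.Helper11.TensorPlumb
import Cfsg.Agent.Lib.Helper18.SLMaxX5
import Cfsg.Agent.Lib.Helper61.O12X4S2c

/-!
# K-O12-X4S2, part d: the isotropic case (helper61)
-/

set_option autoImplicit false

namespace Cfsg.Agent.Lib.Helper61.O12

open Cfsg Cfsg.Geo Matrix
open scoped Kronecker MatrixGroups
open Cfsg.Agent.Lib.Helper11.TensorPlumb

section CaseA

variable {F : Type*} [Field F] {n n₂ : ℕ}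

/-- the linear map `w ↦ τ (x ⊗ w)`. -/
def Lmap (e : Fin n ≃ Fin 2 × Fin n₂) (P : GL (Fin n) F) (x : Fin 2 → F) :
    (Fin n₂ → F) →ₗ[F] (Fin n → F) where
  toFun w := tau e P (pt x w)
  map_add' w w' := by rw [pt_add_right, tau_add]
  map_smul' t w := by rw [pt_smul_right, tau_smul]; rfl

/-- the subspace `τ (x ⊗ F^n₂)`. -/
def Dsub (e : Fin n ≃ Fin 2 × Fin n₂) (P : GL (Fin n) F) (x : Fin 2 → F) :
    Submodule F (Fin n → F) := LinearMap.range (Lmap e P x)

theorem mem_Dsub (e : Fin n ≃ Fin 2 × Fin n₂) (P : GL (Fin n) F) (x : Fin 2 → F) (v : Fin n → F) :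
    v ∈ Dsub e P x ↔ ∃ w, tau e P (pt x w) = v := LinearMap.mem_range

theorem Dsub_smul (e : Fin n ≃ Fin 2 × Fin n₂) (P : GL (Fin n) F) (t : F) (ht : t ≠ 0)
    (x : Fin 2 → F) : Dsub e P (t • x) = Dsub e P x := by
  ext v
  rw [mem_Dsub, mem_Dsub]
  constructor
  · rintro ⟨w, rfl⟩
    exact ⟨t • w, by rw [pt_smul_left, pt_smul_right]⟩
  · rintro ⟨w, rfl⟩
    exact ⟨t⁻¹ • w, by rw [pt_smul_left, pt_smul_right, smul_smul, mul_inv_cancel₀ ht, one_smul]⟩

theorem Dsub_map (e : Fin n ≃ Fin 2 × Fin n₂) (P : GL (Fin n) F) (a : GL (Fin 2) F)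
    (b : GL (Fin n₂) F) (g₀ : GL (Fin 2 × Fin n₂) F)
    (hg₀ : (g₀ : Matrix (Fin 2 × Fin n₂) (Fin 2 × Fin n₂) F) =
      (a : Matrix (Fin 2) (Fin 2) F) ⊗ₖ (b : Matrix (Fin n₂) (Fin n₂) F)) (x : Fin 2 → F) :
    (Dsub e P x).map (Matrix.toLin'
      ((MulAut.conj P (glReindex e.symm g₀) : GL (Fin n) F) : Matrix (Fin n) (Fin n) F)) =
      Dsub e P ((a : Matrix (Fin 2) (Fin 2) F) *ᵥ x) := by
  ext v
  rw [Submodule.mem_map]
  constructor
  · rintro ⟨u, hu, rfl⟩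
    obtain ⟨w, rfl⟩ := (mem_Dsub e P x u).1 hu
    rw [Matrix.toLin'_apply, conj_tau e P a b g₀ hg₀, kron_pt]
    exact (mem_Dsub e P _ _).2 ⟨_, rfl⟩
  · intro hv
    obtain ⟨w, rfl⟩ := (mem_Dsub e P _ v).1 hv
    obtain ⟨w', rfl⟩ := mulVec_surjective_of_GL b w
    refine ⟨tau e P (pt x w'), (mem_Dsub e P x _).2 ⟨w', rfl⟩, ?_⟩
    rw [Matrix.toLin'_apply, conj_tau e P a b g₀ hg₀, kron_pt]

theorem finrank_Dsub (e : Fin n ≃ Fin 2 × Fin n₂) (P : GL (Fin n) F) (x : Fin 2 → F)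
    (hx : x ≠ 0) : Module.finrank F (Dsub e P x) = n₂ := by
  have hinj : Function.Injective (Lmap e P x) := by
    intro w w' h
    have h1 : pt x w = pt x w' := tau_inj e P _ _ h
    obtain ⟨i, hi⟩ : ∃ i, x i ≠ 0 := by
      by_contra hcon
      apply hx
      funext i
      by_contra hi
      exact hcon ⟨i, hi⟩
    ext j
    have h2 := congrFun h1 (i, j)
    simp only [pt] at h2
    exact mul_left_cancel₀ hi h2
  unfold Dsub
  rw [LinearMap.finrank_range_of_inj hinj, Module.finrank_fintype_fun_eq_card, Fintype.card_fin]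

variable {Q : (Fin n → F) → F} {e : Fin n ≃ Fin 2 × Fin n₂} {P : GL (Fin n) F}
  {f₁ : (Fin 2 → F) → (Fin 2 → F) → F} {f₂ : (Fin n₂ → F) → (Fin n₂ → F) → F} {c : F}

theorem X4Ctx.Dsub_tsing (C : X4Ctx Q e P f₁ f₂ c) (x : Fin 2 → F) (hx : f₁ x x = 0) :
    IsTotallySingularQuad Q (Dsub e P x) := by
  intro v hv
  obtain ⟨w, rfl⟩ := (mem_Dsub e P x v).1 hv
  apply C.Q_eq_zero
  rw [C.polar_pt, hx, zero_mul, mul_zero]

theorem X4Ctx.Dsub_disjoint (C : X4Ctx Q e P f₁ f₂ c) (a b : Fin 2 → F) (haa : f₁ a a = 0)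
    (hab : f₁ a b ≠ 0) : Disjoint (Dsub e P a) (Dsub e P b) := by
  rw [Submodule.disjoint_def]
  intro v hva hvb
  obtain ⟨w, rfl⟩ := (mem_Dsub e P a v).1 hva
  obtain ⟨w', hw'⟩ := (mem_Dsub e P b _).1 hvb
  have hw0 : w' = 0 := by
    by_contra hne
    obtain ⟨y, hy⟩ := (C.hf₂.nondegenerate w' hne).2
    have h1 := C.polar_pt b a w' y
    rw [hw', C.polar_pt, haa, zero_mul, mul_zero] at h1
    have hba : f₁ b a ≠ 0 := by rw [C.hf₁.symm]; exact hab
    exact (mul_ne_zero C.hc (mul_ne_zero hba hy)) h1.symm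
  rw [← hw', hw0]
  have : pt b (0 : Fin n₂ → F) = 0 := by
    ext q; simp [pt]
  rw [this, tau_zero]

theorem X4Ctx.det_ne_zero (C : X4Ctx Q e P f₁ f₂ c) (a b : Fin 2 → F) (haa : f₁ a a = 0)
    (hab : f₁ a b ≠ 0) : a 0 * b 1 - a 1 * b 0 ≠ 0 := by
  intro hD
  have h := q2_gram (f₁ (Pi.single 0 1) (Pi.single 0 1)) (f₁ (Pi.single 0 1) (Pi.single 1 1))
      (f₁ (Pi.single 1 1) (Pi.single 1 1)) a b
  rw [← C.f₁_eq_q2, ← C.f₁_eq_q2, ← C.f₁_eq_q2, haa, hD] at h
  have h2 : f₁ a b ^ 2 = 0 := by linear_combination -h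
  exact hab (pow_eq_zero_iff (by norm_num) |>.1 h2)

/-- the isotropic vectors are the multiples of `a` and `b`. -/
theorem X4Ctx.isotropic_cases (C : X4Ctx Q e P f₁ f₂ c) (a b : Fin 2 → F) (haa : f₁ a a = 0)
    (hbb : f₁ b b = 0) (hab : f₁ a b ≠ 0) (u : Fin 2 → F) (hu : u ≠ 0) (huu : f₁ u u = 0) :
    (∃ t : F, t ≠ 0 ∧ u = t • a) ∨ (∃ t : F, t ≠ 0 ∧ u = t • b) := by
  have hD := C.det_ne_zero a b haa hab
  have hfr := frame2 a b u hD
  set x := (u 0 * b 1 - u 1 * b 0) * (a 0 * b 1 - a 1 * b 0)⁻¹ with hx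
  set y := (a 0 * u 1 - a 1 * u 0) * (a 0 * b 1 - a 1 * b 0)⁻¹ with hy
  have hB := C.hf₁.bilinear
  have hgen : ∀ x' y' : F, f₁ (x' • a + y' • b) (x' • a + y' • b) = 2 * (x' * y' * f₁ a b) := by
    intro x' y'
    simp only [hB.add_left, hB.add_right, hB.smul_left, hB.smul_right]
    rw [haa, hbb, C.hf₁.symm b a]
    ring
  have hexp : f₁ u u = 2 * (x * y * f₁ a b) := by
    have := hgen x y
    rwa [← hfr] at this
  rw [huu] at hexp
  have hxy : x * y = 0 := by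
    rcases mul_eq_zero.1 hexp.symm with h | h
    · exact absurd h C.h2
    · rcases mul_eq_zero.1 h with h | h
      · exact h
      · exact absurd h hab
  rcases mul_eq_zero.1 hxy with h0 | h0
  · right
    refine ⟨y, ?_, ?_⟩
    · intro hy0
      apply hu
      rw [hfr, h0, hy0, zero_smul, zero_smul, add_zero]
    · rw [hfr, h0, zero_smul, zero_add]
  · left
    refine ⟨x, ?_, ?_⟩
    · intro hx0
      apply hu
      rw [hfr, h0, hx0, zero_smul, zero_smul, add_zero]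
    · rw [hfr, h0, zero_smul, add_zero]

/-- the isotropic case of K-O12-X4S2. -/
theorem X4Ctx.caseA (C : X4Ctx Q e P f₁ f₂ c) (a b : Fin 2 → F) (haa : f₁ a a = 0)
    (hbb : f₁ b b = 0) (hab : f₁ a b ≠ 0) :
    ∃ D : Fin 2 → Submodule F (Fin n → F), IsMDecomposition n₂ D ∧
      (∀ i, IsTotallySingularQuad Q (D i)) ∧
      tensorProductSubgroup 2 n₂ e P ⊓ isometryGroup F Q ≤ decompositionStabilizer D := by
  have hBil := C.hf₁.bilinear
  have ha0 : a ≠ 0 := by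
    rintro rfl; exact hab (x4_zero_left f₁ hBil b)
  have hb0 : b ≠ 0 := by
    rintro rfl; exact hab (x4_zero_right f₁ hBil a)
  have hdisj := C.Dsub_disjoint a b haa hab
  refine ⟨![Dsub e P a, Dsub e P b], ⟨le_refl 2, C.hn₂, ?_, ?_, ?_⟩, ?_, ?_⟩
  · intro i
    fin_cases i
    · exact finrank_Dsub e P a ha0
    · exact finrank_Dsub e P b hb0
  · rw [iSupIndep_pair (i := (0 : Fin 2)) (j := 1) (by decide)
      (by intro k; fin_cases k <;> simp)]
    exact hdisj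
  · have hsup : iSup ![Dsub e P a, Dsub e P b] = Dsub e P a ⊔ Dsub e P b := by
      apply le_antisymm
      · apply iSup_le
        intro i
        fin_cases i
        · exact le_sup_left
        · exact le_sup_right
      · exact sup_le (le_iSup ![Dsub e P a, Dsub e P b] 0) (le_iSup ![Dsub e P a, Dsub e P b] 1)
    rw [hsup]
    apply Submodule.eq_top_of_finrank_eq
    have h := Submodule.finrank_sup_add_finrank_inf_eq (Dsub e P a) (Dsub e P b)
    rw [disjoint_iff.1 hdisj, finrank_bot, finrank_Dsub e P a ha0, finrank_Dsub e P b hb0] at h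
    rw [Module.finrank_fintype_fun_eq_card, Fintype.card_fin]
    have hc := C.card_eq
    omega
  · intro i
    fin_cases i
    · exact C.Dsub_tsing a haa
    · exact C.Dsub_tsing b hbb
  · rintro g ⟨hgT, hgI⟩
    obtain ⟨_, ⟨g₀, ⟨a', b', hg₀⟩, rfl⟩, rfl⟩ := hgT
    have hgeq : (MulAut.conj P).toMonoidHom ((glReindex e.symm).toMonoidHom g₀) =
        MulAut.conj P (glReindex e.symm g₀) := rfl
    rw [hgeq] at hgI ⊢
    obtain ⟨lam, hlam, hsim⟩ := C.similarity a' b' g₀ hg₀ hgI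
    have hne : ∀ x : Fin 2 → F, x ≠ 0 → (a' : Matrix (Fin 2) (Fin 2) F) *ᵥ x ≠ 0 := by
      intro x hx h0
      apply hx
      apply mulVec_injective_of_GL a'
      rw [h0, Matrix.mulVec_zero]
    have hia : f₁ ((a' : Matrix (Fin 2) (Fin 2) F) *ᵥ a) ((a' : Matrix (Fin 2) (Fin 2) F) *ᵥ a) = 0 := by
      rw [hsim, haa, mul_zero]
    have hib : f₁ ((a' : Matrix (Fin 2) (Fin 2) F) *ᵥ b) ((a' : Matrix (Fin 2) (Fin 2) F) *ᵥ b) = 0 := by
      rw [hsim, hbb, mul_zero]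
    -- no collapse
    have hcontra : ∀ t t' : F, t' ≠ 0 → t' • a = t • b → False := by
      intro t t' ht' h
      have h1 : f₁ (t' • a) b = f₁ (t • b) b := by rw [h]
      rw [hBil.smul_left, hBil.smul_left, hbb, mul_zero] at h1
      exact (mul_ne_zero ht' hab) h1
    have hmap := Dsub_map e P a' b' g₀ hg₀
    rcases C.isotropic_cases a b haa hbb hab _ (hne a ha0) hia with ⟨t, ht, h1⟩ | ⟨t, ht, h1⟩ <;>
      rcases C.isotropic_cases a b haa hbb hab _ (hne b hb0) hib with ⟨t', ht', h2⟩ | ⟨t', ht', h2⟩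
    · exfalso
      apply hcontra t t' ht'
      apply mulVec_injective_of_GL a'
      rw [Matrix.mulVec_smul, Matrix.mulVec_smul, h1, h2, smul_smul, smul_smul, mul_comm]
    · refine ⟨1, ?_⟩
      intro i
      fin_cases i
      · show (Dsub e P a).map _ = Dsub e P a
        rw [hmap, h1, Dsub_smul e P t ht]
      · show (Dsub e P b).map _ = Dsub e P b
        rw [hmap, h2, Dsub_smul e P t' ht']
    · refine ⟨Equiv.swap 0 1, ?_⟩
      intro i
      fin_cases i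
      · show (Dsub e P a).map _ = Dsub e P b
        rw [hmap, h1, Dsub_smul e P t ht]
      · show (Dsub e P b).map _ = Dsub e P a
        rw [hmap, h2, Dsub_smul e P t' ht']
    · exfalso
      apply hcontra t t' ht'
      apply mulVec_injective_of_GL a'
      rw [Matrix.mulVec_smul, Matrix.mulVec_smul, h1, h2, smul_smul, smul_smul, mul_comm]

end CaseA

end Cfsg.Agent.Lib.Helper61.O12
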