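import Mathlib
import Cfsg.Prelude.Def_GeometricClasses
import Cfsg.Agent.Lib.Helper11.TensorPlumb
import Cfsg.Agent.Lib.Helper18.SLMaxX5
import Cfsg.Agent.Lib.Helper61.O12X4S2c

/-!
# K-O12-X4S2, part e: the anisotropic case (helper61)
-/

set_option autoImplicit false

namespace Cfsg.Agent.Lib.Helper61.O12

open Cfsg Cfsg.Geo Matrix
open scoped Kronecker MatrixGroups
open Cfsg.Agent.Lib.Helper11.TensorPlumb
open Cfsg.Agent.Lib.Helper18.SLMax (Phi Phi_add Phi_smul Phi_one Phi_mul Phi_inj Phi_conj Phi_zero)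

section CaseB

variable {F : Type*} [Field F] {n n₂ : ℕ}

/-- the subalgebra `P (F[J] ⊗ 1) P⁻¹`. -/
def KJ (e : Fin n ≃ Fin 2 × Fin n₂) (P : GL (Fin n) F) (p r s : F) :
    Subalgebra F (Matrix (Fin n) (Fin n) F) where
  carrier := {M | ∃ x y : F, M = Phi e P (E2 p r s x y)}
  mul_mem' := by
    rintro _ _ ⟨x, y, rfl⟩ ⟨x', y', rfl⟩
    exact ⟨_, _, by rw [← Phi_mul, E2_mul]⟩
  one_mem' := ⟨1, 0, by rw [E2_one, Phi_one]⟩
  add_mem' := by
    rintro _ _ ⟨x, y, rfl⟩ ⟨x', y', rfl⟩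
    exact ⟨_, _, by rw [← Phi_add, E2_add]⟩
  zero_mem' := ⟨0, 0, by rw [E2_zero, Phi_zero]⟩
  algebraMap_mem' := fun t => ⟨t, 0, by
    rw [Algebra.algebraMap_eq_smul_one, ← Phi_one e P, ← Phi_smul, ← E2_one p r s, E2_smul]
    simp⟩

theorem mem_KJ (e : Fin n ≃ Fin 2 × Fin n₂) (P : GL (Fin n) F) (p r s : F)
    (M : Matrix (Fin n) (Fin n) F) :
    M ∈ KJ e P p r s ↔ ∃ x y : F, M = Phi e P (E2 p r s x y) := Iff.rfl

theorem E2_eq (p r s x y : F) :
    E2 p r s x y = x • (1 : Matrix (Fin 2) (Fin 2) F) + y • E2 p r s 0 1 := by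
  rw [E2_J]; rfl

theorem KJ_isField (e : Fin n ≃ Fin 2 × Fin n₂) (P : GL (Fin n) F) (p r s : F)
    (h2 : (2 : F) ≠ 0) (hΔ : ¬ IsSquare (r ^ 2 - p * s)) (hn₂ : 1 ≤ n₂) :
    IsFieldSubalgebra 2 (KJ e P p r s) := by
  have hΔ0 : r ^ 2 - p * s ≠ 0 := by
    intro h
    apply hΔ
    rw [h]
    exact ⟨0, by simp⟩
  refine ⟨?_, ?_, ?_⟩
  · rintro _ ⟨x, y, rfl⟩ _ ⟨x', y', rfl⟩
    rw [← Phi_mul, ← Phi_mul, E2_mul, E2_mul]
    congr 2 <;> ring
  · rintro _ ⟨x, y, rfl⟩ hne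
    have hN : x ^ 2 - (r ^ 2 - p * s) * y ^ 2 ≠ 0 := by
      intro hN
      by_cases hy : y = 0
      · subst hy
        have hx : x = 0 := by
          have : x ^ 2 = 0 := by linear_combination hN
          exact pow_eq_zero_iff (by norm_num) |>.1 this
        subst hx
        apply hne
        rw [E2_zero, Phi_zero]
      · apply hΔ
        refine ⟨x * y⁻¹, ?_⟩
        have hyi : y * y⁻¹ = 1 := mul_inv_cancel₀ hy
        have : (r ^ 2 - p * s) = (r ^ 2 - p * s) * (y * y⁻¹) ^ 2 := by rw [hyi]; ring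
        rw [this]
        linear_combination (-(y⁻¹) ^ 2) * hN
    set N := x ^ 2 - (r ^ 2 - p * s) * y ^ 2 with hNdef
    refine ⟨Phi e P (E2 p r s (x * N⁻¹) (-y * N⁻¹)), ⟨_, _, rfl⟩, ?_⟩
    rw [← Phi_mul, E2_mul]
    have h1 : x * (x * N⁻¹) + (r ^ 2 - p * s) * (y * (-y * N⁻¹)) = 1 := by
      have hNi : N * N⁻¹ = 1 := mul_inv_cancel₀ hN
      rw [hNdef] at hNi ⊢
      linear_combination hNi
    have h0 : x * (-y * N⁻¹) + y * (x * N⁻¹) = 0 := by ring
    rw [h1, h0, E2_one, Phi_one]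
  · have hspan : Subalgebra.toSubmodule (KJ e P p r s) =
        Submodule.span F (Set.range ![(1 : Matrix (Fin n) (Fin n) F), Phi e P (E2 p r s 0 1)]) := by
      have hr : Set.range ![(1 : Matrix (Fin n) (Fin n) F), Phi e P (E2 p r s 0 1)] =
          {1, Phi e P (E2 p r s 0 1)} := by
        ext M
        simp only [Matrix.range_cons, Matrix.range_empty, Set.union_empty, Set.mem_union,
          Set.mem_singleton_iff, Set.mem_insert_iff]
      rw [hr]
      ext M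
      rw [Subalgebra.mem_toSubmodule, mem_KJ, Submodule.mem_span_pair]
      constructor
      · rintro ⟨x, y, rfl⟩
        refine ⟨x, y, ?_⟩
        rw [← Phi_one e P, ← Phi_smul, ← Phi_smul, ← Phi_add, ← E2_eq]
      · rintro ⟨x, y, rfl⟩
        refine ⟨x, y, ?_⟩
        rw [← Phi_one e P, ← Phi_smul, ← Phi_smul, ← Phi_add, ← E2_eq]
    have hli : LinearIndependent F ![(1 : Matrix (Fin n) (Fin n) F), Phi e P (E2 p r s 0 1)] := by
      rw [LinearIndependent.pair_iff]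
      intro x y hxy
      rw [← Phi_one e P, ← Phi_smul, ← Phi_smul, ← Phi_add, ← E2_eq] at hxy
      have h0 := Phi_inj hn₂ e P _ hxy
      exact E2_inj p r s x y h2 hΔ0 h0
    rw [← Subalgebra.finrank_toSubmodule, hspan, finrank_span_eq_card hli]
    simp

theorem E2_adj (p r s x y : F) (G : Matrix (Fin 2) (Fin 2) F) (h00 : G 0 0 = p) (h01 : G 0 1 = r)
    (h10 : G 1 0 = r) (h11 : G 1 1 = s) :
    (E2 p r s x y)ᵀ * G = G * E2 p r s x (-y) := by
  ext i j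
  fin_cases i <;> fin_cases j <;>
    simp [E2, J2, Matrix.mul_apply, Fin.sum_univ_two, h00, h01, h10, h11] <;> ring

variable {Q : (Fin n → F) → F} {e : Fin n ≃ Fin 2 × Fin n₂} {P : GL (Fin n) F}
  {f₁ : (Fin 2 → F) → (Fin 2 → F) → F} {f₂ : (Fin n₂ → F) → (Fin n₂ → F) → F} {c : F}

/-- `Phi (x - y J)` is the adjoint of `Phi (x + y J)`. -/
theorem X4Ctx.adj (C : X4Ctx Q e P f₁ f₂ c) (x y : F) (u v : Fin n → F) :
    QuadraticMap.polar Q (Phi e P (E2 (f₁ (Pi.single 0 1) (Pi.single 0 1))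
        (f₁ (Pi.single 0 1) (Pi.single 1 1)) (f₁ (Pi.single 1 1) (Pi.single 1 1)) x y) *ᵥ u) v =
      QuadraticMap.polar Q u (Phi e P (E2 (f₁ (Pi.single 0 1) (Pi.single 0 1))
        (f₁ (Pi.single 0 1) (Pi.single 1 1)) (f₁ (Pi.single 1 1) (Pi.single 1 1)) x (-y)) *ᵥ v) := by
  obtain ⟨z, rfl⟩ := tau_surj e P u
  obtain ⟨z', rfl⟩ := tau_surj e P v
  rw [Phi_tau, Phi_tau, C.hB, C.hB]
  congr 1
  apply kron_adjoint
  apply E2_adj
  · rfl
  · rfl
  · show f₁ (Pi.single 1 1) (Pi.single 0 1) = f₁ (Pi.single 0 1) (Pi.single 1 1)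
    exact C.hf₁.symm _ _
  · rfl

theorem X4Ctx.polar_smul_right (C : X4Ctx Q e P f₁ f₂ c) (t : F) (u v : Fin n → F) :
    QuadraticMap.polar Q u (t • v) = t * QuadraticMap.polar Q u v :=
  C.hQ.polar_bilinear.smul_right t u v

theorem mulVec_eq_zero_imp {k : Matrix (Fin n) (Fin n) F} (h : ∀ v : Fin n → F, k *ᵥ v = 0) :
    k = 0 := by
  ext i j
  have := congrFun (h (Pi.single j 1)) i
  simpa using this

/-- the anisotropic case of K-O12-X4S2. -/
theorem X4Ctx.caseB (C : X4Ctx Q e P f₁ f₂ c)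
    (han : ∀ u : Fin 2 → F, u ≠ 0 → f₁ u u ≠ 0) :
    ∃ K : Subalgebra F (Matrix (Fin n) (Fin n) F), IsFieldSubalgebra 2 K ∧
      IsAdjointClosedFor (QuadraticMap.polar Q) K ∧ ¬ IsSelfAdjointFor (QuadraticMap.polar Q) K ∧
      (∀ k ∈ K, ∃ c' : F, ∀ v : Fin n → F, Q (k *ᵥ v) = c' * Q v) ∧
      tensorProductSubgroup 2 n₂ e P ⊓ isometryGroup F Q ≤ subalgebraNormalizer K := by
  set p := f₁ (Pi.single 0 1) (Pi.single 0 1) with hp
  set r := f₁ (Pi.single 0 1) (Pi.single 1 1) with hr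
  set s := f₁ (Pi.single 1 1) (Pi.single 1 1) with hs
  have hq2 : ∀ u v, f₁ u v = q2 p r s u v := C.f₁_eq_q2
  have hΔ : ¬ IsSquare (r ^ 2 - p * s) := by
    apply not_isSquare_of_aniso
    intro u hu
    rw [← hq2]
    exact han u hu
  have hΔ0 : r ^ 2 - p * s ≠ 0 := by
    intro h
    apply hΔ
    rw [h]
    exact ⟨0, by simp⟩
  have hn₂ : 1 ≤ n₂ := C.hn₂
  refine ⟨KJ e P p r s, KJ_isField e P p r s C.h2 hΔ hn₂, ?_, ?_, ?_, ?_⟩
  · -- adjoint closed
    rintro _ ⟨x, y, rfl⟩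
    exact ⟨Phi e P (E2 p r s x (-y)), ⟨x, -y, rfl⟩, fun u v => C.adj x y u v⟩
  · -- not self-adjoint
    intro hself
    have hk : Phi e P (E2 p r s 0 1) ∈ KJ e P p r s := ⟨0, 1, rfl⟩
    have hneg : Phi e P (E2 p r s 0 (-1)) = (-1 : F) • Phi e P (E2 p r s 0 1) := by
      rw [← Phi_smul, E2_smul]
      congr 2 <;> ring
    have hzero : ∀ u v : Fin n → F,
        QuadraticMap.polar Q u (Phi e P (E2 p r s 0 1) *ᵥ v) = 0 := by
      intro u v
      have h1 := hself _ hk u v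
      have h2 := C.adj 0 1 u v
      rw [hneg, Matrix.smul_mulVec, C.polar_smul_right] at h2
      have h3 : 2 * QuadraticMap.polar Q u (Phi e P (E2 p r s 0 1) *ᵥ v) = 0 := by
        linear_combination h2 - h1
      rcases mul_eq_zero.1 h3 with h | h
      · exact absurd h C.h2
      · exact h
    have hk0 : Phi e P (E2 p r s 0 1) = 0 := by
      apply mulVec_eq_zero_imp
      intro v
      by_contra hne
      obtain ⟨x, hx⟩ := (C.hQ.nondegenerate _ hne).1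
      exact hx (hzero x v)
    have h0 := Phi_inj hn₂ e P _ hk0
    have := (E2_inj p r s 0 1 C.h2 hΔ0 h0).2
    exact one_ne_zero this
  · -- similarities
    rintro _ ⟨x, y, rfl⟩
    refine ⟨x ^ 2 - (r ^ 2 - p * s) * y ^ 2, fun v => ?_⟩
    have h1 := C.adj x y v (Phi e P (E2 p r s x y) *ᵥ v)
    rw [Matrix.mulVec_mulVec, ← Phi_mul, E2_mul] at h1
    have hE : E2 p r s (x * x + (r ^ 2 - p * s) * (-y * y)) (x * y + -y * x) =
        (x ^ 2 - (r ^ 2 - p * s) * y ^ 2) • (1 : Matrix (Fin 2) (Fin 2) F) := by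
      rw [← E2_one p r s, E2_smul]
      congr 1 <;> ring
    rw [hE, Phi_smul, Phi_one, Matrix.smul_mulVec, Matrix.one_mulVec, C.polar_smul_right] at h1
    have h2 := C.two_mul_Q (Phi e P (E2 p r s x y) *ᵥ v)
    have h3 := C.two_mul_Q v
    have h4 : 2 * (Q (Phi e P (E2 p r s x y) *ᵥ v) - (x ^ 2 - (r ^ 2 - p * s) * y ^ 2) * Q v) = 0 := by
      linear_combination h2 + h1 - (x ^ 2 - (r ^ 2 - p * s) * y ^ 2) * h3
    rcases mul_eq_zero.1 h4 with h | h
    · exact absurd h C.h2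
    · linear_combination h
  · -- normalizer
    have claimA : ∀ g ∈ tensorProductSubgroup 2 n₂ e P ⊓ isometryGroup F Q, ∀ M ∈ KJ e P p r s,
        (g : Matrix (Fin n) (Fin n) F) * M * ((g⁻¹ : GL (Fin n) F) : Matrix (Fin n) (Fin n) F) ∈
          KJ e P p r s := by
      rintro g ⟨hgT, hgI⟩ M ⟨x, y, rfl⟩
      obtain ⟨_, ⟨g₀, ⟨a', b', hg₀⟩, rfl⟩, rfl⟩ := hgT
      have hgeq : (MulAut.conj P).toMonoidHom ((glReindex e.symm).toMonoidHom g₀) =
          MulAut.conj P (glReindex e.symm g₀) := rfl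
      rw [hgeq] at hgI ⊢
      obtain ⟨lam, hlam, hsim⟩ := C.similarity a' b' g₀ hg₀ hgI
      rw [Phi_conj e P a' b' g₀ hg₀]
      -- a' J a'⁻¹ is skew-adjoint
      have hai : ((a'⁻¹ : GL (Fin 2) F) : Matrix (Fin 2) (Fin 2) F) * (a' : Matrix (Fin 2) (Fin 2) F) = 1 :=
        Units.inv_mul a'
      have hia : (a' : Matrix (Fin 2) (Fin 2) F) * ((a'⁻¹ : GL (Fin 2) F) : Matrix (Fin 2) (Fin 2) F) = 1 :=
        Units.mul_inv a'
      have hskew : ∀ u v : Fin 2 → F,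
          q2 p r s (((a' : Matrix (Fin 2) (Fin 2) F) * J2 p r s *
            ((a'⁻¹ : GL (Fin 2) F) : Matrix (Fin 2) (Fin 2) F)) *ᵥ u) v =
          - q2 p r s u (((a' : Matrix (Fin 2) (Fin 2) F) * J2 p r s *
            ((a'⁻¹ : GL (Fin 2) F) : Matrix (Fin 2) (Fin 2) F)) *ᵥ v) := by
        intro u v
        set u' := ((a'⁻¹ : GL (Fin 2) F) : Matrix (Fin 2) (Fin 2) F) *ᵥ u with hu'
        set v' := ((a'⁻¹ : GL (Fin 2) F) : Matrix (Fin 2) (Fin 2) F) *ᵥ v with hv'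
        have hu : u = (a' : Matrix (Fin 2) (Fin 2) F) *ᵥ u' := by
          rw [hu', Matrix.mulVec_mulVec, hia, Matrix.one_mulVec]
        have hv : v = (a' : Matrix (Fin 2) (Fin 2) F) *ᵥ v' := by
          rw [hv', Matrix.mulVec_mulVec, hia, Matrix.one_mulVec]
        have e1 : ((a' : Matrix (Fin 2) (Fin 2) F) * J2 p r s *
            ((a'⁻¹ : GL (Fin 2) F) : Matrix (Fin 2) (Fin 2) F)) *ᵥ u =
            (a' : Matrix (Fin 2) (Fin 2) F) *ᵥ (J2 p r s *ᵥ u') := by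
          rw [hu', Matrix.mulVec_mulVec, Matrix.mulVec_mulVec, Matrix.mul_assoc]
        have e2 : ((a' : Matrix (Fin 2) (Fin 2) F) * J2 p r s *
            ((a'⁻¹ : GL (Fin 2) F) : Matrix (Fin 2) (Fin 2) F)) *ᵥ v =
            (a' : Matrix (Fin 2) (Fin 2) F) *ᵥ (J2 p r s *ᵥ v') := by
          rw [hv', Matrix.mulVec_mulVec, Matrix.mulVec_mulVec, Matrix.mul_assoc]
        rw [e1, e2]
        conv_lhs => rw [hv]
        conv_rhs => rw [hu]
        rw [← hq2, ← hq2, hsim, hsim, hq2, hq2, q2_J2_skew]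
        ring
      obtain ⟨t, ht⟩ := skew_eq_smul_J2 p r s C.h2 hΔ0 _ hskew
      refine ⟨x, y * t, ?_⟩
      congr 1
      unfold E2
      rw [Matrix.mul_add, Matrix.add_mul, Matrix.mul_smul, Matrix.smul_mul, Matrix.mul_one, hia,
        Matrix.mul_smul, Matrix.smul_mul, ht, smul_smul]
    intro g hg M
    constructor
    · exact claimA g hg M
    · intro h
      have h1 := claimA g⁻¹ (Subgroup.inv_mem _ hg) _ h
      rw [inv_inv] at h1
      have hgg : ((g⁻¹ : GL (Fin n) F) : Matrix (Fin n) (Fin n) F) *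
          (g : Matrix (Fin n) (Fin n) F) = 1 := Units.inv_mul g
      have e1 : ((g⁻¹ : GL (Fin n) F) : Matrix (Fin n) (Fin n) F) *
          ((g : Matrix (Fin n) (Fin n) F) * M *
            ((g⁻¹ : GL (Fin n) F) : Matrix (Fin n) (Fin n) F)) * (g : Matrix (Fin n) (Fin n) F) =
          M := by
        calc _ = (((g⁻¹ : GL (Fin n) F) : Matrix (Fin n) (Fin n) F) *
              (g : Matrix (Fin n) (Fin n) F)) * M *
              (((g⁻¹ : GL (Fin n) F) : Matrix (Fin n) (Fin n) F) *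
                (g : Matrix (Fin n) (Fin n) F)) := by simp only [Matrix.mul_assoc]
          _ = M := by rw [hgg, Matrix.one_mul, Matrix.mul_one]
      rwa [e1] at h1

end CaseB

end Cfsg.Agent.Lib.Helper61.O12
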