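import Mathlib
import Cfsg.Prelude.Def_GeometricClasses
import Cfsg.Agent.Lib.Helper61.O12X4S2d
import Cfsg.Agent.Lib.Helper61.O12X4S2e

/-!
# K-O12-X4S2 (keystone 587110, architect helper9): tensor decompositions `2 × n₂` of symmetric forms

`q` odd, `polar Q ≃ c · f₁ ⊗ f₂` with `f₁` symmetric non-degenerate on `F²`: the stabiliser of the tensor
decomposition inside the isometry group lies in the stabiliser of a pair of complementary totally singular
subspaces (`f₁` isotropic) or in the normaliser of a quadratic field of unitary type (`f₁` anisotropic).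

NOTE: the hypothesis `hn : 0 < n` is necessary (for `n = 0 = n₂` both alternatives fail).
-/

set_option autoImplicit false

namespace Cfsg.Agent.Lib.Helper61.O12

open Cfsg Cfsg.Geo Matrix
open scoped Kronecker MatrixGroups
open Cfsg.Agent.Lib.Helper11.TensorPlumb

variable {F : Type*} [Field F] {n : ℕ}

/-- K-O12-X4S2 (587110). -/
theorem tensor_symm_two_le (Q : (Fin n → F) → F) (hQ : IsNondegenerateQuadraticForm Q)
    (hn : 0 < n)
    (h2 : (2 : F) ≠ 0) (n₂ : ℕ) (e : Fin n ≃ Fin 2 × Fin n₂) (P : GL (Fin n) F)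
    (f₁ : (Fin 2 → F) → (Fin 2 → F) → F) (f₂ : (Fin n₂ → F) → (Fin n₂ → F) → F)
    (hf₁ : IsSymmetricForm f₁) (hf₂ : IsSymmetricForm f₂)
    (hT : IsTensorFormStructure id (QuadraticMap.polar Q) f₁ f₂ e P) :
    (∃ D : Fin 2 → Submodule F (Fin n → F), IsMDecomposition n₂ D ∧ (∀ i, IsTotallySingularQuad Q (D i)) ∧
      tensorProductSubgroup 2 n₂ e P ⊓ isometryGroup F Q ≤ decompositionStabilizer D) ∨
    (∃ K : Subalgebra F (Matrix (Fin n) (Fin n) F), IsFieldSubalgebra 2 K ∧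
      IsAdjointClosedFor (QuadraticMap.polar Q) K ∧ ¬ IsSelfAdjointFor (QuadraticMap.polar Q) K ∧
      (∀ k ∈ K, ∃ c : F, ∀ v : Fin n → F, Q (k *ᵥ v) = c * Q v) ∧
      tensorProductSubgroup 2 n₂ e P ⊓ isometryGroup F Q ≤ subalgebraNormalizer K) := by
  obtain ⟨c, hc, hB⟩ := hT
  have hn₂ : 0 < n₂ := by
    have h := Fintype.card_congr e
    simp at h
    omega
  have C : X4Ctx Q e P f₁ f₂ c := ⟨hQ, h2, hn₂, hf₁, hf₂, hc, hB⟩
  by_cases hiso : ∃ u : Fin 2 → F, u ≠ 0 ∧ f₁ u u = 0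
  · left
    obtain ⟨a, ha0, haa⟩ := hiso
    obtain ⟨u', hu'⟩ := (hf₁.nondegenerate a ha0).2
    have hB₁ := hf₁.bilinear
    set t : F := -(f₁ u' u' * (2 * f₁ a u')⁻¹) with ht
    have hab : f₁ a (u' + t • a) ≠ 0 := by
      rw [hB₁.add_right, hB₁.smul_right, haa, mul_zero, add_zero]
      exact hu'
    have hbb : f₁ (u' + t • a) (u' + t • a) = 0 := by
      simp only [hB₁.add_left, hB₁.add_right, hB₁.smul_left, hB₁.smul_right]
      rw [haa, hf₁.symm u' a]
      have h2a : (2 * f₁ a u') * (2 * f₁ a u')⁻¹ = 1 := mul_inv_cancel₀ (mul_ne_zero h2 hu')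
      rw [ht]
      linear_combination (-(f₁ u' u')) * h2a
    exact C.caseA a (u' + t • a) haa hbb hab
  · right
    apply C.caseB
    intro u hu h0
    exact hiso ⟨u, hu, h0⟩

end Cfsg.Agent.Lib.Helper61.O12
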