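import Mathlib
import Cfsg.Agent.Lib.Helper16.BG1363Defs
import Cfsg.Agent.Lib.Helper55.Basic
import Cfsg.Agent.Lib.Helper36.BG1363I
import Cfsg.Agent.Lib.Helper36.BG14P2K
import Cfsg.Agent.Lib.Helper31.BG15KA
import Cfsg.Agent.Lib.Helper71.BG11a
import Cfsg.Agent.Lib.Helper90.BG14DW1
import Cfsg.Agent.Lib.Helper31.BenderFit
import Cfsg.Agent.Lib.Helper31.FitUniq
import Cfsg.Agent.Lib.Helper54.Conj
import Cfsg.Agent.S1430
import Cfsg.Agent.S1439

/-!
# Pack K-1435 (S1435 = BG Theorem 15.2, architect helper31), keystone 143511 K-1435-P7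
`NU.primes_in_sigma`: every prime divisor of `|U|` lies in `σ(H)`.
-/

set_option autoImplicit false
set_option linter.unusedVariables false

namespace Cfsg.Agent.Lib.Helper61.BG1435

open Cfsg Subgroup Cfsg.Agent.Lib.Helper55 Cfsg.Agent.Lib.Helper11.BG14D Cfsg.Agent.Lib.Helper16.BG1363

variable {G : Type*} [Group G] [Finite G]

/-- In a commutative subgroup `U`, every `s`-subgroup of `U` lies in (the image of) any Sylow
`s`-subgroup of `U`. -/
theorem le_map_sylow_of_comm {U : Subgroup G} (hab : IsMulCommutative U) {s : ℕ} [Fact s.Prime]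
    (P : Sylow s U) {T : Subgroup G} (hTU : T ≤ U) (hT : IsPGroup s T) :
    T ≤ (P : Subgroup U).map U.subtype := by
  have hPn : (P : Subgroup U).Normal := by
    refine ⟨fun n hn g => ?_⟩
    have : g * n * g⁻¹ = n := by
      rw [hab.is_comm.comm g n, mul_inv_cancel_right]
    rw [this]; exact hn
  letI := Sylow.unique_of_normal P hPn
  obtain ⟨Q, hQ⟩ := (hT.comap_subtype (K := U)).exists_le_sylow
  have hQP : Q = P := Subsingleton.elim _ _
  intro x hx
  refine ⟨⟨x, hTU hx⟩, ?_, rfl⟩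
  rw [← hQP]
  exact hQ (Subgroup.mem_subgroupOf.mpr hx)

/-- The image of a Sylow `s`-subgroup of `U` is a maximal `s`-subgroup of `M`, for `s ∣ |U|`. -/
theorem sylow_of_sylow_U (hG : IsMinSimpleOddOrder G) {M K U : Subgroup G} (hM : IsCoatom M)
    (hKU : IsSigmaDecomposition M K U) {s : ℕ} [Fact s.Prime] (hsU : s ∣ Nat.card U)
    (P : Sylow s U) :
    ∀ Q : Subgroup G, Q ≤ M → IsPGroup s Q → (P : Subgroup U).map U.subtype ≤ Q →
      Q = (P : Subgroup U).map U.subtype := by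
  have hs : s.Prime := Fact.out
  have hUM : U ≤ M := hKU.compl.1
  obtain ⟨Rs, hRsdef⟩ : ∃ Rs : Subgroup G, Rs = (P : Subgroup U).map U.subtype := ⟨_, rfl⟩
  rw [← hRsdef]
  have hRsU : Rs ≤ U := hRsdef ▸ Subgroup.map_subtype_le _
  have hRsp : IsPGroup s Rs := hRsdef ▸ P.2.map _
  intro Q hQM hQp hRQ
  obtain ⟨hsσM, hsκM⟩ :=
    Cfsg.Agent.Lib.Helper36.BG14.not_mem_of_dvd_card_U hG hM hKU.hall hKU.compl hs hsU
  have hcardM : Nat.card K * Nat.card U * Nat.card (sigmaCore M) = Nat.card M := by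
    have e1 := Cfsg.Agent.Lib.Helper31.IsComplIn.card_mul
      (Cfsg.Agent.Lib.Helper31.BG15.isComplIn_sup_of_sigmaDecomposition hG hM hKU)
    have e2 := Cfsg.Agent.Lib.Helper31.IsComplIn.card_mul
      (Cfsg.Agent.Lib.Helper31.BG15.isComplIn_kappa_of_sigmaDecomposition hKU)
    rw [← e1, ← e2]
  have hrel : U.relIndex M = Nat.card K * Nat.card (sigmaCore M) := by
    have h2 : Nat.card (U.subgroupOf M) * (U.subgroupOf M).index = Nat.card M :=
      Subgroup.card_mul_index _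
    have h3 : Nat.card (U.subgroupOf M) = Nat.card U :=
      Nat.card_congr (Subgroup.subgroupOfEquivOfLe hUM).toEquiv
    rw [h3, ← hcardM] at h2
    have h4 : 0 < Nat.card U := Nat.card_pos
    have h5 : Nat.card U * (U.subgroupOf M).index
        = Nat.card U * (Nat.card K * Nat.card (sigmaCore M)) := by
      rw [h2]; ring
    exact Nat.eq_of_mul_eq_mul_left h4 h5
  have hnd : ¬ s ∣ U.relIndex M := by
    rw [hrel]
    intro hd
    rcases (Nat.Prime.dvd_mul hs).mp hd with h | h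
    · exact hsκM (hKU.hall.2.1 s hs h)
    · exact hsσM (Cfsg.Agent.Lib.Helper71.BG11.sigmaCore_pi hG hM hs h)
  have hndP : ¬ s ∣ Rs.relIndex U := by
    have : Rs.subgroupOf U = (P : Subgroup U) := by
      rw [hRsdef]
      exact Subgroup.comap_map_eq_self_of_injective (Subgroup.subtype_injective U) _
    rw [Subgroup.relIndex, this]
    exact P.not_dvd_index
  have hRsM : Rs ≤ M := hRsU.trans hUM
  have hndM : ¬ s ∣ (Rs.subgroupOf M).index := by
    show ¬ s ∣ Rs.relIndex M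
    rw [← Subgroup.relIndex_mul_relIndex Rs U M hRsU hUM]
    intro hd
    rcases (Nat.Prime.dvd_mul hs).mp hd with h | h
    · exact hndP h
    · exact hnd h
  let S : Sylow s ↥M := IsPGroup.toSylow (hRsp.comap_subtype (K := M)) hndM
  have h1 : IsPGroup s (Q.subgroupOf M) :=
    hQp.comap_of_injective _ (Subgroup.subtype_injective M)
  have h2 : (S : Subgroup M) ≤ Q.subgroupOf M := by
    intro x hx
    rw [Subgroup.mem_subgroupOf]
    have hx' : x ∈ Rs.subgroupOf M := hx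
    exact hRQ (Subgroup.mem_subgroupOf.mp hx')
  have h3 : Q.subgroupOf M = (S : Subgroup M) := S.is_maximal' h1 h2
  have h4 : Q = (Q.subgroupOf M).map M.subtype := by
    rw [Subgroup.subgroupOf_map_subtype, inf_eq_left.mpr hQM]
  rw [h4, h3]
  exact Subgroup.map_subgroupOf_eq_of_le hRsM

/-- KEYSTONE 143511  K-1435-P7. -/
theorem NU.primes_in_sigma (hG : IsMinSimpleOddOrder G) {M K U R H : Subgroup G} {r : ℕ}
    (c : NU M K U R H r) (hUKH : U ⊔ K ≤ H)
    (hcent : ∀ u ∈ U, (orderOf u).Coprime (Nat.card (sigmaCore H)) → u ∈ centralizer (sigmaCore H : Set G))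
    (hstar : ∀ (s : ℕ) (Rs : Subgroup G), NU M K U Rs H s → s ∈ sigma H) :
    ∀ s : ℕ, s.Prime → s ∣ Nat.card U → s ∈ sigma H := by
  classical
  intro s hs hsU
  by_contra hsσ
  have : Fact s.Prime := ⟨hs⟩
  have h30 : H1430 G := fun M hM K hK hK1 => Cfsg.Agent.S1430.result hG M hM K hK hK1
  obtain ⟨hab, hfree⟩ := Cfsg.Agent.Lib.Helper90.BG14D.free_action hG h30 M c.hM K U c.hKU c.hK1
  have hUH : U ≤ H := le_sup_left.trans hUKH
  have hKH : K ≤ H := le_sup_right.trans hUKH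
  have hUM : U ≤ M := c.hKU.compl.1
  -- the Sylow `s`-subgroup of `U`
  obtain ⟨P⟩ : Nonempty (Sylow s U) := inferInstance
  have hRsyl := sylow_of_sylow_U hG c.hM c.hKU hsU P
  have hmax : ∀ T : Subgroup G, T ≤ U → IsPGroup s T → T ≤ (P : Subgroup U).map U.subtype :=
    fun T hTU hT => le_map_sylow_of_comm hab P hTU hT
  have hRs1 : (P : Subgroup U).map U.subtype ≠ ⊥ := by
    have hP1 : (P : Subgroup U) ≠ ⊥ := Sylow.ne_bot_of_dvd_card P hsU
    intro h
    exact hP1 ((Subgroup.map_eq_bot_iff_of_injective _ (Subgroup.subtype_injective U)).mp h)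
  have hRsU : (P : Subgroup U).map U.subtype ≤ U := Subgroup.map_subtype_le _
  have hRsp : IsPGroup s ((P : Subgroup U).map U.subtype) := P.2.map _
  obtain ⟨Rs, hRsdef⟩ : ∃ Rs : Subgroup G, Rs = (P : Subgroup U).map U.subtype := ⟨_, rfl⟩
  rw [← hRsdef] at hRsyl hmax hRs1 hRsU hRsp
  -- `K` normalizes `Rs`
  have hKN : K ≤ normalizer (Rs : Set G) := by
    intro k hk
    rw [← cj_eq_self_iff]
    have h1 : cj k Rs ≤ U := by
      intro y hy
      rw [mem_cj] at hy
      have hkU := c.hKU.normal hk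
      have h0 := (Subgroup.mem_normalizer_iff.mp hkU (k⁻¹ * y * k)).mp (hRsU hy)
      have e : k * (k⁻¹ * y * k) * k⁻¹ = y := by group
      rwa [e] at h0
    have h2 : cj k Rs ≤ Rs := hmax _ h1 (isPGroup_cj hRsp)
    exact Subgroup.eq_of_le_of_card_ge h2 (by rw [card_cj])
  -- `s ∤ |H_σ|`
  have hsHσ : ¬ s ∣ Nat.card (sigmaCore H) := fun hd =>
    hsσ (Cfsg.Agent.Lib.Helper71.BG11.sigmaCore_pi hG c.hH hs hd)
  have hord : ∀ x ∈ Rs, ∃ j : ℕ, orderOf x = s ^ j := by
    intro x hx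
    obtain ⟨j, hj⟩ := (IsPGroup.iff_orderOf.mp hRsp) ⟨x, hx⟩
    exact ⟨j, by rw [← hj]; exact (Subgroup.orderOf_mk x hx).symm⟩
  have hcop : (s).Coprime (Nat.card (sigmaCore H)) := (Nat.Prime.coprime_iff_not_dvd hs).mpr hsHσ
  -- `Rs` centralizes `H_σ`
  have hRscent : ∀ x ∈ Rs, x ∈ centralizer (sigmaCore H : Set G) := by
    intro x hx
    apply hcent x (hRsU hx)
    obtain ⟨j, hj⟩ := hord x hx
    rw [hj]
    exact Nat.Coprime.pow_left j hcop
  -- a non-identity element of `K`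
  obtain ⟨⟨k, hkK⟩, hk1⟩ := (Subgroup.ne_bot_iff_exists_ne_one).mp c.hK1
  have hk1' : k ≠ 1 := fun h => hk1 (Subtype.ext h)
  have hkRs : ∀ u ∈ Rs, k * u * k⁻¹ ∈ Rs := by
    intro u hu
    have := hKN hkK
    rw [Subgroup.mem_normalizer_iff] at this
    exact (this u).mp hu
  have hfreeRs : Rs ⊓ centralizer ({k} : Set G) = ⊥ := by
    refine le_bot_iff.mp ?_
    rw [← hfree k hkK hk1']
    exact inf_le_inf_right _ hRsU
  have hcommform := Cfsg.Agent.Lib.Helper36.BG1363.exists_comm_eq hkRs hfreeRs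
  -- the subgroup `Y`
  obtain ⟨hYc, _, hFeq⟩ := Cfsg.Agent.S1439.result hG H c.hH
  obtain ⟨Y, hYdef⟩ : ∃ Y : Subgroup G,
    Y = piCoreOf {q | q.Prime ∧ q ∉ sigma H} (fittingOf H) := ⟨_, rfl⟩
  rw [← hYdef] at hYc hFeq
  have hFH : fittingOf H ≤ H := Cfsg.Agent.Lib.Helper31.BenderFit.fittingOf_le' H
  have hYF : Y ≤ fittingOf H := hYdef ▸ Cfsg.Agent.Lib.Helper31.piCoreOf_le _ _
  have hYH : Y ≤ H := hYF.trans hFH
  have hHY : H ≤ normalizer (Y : Set G) := by
    rw [hYdef]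
    exact (Cfsg.Agent.Lib.Helper31.BenderFit.le_normalizer_fittingOf H).trans
      (Cfsg.Agent.Lib.Helper31.BenderFit.normalizer_le_normalizer_piCoreOf _ (fittingOf H))
  obtain ⟨⟨y₀, hy₀Y⟩, hgen⟩ := hYc.exists_generator
  have hgen' : ∀ y ∈ Y, ∃ j : ℤ, y = y₀ ^ j := by
    intro y hy
    obtain ⟨j, hj⟩ := Subgroup.mem_zpowers_iff.mp (hgen ⟨y, hy⟩)
    refine ⟨j, ?_⟩
    have := congrArg Subtype.val hj
    simpa using this.symm
  have hact : ∀ h ∈ H, ∃ m : ℤ, h * y₀ * h⁻¹ = y₀ ^ m := by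
    intro h hh
    have := hHY hh
    rw [Subgroup.mem_normalizer_iff] at this
    exact hgen' _ ((this y₀).mp hy₀Y)
  have hactY : ∀ h ∈ H, ∀ y ∈ Y, ∃ m : ℤ, h * y * h⁻¹ = y ^ m := by
    intro h hh y hy
    obtain ⟨j, rfl⟩ := hgen' y hy
    obtain ⟨m, hm⟩ := hact h hh
    refine ⟨m, ?_⟩
    rw [← conj_zpow, hm, ← zpow_mul, ← zpow_mul, mul_comm]
  -- `Rs` centralizes `Y`
  have hRsY : ∀ u ∈ Rs, ∀ y ∈ Y, u * y = y * u := by
    intro u hu y hy
    obtain ⟨u', hu', rfl⟩ := hcommform u hu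
    obtain ⟨j, rfl⟩ := hgen' y hy
    obtain ⟨m, hm⟩ := hact k⁻¹ (H.inv_mem (hKH hkK))
    obtain ⟨n, hn⟩ := hact u'⁻¹ (H.inv_mem (hUH (hRsU hu')))
    have h1 := Cfsg.Agent.Lib.Helper36.BG1363.comm_commutes hm hn
    simp only [inv_inv] at h1
    have h2 : Commute (k * u' * k⁻¹ * u'⁻¹) y₀ := h1
    exact (h2.zpow_right j).eq
  -- `Rs` centralizes `F(H)`
  have hA : fittingOf (sigmaCore H) ≤ sigmaCore H :=
    Cfsg.Agent.Lib.Helper31.BenderFit.fittingOf_le' (sigmaCore H)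
  have hFcent : fittingOf H ≤ centralizer (Rs : Set G) := by
    rw [hFeq]
    refine sup_le ?_ ?_
    · intro a ha
      rw [Subgroup.mem_centralizer_iff]
      intro u hu
      have := hRscent u hu
      rw [Subgroup.mem_centralizer_iff] at this
      exact (this a (hA ha)).symm
    · intro y hy
      rw [Subgroup.mem_centralizer_iff]
      intro u hu
      exact hRsY u hu y hy
  have hRsF : Rs ≤ fittingOf H := by
    have hsol : Group.IsSolvable ↥H := Cfsg.Agent.Lib.Helper55.ms_solvable hG c.hH.1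
    refine le_trans ?_ (Cfsg.Agent.Lib.Helper31.FitUniq.inf_centralizer_fittingOf_le H hsol)
    refine le_inf (hRsU.trans hUH) ?_
    exact (Subgroup.le_centralizer_iff).mp hFcent
  -- `Rs ≤ Y`
  have hAY : fittingOf (sigmaCore H) ≤ normalizer (Y : Set G) :=
    (hA.trans (Cfsg.Agent.Lib.Helper71.BG11.sigmaCore_le H)).trans hHY
  have hRsleY : Rs ≤ Y := by
    intro x hx
    have hxF : x ∈ Y ⊔ fittingOf (sigmaCore H) := by
      have := hRsF hx
      rwa [hFeq, sup_comm] at this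
    obtain ⟨y, hy, a, ha, hxya⟩ :=
      Cfsg.Agent.Lib.Helper54.exists_mul_of_mem_sup_of_le_normalizer hAY hxF
    have haσ : a ∈ sigmaCore H := hA ha
    have hxa : a * x = x * a := by
      have := hRscent x hx
      rw [Subgroup.mem_centralizer_iff] at this
      exact this a haσ
    have hya : Commute y a := by
      have hy' : y = x * a⁻¹ := by rw [hxya]; group
      rw [hy']
      show x * a⁻¹ * a = a * (x * a⁻¹)
      rw [inv_mul_cancel_right, ← mul_assoc, hxa, mul_inv_cancel_right]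
    have han : a ^ Nat.card (sigmaCore H) = 1 := by
      have h : (⟨a, haσ⟩ : ↥(sigmaCore H)) ^ Nat.card (sigmaCore H) = 1 := pow_card_eq_one'
      have h' := congrArg (fun z : ↥(sigmaCore H) => (z : G)) h
      simp only [Subgroup.coe_pow, Subgroup.coe_one] at h'
      exact h'
    have hxn : x ^ Nat.card (sigmaCore H) = y ^ Nat.card (sigmaCore H) := by
      rw [hxya, hya.mul_pow, han, mul_one]
    have hcop' : (Nat.card (sigmaCore H)).Coprime (orderOf x) := by
      obtain ⟨j, hj⟩ := hord x hx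
      rw [hj]
      exact Nat.Coprime.pow_right j hcop.symm
    obtain ⟨m, hm⟩ := exists_pow_eq_self_of_coprime hcop'
    rw [← hm, hxn]
    exact Y.pow_mem (Y.pow_mem hy _) m
  -- `H` normalizes `Rs`
  have hHN : H ≤ normalizer (Rs : Set G) := by
    have hconj : ∀ h ∈ H, ∀ x ∈ Rs, h * x * h⁻¹ ∈ Rs := by
      intro h hh x hx
      obtain ⟨m, hm⟩ := hactY h hh x (hRsleY hx)
      rw [hm]; exact Rs.zpow_mem hx m
    intro h hh
    rw [Subgroup.mem_normalizer_iff]
    intro u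
    constructor
    · exact hconj h hh u
    · intro hu
      have := hconj h⁻¹ (H.inv_mem hh) _ hu
      have h2 : h⁻¹ * (h * u * h⁻¹) * h⁻¹⁻¹ = u := by group
      rwa [h2] at this
  have hNtop : normalizer (Rs : Set G) ≠ ⊤ := by
    intro htop
    have hn : Rs.Normal := Subgroup.normalizer_eq_top_iff.mp htop
    have : IsSimpleGroup G := hG.2.1
    rcases hn.eq_bot_or_eq_top with h | h
    · exact hRs1 h
    · exact c.hH.1 (top_le_iff.mp (h ▸ (hRsU.trans hUH)))
  have hNH : normalizer (Rs : Set G) ≤ H := ((c.hH.le_iff_eq hNtop).mp hHN).le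
  exact hsσ (hstar s Rs
    { hM := c.hM, hKU := c.hKU, hK1 := c.hK1, hU1 := c.hU1, hr := hs, hRU := hRsU, hR1 := hRs1,
      hRp := hRsp, hRsyl := hRsyl, hH := c.hH, hNH := hNH })

end Cfsg.Agent.Lib.Helper61.BG1435
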