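import Mathlib
import Cfsg.Agent.Lib.Helper16.BG1363Defs
import Cfsg.Agent.Lib.Helper55.Basic
import Cfsg.Agent.S1367
import Cfsg.Agent.S1368
import Cfsg.Agent.S1369

/-!
# Pack K-1435 (S1435, architect helper31), keystone 143502 K-1435-Q1 `pf_of_partner` (parallel hand).
-/

set_option autoImplicit false

namespace Cfsg.Agent.Lib.Helper61.BG1435

open Cfsg Subgroup Cfsg.Agent.Lib.Helper55 Cfsg.Agent.Lib.Helper11.BG14D Cfsg.Agent.Lib.Helper16.BG1363

variable {G : Type*} [Group G] [Finite G]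

/-- KEYSTONE 143502  K-1435-Q1. -/
theorem pf_of_partner (hG : IsMinSimpleOddOrder G) {M K U Mstar : Subgroup G} (hM : IsCoatom M)
    (hKU : IsSigmaDecomposition M K U) (hK1 : K ≠ ⊥) (hp : (Nat.card K).Prime)
    (hMstar : IsCoatom Mstar)
    (hKst : K = sigmaCore Mstar ⊓ centralizer ((sigmaCore M ⊓ centralizer (K : Set G)) : Set G))
    (hKstH : IsPiHallOf (kappa Mstar) (sigmaCore M ⊓ centralizer (K : Set G)) Mstar) :
    PF M K Mstar := by
  have h67 := (Cfsg.Agent.S1367.result hG M hM K U hKU hK1 Mstar hMstar hKst hKstH).2 K le_rfl hp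
  have h68 := (Cfsg.Agent.S1368.result hG M hM K U hKU hK1 Mstar hMstar hKst hKstH).1
  have h69 := (Cfsg.Agent.S1369.result hG M hM K U hKU hK1 Mstar hMstar hKst hKstH).2
  exact
    { hMs := hMstar
      hKMs := hKst.le.trans inf_le_left
      hCK := h67.1
      hCKu := h67.2
      hMMs := h68
      h69 := h69 }

end Cfsg.Agent.Lib.Helper61.BG1435
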