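import Mathlib
import Cfsg.Agent.Lib.Helper11.Syl22Defs

/-!
# S4346 pack, leaf K-B10 (keystone 434619): a group of order 264 with `|N(X)| = 22`, `C(X) = X`
for a subgroup `X` of order 11 has an involution acting oddly on the 12 Sylow 11-subgroups.
-/

set_option autoImplicit false

namespace Cfsg.Agent.Lib.Helper61.Syl22

open Cfsg.Agent.Lib.Helper11.Syl22

/-- An element of a subgroup `X` of order 11 fixing a Sylow 11-subgroup different from `X` is 1. -/
private theorem b10_stab {G : Type*} [Group G] [Finite G] [Fact (Nat.Prime 11)] (X : Subgroup G)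
    (hXcard : Nat.card X = 11) (X₀ : Sylow 11 G) (hX₀ : (X₀ : Subgroup G) = X)
    (Y : Sylow 11 G) (hY : Y ≠ X₀) (g : G) (hgX : g ∈ X) (hgY : g • Y = Y) : g = 1 := by
  by_contra hg1
  have hXp : IsPGroup 11 X := IsPGroup.of_card (n := 1) (by rw [hXcard]; norm_num)
  have hgN : g ∈ Subgroup.normalizer ((Y : Subgroup G) : Set G) :=
    Sylow.smul_eq_iff_mem_normalizer.mp hgY
  have hmem : g ∈ X ⊓ (Y : Subgroup G) := by
    rw [← IsPGroup.inf_normalizer_sylow hXp Y]
    exact ⟨hgX, hgN⟩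
  have hgYm : g ∈ (Y : Subgroup G) := hmem.2
  have htop : Subgroup.zpowers (⟨g, hgX⟩ : X) = ⊤ :=
    zpowers_eq_top_of_prime_card hXcard (by
      intro h; apply hg1; exact congrArg Subtype.val h)
  have hle : X ≤ (Y : Subgroup G) := by
    intro h hh
    have : (⟨h, hh⟩ : X) ∈ Subgroup.zpowers (⟨g, hgX⟩ : X) := by rw [htop]; trivial
    obtain ⟨k, hk⟩ := Subgroup.mem_zpowers_iff.mp this
    have hk' : g ^ k = h := by
      have := congrArg Subtype.val hk
      simpa using this
    rw [← hk']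
    exact Subgroup.zpow_mem _ hgYm k
  have hYX : (Y : Subgroup G) = (X₀ : Subgroup G) :=
    X₀.is_maximal' Y.isPGroup' (by rw [hX₀]; exact hle)
  exact hY (Sylow.ext hYX)

theorem false_of_card_264 {G : Type*} [Group G] (c : Ctx G)
    (hinv11 : ∀ t : G, t ^ 2 = 1 →
      Nat.card (Sylow 11 G) ≡ Nat.card ↥(MulAction.fixedBy (Sylow 11 G) t) [MOD 4])
    (x : G) (hx : orderOf x = 11)
    (hC : Nat.card ↥(Subgroup.centralizer ({x} : Set G)) = 11)
    (hN : Nat.card ↥(Subgroup.normalizer ((Subgroup.zpowers x : Subgroup G) : Set G)) = 22)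
    (hG : Nat.card G = 264) : False := by
  classical
  haveI := c.fin
  haveI : Fact (Nat.Prime 11) := ⟨by norm_num⟩
  haveI : Fact (Nat.Prime 2) := ⟨by norm_num⟩
  have hXcard : Nat.card (Subgroup.zpowers x) = 11 := by rw [Nat.card_zpowers, hx]
  have hXp : IsPGroup 11 (Subgroup.zpowers x) :=
    IsPGroup.of_card (n := 1) (by rw [hXcard]; norm_num)
  have hidx : (Subgroup.zpowers x).index = 24 := by
    have := Subgroup.card_mul_index (Subgroup.zpowers x)
    rw [hXcard, hG] at this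
    omega
  have hndvd : ¬ 11 ∣ (Subgroup.zpowers x).index := by rw [hidx]; norm_num
  obtain ⟨X₀, hX₀⟩ : ∃ X₀ : Sylow 11 G, (X₀ : Subgroup G) = Subgroup.zpowers x :=
    ⟨hXp.toSylow hndvd, IsPGroup.toSylow_coe hXp hndvd⟩
  -- number of Sylow 11-subgroups
  have hnorm : Subgroup.normalizer ((X₀ : Subgroup G) : Set G) =
      Subgroup.normalizer ((Subgroup.zpowers x : Subgroup G) : Set G) := by rw [hX₀]
  have hn11 : Nat.card (Sylow 11 G) = 12 := by
    rw [Sylow.card_eq_index_normalizer X₀]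
    show (Subgroup.normalizer ((X₀ : Subgroup G) : Set G)).index = 12
    rw [hnorm]
    have := Subgroup.card_mul_index
      (Subgroup.normalizer ((Subgroup.zpowers x : Subgroup G) : Set G))
    rw [hN, hG] at this
    omega
  -- an involution in the normalizer
  obtain ⟨t', ht'⟩ := exists_prime_orderOf_dvd_card'
    (G := ↥(Subgroup.normalizer ((Subgroup.zpowers x : Subgroup G) : Set G))) 2
    (by rw [hN]; norm_num)
  have htN : (t' : G) ∈ Subgroup.normalizer ((Subgroup.zpowers x : Subgroup G) : Set G) := t'.2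
  have hto : orderOf (t' : G) = 2 := by rw [Subgroup.orderOf_coe]; exact ht'
  have ht2 : (t' : G) ^ 2 = 1 := by rw [← hto]; exact pow_orderOf_eq_one _
  have htC : (t' : G) ∉ Subgroup.centralizer ({x} : Set G) := by
    intro hmem
    have h1 : orderOf (⟨(t' : G), hmem⟩ : ↥(Subgroup.centralizer ({x} : Set G))) = 2 := by
      rw [← Subgroup.orderOf_coe]; exact hto
    have h2 := orderOf_dvd_natCard (⟨(t' : G), hmem⟩ : ↥(Subgroup.centralizer ({x} : Set G)))
    rw [h1, hC] at h2
    norm_num at h2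
  -- t fixes X₀
  have htX₀ : (t' : G) • X₀ = X₀ := by
    rw [Sylow.smul_eq_iff_mem_normalizer]
    show (t' : G) ∈ Subgroup.normalizer ((X₀ : Subgroup G) : Set G)
    rw [hnorm]; exact htN
  -- elements of X fix X₀
  have hXfix : ∀ g ∈ Subgroup.zpowers x, g • X₀ = X₀ := by
    intro g hg
    rw [Sylow.smul_eq_iff_mem_normalizer]
    show g ∈ Subgroup.normalizer ((X₀ : Subgroup G) : Set G)
    rw [hnorm]
    exact Subgroup.le_normalizer hg
  -- key: a second fixed point is unique
  have hkey : ∀ Y Y' : Sylow 11 G, Y ≠ X₀ → Y' ≠ X₀ → (t' : G) • Y = Y → (t' : G) • Y' = Y' →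
      Y' = Y := by
    intro Y Y' hY hY' htY htY'
    -- the orbit map
    let f : Fin 11 → {Z : Sylow 11 G // Z ≠ X₀} := fun i =>
      ⟨x ^ (i : ℕ) • Y, by
        intro h
        apply hY
        have h1 : Y = (x ^ (i : ℕ))⁻¹ • X₀ := by rw [← h, inv_smul_smul]
        rw [hXfix _ (Subgroup.inv_mem _ (Subgroup.pow_mem _ (Subgroup.mem_zpowers x) _))] at h1
        exact h1⟩
    have hfinj : Function.Injective f := by
      intro i j hij
      have h0 : x ^ (i : ℕ) • Y = x ^ (j : ℕ) • Y := congrArg Subtype.val hij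
      have h1 : ((x ^ (j : ℕ))⁻¹ * x ^ (i : ℕ)) • Y = Y := by
        rw [mul_smul, h0, inv_smul_smul]
      have h2 : (x ^ (j : ℕ))⁻¹ * x ^ (i : ℕ) = 1 :=
        b10_stab _ hXcard X₀ hX₀ Y hY _
          (Subgroup.mul_mem _ (Subgroup.inv_mem _ (Subgroup.pow_mem _ (Subgroup.mem_zpowers x) _))
            (Subgroup.pow_mem _ (Subgroup.mem_zpowers x) _)) h1
      have h3 : x ^ (i : ℕ) = x ^ (j : ℕ) := by
        have := congrArg (fun z => x ^ (j : ℕ) * z) h2
        simpa using this
      have h4 := pow_injOn_Iio_orderOf (x := x) (by rw [hx]; exact i.2) (by rw [hx]; exact j.2) h3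
      exact Fin.ext h4
    have hcardS : Nat.card {Z : Sylow 11 G // Z ≠ X₀} = 11 := by
      have h1 : Nat.card {Z : Sylow 11 G // Z ≠ X₀} = Nat.card (Sylow 11 G) - 1 := by
        show Nat.card ↥(({X₀} : Set (Sylow 11 G))ᶜ) = _
        rw [Nat.card_coe_set_eq, Set.ncard_compl, Set.ncard_singleton]
      rw [h1, hn11]
    have hfbij : Function.Bijective f :=
      hfinj.bijective_of_nat_card_le (by rw [hcardS]; simp)
    obtain ⟨i, hi⟩ := hfbij.2 ⟨Y', hY'⟩
    have hi' : x ^ (i : ℕ) • Y = Y' := congrArg Subtype.val hi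
    set z : G := x ^ (i : ℕ) with hz
    have hzX : z ∈ Subgroup.zpowers x := Subgroup.pow_mem _ (Subgroup.mem_zpowers x) _
    by_contra hne
    have hz1 : z ≠ 1 := by
      intro h
      apply hne
      rw [← hi', h, one_smul]
    -- t z t⁻¹ fixes ... 
    have hconjX : (t' : G) * z * (t' : G)⁻¹ ∈ Subgroup.zpowers x :=
      (Subgroup.mem_normalizer_iff.mp htN z).mp hzX
    have h1 : ((t' : G) * z * (t' : G)⁻¹) • Y = z • Y := by
      have htinv : (t' : G)⁻¹ • Y = Y := by
        rw [inv_smul_eq_iff]; exact htY.symm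
      rw [mul_smul, mul_smul, htinv, hi', htY']
    have h2 : (z⁻¹ * ((t' : G) * z * (t' : G)⁻¹)) • Y = Y := by
      rw [mul_smul, h1, inv_smul_smul]
    have h3 : z⁻¹ * ((t' : G) * z * (t' : G)⁻¹) = 1 :=
      b10_stab _ hXcard X₀ hX₀ Y hY _
        (Subgroup.mul_mem _ (Subgroup.inv_mem _ hzX) hconjX) h2
    have h4 : (t' : G) * z = z * (t' : G) := by
      have h5 : (t' : G) * z * (t' : G)⁻¹ = z := by
        have := congrArg (fun w => z * w) h3
        simpa using this
      calc (t' : G) * z = ((t' : G) * z * (t' : G)⁻¹) * (t' : G) := by group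
        _ = z * (t' : G) := by rw [h5]
    -- z generates X, so t commutes with x
    have htop : Subgroup.zpowers (⟨z, hzX⟩ : Subgroup.zpowers x) = ⊤ :=
      zpowers_eq_top_of_prime_card hXcard (by
        intro h; apply hz1; exact congrArg Subtype.val h)
    have hxz : (⟨x, Subgroup.mem_zpowers x⟩ : Subgroup.zpowers x) ∈
        Subgroup.zpowers (⟨z, hzX⟩ : Subgroup.zpowers x) := by rw [htop]; trivial
    obtain ⟨k, hk⟩ := Subgroup.mem_zpowers_iff.mp hxz
    have hk' : z ^ k = x := by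
      have := congrArg Subtype.val hk
      simpa using this
    apply htC
    rw [Subgroup.mem_centralizer_iff]
    intro w hw
    rw [Set.mem_singleton_iff] at hw
    subst hw
    have hcomm : Commute (t' : G) z := h4
    have := (hcomm.zpow_right k).eq
    rw [hk'] at this
    exact this.symm
  -- count fixed points
  have hfixsub : ∃ Y₀ : Sylow 11 G, MulAction.fixedBy (Sylow 11 G) (t' : G) ⊆ {X₀, Y₀} := by
    by_cases hex : ∃ Y : Sylow 11 G, Y ≠ X₀ ∧ (t' : G) • Y = Y
    · obtain ⟨Y, hY, htY⟩ := hex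
      refine ⟨Y, ?_⟩
      intro Z hZ
      rw [MulAction.mem_fixedBy] at hZ
      by_cases hZ0 : Z = X₀
      · left; exact hZ0
      · right; exact hkey Y Z hY hZ0 htY hZ
    · refine ⟨X₀, ?_⟩
      intro Z hZ
      rw [MulAction.mem_fixedBy] at hZ
      left
      by_contra hZ0
      exact hex ⟨Z, hZ0, hZ⟩
  obtain ⟨Y₀, hsub⟩ := hfixsub
  have hle2 : Nat.card ↥(MulAction.fixedBy (Sylow 11 G) (t' : G)) ≤ 2 := by
    rw [Nat.card_coe_set_eq]
    calc (MulAction.fixedBy (Sylow 11 G) (t' : G)).ncard ≤ ({X₀, Y₀} : Set (Sylow 11 G)).ncard :=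
          Set.ncard_le_ncard hsub (Set.toFinite _)
      _ ≤ ({Y₀} : Set (Sylow 11 G)).ncard + 1 := Set.ncard_insert_le _ _
      _ = 2 := by rw [Set.ncard_singleton]
  have hge1 : 1 ≤ Nat.card ↥(MulAction.fixedBy (Sylow 11 G) (t' : G)) := by
    rw [Nat.card_coe_set_eq]
    exact (Set.ncard_pos (Set.toFinite _)).mpr ⟨X₀, MulAction.mem_fixedBy.mpr htX₀⟩
  have hmod := hinv11 (t' : G) ht2
  rw [hn11] at hmod
  have : Nat.card ↥(MulAction.fixedBy (Sylow 11 G) (t' : G)) % 4 = 0 := by
    have := hmod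
    unfold Nat.ModEq at this
    omega
  omega

end Cfsg.Agent.Lib.Helper61.Syl22
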