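import Mathlib
import Cfsg.Agent.S1365
import Cfsg.Agent.Lib.Helper13.BG16R
import Cfsg.Agent.Lib.Helper11.BG1390
import Cfsg.Agent.Lib.Helper60.BG151A
import Cfsg.Prelude.Def_OddOrderChar

/-!
# Pack K-1537 (S1537, architect helper2), leaf L-B2 (keystone 153703): `typeA_subset_sigmaA`

`A(M) ⊆ (M̂_σ ∩ U M_σ) - 1`.
-/

set_option autoImplicit false

namespace Cfsg.Agent.Lib.Helper61.BG1537

open Cfsg Subgroup

variable {G : Type*} [Group G] [Finite G]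

/-- **L-B2** `A(M) ⊆ (M̂_σ ∩ U M_σ) - 1`. -/
theorem typeA_subset_sigmaA (hG : IsMinSimpleOddOrder G) {M K U : Subgroup G} (hM : IsCoatom M)
    (hKU : IsSigmaDecomposition M K U) (hC : typeCore M = sigmaCore M) :
    typeA M ⊆ sigmaA M U \ {1} := by
  classical
  -- `K = ⊥ ⇒ U ⊔ M_σ = M`
  have htop : K = ⊥ → U ⊔ sigmaCore M = M := by
    intro hK
    have h := Cfsg.Agent.Lib.Helper11.BG1390.sup_eq_of_isComplIn hKU.compl
    rw [hK, bot_sup_eq, sup_comm] at h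
    exact h
  have hcomm_le : ⁅M, M⁆ ≤ M := Subgroup.commutator_le.mpr (fun a ha b hb =>
    M.mul_mem (M.mul_mem (M.mul_mem ha hb) (M.inv_mem ha)) (M.inv_mem hb))
  -- `M' ≤ U ⊔ M_σ`
  have hder : ⁅M, M⁆ ≤ U ⊔ sigmaCore M := by
    by_cases hK : K = ⊥
    · rw [htop hK]; exact hcomm_le
    · exact (Cfsg.Agent.S1365.result hG M hM K U hKU hK).1.le
  intro a ha
  unfold typeA at ha
  split_ifs at ha with hI
  · obtain ⟨haM, ha1, x, hx, hx1, hax⟩ := ha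
    have hK : K = ⊥ := by
      by_contra hK
      exact Cfsg.Agent.Lib.Helper13.BG16.not_typeI_of_ne_bot hG hM hKU.hall hK hI
    refine ⟨⟨⟨haM, x, Cfsg.Agent.Lib.Helper60.BG151.fittingHallOf_le_sigmaCore hG hM hx, hx1, hax⟩, ?_⟩,
      ha1⟩
    show a ∈ U ⊔ sigmaCore M
    rw [htop hK]; exact haM
  · obtain ⟨haD, ha1, x, hx, hx1, hax⟩ := ha
    rw [hC] at hx
    exact ⟨⟨⟨hcomm_le haD, x, hx, hx1, hax⟩, hder haD⟩, ha1⟩

end Cfsg.Agent.Lib.Helper61.BG1537
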