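import Cfsg.Agent.Lib.Helper49.OElDefs

/-!
# K-OEl leaf AR2P (keystone 598805, S5988, architect helper49): pure arithmetic

If the criterion `RhsOddP` of S5988 fails and `r` divides the number of elliptic `m`-spaces (`CountP`), then the shape
`T := 2 d / c` admits no good `j`.
-/

set_option autoImplicit false
set_option linter.unusedVariables false

namespace Cfsg.Agent.Lib.Helper61.OEl

open Module Cfsg.Agent.Lib.Helper98.Elus Cfsg.Agent.Lib.Helper98.Sy Cfsg.Agent.Lib.Helper38.OhP
  Cfsg.Agent.Lib.Helper49.OEl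

/-- `h ∣ d - x` with `x < h`, `x ≤ d` gives `d % h = x` -/
theorem mod_eq_of_dvd_sub {h d x : ℕ} (hx : x ≤ d) (hxh : x < h) (hdv : h ∣ d - x) : d % h = x := by
  obtain ⟨t, ht⟩ := hdv
  have h1 : d = h * t + x := by omega
  rw [h1, Nat.mul_add_mod, Nat.mod_eq_of_lt hxh]

/-- `x % (2 h) = h` gives `h ∣ x` -/
theorem dvd_of_mod_two_mul {h x : ℕ} (hx : x % (2 * h) = h) : h ∣ x := by
  have h1 := Nat.div_add_mod x (2 * h)
  rw [hx] at h1
  obtain ⟨q, hq⟩ : ∃ q, q = x / (2 * h) := ⟨_, rfl⟩
  rw [← hq] at h1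
  exact ⟨2 * q + 1, by rw [← h1]; ring⟩

/-- the half `h` of `c = cOf i` -/
theorem exists_half (i : ℕ) :
    ∃ h : ℕ, ((Odd i ∧ h = i) ∨ (Even i ∧ i = 2 * h)) ∧ cOf i = 2 * h := by
  rcases Nat.even_or_odd i with he | ho
  · obtain ⟨h, hh⟩ := he
    refine ⟨h, Or.inr ⟨⟨h, hh⟩, by omega⟩, ?_⟩
    unfold cOf
    rw [if_pos ⟨h, hh⟩]
    omega
  · refine ⟨i, Or.inl ⟨ho, rfl⟩, ?_⟩
    unfold cOf
    rw [if_neg (Nat.not_even_iff_odd.mpr ho)]

/-- **LEAF AR2P (598805)**. -/
theorem arith_derange_ellP (i c d m : ℕ) (hi : 0 < i) (hc : c = cOf i) (hd : 4 ≤ d) (hm : 2 ≤ m) (hme : Even m)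
    (hmd : m < d) (hw : CountP i d (m / 2)) (hR : ¬ RhsOddP i c d m) :
    ∃ T : ℕ, 1 ≤ T ∧ T * c ≤ 2 * d ∧ (0 < 2 * d - T * c ∨ (True ↔ tPlus i T)) ∧
      ∀ j : ℕ, j ≤ T → j * c ≤ m → ¬ GoodT True False i c T (2 * d - T * c) m j := by
  obtain ⟨h, hh, hch'⟩ := exists_half i
  have hch : c = 2 * h := by rw [hc, hch']
  have hh0 : 0 < h := by
    rcases hh with ⟨-, h1⟩ | ⟨-, h1⟩ <;> omega
  have hc0 : 0 < c := by omega
  have hhi : h ∣ i := by
    rcases hh with ⟨-, h1⟩ | ⟨-, h1⟩
    · rw [h1]
    · exact ⟨2, by omega⟩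
  obtain ⟨e, he⟩ : ∃ e, m = 2 * e := by
    obtain ⟨e, he⟩ := hme
    exact ⟨e, by omega⟩
  have he2 : m / 2 = e := by omega
  rw [he2] at hw
  have he1 : 1 ≤ e := by omega
  have hed : e < d := by omega
  obtain ⟨b, hb⟩ : ∃ b, b = d % h := ⟨_, rfl⟩
  have hbh : b < h := by rw [hb]; exact Nat.mod_lt _ hh0
  have hk : (2 * d) % c = 2 * b := by rw [hch, Nat.mul_mod_mul_left, hb]
  -- the consequences of `CountP` in terms of `h`
  have hH : (∃ j : ℕ, j + 1 < e ∧ (h ∣ d - j ∨ h ∣ d - (j + 1))) ∨ h ∣ d - (e - 1) ∨ i ∣ d - e := by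
    rcases hw with ⟨j, hj, h1 | ⟨h1, h2⟩⟩ | h1 | h1
    · exact Or.inl ⟨j, hj, Or.inl (hhi.trans h1)⟩
    · left
      refine ⟨j, hj, Or.inr ?_⟩
      rcases hh with ⟨ho, -⟩ | ⟨-, h3⟩
      · exact absurd h1 (Nat.not_even_iff_odd.mpr ho)
      · have h4 : i / 2 = h := by omega
        rw [h4, h3, Nat.sub_sub] at h2
        exact dvd_of_mod_two_mul h2
    · exact Or.inr (Or.inl (hhi.trans h1))
    · exact Or.inr (Or.inr h1)
  -- `e < b` is impossible
  have hnot_lt : ¬ e < b := by
    intro hlt
    rcases hH with ⟨j, hj, h1 | h1⟩ | h1 | h1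
    · have := mod_eq_of_dvd_sub (x := j) (by omega) (by omega) h1; omega
    · have := mod_eq_of_dvd_sub (x := j + 1) (by omega) (by omega) h1; omega
    · have := mod_eq_of_dvd_sub (x := e - 1) (by omega) (by omega) h1; omega
    · have := mod_eq_of_dvd_sub (x := e) (by omega) (by omega) (hhi.trans h1); omega
  -- `h ≤ d`
  have hhd : h ≤ d := by
    rcases hH with ⟨j, hj, h1 | h1⟩ | h1 | h1
    · exact (Nat.le_of_dvd (by omega) h1).trans (Nat.sub_le _ _)
    · exact (Nat.le_of_dvd (by omega) h1).trans (Nat.sub_le _ _)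
    · exact (Nat.le_of_dvd (by omega) h1).trans (Nat.sub_le _ _)
    · exact (Nat.le_of_dvd (by omega) (hhi.trans h1)).trans (Nat.sub_le _ _)
  obtain ⟨T, hT⟩ : ∃ T, T = 2 * d / c := ⟨_, rfl⟩
  have hdm : c * T + (2 * d) % c = 2 * d := by rw [hT]; exact Nat.div_add_mod _ _
  have hTc : T * c + 2 * b = 2 * d := by rw [← hk, mul_comm]; exact hdm
  have hkk : 2 * d - T * c = 2 * b := by omega
  have hTa : T = d / h := by rw [hT, hch, Nat.mul_div_mul_left _ _ (by norm_num : 0 < 2)]
  have hT1 : 1 ≤ T := by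
    rw [hTa]
    exact (Nat.one_le_div_iff hh0).mpr hhd
  refine ⟨T, hT1, by omega, ?_, ?_⟩
  · -- admissibility
    rw [hkk]
    by_cases hb0 : 0 < b
    · left; omega
    · right
      have hb0' : b = 0 := by omega
      refine ⟨fun _ => ?_, fun _ => trivial⟩
      rcases hh with ⟨ho, -⟩ | ⟨hev, h3⟩
      · exact Or.inl ho
      · right
        have hci : c = i := by omega
        by_contra hodd
        apply hR
        right
        refine ⟨hev, Or.inl ⟨by rw [hk, hb0'], Or.inl ?_⟩⟩
        rw [← hci, ← hT]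
        exact Nat.not_even_iff_odd.mp hodd
  · intro j hjT hjm hG
    rw [hkk] at hG
    rcases hG with ⟨h1, h2⟩ | ⟨h1, h2⟩ | ⟨h1, h2, h3⟩
    · -- `m = j c`, `j` odd, `i` even
      have hnt : ¬ tPlus i j := fun ht => h2.mpr ht
      have hev : Even i := by
        by_contra hne
        exact hnt (Or.inl (Nat.not_even_iff_odd.mp hne))
      have hjo : Odd j := by
        by_contra hne
        exact hnt (Or.inr (Nat.not_odd_iff_even.mp hne))
      have hci : c = i := by
        rcases hh with ⟨ho, -⟩ | ⟨-, h3⟩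
        · exact absurd hev (Nat.not_even_iff_odd.mpr ho)
        · omega
      have hmj : m = j * c := by omega
      have hmc : m % c = 0 := by rw [hmj, Nat.mul_mod_left]
      have hmi : m / i = j := by rw [hmj, hci, Nat.mul_div_cancel _ hi]
      have hj1 : 1 ≤ j := by
        rcases hjo with ⟨t, ht⟩; omega
      have him : i ≤ m := by
        rw [hmj, hci]
        exact Nat.le_mul_of_pos_left i hj1
      apply hR
      right
      refine ⟨hev, ?_⟩
      by_cases hb0 : b = 0
      · exact Or.inl ⟨by rw [hk, hb0], Or.inr ⟨hmc, by rw [hmi]; exact hjo⟩⟩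
      · exact Or.inr ⟨him, Or.inr (Or.inr ⟨hmc, by rw [hk]; omega, by rw [hmi]; exact hjo⟩)⟩
    · -- `0 < m - j c < k`
      have hmr : m % c = m - j * c := by
        have h5 : m = c * j + (m - j * c) := by rw [mul_comm]; omega
        have h6 : m - j * c < c := by omega
        conv_lhs => rw [h5]
        rw [Nat.mul_add_mod, Nat.mod_eq_of_lt h6]
      by_cases hj0 : j = 0
      · subst hj0
        apply hnot_lt
        omega
      · have hcm : c ≤ m := by
          have : c ≤ j * c := Nat.le_mul_of_pos_left c (Nat.pos_of_ne_zero hj0)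
          omega
        apply hR
        rcases hh with ⟨ho, -⟩ | ⟨hev, h3⟩
        · left
          exact ⟨ho, hcm, by rw [hmr]; exact h1, by rw [hmr, hk]; exact h2⟩
        · right
          have hci : c = i := by omega
          refine ⟨hev, Or.inr ⟨by omega, Or.inl ⟨by rw [hmr]; exact h1, by rw [hmr, hk]; exact h2⟩⟩⟩
    · -- `m - j c = k > 0`, types differ
      have hnt : ¬ (tPlus i j ↔ (True ↔ tPlus i T)) := fun ht => h3.mpr ht
      have hev : Even i := by
        by_contra hne
        have ho := Nat.not_even_iff_odd.mp hne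
        apply hnt
        exact ⟨fun _ => ⟨fun _ => Or.inl ho, fun _ => trivial⟩, fun _ => Or.inl ho⟩
      have hno : ¬ Odd i := Nat.not_odd_iff_even.mpr hev
      have hci : c = i := by
        rcases hh with ⟨ho, -⟩ | ⟨-, h3⟩
        · exact absurd ho hno
        · omega
      have hi2 : i = 2 * h := by omega
      have hpar : ¬ (Even j ↔ Even T) := by
        intro hiff
        apply hnt
        constructor
        · intro hj
          rcases hj with hj | hj
          · exact absurd hj hno
          · exact ⟨fun _ => Or.inr (hiff.mp hj), fun _ => trivial⟩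
        · intro hT'
          rcases hT'.mp trivial with hT'' | hT''
          · exact absurd hT'' hno
          · exact Or.inr (hiff.mpr hT'')
      have hoddsum : Odd (T + j) := by
        rw [Nat.odd_add]
        constructor
        · intro hTo
          by_contra hjne
          apply hpar
          have hjo : Odd j := Nat.not_even_iff_odd.mp hjne
          exact ⟨fun hje => absurd hje (Nat.not_even_iff_odd.mpr hjo),
            fun hTe => absurd hTe (Nat.not_even_iff_odd.mpr hTo)⟩
        · intro hje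
          by_contra hTne
          apply hpar
          have hTe : Even T := Nat.not_odd_iff_even.mp hTne
          exact ⟨fun _ => hTe, fun _ => hje⟩
      have hmr : m % c = 2 * b := by
        have h5 : m = c * j + 2 * b := by rw [mul_comm]; omega
        have h6 : 2 * b < c := by omega
        conv_lhs => rw [h5]
        rw [Nat.mul_add_mod, Nat.mod_eq_of_lt h6]
      by_cases hj0 : j = 0
      · subst hj0
        have heb : e = b := by omega
        have hTo : Odd T := by simpa using hoddsum
        rcases hH with ⟨j', hj', h4 | h4⟩ | h4 | h4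
        · have := mod_eq_of_dvd_sub (x := j') (by omega) (by omega) h4; omega
        · have := mod_eq_of_dvd_sub (x := j' + 1) (by omega) (by omega) h4; omega
        · have := mod_eq_of_dvd_sub (x := e - 1) (by omega) (by omega) h4; omega
        · -- `i ∣ d - e = h * (d / h)` forces `d / h` even
          have h7 := Nat.div_add_mod d h
          rw [← hb, ← hTa] at h7
          have h8 : d - e = h * T := by omega
          rw [h8, hi2] at h4
          obtain ⟨t, ht⟩ := h4
          have h9 : h * T = h * (2 * t) := by rw [ht]; ring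
          have h10 : T = 2 * t := Nat.eq_of_mul_eq_mul_left hh0 h9
          exact (Nat.not_even_iff_odd.mpr hTo) ⟨t, by omega⟩
      · have hcm : c ≤ m := by
          have : c ≤ j * c := Nat.le_mul_of_pos_left c (Nat.pos_of_ne_zero hj0)
          omega
        apply hR
        right
        refine ⟨hev, Or.inr ⟨by omega, Or.inr (Or.inl ⟨by rw [hmr]; exact h2, by rw [hmr, hk], ?_⟩)⟩⟩
        rw [hk]
        have h11 : 2 * d + m - 2 * (2 * b) = (T + j) * i := by
          rw [add_mul, ← hci]
          omega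
        rw [h11, Nat.mul_div_cancel _ hi]
        exact hoddsum

end Cfsg.Agent.Lib.Helper61.OEl
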