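import Mathlib
import Cfsg.Agent.Lib.Helper48.StODefs

/-!
# K-StO pack (S2547, architect helper48), leaf R0c (keystone 254703): `mat_xZ`, `mat_yZ`

The root elements `x_{±ε_k}(t)` are isometries of `quadFormOdd`, so the `ofMat` elements have the
expected matrices.
-/

set_option autoImplicit false
set_option linter.unusedSectionVars false

namespace Cfsg.Agent.Lib.Helper61.StO

open Cfsg Cfsg.Agent.Lib.Helper48.StO Matrix

variable {m : ℕ} {F : Type*} [Field F]

theorem xZMat_mulVec (k : Fin m) (t : F) (u : OI m → F) :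
    xZMat m F k t *ᵥ u = fun a => u a + (if a = zI then t * u (fI k) else 0)
        - (if a = eI k then 2 * t * u zI + t ^ 2 * u (fI k) else 0) := by
  funext a
  unfold xZMat
  simp only [Matrix.add_mulVec, Matrix.sub_mulVec, Matrix.one_mulVec, Matrix.single_mulVec,
    Pi.add_apply, Pi.sub_apply, Function.update_apply, Pi.zero_apply]
  split_ifs <;> ring

theorem yZMat_mulVec (k : Fin m) (t : F) (u : OI m → F) :
    yZMat m F k t *ᵥ u = fun a => u a + (if a = zI then t * u (eI k) else 0)
        - (if a = fI k then 2 * t * u zI + t ^ 2 * u (eI k) else 0) := by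
  funext a
  unfold yZMat
  simp only [Matrix.add_mulVec, Matrix.sub_mulVec, Matrix.one_mulVec, Matrix.single_mulVec,
    Pi.add_apply, Pi.sub_apply, Function.update_apply, Pi.zero_apply]
  split_ifs <;> ring

theorem xZMat_mul_neg (k : Fin m) (t : F) : xZMat m F k t * xZMat m F k (-t) = 1 := by
  rw [Matrix.ext_iff_mulVec]
  intro u
  rw [← Matrix.mulVec_mulVec, Matrix.one_mulVec, xZMat_mulVec, xZMat_mulVec]
  funext a
  rcases a with a | a | a
  · simp
  · by_cases h : a = k
    · subst h; simp; ring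
    · simp [h]
  · simp

theorem yZMat_mul_neg (k : Fin m) (t : F) : yZMat m F k t * yZMat m F k (-t) = 1 := by
  rw [Matrix.ext_iff_mulVec]
  intro u
  rw [← Matrix.mulVec_mulVec, Matrix.one_mulVec, yZMat_mulVec, yZMat_mulVec]
  funext a
  rcases a with a | a | a
  · simp
  · simp
  · by_cases h : a = k
    · subst h; simp; ring
    · simp [h]

theorem quad_xZMat (k : Fin m) (t : F) (u : OI m → F) :
    Cfsg.quadFormOdd m F (xZMat m F k t *ᵥ u) = Cfsg.quadFormOdd m F u := by
  rw [xZMat_mulVec]
  unfold Cfsg.quadFormOdd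
  have h1 : ∀ i : Fin m,
      ((u (Sum.inr (Sum.inl i)) + (if (Sum.inr (Sum.inl i) : OI m) = zI then t * u (fI k) else 0)
        - (if (Sum.inr (Sum.inl i) : OI m) = eI k then 2 * t * u zI + t ^ 2 * u (fI k) else 0)) *
      (u (Sum.inr (Sum.inr i)) + (if (Sum.inr (Sum.inr i) : OI m) = zI then t * u (fI k) else 0)
        - (if (Sum.inr (Sum.inr i) : OI m) = eI k then 2 * t * u zI + t ^ 2 * u (fI k) else 0)))
      = u (Sum.inr (Sum.inl i)) * u (Sum.inr (Sum.inr i))
        - (if i = k then (2 * t * u zI + t ^ 2 * u (fI k)) * u (fI k) else 0) := by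
    intro i
    by_cases h : i = k
    · subst h; simp; ring
    · simp [h]
  simp only [h1, Finset.sum_sub_distrib, Finset.sum_ite_eq', Finset.mem_univ, if_true]
  simp
  ring

theorem quad_yZMat (k : Fin m) (t : F) (u : OI m → F) :
    Cfsg.quadFormOdd m F (yZMat m F k t *ᵥ u) = Cfsg.quadFormOdd m F u := by
  rw [yZMat_mulVec]
  unfold Cfsg.quadFormOdd
  have h1 : ∀ i : Fin m,
      ((u (Sum.inr (Sum.inl i)) + (if (Sum.inr (Sum.inl i) : OI m) = zI then t * u (eI k) else 0)
        - (if (Sum.inr (Sum.inl i) : OI m) = fI k then 2 * t * u zI + t ^ 2 * u (eI k) else 0)) *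
      (u (Sum.inr (Sum.inr i)) + (if (Sum.inr (Sum.inr i) : OI m) = zI then t * u (eI k) else 0)
        - (if (Sum.inr (Sum.inr i) : OI m) = fI k then 2 * t * u zI + t ^ 2 * u (eI k) else 0)))
      = u (Sum.inr (Sum.inl i)) * u (Sum.inr (Sum.inr i))
        - (if i = k then u (eI k) * (2 * t * u zI + t ^ 2 * u (eI k)) else 0) := by
    intro i
    by_cases h : i = k
    · subst h; simp; ring
    · simp [h]
  simp only [h1, Finset.sum_sub_distrib, Finset.sum_ite_eq', Finset.mem_univ, if_true]
  simp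
  ring

/-- **K-StO-R0c** (254703), first half. -/
theorem mat_xZ (k : Fin m) (t : F) : mat (xZ m F k t) = xZMat m F k t := by
  unfold xZ
  refine mat_ofMat _ (exists_of_isometry (xZMat m F k t) (xZMat m F k (-t)) (xZMat_mul_neg k t) ?_
    (quad_xZMat k t))
  have := xZMat_mul_neg k (-t)
  rwa [neg_neg] at this

/-- **K-StO-R0c** (254703), second half. -/
theorem mat_yZ (k : Fin m) (t : F) : mat (yZ m F k t) = yZMat m F k t := by
  unfold yZ
  refine mat_ofMat _ (exists_of_isometry (yZMat m F k t) (yZMat m F k (-t)) (yZMat_mul_neg k t) ?_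
    (quad_yZMat k t))
  have := yZMat_mul_neg k (-t)
  rwa [neg_neg] at this

end Cfsg.Agent.Lib.Helper61.StO
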