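import Mathlib
import Cfsg.Agent.Lib.Helper15.BG147Defs
import Cfsg.Agent.Lib.Helper15.BG142Final
import Cfsg.Agent.Lib.Helper27.BG147P
import Cfsg.Agent.S3745

/-!
# BG 14.7 closure lemma, leaf C3 (keystone 147103): `D = H_σ ⊓ M ≤ K`
-/

set_option autoImplicit false

namespace Cfsg.Agent.Lib.Helper61.BG147

open Cfsg Cfsg.Agent.Lib.Helper55 Cfsg.Agent.Lib.Helper31.BG134 Cfsg.Agent.Lib.Helper15.BG139
  Cfsg.Agent.Lib.Helper15.BG142 Cfsg.Agent.Lib.Helper15.BG147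

variable {G : Type*} [Group G] [Finite G]

/-- LEAF C3 (147103) -/
theorem D_le_K {M K X H : Subgroup G} (c : CL M K X H) (c1 : CL1 M K X H)
    (hκ : ∀ Z' : Subgroup G, Z' ≤ sigmaCore H ⊓ M → (Nat.card Z').Prime →
      Nat.card Z' ∈ kappa M) : sigmaCore H ⊓ M ≤ K := by
  have hG := c.hG
  have hM := c.hM
  have hK := c.hK
  obtain ⟨E, ks⟩ := exists_ks hG hM hK c.hK1
  have hDM : sigmaCore H ⊓ M ≤ M := inf_le_right
  have hsolv : Group.IsSolvable M := ms_solvable hG hM.1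
  have hDκ : ∀ r : ℕ, r.Prime → r ∣ Nat.card ↥(sigmaCore H ⊓ M) → r ∈ kappa M := by
    intro r hr hrd
    haveI := Fact.mk hr
    obtain ⟨x, hx⟩ := exists_prime_orderOf_dvd_card' r hrd
    have hcard : Nat.card (Subgroup.zpowers (x : G)) = r := by
      rw [Nat.card_zpowers, Subgroup.orderOf_coe, hx]
    have hle : Subgroup.zpowers (x : G) ≤ sigmaCore H ⊓ M :=
      (Subgroup.zpowers_le).mpr x.2
    have h := hκ _ hle (hcard ▸ hr)
    rwa [hcard] at h
  obtain ⟨_, h2, h3⟩ := Cfsg.Agent.S3745.result (⊥ : Subgroup G) M bot_le (by simp) hsolv (kappa M)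
  obtain ⟨L, hL, -, hDL⟩ := h3 _ hDM bot_le hDκ
  obtain ⟨m, hm, hLm⟩ := h2 K L hK bot_le hL bot_le
  have hmM : m ∈ M := hm.1
  have hXD : X ≤ sigmaCore H ⊓ M := le_inf c1.hXσ (c.hXK.trans hK.1)
  have hXne : X ≠ ⊥ := by
    intro h
    have h1 := c.hXp
    rw [h] at h1
    simp only [Subgroup.card_bot] at h1
    exact Nat.not_prime_one h1
  have hne : K ⊓ K.map (MulAut.conj m).toMonoidHom ≠ ⊥ := by
    intro h
    apply hXne
    rw [← le_bot_iff, ← h]
    exact le_inf c.hXK (hXD.trans (hLm ▸ hDL))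
  obtain ⟨_, h2', _, _⟩ := s1431_of_ks hG hM ks
  have hmZ : m ∈ K ⊔ KStar M K := by
    by_contra h
    exact hne (h2' m hmM h)
  obtain ⟨k, hk, y, hy, rfl⟩ :=
    Cfsg.Agent.Lib.Helper27.BG147.exists_mul_of_mem_sup_of_centralizer
      (K := K) (Y := KStar M K) inf_le_right hmZ
  have hyc : y ∈ Subgroup.centralizer (K : Set G) := hy.2
  have hle : K.map (MulAut.conj (k * y)).toMonoidHom ≤ K := by
    rintro z ⟨w, hw, rfl⟩
    have h1 : w * y = y * w := Subgroup.mem_centralizer_iff.mp hyc w hw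
    have h2 : (MulAut.conj (k * y)).toMonoidHom w = k * w * k⁻¹ := by
      simp only [MulEquiv.coe_toMonoidHom, MulAut.conj_apply, mul_inv_rev]
      calc k * y * w * (y⁻¹ * k⁻¹) = k * (y * w) * y⁻¹ * k⁻¹ := by group
        _ = k * (w * y) * y⁻¹ * k⁻¹ := by rw [h1]
        _ = k * w * k⁻¹ := by group
    rw [h2]
    exact K.mul_mem (K.mul_mem hk hw) (K.inv_mem hk)
  exact (hDL.trans (hLm ▸ le_refl _)).trans hle

end Cfsg.Agent.Lib.Helper61.BG147
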