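import Mathlib

set_option autoImplicit false

namespace Cfsg.Agent.Lib.Helper61

open QuaternionGroup

/-- If `g` has finite order and conjugation by `g` maps `B` into itself, then `g` normalizes `B`. -/
theorem mem_normalizer_of_conj_mem {H : Type*} [Group H] (B : Subgroup H) (g : H) (k : ℕ)
    (hk : 0 < k) (hgk : g ^ k = 1) (h : ∀ b ∈ B, g * b * g⁻¹ ∈ B) : g ∈ Subgroup.normalizer (B : Set H) := by
  rw [Subgroup.mem_normalizer_iff]
  intro b
  refine ⟨h b, ?_⟩
  intro hb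
  have key : ∀ j : ℕ, ∀ c ∈ B, g ^ j * c * (g ^ j)⁻¹ ∈ B := by
    intro j
    induction j with
    | zero => intro c hc; simpa using hc
    | succ j ih =>
      intro c hc
      have h1 := h _ (ih c hc)
      have e : g ^ (j + 1) * c * (g ^ (j + 1))⁻¹ = g * (g ^ j * c * (g ^ j)⁻¹) * g⁻¹ := by
        rw [pow_succ']; group
      rw [e]; exact h1
  have h2 := key (k - 1) _ hb
  have hk' : g ^ (k - 1) * g = 1 := by rw [← pow_succ, Nat.sub_add_cancel hk, hgk]
  have e : g ^ (k - 1) * (g * b * g⁻¹) * (g ^ (k - 1))⁻¹ = b := by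
    calc g ^ (k - 1) * (g * b * g⁻¹) * (g ^ (k - 1))⁻¹
        = (g ^ (k - 1) * g) * b * (g ^ (k - 1) * g)⁻¹ := by group
      _ = b := by rw [hk']; simp
  rw [e] at h2
  exact h2

/-- An element of odd order normalizing a cyclic 2-subgroup centralizes it. -/
theorem conj_eq_of_cyclic_two {H : Type*} [Group H] (B : Subgroup H) [Finite ↥B]
    (hc : IsCyclic ↥B) (h2 : IsPGroup 2 ↥B) (g : H) (hg : g ∈ Subgroup.normalizer (B : Set H))
    (k : ℕ) (hk : Odd k) (hgk : g ^ k = 1) : ∀ b ∈ B, g * b * g⁻¹ = b := by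
  set φ := Subgroup.normalizerMonoidHom B ⟨g, hg⟩ with hφ
  have h1 : φ ^ k = 1 := by
    rw [hφ, ← map_pow]
    have : (⟨g, hg⟩ : Subgroup.normalizer (B : Set H)) ^ k = 1 := Subtype.ext (by simpa using hgk)
    rw [this, map_one]
  have hd1 : orderOf φ ∣ k := orderOf_dvd_of_pow_eq_one h1
  have hd2 : orderOf φ ∣ Nat.card (MulAut ↥B) := orderOf_dvd_natCard φ
  have hpow : ∃ j : ℕ, Nat.card (MulAut ↥B) = 2 ^ j := by
    rw [IsCyclic.card_mulAut]
    obtain ⟨s, hs⟩ := IsPGroup.iff_card.mp h2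
    rw [hs]
    rcases Nat.eq_zero_or_pos s with h0 | h0
    · exact ⟨0, by rw [h0, pow_zero, Nat.totient_one]⟩
    · exact ⟨s - 1, by rw [Nat.totient_prime_pow Nat.prime_two h0]; norm_num⟩
  obtain ⟨j, hj⟩ := hpow
  rw [hj] at hd2
  have hone : orderOf φ = 1 := by
    obtain ⟨i, _, hi⟩ := (Nat.dvd_prime_pow Nat.prime_two).mp hd2
    rw [hi] at hd1 ⊢
    rcases Nat.eq_zero_or_pos i with h0 | h0
    · rw [h0, pow_zero]
    · exfalso
      have h2k : 2 ∣ k := dvd_trans (dvd_pow_self 2 h0.ne') hd1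
      obtain ⟨m, hm⟩ := hk
      omega
  have hφ1 : φ = 1 := orderOf_eq_one_iff.mp hone
  have hker : (⟨g, hg⟩ : Subgroup.normalizer (B : Set H)) ∈ (Subgroup.normalizerMonoidHom B).ker := by
    rw [MonoidHom.mem_ker]; exact hφ1
  rw [Subgroup.normalizerMonoidHom_ker, Subgroup.mem_subgroupOf, Subgroup.mem_centralizer_iff] at hker
  intro b hb
  have := hker b hb
  simp only at this
  calc g * b * g⁻¹ = (b * g) * g⁻¹ := by rw [this]
    _ = b := by group

/-- The cyclic subgroup of index 2 in the generalized quaternion group. -/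
def quatA (m : ℕ) : Subgroup (QuaternionGroup m) where
  carrier := {q | ∃ i, q = a i}
  mul_mem' := by
    rintro _ _ ⟨i, rfl⟩ ⟨j, rfl⟩
    exact ⟨i + j, a_mul_a i j⟩
  one_mem' := ⟨0, a_zero.symm⟩
  inv_mem' := by
    rintro _ ⟨i, rfl⟩
    refine ⟨-i, ?_⟩
    apply inv_eq_of_mul_eq_one_right
    rw [a_mul_a, add_neg_cancel, a_zero]

theorem mem_quatA_iff {m : ℕ} (q : QuaternionGroup m) : q ∈ quatA m ↔ ∃ i, q = a i := Iff.rfl

theorem a_mem_quatA {m : ℕ} (i : ZMod (2 * m)) : a i ∈ quatA m := ⟨i, rfl⟩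

theorem xa_not_mem_quatA {m : ℕ} (i : ZMod (2 * m)) : xa i ∉ quatA m := by
  rintro ⟨j, hj⟩
  cases hj

theorem quatA_isCyclic (m : ℕ) [NeZero m] : IsCyclic ↥(quatA m) := by
  refine ⟨⟨⟨a 1, a_mem_quatA 1⟩, ?_⟩⟩
  rintro ⟨_, i, rfl⟩
  refine ⟨(i.val : ℤ), ?_⟩
  apply Subtype.ext
  simp only [zpow_natCast, Subgroup.coe_pow]
  rw [a_one_pow, ZMod.natCast_zmod_val]

/-- two elements outside `quatA` differ by an element of `quatA` -/
theorem inv_mul_mem_quatA {m : ℕ} (c d : QuaternionGroup m) (hc : c ∉ quatA m) (hd : d ∉ quatA m) :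
    c⁻¹ * d ∈ quatA m := by
  cases c with
  | a i => exact absurd (a_mem_quatA i) hc
  | xa i =>
    cases d with
    | a j => exact absurd (a_mem_quatA j) hd
    | xa j =>
      by_contra hcon
      cases h : (xa i)⁻¹ * xa j with
      | a l => rw [h] at hcon; exact hcon (a_mem_quatA l)
      | xa l =>
        have : xa j = xa i * xa l := by rw [← h]; group
        rw [xa_mul_xa] at this
        cases this

theorem pow_four_of_not_mem_quatA {m : ℕ} (c : QuaternionGroup m) (hc : c ∉ quatA m) : c ^ 4 = 1 := by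
  cases c with
  | a i => exact absurd (a_mem_quatA i) hc
  | xa i => exact xa_pow_four i

/-- A normal subgroup of `Q_{4m}`, `m ≥ 8` even..., not inside the cyclic part contains an element of
the cyclic part of order more than 4. -/
theorem exists_big_of_normal (n : ℕ) (hn : 3 ≤ n) (R : Subgroup (QuaternionGroup (2 ^ n)))
    (hRn : ∀ t : QuaternionGroup (2 ^ n), ∀ r ∈ R, t * r * t⁻¹ ∈ R) (hR : ¬ R ≤ quatA (2 ^ n)) :
    ∃ b ∈ R, b ∈ quatA (2 ^ n) ∧ b ^ 4 ≠ 1 := by
  obtain ⟨r, hrR, hrA⟩ := SetLike.not_le_iff_exists.mp hR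
  cases r with
  | a i => exact absurd (a_mem_quatA i) hrA
  | xa i =>
    have hinv : (a 1 : QuaternionGroup (2 ^ n))⁻¹ = a (-1) := by
      apply inv_eq_of_mul_eq_one_right
      rw [a_mul_a, add_neg_cancel, a_zero]
    have h1 : a 1 * xa i * (a 1)⁻¹ ∈ R := hRn (a 1) (xa i) hrR
    rw [hinv, a_mul_xa, xa_mul_a] at h1
    have h2 : xa i * xa (i - 1 + -1) ∈ R := R.mul_mem hrR h1
    rw [xa_mul_xa] at h2
    refine ⟨_, h2, a_mem_quatA _, ?_⟩
    have e : (a (((2 ^ n : ℕ) : ZMod (2 * 2 ^ n)) + (i - 1 + -1) - i) : QuaternionGroup (2 ^ n)) ^ 4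
        = a (-8) := by
      have h4 : (4 : ℕ) = 1 + 1 + 1 + 1 := rfl
      rw [h4, pow_add, pow_add, pow_add, pow_one, a_mul_a, a_mul_a, a_mul_a]
      congr 1
      have hz : ((2 * 2 ^ n : ℕ) : ZMod (2 * 2 ^ n)) = 0 := ZMod.natCast_self _
      push_cast at hz ⊢
      linear_combination 2 * hz
    rw [e, one_def]
    intro hcon
    have h8 : (-8 : ZMod (2 * 2 ^ n)) = 0 := by
      injection hcon
    have h8' : ((8 : ℕ) : ZMod (2 * 2 ^ n)) = 0 := by
      have := neg_eq_zero.mpr h8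
      rw [neg_neg] at this
      exact_mod_cast this
    rw [ZMod.natCast_eq_zero_iff] at h8'
    have hle : 2 * 2 ^ n ≤ 8 := Nat.le_of_dvd (by norm_num) h8'
    have h3 : 2 ^ 3 ≤ 2 ^ n := Nat.pow_le_pow_right (by norm_num) hn
    omega


/-- Key proposition: if a copy of the generalized quaternion group `Q_{2^(n+2)}`, `n ≥ 3`, sits in `H`
via `ρ`, `R` is a subgroup of the copy normalized by it, and `g` is an element of odd order
normalizing `R`, then `g` centralizes `R`. -/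
theorem conj_eq_of_quaternion {H : Type*} [Group H] (n : ℕ) (hn : 3 ≤ n)
    (ρ : QuaternionGroup (2 ^ n) →* H) (hρ : Function.Injective ρ)
    (R : Subgroup H) (hRT : R ≤ ρ.range) (hRn : ∀ t ∈ ρ.range, ∀ r ∈ R, t * r * t⁻¹ ∈ R)
    (g : H) (hg : ∀ r ∈ R, g * r * g⁻¹ ∈ R) (k : ℕ) (hk : Odd k) (hgk : g ^ k = 1) :
    ∀ r ∈ R, g * r * g⁻¹ = r := by
  have hkpos : 0 < k := hk.pos
  have : NeZero (2 ^ n) := ⟨by positivity⟩
  set A := quatA (2 ^ n) with hA
  set Abar := A.map ρ with hAbar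
  have hAc : IsCyclic ↥A := quatA_isCyclic _
  have hAbarc : IsCyclic ↥Abar :=
    isCyclic_of_surjective (ρ.subgroupMap A) (ρ.subgroupMap_surjective A)
  have hQ2 : IsPGroup 2 (QuaternionGroup (2 ^ n)) :=
    IsPGroup.of_card (n := n + 2) (by rw [Nat.card_eq_fintype_card, QuaternionGroup.card]; ring)
  have hrange2 : IsPGroup 2 ↥ρ.range := hQ2.of_surjective ρ.rangeRestrict ρ.rangeRestrict_surjective
  have hFinRange : Finite ↥ρ.range := Finite.of_surjective ρ.rangeRestrict ρ.rangeRestrict_surjective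
  have hR2 : IsPGroup 2 ↥R := hrange2.to_le hRT
  have hRfin : Finite ↥R :=
    Finite.of_injective (Subgroup.inclusion hRT) (Subgroup.inclusion_injective hRT)
  by_cases hRA : R ≤ Abar
  · have hRc : IsCyclic ↥R :=
      isCyclic_of_injective (Subgroup.inclusion hRA) (Subgroup.inclusion_injective hRA)
    exact conj_eq_of_cyclic_two R hRc hR2 g (mem_normalizer_of_conj_mem R g k hkpos hgk hg) k hk hgk
  · set R₀ := R.comap ρ with hR₀
    have hR₀n : ∀ t : QuaternionGroup (2 ^ n), ∀ r ∈ R₀, t * r * t⁻¹ ∈ R₀ := by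
      intro t r hr
      rw [hR₀, Subgroup.mem_comap, map_mul, map_mul, map_inv]
      exact hRn _ ⟨t, rfl⟩ _ hr
    have hR₀A : ¬ R₀ ≤ A := by
      intro hle
      apply hRA
      intro r hr
      obtain ⟨q, rfl⟩ := hRT hr
      exact ⟨q, hle hr, rfl⟩
    obtain ⟨b₀, hb₀R, hb₀A, hb₀4⟩ := exists_big_of_normal n hn R₀ hR₀n hR₀A
    set B := R ⊓ Abar with hB
    have hBfin : Finite ↥B :=
      Finite.of_injective (Subgroup.inclusion (inf_le_left : B ≤ R)) (Subgroup.inclusion_injective _)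
    have hBc : IsCyclic ↥B :=
      isCyclic_of_injective (Subgroup.inclusion (inf_le_right : B ≤ Abar)) (Subgroup.inclusion_injective _)
    have hB2 : IsPGroup 2 ↥B := hR2.to_le inf_le_left
    have hout4 : ∀ c ∈ R, c ∉ Abar → c ^ 4 = 1 := by
      intro c hc hcA
      obtain ⟨q, rfl⟩ := hRT hc
      have hq : q ∉ A := fun h => hcA ⟨q, h, rfl⟩
      rw [← map_pow, pow_four_of_not_mem_quatA q hq, map_one]
    have hout_mul : ∀ c ∈ R, ∀ d ∈ R, c ∉ Abar → d ∉ Abar → c⁻¹ * d ∈ B := by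
      intro c hc d hd hcA hdA
      refine ⟨R.mul_mem (R.inv_mem hc) hd, ?_⟩
      obtain ⟨p, rfl⟩ := hRT hc
      obtain ⟨q, rfl⟩ := hRT hd
      have hp : p ∉ A := fun h => hcA ⟨p, h, rfl⟩
      have hq : q ∉ A := fun h => hdA ⟨q, h, rfl⟩
      exact ⟨p⁻¹ * q, inv_mul_mem_quatA p q hp hq, by simp⟩
    have hbig : ∃ b ∈ B, b ^ 4 ≠ 1 := by
      refine ⟨ρ b₀, ⟨hb₀R, ⟨b₀, hb₀A, rfl⟩⟩, ?_⟩
      rw [← map_pow]
      intro h
      apply hb₀4
      exact hρ (by rw [h, map_one])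
    have hgB : ∀ b ∈ B, g * b * g⁻¹ ∈ B := by
      obtain ⟨⟨b₁, hb₁B⟩, hgen⟩ := hBc.exists_generator
      have hrepr : ∀ b ∈ B, ∃ z : ℤ, b = b₁ ^ z := by
        intro b hb
        obtain ⟨z, hz⟩ := Subgroup.mem_zpowers_iff.mp (hgen ⟨b, hb⟩)
        refine ⟨z, ?_⟩
        have := congrArg Subtype.val hz
        simpa using this.symm
      have hb₁4 : b₁ ^ 4 ≠ 1 := by
        intro h1
        obtain ⟨b, hbB, hb4⟩ := hbig
        apply hb4
        obtain ⟨z, rfl⟩ := hrepr b hbB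
        rw [← zpow_natCast, ← zpow_mul, mul_comm, zpow_mul, zpow_natCast, h1, one_zpow]
      have hgb₁ : g * b₁ * g⁻¹ ∈ B := by
        refine ⟨hg _ hb₁B.1, ?_⟩
        by_contra hcon
        have h4 := hout4 _ (hg _ hb₁B.1) hcon
        apply hb₁4
        rw [conj_pow] at h4
        have : b₁ ^ 4 = g⁻¹ * (g * b₁ ^ 4 * g⁻¹) * g := by group
        rw [this, h4]; group
      intro b hb
      obtain ⟨z, rfl⟩ := hrepr b hb
      have : g * b₁ ^ z * g⁻¹ = (g * b₁ * g⁻¹) ^ z := conj_zpow.symm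
      rw [this]
      exact B.zpow_mem hgb₁ z
    have hgBN := mem_normalizer_of_conj_mem B g k hkpos hgk hgB
    have hcentB := conj_eq_of_cyclic_two B hBc hB2 g hgBN k hk hgk
    intro r hr
    by_cases hrA : r ∈ Abar
    · exact hcentB r ⟨hr, hrA⟩
    · have hgr : g * r * g⁻¹ ∉ Abar := by
        intro hcon
        have h1 : g * r * g⁻¹ ∈ B := ⟨hg r hr, hcon⟩
        have h2 : r ∈ B := (Subgroup.mem_normalizer_iff.mp hgBN r).mpr h1
        exact hrA h2.2
      have hb' : r⁻¹ * (g * r * g⁻¹) ∈ B := hout_mul r hr _ (hg r hr) hrA hgr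
      set b' := r⁻¹ * (g * r * g⁻¹) with hb'def
      have hgr' : g * r * g⁻¹ = r * b' := by rw [hb'def]; group
      have hgb' : g * b' * g⁻¹ = b' := hcentB b' hb'
      have hpow : ∀ j : ℕ, g ^ j * r * (g ^ j)⁻¹ = r * b' ^ j := by
        intro j
        induction j with
        | zero => simp
        | succ j ih =>
          have e : g ^ (j + 1) * r * (g ^ (j + 1))⁻¹ = g * (g ^ j * r * (g ^ j)⁻¹) * g⁻¹ := by
            rw [pow_succ']; group
          rw [e, ih]
          have e2 : g * (r * b' ^ j) * g⁻¹ = (g * r * g⁻¹) * (g * b' * g⁻¹) ^ j := by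
            rw [conj_pow]; group
          rw [e2, hgr', hgb', mul_assoc, ← pow_succ']
      have hk1 := hpow k
      rw [hgk] at hk1
      have hb'k : b' ^ k = 1 := by
        have : r * 1 = r * b' ^ k := by simpa using hk1
        exact (mul_left_cancel this).symm
      obtain ⟨s, hs⟩ := hB2 ⟨b', hb'⟩
      have hs' : b' ^ (2 ^ s) = 1 := by simpa using congrArg Subtype.val hs
      have hb'1 : b' = 1 := by
        have h1 : orderOf b' ∣ k := orderOf_dvd_of_pow_eq_one hb'k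
        have h2 : orderOf b' ∣ 2 ^ s := orderOf_dvd_of_pow_eq_one hs'
        have hcop : Nat.Coprime k (2 ^ s) := Nat.Coprime.pow_right s (Nat.coprime_two_right.mpr hk)
        exact orderOf_eq_one_iff.mp (Nat.eq_one_of_dvd_coprimes hcop h1 h2)
      rw [hgr', hb'1, mul_one]

end Cfsg.Agent.Lib.Helper61
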