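import Mathlib
import Cfsg.Agent.S3305
import Cfsg.Agent.Lib.Helper61.QuatAut

set_option autoImplicit false

namespace Cfsg.Agent.Lib.Helper61

open scoped Pointwise

/-- Extremal conjugation: if `t` is conjugate to `w` and the Sylow `p`-subgroup `S` centralizes `w`,
then the conjugating element can be chosen to map `C_S(t)` into `S`. -/
theorem exists_conj_centralizer_le {G : Type*} [Group G] [Finite G] {p : ℕ} [Fact p.Prime]
    (S : Sylow p G) (t w : G) (hw : ∀ x ∈ (S : Subgroup G), x * w = w * x) (g₀ : G)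
    (h : g₀ * t * g₀⁻¹ = w) :
    ∃ g : G, g * t * g⁻¹ = w ∧
      ∀ x ∈ (S : Subgroup G), x * t = t * x → g * x * g⁻¹ ∈ (S : Subgroup G) := by
  set A := Subgroup.centralizer ({w} : Set G) with hA
  have hSA : (S : Subgroup G) ≤ A := by
    intro x hx
    rw [hA, Subgroup.mem_centralizer_iff]
    intro y hy
    rw [Set.mem_singleton_iff] at hy
    rw [hy]; exact (hw x hx).symm
  set Q := ((S : Subgroup G) ⊓ Subgroup.centralizer ({t} : Set G)).map (MulAut.conj g₀).toMonoidHom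
    with hQ
  have hQp : IsPGroup p ↥Q := (S.isPGroup'.to_le inf_le_left).map _
  have hQA : Q ≤ A := by
    rintro _ ⟨x, ⟨_, hxt⟩, rfl⟩
    rw [hA, Subgroup.mem_centralizer_iff]
    intro y hy
    rw [Set.mem_singleton_iff] at hy
    rw [hy]
    have hxt' : t * x = x * t := by
      have := (Subgroup.mem_centralizer_iff.mp hxt) t (Set.mem_singleton t)
      exact this
    show w * (g₀ * x * g₀⁻¹) = (g₀ * x * g₀⁻¹) * w
    rw [← h]
    calc g₀ * t * g₀⁻¹ * (g₀ * x * g₀⁻¹) = g₀ * (t * x) * g₀⁻¹ := by group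
      _ = g₀ * (x * t) * g₀⁻¹ := by rw [hxt']
      _ = g₀ * x * g₀⁻¹ * (g₀ * t * g₀⁻¹) := by group
  obtain ⟨c, hcA, hQc⟩ := Cfsg.Agent.S3305.exists_le_smul_sylow S A Q hSA hQp hQA
  have hcw : w * c = c * w := by
    have := (Subgroup.mem_centralizer_iff.mp hcA) w (Set.mem_singleton w)
    exact this
  refine ⟨c⁻¹ * g₀, ?_, ?_⟩
  · calc c⁻¹ * g₀ * t * (c⁻¹ * g₀)⁻¹ = c⁻¹ * (g₀ * t * g₀⁻¹) * c := by group
      _ = c⁻¹ * w * c := by rw [h]
      _ = c⁻¹ * (w * c) := by group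
      _ = c⁻¹ * (c * w) := by rw [hcw]
      _ = w := by group
  · intro x hx hxt
    have hxQ : g₀ * x * g₀⁻¹ ∈ Q := by
      refine ⟨x, ⟨hx, Subgroup.mem_centralizer_iff.mpr ?_⟩, rfl⟩
      intro y hy
      rw [Set.mem_singleton_iff] at hy
      rw [hy]; exact hxt.symm
    have h1 := hQc hxQ
    rw [Sylow.coe_subgroup_smul, Subgroup.mem_pointwise_smul_iff_inv_smul_mem] at h1
    have e : c⁻¹ * g₀ * x * (c⁻¹ * g₀)⁻¹ = (MulAut.conj c)⁻¹ • (g₀ * x * g₀⁻¹) := by
      rw [← map_inv, MulAut.smul_def, MulAut.conj_apply]; group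
    rw [e]; exact h1

/-- Burnside's fusion lemma: elements centralized by a Sylow subgroup `S` that are conjugate in `G`
are conjugate in `N_G(S)`. -/
theorem burnside_fusion {G : Type*} [Group G] [Finite G] {p : ℕ} [Fact p.Prime]
    (S : Sylow p G) (x y : G) (hx : ∀ s ∈ (S : Subgroup G), s * x = x * s)
    (hy : ∀ s ∈ (S : Subgroup G), s * y = y * s) (g₀ : G) (h : g₀ * x * g₀⁻¹ = y) :
    ∃ n ∈ Subgroup.normalizer ((S : Subgroup G) : Set G), n * x * n⁻¹ = y := by
  obtain ⟨g, hg, hgS⟩ := exists_conj_centralizer_le S x y hy g₀ h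
  refine ⟨g, ?_, hg⟩
  exact mem_normalizer_of_conj_mem (S : Subgroup G) g (orderOf g) (orderOf_pos g)
    (pow_orderOf_eq_one g) (fun s hs => hgS s hs (hx s hs))

/-- A `p`-element normalizing a Sylow `p`-subgroup lies in it. -/
theorem mem_sylow_of_pow_mem_normalizer {G : Type*} [Group G] {p : ℕ} [Fact p.Prime]
    (S : Sylow p G) (n : G) (hn : n ∈ Subgroup.normalizer ((S : Subgroup G) : Set G))
    (k : ℕ) (hk : n ^ (p ^ k) = 1) : n ∈ (S : Subgroup G) := by
  have hP : IsPGroup p ↥(Subgroup.zpowers n) := by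
    rintro ⟨y, hy⟩
    obtain ⟨j, rfl⟩ := Subgroup.mem_zpowers_iff.mp hy
    refine ⟨k, Subtype.ext ?_⟩
    simp only [Subgroup.coe_pow, Subgroup.coe_one]
    rw [← zpow_natCast, ← zpow_mul, mul_comm, zpow_mul, zpow_natCast, hk, one_zpow]
  have h1 := hP.inf_normalizer_sylow S
  have h2 : n ∈ Subgroup.zpowers n ⊓ Subgroup.normalizer (S : Set G) :=
    ⟨Subgroup.mem_zpowers n, hn⟩
  rw [h1] at h2
  exact h2.2

end Cfsg.Agent.Lib.Helper61
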