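import Mathlib
import Cfsg.Agent.S1351
import Cfsg.Agent.S1352
import Cfsg.Agent.S1359
import Cfsg.Agent.Lib.Helper97.BG1366O
import Cfsg.Agent.Lib.Helper32.BG147P2
import Cfsg.Agent.Lib.Helper71.BG11a

/-!
# Pack K-153 (S1438), leaf C (keystone 143803): a `(σ ∪ κ)'`-subgroup of `C_M(H)` is commutative.
-/

set_option autoImplicit false

namespace Cfsg.Agent.Lib.Helper61.BG153

open Cfsg

variable {G : Type*} [Group G] [Finite G]

/-- 143803 K-153-C -/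
theorem comm_of_centralizes (hG : IsMinSimpleOddOrder G) {M H X : Subgroup G}
    (hM : IsCoatom M) (hH : H ≤ sigmaCore M) (hH1 : H ≠ ⊥)
    (hXM : X ≤ M) (hXH : X ≤ Subgroup.centralizer (H : Set G))
    (hXσ : ∀ p : ℕ, p.Prime → p ∣ Nat.card X → p ∉ sigma M)
    (hXκ : ∀ p : ℕ, p.Prime → p ∣ Nat.card X → p ∉ kappa M) :
    ∀ a ∈ X, ∀ b ∈ X, a * b = b * a := by
  obtain ⟨⟨K, hK⟩, hcyc⟩ := Cfsg.Agent.S1351.result hG M hM
  have hKc := hcyc K hK
  obtain ⟨⟨U, hKU⟩, -⟩ := Cfsg.Agent.S1352.result hG M hM K hKc hK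
  have hU := Cfsg.Agent.Lib.Helper32.BG147P.isPiHallOf_U_aux hG hM hKU
  have hs : Group.IsSolvable ↥M := Cfsg.Agent.Lib.Helper55.ms_solvable hG hM.1
  obtain ⟨m, hm, hXU⟩ := Cfsg.Agent.Lib.Helper97.BG1366.exists_cj_ge_of_hall hs hU hXM
    (fun p hp hpd => ⟨hp, hXκ p hp hpd, hXσ p hp hpd⟩)
  have hcomm := Cfsg.Agent.S1359.result hG M hM K U hKU
  obtain ⟨y', hy'⟩ := (Subgroup.ne_bot_iff_exists_ne_one).mp hH1
  obtain ⟨y, hyH, hy1⟩ : ∃ y : G, y ∈ H ∧ y ≠ 1 :=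
    ⟨(y' : G), y'.2, fun h => hy' (Subtype.ext h)⟩
  have key : ∀ a ∈ X, m⁻¹ * a * m ∈ (U : Set G) ∩ sigmaHat M := by
    intro a ha
    constructor
    · obtain ⟨u, hu, hua⟩ := hXU ha
      have : m⁻¹ * a * m = u := by
        rw [← hua]
        simp only [MulEquiv.coe_toMonoidHom, MulAut.conj_apply]
        group
      rw [this]
      exact hu
    · refine ⟨M.mul_mem (M.mul_mem (M.inv_mem hm) (hXM ha)) hm, m⁻¹ * y * m, ?_, ?_, ?_⟩
      · have h := (Subgroup.mem_normalizer_iff.mp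
          (Cfsg.Agent.Lib.Helper71.BG11.le_normalizer_sigmaCore M (M.inv_mem hm)) y).mp (hH hyH)
        rwa [inv_inv] at h
      · intro h
        apply hy1
        have h2 : y = m * (m⁻¹ * y * m) * m⁻¹ := by group
        rw [h2, h]
        group
      · have hay : y * a = a * y := Subgroup.mem_centralizer_iff.mp (hXH ha) y hyH
        calc m⁻¹ * a * m * (m⁻¹ * y * m) = m⁻¹ * (a * y) * m := by group
          _ = m⁻¹ * (y * a) * m := by rw [hay]
          _ = m⁻¹ * y * m * (m⁻¹ * a * m) := by group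
  intro a ha b hb
  have h := hcomm.is_comm.comm
    (⟨m⁻¹ * a * m, Subgroup.subset_closure (key a ha)⟩ :
      ↥(Subgroup.closure ((U : Set G) ∩ sigmaHat M)))
    ⟨m⁻¹ * b * m, Subgroup.subset_closure (key b hb)⟩
  have h' : (m⁻¹ * a * m) * (m⁻¹ * b * m) = (m⁻¹ * b * m) * (m⁻¹ * a * m) :=
    congrArg Subtype.val h
  have e1 : a * b = m * ((m⁻¹ * a * m) * (m⁻¹ * b * m)) * m⁻¹ := by group
  rw [e1, h']
  group

end Cfsg.Agent.Lib.Helper61.BG153
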