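import Mathlib

/-!
# K-GAG leaf 483911 (S4839): `no_involution_outside`, helper61

`p = 2`: `C_G(N) ≤ N`, `N` of exponent 2, Camina property: every `t` with `t * t = 1` lies in `N`.
-/

set_option autoImplicit false

namespace Cfsg.Agent.Lib.Helper61.Gag

variable {G : Type*} [Group G] [Finite G]

theorem no_involution_outside (N : Subgroup G) [N.Normal]
    (hcent : Subgroup.centralizer (N : Set G) ≤ N) (hsq : ∀ n ∈ N, n * n = 1)
    (hcam : ∀ x : G, x ∉ N → ∀ n ∈ N, IsConj x (x * n))
    (t : G) (ht : t * t = 1) : t ∈ N := by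
  by_contra ht'
  apply ht'
  apply hcent
  rw [Subgroup.mem_centralizer_iff]
  intro n hn
  obtain ⟨c, hc⟩ := isConj_iff.mp (hcam t ht' n hn)
  have h1 : t * n * (t * n) = 1 := by
    rw [← hc]
    have : c * t * c⁻¹ * (c * t * c⁻¹) = c * (t * t) * c⁻¹ := by group
    rw [this, ht]
    group
  have e : n * t = t * (t * n * (t * n)) * n := by
    have : t * (t * n * (t * n)) * n = (t * t) * n * t * (n * n) := by group
    rw [this, ht, hsq n hn]
    group
  rw [e, h1]
  group

end Cfsg.Agent.Lib.Helper61.Gag
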