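import Mathlib
import Cfsg.Agent.Lib.Helper45.SLCard

/-!
# K-G2I-N2 (keystone 217713, row S2177, architect helper37): `|SL₂(F)| < |F|³`
-/

set_option autoImplicit false

namespace Cfsg.Agent.Lib.Helper61.G2Inv

/-- **LEAF N2** (217713). -/
theorem card_SL2_lt {F : Type*} [Field F] [Fintype F] :
    Nat.card (Matrix.SpecialLinearGroup (Fin 2) F) < Nat.card F ^ 3 := by
  rw [Cfsg.Agent.Lib.Helper45.card_SL2, Nat.card_eq_fintype_card]
  have hq : 2 ≤ Fintype.card F := Fintype.one_lt_card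
  obtain ⟨q, hq'⟩ : ∃ q, Fintype.card F = q := ⟨_, rfl⟩
  rw [hq'] at hq ⊢
  have h1 : 0 < q ^ 2 := by positivity
  have h2 : q ^ 2 - 1 < q ^ 2 := by omega
  calc q * (q ^ 2 - 1) < q * q ^ 2 := Nat.mul_lt_mul_of_pos_left h2 (by omega)
    _ = q ^ 3 := by ring

end Cfsg.Agent.Lib.Helper61.G2Inv
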