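import Mathlib
import Cfsg.Agent.Lib.Helper38.CD3.Defs
import Cfsg.Agent.Lib.Helper83.CharMisc

/-!
# Pack K-CD3 (S4460), leaf N10: all irreducible characters linear => commutative
-/

set_option autoImplicit false

namespace Cfsg.Agent.Lib.Helper61.CD3

open Cfsg Cfsg.Agent.Lib.Helper97

universe u

variable {G : Type u} [Group G] [Finite G]

/-- 446010 N10 : a group whose irreducible characters are all linear is commutative. -/
theorem comm_of_all_linear (hlin : ∀ χ : IrrCharacter G, charDegree (χ : G → ℂ) = 1) :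
    ∀ a b : G, a * b = b * a := by
  by_contra hnc
  obtain ⟨χ, hχ⟩ := Cfsg.Agent.Lib.Helper83.exists_nonlinear_of_not_comm hnc
  apply hχ
  have h1 := Cfsg.Agent.Lib.Helper83.charDegree_cast
    (Cfsg.Agent.Lib.Helper83.IrrCharacter_isCharacter χ)
  rw [← h1, hlin χ]
  simp

end Cfsg.Agent.Lib.Helper61.CD3
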