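import Mathlib
import Cfsg.Prelude.Def_GeometricClasses
import Cfsg.Agent.Lib.Helper61.AschDefs
import Cfsg.Agent.Lib.Helper61.AschUDefs
import Cfsg.Agent.Lib.Helper04.AschE3
import Cfsg.Agent.Lib.Helper40.GUConj
import Cfsg.Agent.Lib.Helper22.AschUE6

/-!
# K-S5663-E6, version 2: `exists_tensorPowerForm_fac`

helper22's `exists_tensorPowerForm` (keystone 272) with the additional clause that the factor algebras of the new tensor
basis are those of the old one.  The proof is helper22's, re-run with the witness `P * b` visible.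
-/

set_option autoImplicit false

namespace Cfsg.Agent.Lib.Helper61.AschU

open Cfsg Cfsg.Geo
open Cfsg.Agent.Lib.Helper22.AschU
open scoped Matrix Kronecker MatrixGroups

section main

open Cfsg.Agent.Lib.Helper61.Asch Cfsg.Agent.Lib.Helper61.AschU

variable {F : Type*} [Field F] [Fintype F] {n q : ℕ}

local notation "V" => (Fin n → F)
local notation "𝔥" => hermForm n F q
local notation "pA" => Cfsg.Agent.Lib.Helper04.Asch.pureAt
local notation "PT" => Cfsg.Agent.Lib.Helper04.Asch.PT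

/-- K-S5663-E6, version 2 (third conjunct: the factor algebras are unchanged).  The proof is helper22's proof of
`Cfsg.Agent.Lib.Helper22.AschU.exists_tensorPowerForm` with one more clause. -/
theorem exists_tensorPowerForm_fac (hF : Fintype.card F = q ^ 2) (K : Subgroup (GL (Fin n) F)) (m t : ℕ) (hm : 1 ≤ m)
    (ht : 1 ≤ t) (e : Fin n ≃ (Fin t → Fin m)) (P : GL (Fin n) F) (hK : K ≤ tensorWreathSubgroup m t e P)
    (hadj : ∀ (i : Fin t) (x : Matrix (Fin m) (Fin m) F), ∃ y : Matrix (Fin m) (Fin m) F,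
      ∀ u v : V, 𝔥 (fac m t e P i x *ᵥ u) v = 𝔥 u (fac m t e P i y *ᵥ v)) :
    ∃ P' : GL (Fin n) F, IsTensorPowerFormStructure (fun x : F => x ^ q) 𝔥 (hermForm m F q) e P' ∧
      K ≤ tensorWreathSubgroup m t e P' ∧
      ∀ (i : Fin t) (x : Matrix (Fin m) (Fin m) F), ∃ y : Matrix (Fin m) (Fin m) F,
        fac m t e P i x = fac m t e P' i y := by
  classical
  obtain ⟨φ, hφq, hφ2, θ₀, hθ₀⟩ := Cfsg.Agent.Lib.Helper40.GUConj.exists_frob hF
  have hq0 : q ≠ 0 := by
    rintro rfl
    have h1 : 1 < Fintype.card F := Fintype.one_lt_card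
    rw [hF] at h1
    simp at h1
  obtain ⟨Pm, hPm⟩ : ∃ Pm : Matrix (Fin n) (Fin n) F, Pm = (P : Matrix (Fin n) (Fin n) F) := ⟨_, rfl⟩
  obtain ⟨Pi', hPi⟩ : ∃ Pi' : Matrix (Fin n) (Fin n) F,
      Pi' = ((P⁻¹ : GL (Fin n) F) : Matrix (Fin n) (Fin n) F) := ⟨_, rfl⟩
  have hPP : Pm * Pi' = 1 := by rw [hPm, hPi, ← Units.val_mul, mul_inv_cancel, Units.val_one]
  have hPP' : Pi' * Pm = 1 := by rw [hPm, hPi, ← Units.val_mul, inv_mul_cancel, Units.val_one]
  obtain ⟨R, hR⟩ : ∃ R : Matrix (Fin n) (Fin t → Fin m) F, R = Pm.submatrix id e.symm := ⟨_, rfl⟩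
  obtain ⟨Ri, hRi⟩ : ∃ Ri : Matrix (Fin t → Fin m) (Fin n) F, Ri = Pi'.submatrix e.symm id := ⟨_, rfl⟩
  have hRRi : R * Ri = 1 := by
    rw [hR, hRi, Matrix.submatrix_mul_equiv, hPP, Matrix.submatrix_id_id]
  have hRiR : Ri * R = 1 := by
    have h1 := Matrix.submatrix_mul_equiv Pi' Pm e.symm (Equiv.refl _) e.symm
    simp only [Equiv.coe_refl] at h1
    rw [hR, hRi, h1, hPP', Matrix.submatrix_one_equiv]
  have hfac : ∀ (i : Fin t) (x : Matrix (Fin m) (Fin m) F), fac m t e P i x = R * pA m t i x * Ri := by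
    intro i x
    have h1 : Pm = R.submatrix id e := by
      ext a b; simp [hR]
    have h2 : Pi' = Ri.submatrix e id := by
      ext a b; simp [hRi]
    have h3 : Cfsg.Agent.Lib.Helper61.AschU.pureAt m t i x = pA m t i x := rfl
    unfold fac
    rw [← hPm, ← hPi, h3, Matrix.reindex_apply, Equiv.symm_symm, h1, h2, Matrix.submatrix_mul_equiv,
      Matrix.submatrix_mul_equiv, Matrix.submatrix_id_id]
  obtain ⟨B, c₀, hc₀, hcore⟩ := core (Nat.lt_of_lt_of_le Nat.zero_lt_one hm) φ hφq hφ2 θ₀ hθ₀ R Ri hRRi hRiR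
    (by
      intro i x
      obtain ⟨y, hy⟩ := hadj i x
      refine ⟨y, ?_⟩
      intro u v
      rw [← hfac, ← hfac]
      exact hy u v)
  obtain ⟨b, hb⟩ : ∃ b : GL (Fin n) F, b = glReindex e.symm (Cfsg.Agent.Lib.Helper04.Asch.ptGL B) := ⟨_, rfl⟩
  have hbval : (b : Matrix (Fin n) (Fin n) F)
      = (PT (fun i => (B i : Matrix (Fin m) (Fin m) F))).submatrix e e := by
    rw [hb]; rfl
  refine ⟨P * b, ⟨c₀, hc₀, ?_⟩, ?_, ?_⟩
  · intro x y
    have hvec : ∀ z : (Fin t → Fin m) → F, ((P * b : GL (Fin n) F) : Matrix (Fin n) (Fin n) F) *ᵥ (z ∘ e)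
        = (R * PT (fun i => (B i : Matrix (Fin m) (Fin m) F))) *ᵥ z := by
      intro z
      rw [Units.val_mul, hbval, ← hPm, ← Matrix.mulVec_mulVec, ← Matrix.mulVec_mulVec, hR,
        Matrix.submatrix_mulVec_equiv, Matrix.submatrix_mulVec_equiv]
      simp [Function.comp_assoc]
    have hgram : ∀ a b : Fin m, gramMatrix (hermForm m F q) a b = if a = b then 1 else 0 := by
      intro a b
      unfold gramMatrix hermForm
      by_cases hab : a = b
      · subst hab
        simp [Pi.single_apply, hq0]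
      · simp [Pi.single_apply, hq0, hab, Ne.symm hab]
    rw [hvec, hvec, herm_rect φ hφq, hcore]
    simp only [hgram, Finset.prod_ite_zero, Finset.mem_univ, forall_const, Finset.prod_const_one]
    rw [Matrix.smul_mulVec, Matrix.one_mulVec, dotProduct_smul, smul_eq_mul]
    congr 1
    unfold dotProduct
    apply Finset.sum_congr rfl
    intro a _
    rw [Finset.sum_eq_single a]
    · simp [hφq]
    · intro b' _ hb'
      have : ¬ ∀ i, a i = b' i := fun h => hb' (funext h).symm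
      simp [this]
    · intro h; exact absurd (Finset.mem_univ a) h
  · intro g hg
    have h1 := hK hg
    unfold tensorWreathSubgroup at h1 ⊢
    rw [Subgroup.mem_map] at h1 ⊢
    obtain ⟨h, hh, rfl⟩ := h1
    have hbW : b ∈ (tensorWreathStandard m t F).map (glReindex e.symm).toMonoidHom := by
      rw [hb]
      exact Subgroup.mem_map_of_mem _ (Subgroup.subset_closure
        (Or.inl (Cfsg.Agent.Lib.Helper04.Asch.ptGL_isPureTensor B)))
    refine ⟨b⁻¹ * h * b, Subgroup.mul_mem _ (Subgroup.mul_mem _ (Subgroup.inv_mem _ hbW) hh) hbW, ?_⟩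
    show MulAut.conj (P * b) (b⁻¹ * h * b) = MulAut.conj P h
    rw [MulAut.conj_apply, MulAut.conj_apply]
    group
  · intro i x
    refine ⟨(((B i)⁻¹ : GL (Fin m) F) : Matrix (Fin m) (Fin m) F) * x * (B i : Matrix (Fin m) (Fin m) F), ?_⟩
    have hbinv : ((b⁻¹ : GL (Fin n) F) : Matrix (Fin n) (Fin n) F)
        = (((Cfsg.Agent.Lib.Helper04.Asch.ptGL B)⁻¹ : GL (Fin t → Fin m) F) :
            Matrix (Fin t → Fin m) (Fin t → Fin m) F).submatrix e e := by
      rw [hb, ← map_inv]; rfl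
    have hbval' : (b : Matrix (Fin n) (Fin n) F)
        = ((Cfsg.Agent.Lib.Helper04.Asch.ptGL B : GL (Fin t → Fin m) F) :
            Matrix (Fin t → Fin m) (Fin t → Fin m) F).submatrix e e := by
      rw [hb]; rfl
    have hconj := Cfsg.Agent.Lib.Helper04.Asch.ptGL_conj_pureAt B i
      ((((B i)⁻¹ : GL (Fin m) F) : Matrix (Fin m) (Fin m) F) * x * (B i : Matrix (Fin m) (Fin m) F))
    have hx : (B i : Matrix (Fin m) (Fin m) F) *
        ((((B i)⁻¹ : GL (Fin m) F) : Matrix (Fin m) (Fin m) F) * x * (B i : Matrix (Fin m) (Fin m) F)) *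
        (((B i)⁻¹ : GL (Fin m) F) : Matrix (Fin m) (Fin m) F) = x := by
      have h1 : (B i : Matrix (Fin m) (Fin m) F) * (((B i)⁻¹ : GL (Fin m) F) : Matrix (Fin m) (Fin m) F) = 1 := by
        rw [← Units.val_mul, mul_inv_cancel, Units.val_one]
      calc _ = ((B i : Matrix (Fin m) (Fin m) F) * (((B i)⁻¹ : GL (Fin m) F) : Matrix (Fin m) (Fin m) F)) * x *
            ((B i : Matrix (Fin m) (Fin m) F) * (((B i)⁻¹ : GL (Fin m) F) : Matrix (Fin m) (Fin m) F)) := by
              simp only [Matrix.mul_assoc]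
        _ = x := by rw [h1, Matrix.one_mul, Matrix.mul_one]
    rw [hx] at hconj
    have h3 : Cfsg.Agent.Lib.Helper61.AschU.pureAt m t i x = pA m t i x := rfl
    have h4 : ∀ z : Matrix (Fin m) (Fin m) F, Cfsg.Agent.Lib.Helper61.AschU.pureAt m t i z = pA m t i z := fun _ => rfl
    have key : (b : Matrix (Fin n) (Fin n) F) *
        (pA m t i ((((B i)⁻¹ : GL (Fin m) F) : Matrix (Fin m) (Fin m) F) * x *
          (B i : Matrix (Fin m) (Fin m) F))).submatrix e e *
        ((b⁻¹ : GL (Fin n) F) : Matrix (Fin n) (Fin n) F) = (pA m t i x).submatrix e e := by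
      rw [hbval', hbinv, Matrix.submatrix_mul_equiv, Matrix.submatrix_mul_equiv, hconj]
    unfold fac
    rw [mul_inv_rev, Units.val_mul, Units.val_mul, h3, h4, Matrix.reindex_apply,
      Matrix.reindex_apply, Equiv.symm_symm, ← key]
    simp only [Matrix.mul_assoc]

end main

end Cfsg.Agent.Lib.Helper61.AschU
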