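import Mathlib
import Cfsg.Prelude.Def_GeometricClasses
import Cfsg.Agent.Lib.Helper61.AschDefs
import Cfsg.Agent.Lib.Helper61.AschBasic
import Cfsg.Agent.Lib.Helper61.AschUDefs
import Cfsg.Agent.Lib.Helper19.Unitary
import Cfsg.Agent.Lib.Helper19.UnitaryDet

/-!
Glue for S5663, part A: elementary facts on the standard unitary form and constructors of `UGeom`.
-/

set_option autoImplicit false

namespace Cfsg.Agent.Lib.Helper61.AschU

open Cfsg Cfsg.Geo Cfsg.Agent.Lib.Helper61.Asch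
open scoped Matrix Kronecker MatrixGroups

variable {F : Type*} [Field F] [Fintype F] {n q : ℕ}

local notation "Z" => scalars (Fin n) F
local notation "𝔥" => hermForm n F q
local notation "Δ" => similarityGroup (hermForm n F q)

theorem hermForm_single_right (hq : 0 < q) (k : ℕ) (v : Fin k → F) (i : Fin k) :
    hermForm k F q v (Pi.single i 1) = v i := by
  classical
  unfold hermForm
  rw [Finset.sum_eq_single i]
  · simp
  · intro j _ hj
    rw [Pi.single_apply, if_neg hj, zero_pow (by omega), mul_zero]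
  · intro h; exact absurd (Finset.mem_univ i) h

theorem hermForm_single_left (hq : 0 < q) (k : ℕ) (v : Fin k → F) (i : Fin k) :
    hermForm k F q (Pi.single i 1) v = (v i) ^ q := by
  classical
  unfold hermForm
  rw [Finset.sum_eq_single i]
  · simp
  · intro j _ hj
    rw [Pi.single_apply, if_neg hj, zero_mul]
  · intro h; exact absurd (Finset.mem_univ i) h

/-- the standard unitary form is a non-degenerate unitary form -/
theorem isUnitaryFormPow_hermForm (hF : Fintype.card F = q ^ 2) (k : ℕ) :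
    IsUnitaryFormPow q (hermForm k F q) := by
  have hq : 0 < q := Cfsg.Agent.Lib.Helper19.q_pos hF
  refine ⟨fun x y v => Cfsg.Agent.Lib.Helper19.hermForm_add_left x y v,
    fun c x v => Cfsg.Agent.Lib.Helper19.hermForm_smul_left c x v,
    fun v w => (Cfsg.Agent.Lib.Helper19.hermForm_conj hF w v).symm, ?_⟩
  intro v hv
  obtain ⟨i, hi⟩ : ∃ i, v i ≠ 0 := by
    by_contra h
    push Not at h
    exact hv (funext h)
  refine ⟨⟨Pi.single i 1, ?_⟩, ⟨Pi.single i 1, ?_⟩⟩
  · rw [hermForm_single_left hq]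
    exact pow_ne_zero _ hi
  · rw [hermForm_single_right hq]
    exact hi

/-- isometries are similarities -/
theorem GU_le_delta : GU n F q ≤ Δ := by
  intro g hg
  rw [Cfsg.Agent.Lib.Helper19.mem_GU_iff] at hg
  exact ⟨1, fun u v => by rw [hg, Units.val_one, one_mul]⟩

/-- scalars are similarities -/
theorem scalars_le_delta : Z ≤ Δ := by
  intro g hg
  obtain ⟨c, hc⟩ := (mem_scalars_iff g).mp hg
  refine ⟨c * c ^ q, fun u v => ?_⟩
  rw [hc, Matrix.smul_mulVec, Matrix.one_mulVec, Matrix.smul_mulVec, Matrix.one_mulVec,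
    Cfsg.Agent.Lib.Helper19.hermForm_smul_left, Cfsg.Agent.Lib.Helper19.hermForm_smul_right]
  push_cast
  ring

theorem sup_scalars_le_delta {H : Subgroup (GL (Fin n) F)} (hH : H ≤ GU n F q) : H ⊔ Z ≤ Δ :=
  sup_le (hH.trans GU_le_delta) scalars_le_delta

/-- membership in `Δ` as an `IsSim` statement -/
theorem exists_isSim_of_mem_delta {g : GL (Fin n) F} (hg : g ∈ Δ) : ∃ c : F, c ≠ 0 ∧ IsSim 𝔥 g c := by
  obtain ⟨c, hc⟩ := hg
  exact ⟨c, c.ne_zero, hc⟩

theorem UGeom.mono {K K' : Subgroup (GL (Fin n) F)} (h : UGeom n q K) (hK : K' ≤ K) : UGeom n q K' := by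
  obtain ⟨M, hM, hKM⟩ := h
  exact ⟨M, hM, (inf_le_inf_right _ hK).trans hKM⟩

/-- class 3 -/
theorem UGeom.of_c3 {K : Subgroup (GL (Fin n) F)}
    (h : ∃ (r : ℕ) (E : Subalgebra F (Matrix (Fin n) (Fin n) F)), r.Prime ∧ Odd r ∧ IsFieldSubalgebra r E ∧
      IsAdjointClosedFor 𝔥 E ∧ K ≤ subalgebraNormalizer E) : UGeom n q K := by
  obtain ⟨r, E, hr, hodd, hE, hadj, hK⟩ := h
  exact ⟨_, Or.inr (Or.inl ⟨r, E, hr, hodd, hE, hadj, rfl⟩), inf_le_inf_right _ hK⟩

/-- class 7 -/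
theorem UGeom.of_c7 {K : Subgroup (GL (Fin n) F)} (k t : ℕ) (e : Fin n ≃ (Fin t → Fin k)) (P : GL (Fin n) F)
    (f₁ : (Fin k → F) → (Fin k → F) → F) (hk : 3 ≤ k) (ht : 2 ≤ t) (hqk : ¬ (q = 2 ∧ k = 3))
    (h₁ : IsUnitaryFormPow q f₁) (hT : IsTensorPowerFormStructure (fun x : F => x ^ q) 𝔥 f₁ e P)
    (hK : K ≤ tensorWreathSubgroup k t e P) : UGeom n q K :=
  ⟨_, Or.inr (Or.inr (Or.inr ⟨k, t, e, P, f₁, hk, ht, hqk, h₁, hT, rfl⟩)), inf_le_inf_right _ hK⟩

end Cfsg.Agent.Lib.Helper61.AschU
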