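import Mathlib
import Cfsg.Prelude.Def_GeometricClasses
import Cfsg.Agent.Lib.Helper61.AschDefs
import Cfsg.Agent.Lib.Helper61.AschBasic
import Cfsg.Agent.Lib.Helper61.AschGlueA
import Cfsg.Agent.Lib.Helper61.AschUDefs
import Cfsg.Agent.Lib.Helper61.AschUGlueA
import Cfsg.Agent.Lib.Helper80.AschD1
import Cfsg.Agent.Lib.Helper19.AschD2Core
import Cfsg.Agent.Lib.Helper04.AschUB6eDefs
import Cfsg.Agent.Lib.Helper14.AschUB6e5
import Cfsg.Agent.Lib.Helper32.AschUB6e0
import Cfsg.Agent.Lib.Helper60.AschUB6eSpan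
import Cfsg.Agent.Lib.Helper68.AschUB6e4
import Cfsg.Agent.Lib.Helper94.AschUB6e2

/-!
# K-S5663-B6e, glue: from the Heisenberg group `3^{1+2} ≤ GU₃(2)` to the class-6 member `N(3^{1+4})` of `GU₉(2)`

Sub-leaves of helper4's split (keystones 26901-26906): helper14 (5), helper32/helper59 (0), helper60 (3), helper68 (4), helper94 (2);
the Heisenberg group itself (26901, helper4) enters as the hypothesis `IsHeis3`.
-/

set_option autoImplicit false

namespace Cfsg.Agent.Lib.Helper61.AschU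

open Cfsg Cfsg.Geo Cfsg.Agent.Lib.Helper61.Asch Cfsg.Agent.Lib.Helper04.AschU
open scoped Matrix Kronecker MatrixGroups

variable {F : Type*} [Field F] [Fintype F] {n : ℕ}

/-- the properties of the Heisenberg group `R₁ = 3^{1+2} ≤ GU₃(2)` (conclusion of keystone 26901 `exists_heis3`). -/
structure IsHeis3 (R₁ : Subgroup (GL (Fin 3) F)) : Prop where
  scal : scalars (Fin 3) F ≤ R₁
  card : Nat.card R₁ = 27
  exp : ∀ A ∈ R₁, A ^ 3 = 1
  cent : ∀ A ∈ R₁, (∀ B ∈ R₁, A * B = B * A) → A ∈ scalars (Fin 3) F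
  span : Submodule.span F (matrixSet R₁) = ⊤
  le_GU : R₁ ≤ GU 3 F 2
  norm : ∀ g ∈ GU 3 F 2, ∀ A ∈ R₁, g * A * g⁻¹ ∈ R₁
  four : ∃ g ∈ GU 3 F 2, ∀ A ∈ R₁, A * (g * A * g⁻¹) = g * A * g⁻¹ * A → A ∈ scalars (Fin 3) F

theorem charP_two_of_card_four (hF : Fintype.card F = 2 ^ 2) : CharP F 2 := by
  obtain ⟨p, hp⟩ := CharP.exists F
  haveI := hp
  obtain ⟨k, hpp, hk⟩ := FiniteField.card F p
  rw [hF] at hk
  have h2 : p ∣ 2 ^ 2 := by rw [hk]; exact dvd_pow_self p k.ne_zero
  have h3 : p = 2 := (Nat.prime_dvd_prime_iff_eq hpp Nat.prime_two).mp (hpp.dvd_of_dvd_pow h2)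
  subst h3
  exact hp

/-- injectivity of `tensPair` in the first variable (second variable fixed) -/
theorem tensPair_left_cancel {a b : ℕ} (ha : 0 < a) (hb : 0 < b) {ι : Type} [Fintype ι] [DecidableEq ι]
    (e : ι ≃ Fin a × Fin b) (P : GL ι F)
    (X X' : GL (Fin a) F) (Y : GL (Fin b) F) (h : tensPair e P (X, Y) = tensPair e P (X', Y)) : X = X' := by
  have h1 : tensPair e P (X * X'⁻¹, 1) = 1 := by
    have : ((X * X'⁻¹, (1 : GL (Fin b) F)) : GL (Fin a) F × GL (Fin b) F) = (X, Y) * (X', Y)⁻¹ := by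
      rw [Prod.inv_mk, Prod.mk_mul_mk, mul_inv_cancel]
    rw [this, map_mul, map_inv, h, mul_inv_cancel]
  obtain ⟨c, hc1, hc2⟩ := (Cfsg.Agent.Lib.Helper94.AschU.tensPair_eq_one_iff ha hb e P _ _).mp h1
  haveI : Nonempty (Fin b) := ⟨⟨0, hb⟩⟩
  have hc : ((c⁻¹ : Fˣ) : F) = 1 := by
    have := congrFun (congrFun hc2 ⟨0, hb⟩) ⟨0, hb⟩
    simpa using this.symm
  have hc' : c = 1 := by
    have : c⁻¹ = 1 := Units.ext hc
    simpa using this
  rw [hc', Units.val_one, one_smul] at hc1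
  have h2 : X * X'⁻¹ = 1 := Units.ext (by rw [hc1, Units.val_one])
  exact mul_inv_eq_one.mp h2

theorem tensPair_right_cancel {a b : ℕ} (ha : 0 < a) (hb : 0 < b) {ι : Type} [Fintype ι] [DecidableEq ι]
    (e : ι ≃ Fin a × Fin b) (P : GL ι F)
    (X : GL (Fin a) F) (Y Y' : GL (Fin b) F) (h : tensPair e P (X, Y) = tensPair e P (X, Y')) : Y = Y' := by
  have h1 : tensPair e P (1, Y * Y'⁻¹) = 1 := by
    have : (((1 : GL (Fin a) F), Y * Y'⁻¹) : GL (Fin a) F × GL (Fin b) F) = (X, Y) * (X, Y')⁻¹ := by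
      rw [Prod.inv_mk, Prod.mk_mul_mk, mul_inv_cancel]
    rw [this, map_mul, map_inv, h, mul_inv_cancel]
  obtain ⟨c, hc1, hc2⟩ := (Cfsg.Agent.Lib.Helper94.AschU.tensPair_eq_one_iff ha hb e P _ _).mp h1
  haveI : Nonempty (Fin a) := ⟨⟨0, ha⟩⟩
  have hc : ((c : Fˣ) : F) = 1 := by
    have := congrFun (congrFun hc1 ⟨0, ha⟩) ⟨0, ha⟩
    simpa using this.symm
  have hc' : c = 1 := Units.ext hc
  rw [hc', inv_one, Units.val_one, one_smul] at hc2
  have h2 : Y * Y'⁻¹ = 1 := Units.ext (by rw [hc2, Units.val_one])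
  exact mul_inv_eq_one.mp h2

/-- a characteristic subgroup of `R` is invariant under conjugation by an element normalising `R` -/
theorem conj_mem_of_characteristic {G : Type*} [Group G] (R : Subgroup G) (A : Subgroup R) (hA : A.Characteristic)
    (g : G) (hg : ∀ x ∈ R, g * x * g⁻¹ ∈ R) (hg' : ∀ x ∈ R, g⁻¹ * x * g ∈ R) (a : R) (ha : a ∈ A) :
    (⟨g * a * g⁻¹, hg a a.2⟩ : R) ∈ A := by
  let α : R ≃* R :=
    { toFun := fun x => ⟨g * x * g⁻¹, hg x x.2⟩
      invFun := fun x => ⟨g⁻¹ * x * g, hg' x x.2⟩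
      left_inv := fun x => by
        apply Subtype.ext
        simp [mul_assoc]
      right_inv := fun x => by
        apply Subtype.ext
        simp [mul_assoc]
      map_mul' := fun x y => by
        apply Subtype.ext
        simp [mul_assoc] }
  have h1 := hA.fixed α
  have h2 : a ∈ A.comap α.toMonoidHom := by rw [h1]; exact ha
  exact h2

section main

local notation "Z" => scalars (Fin n) F

/-- the class-6 placement: with a Heisenberg group `R₁` and a standard tensor form structure, `K` lies in the normaliser of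
`R = P (R₁ ⊗ R₁) P⁻¹`, a member of the last alternative of `InUnitaryPartialClass`. -/
theorem ugeom_of_heis3 (hF : Fintype.card F = 2 ^ 2) (R₁ : Subgroup (GL (Fin 3) F)) (hR₁ : IsHeis3 R₁)
    (K : Subgroup (GL (Fin n) F)) (e : Fin n ≃ Fin 3 × Fin 3) (P : GL (Fin n) F)
    (hK : K ≤ tensorProductSubgroup 3 3 e P)
    (hT : IsTensorFormStructure (fun x : F => x ^ 2) (hermForm n F 2) (hermForm 3 F 2) (hermForm 3 F 2) e P) :
    UGeom n 2 K := by
  classical
  have h3 : (0 : ℕ) < 3 := by norm_num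
  have hn9 : n = 9 := by
    have := Fintype.card_congr e
    simpa using this
  haveI : NeZero n := ⟨by omega⟩
  obtain ⟨R, hRdef⟩ : ∃ R : Subgroup (GL (Fin n) F), R = (R₁.prod R₁).map (tensPair e P) := ⟨_, rfl⟩
  have hmemR : ∀ x, x ∈ R ↔ ∃ A ∈ R₁, ∃ B ∈ R₁, tensPair e P (A, B) = x := by
    intro x
    rw [hRdef, Subgroup.mem_map]
    constructor
    · rintro ⟨⟨A, B⟩, hAB, rfl⟩
      rw [Subgroup.mem_prod] at hAB
      exact ⟨A, hAB.1, B, hAB.2, rfl⟩
    · rintro ⟨A, hA, B, hB, rfl⟩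
      exact ⟨(A, B), Subgroup.mem_prod.mpr ⟨hA, hB⟩, rfl⟩
  have hRexp : ∀ x ∈ R, x ^ 3 = 1 := by
    intro x hx
    obtain ⟨A, hA, B, hB, rfl⟩ := (hmemR x).mp hx
    rw [← map_pow, Prod.pow_mk, hR₁.exp A hA, hR₁.exp B hB]
    exact map_one _
  have hspan : spanAlg R = ⊤ := by
    rw [hRdef]
    exact Cfsg.Agent.Lib.Helper60.AschU.spanAlg_map_tensPair e P R₁ R₁ hR₁.span hR₁.span
  have hRGU : R ≤ GU n F 2 := by
    intro x hx
    obtain ⟨A, hA, B, hB, rfl⟩ := (hmemR x).mp hx
    exact Cfsg.Agent.Lib.Helper68.AschU.tensPair_mem_GU hF e P hT A B (hR₁.le_GU hA) (hR₁.le_GU hB)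
  have hZR : Z ≤ R := by
    intro g hg
    obtain ⟨c, hc⟩ := (mem_scalars_iff g).mp hg
    rw [hmemR]
    refine ⟨Cfsg.Agent.Lib.Helper94.AschU.scG 3 c, hR₁.scal (Cfsg.Agent.Lib.Helper94.AschU.scG_mem 3 c), 1,
      R₁.one_mem, ?_⟩
    apply Units.ext
    rw [tensPair_val, hc, Cfsg.Agent.Lib.Helper94.AschU.conj_submatrix_eq_smul_one_iff,
      Cfsg.Agent.Lib.Helper94.AschU.scG_val]
    have : ((1 : GL (Fin 3) F) : Matrix (Fin 3) (Fin 3) F) = (1 : F) • (1 : Matrix (Fin 3) (Fin 3) F) := by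
      rw [Units.val_one, one_smul]
    rw [this, Cfsg.Agent.Lib.Helper94.AschU.smul_one_kron_smul_one, mul_one]
  -- the centre of `R` is the group of scalars
  have hcenterEq : (Z : Subgroup (GL (Fin n) F)).subgroupOf R = Subgroup.center R := by
    ext a
    rw [Subgroup.mem_subgroupOf, Subgroup.mem_center_iff]
    constructor
    · intro ha b
      apply Subtype.ext
      exact (scalar_comm ha (b : GL (Fin n) F)).symm
    · intro ha
      apply mem_scalars_of_commute hspan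
      intro y hy
      exact (congrArg Subtype.val (ha ⟨y, hy⟩)).symm
  have hcardF : Nat.card Fˣ = 3 := by
    rw [Nat.card_units, Nat.card_eq_fintype_card, hF]
    norm_num
  have hcenter : Nat.card (Subgroup.center R) = 3 := by
    rw [← hcenterEq]
    have h1 : Nat.card ((Z : Subgroup (GL (Fin n) F)).subgroupOf R) = Nat.card (Z : Subgroup (GL (Fin n) F)) :=
      Nat.card_congr (Subgroup.subgroupOfEquivOfLe hZR).toEquiv
    rw [h1, Cfsg.Agent.Lib.Helper80.Asch.card_scalars, hcardF]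
  have hcardR : Nat.card R = 3 ^ (1 + 2 * 2) := by
    have h1 := Cfsg.Agent.Lib.Helper94.AschU.card_map_tensPair h3 h3 e P R₁ R₁ hR₁.scal hR₁.scal
    rw [← hRdef, hR₁.card, hF] at h1
    norm_num at h1 ⊢
    omega
  -- conjugation by Kronecker products of unitary matrices
  have hconjT : ∀ (A B A' B' : GL (Fin 3) F),
      tensPair e P (A, B) * tensPair e P (A', B') * (tensPair e P (A, B))⁻¹ =
        tensPair e P (A * A' * A⁻¹, B * B' * B⁻¹) := by
    intro A B A' B'
    rw [← map_inv, ← map_mul, ← map_mul, Prod.inv_mk, Prod.mk_mul_mk, Prod.mk_mul_mk]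
  have hnormGU : ∀ A ∈ GU 3 F 2, ∀ B ∈ GU 3 F 2, ∀ x ∈ R,
      tensPair e P (A, B) * x * (tensPair e P (A, B))⁻¹ ∈ R := by
    intro A hA B hB x hx
    obtain ⟨A', hA', B', hB', rfl⟩ := (hmemR x).mp hx
    rw [hconjT, hmemR]
    exact ⟨_, hR₁.norm A hA A' hA', _, hR₁.norm B hB B' hB', rfl⟩
  have hnormK : NormBy (K ⊓ GU n F 2) R := by
    intro g hg x hx
    obtain ⟨A, B, rfl⟩ := (mem_tensorProductSubgroup_iff e P g).mp (hK hg.1)
    obtain ⟨hA, hB⟩ := Cfsg.Agent.Lib.Helper14.AschU.mem_GU_of_tensPair_mem_GU hF h3 h3 e P hT A B hg.2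
    exact hnormGU A hA B hB x hx
  haveI hZcyc : IsCyclic (Z : Subgroup (GL (Fin n) F)) := by
    rw [Cfsg.Agent.Lib.Helper80.Asch.scalars_eq_range]
    exact isCyclic_of_surjective (Cfsg.Agent.Lib.Helper80.Asch.scHom n F).rangeRestrict
      (Cfsg.Agent.Lib.Helper80.Asch.scHom n F).rangeRestrict_surjective
  have hsymp : IsSymplecticTypeGroup 3 R := by
    refine ⟨Nat.prime_three, ?_, ?_, ?_⟩
    · intro x
      refine ⟨1, ?_⟩
      apply Subtype.ext
      rw [pow_one, Subgroup.coe_pow, Subgroup.coe_one]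
      exact hRexp x x.2
    · intro A hA hAc
      obtain ⟨g₀, hg₀, hfour⟩ := hR₁.four
      have hg₀' : g₀⁻¹ ∈ GU 3 F 2 := (GU 3 F 2).inv_mem hg₀
      have h1GU : (1 : GL (Fin 3) F) ∈ GU 3 F 2 := (GU 3 F 2).one_mem
      have hAZ : A.map R.subtype ≤ Z := by
        rintro _ ⟨a, ha, rfl⟩
        obtain ⟨A₁, hA₁, B₁, hB₁, hab⟩ := (hmemR (a : GL (Fin n) F)).mp a.2
        show (a : GL (Fin n) F) ∈ Z
        rw [← hab, Cfsg.Agent.Lib.Helper94.AschU.tensPair_mem_scalars_iff h3 h3]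
        constructor
        · -- first factor
          have hG : ∀ x ∈ R, tensPair e P (g₀, 1) * x * (tensPair e P (g₀, 1))⁻¹ ∈ R :=
            hnormGU g₀ hg₀ 1 h1GU
          have hG' : ∀ x ∈ R, (tensPair e P (g₀, 1))⁻¹ * x * tensPair e P (g₀, 1) ∈ R := by
            intro x hx
            have := hnormGU g₀⁻¹ hg₀' 1 h1GU x hx
            have h2 : tensPair e P (g₀⁻¹, 1) = (tensPair e P (g₀, 1))⁻¹ := by
              rw [← map_inv, Prod.inv_mk, inv_one]
            rw [h2, inv_inv] at this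
            exact this
          have hα := conj_mem_of_characteristic R A hA _ hG hG' a ha
          have hc := hAc.is_comm.comm (⟨a, ha⟩ : A) ⟨_, hα⟩
          have hc' := congrArg (fun x : A => ((x : R) : GL (Fin n) F)) hc
          simp only [Subgroup.coe_mul] at hc'
          rw [← hab, hconjT, ← map_mul, ← map_mul, Prod.mk_mul_mk, Prod.mk_mul_mk] at hc'
          have hb : (1 : GL (Fin 3) F) * B₁ * 1⁻¹ = B₁ := by group
          rw [hb] at hc'
          exact hfour A₁ hA₁ (tensPair_left_cancel h3 h3 e P _ _ _ hc')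
        · have hG : ∀ x ∈ R, tensPair e P (1, g₀) * x * (tensPair e P (1, g₀))⁻¹ ∈ R :=
            hnormGU 1 h1GU g₀ hg₀
          have hG' : ∀ x ∈ R, (tensPair e P (1, g₀))⁻¹ * x * tensPair e P (1, g₀) ∈ R := by
            intro x hx
            have := hnormGU 1 h1GU g₀⁻¹ hg₀' x hx
            have h2 : tensPair e P (1, g₀⁻¹) = (tensPair e P (1, g₀))⁻¹ := by
              rw [← map_inv, Prod.inv_mk, inv_one]
            rw [h2, inv_inv] at this
            exact this
          have hα := conj_mem_of_characteristic R A hA _ hG hG' a ha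
          have hc := hAc.is_comm.comm (⟨a, ha⟩ : A) ⟨_, hα⟩
          have hc' := congrArg (fun x : A => ((x : R) : GL (Fin n) F)) hc
          simp only [Subgroup.coe_mul] at hc'
          rw [← hab, hconjT, ← map_mul, ← map_mul, Prod.mk_mul_mk, Prod.mk_mul_mk] at hc'
          have hb : (1 : GL (Fin 3) F) * A₁ * 1⁻¹ = A₁ := by group
          rw [hb] at hc'
          exact hfour B₁ hB₁ (tensPair_right_cancel h3 h3 e P _ _ _ hc')
      haveI : IsCyclic (A.map R.subtype) := Subgroup.isCyclic_of_le hAZ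
      exact isCyclic_of_surjective (A.equivMapOfInjective R.subtype R.subtype_injective).symm
        (MulEquiv.surjective _)
    · have hdvd : Monoid.exponent R ∣ 3 :=
        Monoid.exponent_dvd_of_forall_pow_eq_one (fun x => Subtype.ext (by
          rw [Subgroup.coe_pow, Subgroup.coe_one]; exact hRexp x x.2))
      have hg : 3 * Nat.gcd 2 3 = 3 := by norm_num
      rw [hg]
      rcases (Nat.dvd_prime Nat.prime_three).mp hdvd with h1 | h1
      · exfalso
        have htriv : ∀ x : R, x = 1 := by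
          intro x
          have := Monoid.pow_exponent_eq_one x
          rw [h1, pow_one] at this
          exact this
        have hsub : Subsingleton R := ⟨fun x y => by rw [htriv x, htriv y]⟩
        have : Nat.card R = 1 := Nat.card_unique
        rw [hcardR] at this
        norm_num at this
      · exact h1
  have hminF : IsMinimalFieldFor (Nat.card (Subgroup.center R)) 2 2 F := by
    rw [hcenter]
    refine ⟨Nat.prime_two, charP_two_of_card_four hF, hF, by norm_num, ?_⟩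
    intro d hd0 hd2
    have hd1 : d = 1 := by omega
    subst hd1
    norm_num
  refine ⟨subgroupNormalizer R ⊓ GU n F 2, Or.inl ?_, ?_⟩
  · right; right; right; right; right; right; right
    exact ⟨3, R, 2, 2, 2, hsymp, actsAbsolutelyIrreducibly_of_spanAlg_eq_top hspan, hRGU.trans GU_le_delta,
      by norm_num, hminF, Or.inl ⟨by decide, hcenter, by norm_num, hcardR⟩, rfl⟩
  · exact le_inf (Cfsg.Agent.Lib.Helper19.Asch.le_subgroupNormalizer_of_normBy _ R hnormK) inf_le_right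

/-- K-S5663-B6e from the Heisenberg group: orthonormalise the factors (keystone 26906), then `ugeom_of_heis3`. -/
theorem ugeom_of_tensor_three_three_of_heis3 (hF : Fintype.card F = 2 ^ 2) (R₁ : Subgroup (GL (Fin 3) F))
    (hR₁ : IsHeis3 R₁) (K : Subgroup (GL (Fin n) F))
    (e : Fin n ≃ Fin 3 × Fin 3) (P : GL (Fin n) F)
    (hK : K ≤ tensorProductSubgroup 3 3 e P)
    (f₁ f₂ : (Fin 3 → F) → (Fin 3 → F) → F) (h₁ : IsUnitaryFormPow 2 f₁) (h₂ : IsUnitaryFormPow 2 f₂)
    (hT : IsTensorFormStructure (fun x : F => x ^ 2) (hermForm n F 2) f₁ f₂ e P) : UGeom n 2 K := by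
  obtain ⟨P'', hT'', hK''⟩ := Cfsg.Agent.Lib.Helper32.AschU.exists_std_tensorForm hF K e P hK f₁ f₂ h₁ h₂ hT
  exact ugeom_of_heis3 hF R₁ hR₁ K e P'' hK'' hT''

end main

end Cfsg.Agent.Lib.Helper61.AschU
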