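import Mathlib
import Cfsg.Prelude.Def_GeometricClasses
import Cfsg.Agent.Lib.Helper61.AschDefs
import Cfsg.Agent.Lib.Helper61.AschUDefs
import Cfsg.Agent.Lib.Helper61.AschUB6eGlue
import Cfsg.Agent.Lib.Helper04.AschUB6eHeis

/-!
# K-S5663-B6e assembled from helper4's Heisenberg group (`exists_heis3`, keystone 26901) and `AschUB6eGlue`.

(helper4's own assembly `Cfsg.Agent.Lib.Helper04.AschU.ugeom_of_tensor_three_three` proves the same statement; this copy
has a smaller import closure, which avoids a clash between two of helper7's modules in the closure of S5663.)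
-/

set_option autoImplicit false

namespace Cfsg.Agent.Lib.Helper61.AschU

open Cfsg Cfsg.Geo
open scoped Matrix Kronecker MatrixGroups

variable {F : Type*} [Field F] [Fintype F] {n : ℕ}

theorem ugeom_of_tensor_three_three' (hF : Fintype.card F = 2 ^ 2) (K : Subgroup (GL (Fin n) F))
    (e : Fin n ≃ Fin 3 × Fin 3) (P : GL (Fin n) F)
    (hK : K ≤ tensorProductSubgroup 3 3 e P)
    (f₁ f₂ : (Fin 3 → F) → (Fin 3 → F) → F) (h₁ : IsUnitaryFormPow 2 f₁) (h₂ : IsUnitaryFormPow 2 f₂)
    (hT : IsTensorFormStructure (fun x : F => x ^ 2) (hermForm n F 2) f₁ f₂ e P) : UGeom n 2 K := by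
  obtain ⟨R₁, h1, h2, h3, h4, h5, h6, h7, h8⟩ := Cfsg.Agent.Lib.Helper04.AschU.exists_heis3 hF
  exact ugeom_of_tensor_three_three_of_heis3 hF R₁ ⟨h1, h2, h3, h4, h5, h6, h7, h8⟩ K e P hK f₁ f₂ h₁ h₂ hT

end Cfsg.Agent.Lib.Helper61.AschU
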