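import Mathlib
import Cfsg.Prelude.Def_GeometricClasses
import Cfsg.Agent.Lib.Helper61.AschDefs
import Cfsg.Agent.Lib.Helper61.AschBasic
import Cfsg.Agent.Lib.Helper61.AschGlueA
import Cfsg.Agent.Lib.Helper61.AschGlueB
import Cfsg.Agent.Lib.Helper61.AschUDefs
import Cfsg.Agent.Lib.Helper61.AschUGlueA
import Cfsg.Agent.Lib.Helper42.AschA1
import Cfsg.Agent.Lib.Helper29.AschB1
import Cfsg.Agent.Lib.Helper29.AschB3
import Cfsg.Agent.Lib.Helper14.AschB4
import Cfsg.Agent.Lib.Helper97.AschB5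
import Cfsg.Agent.Lib.Helper61.AschUB6e
import Cfsg.Agent.Lib.Helper09.AschUE4
import Cfsg.Agent.Lib.Helper23.AschUAdj
import Cfsg.Agent.Lib.Helper30.AschUB6b
import Cfsg.Agent.Lib.Helper53.AschUB6a
import Cfsg.Agent.Lib.Helper59.AschUB6eq
import Cfsg.Agent.Lib.Helper67.AschUA2b
import Cfsg.Agent.Lib.Helper68.AschUB2
import Cfsg.Agent.Lib.Helper84.AschUA2a

/-!
Glue for S5663, part B: the trichotomy for a `K`-normalised subgroup `N` of similarities.
-/

set_option autoImplicit false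

namespace Cfsg.Agent.Lib.Helper61.AschU

open Cfsg Cfsg.Geo Cfsg.Agent.Lib.Helper61.Asch
open scoped Matrix Kronecker MatrixGroups

variable {F : Type*} [Field F] [Fintype F] {n q : ℕ}

local notation "Z" => scalars (Fin n) F
local notation "𝔥" => hermForm n F q
local notation "Δ" => similarityGroup (hermForm n F q)

/-- a `K`-normalised subgroup of similarities of an irreducible `K ≤ Δ` not in a geometric class is scalar or
absolutely irreducible. -/
theorem normal_trichotomy (hF : Fintype.card F = q ^ 2) (hn : 3 ≤ n) (K N : Subgroup (GL (Fin n) F))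
    (hKΔ : K ≤ Δ) (hK : ActsIrreducibly (matrixSet K)) (hKN : NormBy K N) (hNΔ : N ≤ Δ) :
    UGeom n q K ∨ N ≤ Z ∨ spanAlg N = ⊤ := by
  have hKA : NormAlg K (spanAlg N) := normAlg_spanAlg hKN
  have hadj : IsAdjointClosedFor 𝔥 (spanAlg N) := Cfsg.Agent.Lib.Helper23.AschU.isAdjointClosedFor_spanAlg hF N hNΔ
  have hss := Cfsg.Agent.Lib.Helper42.Asch.isSemisimpleModule_of_normAlg K (spanAlg N) hK hKA
  by_cases hiso : IsIsotypic (spanAlg N) (Fin n → F)
  swap
  · obtain ⟨t, m, D, τ, hD, hKD, hτ, horth⟩ := Cfsg.Agent.Lib.Helper84.AschU.exists_dual_decomposition hF K (spanAlg N) hK hKA hadj hiso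
    exact Or.inl (Cfsg.Agent.Lib.Helper67.AschU.ugeom_of_dual_decomposition hF K hKΔ hK D τ hD hKD hτ horth)
  haveI : IsSimpleRing (spanAlg N) :=
    Cfsg.Agent.Lib.Helper29.Asch.isSimpleRing_of_isIsotypic (spanAlg N) (by omega) hss hiso
  by_cases hc : Subalgebra.center F (spanAlg N) = ⊥
  swap
  · exact Or.inl (UGeom.of_c3 (Cfsg.Agent.Lib.Helper68.AschU.uc3_of_center_ne_bot hF K (spanAlg N) hKA hadj hc))
  obtain ⟨a, ha, ⟨φ⟩⟩ := Cfsg.Agent.Lib.Helper29.Asch.exists_algEquiv_matrix_of_center_eq_bot (spanAlg N) hc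
  obtain ⟨b, e, P, hφ⟩ :=
    Cfsg.Agent.Lib.Helper14.Asch.exists_tensorLeft_of_algHom a ha ((spanAlg N).val.comp φ.toAlgHom)
  have hT : IsTensorLeft (spanAlg N) a b e P := by
    intro M
    constructor
    · intro hM
      refine ⟨φ.symm ⟨M, hM⟩, ?_⟩
      rw [← hφ]
      simp
    · rintro ⟨x, rfl⟩
      rw [← hφ]
      exact (φ x).2
  have hcard : n = a * b := by
    have := Fintype.card_congr e
    simpa using this
  have hb : 0 < b := by
    rcases Nat.eq_zero_or_pos b with h | h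
    · subst h; omega
    · exact h
  by_cases ha1 : a = 1
  · subst ha1
    exact Or.inr (Or.inl (le_scalars_of_isTensorLeft_one (by omega) b e P hT))
  by_cases hb1 : b = 1
  · subst hb1
    exact Or.inr (Or.inr (eq_top_of_isTensorLeft_one a e P hT))
  left
  have hKT : K ≤ tensorProductSubgroup a b e P := by
    intro k hk
    apply Cfsg.Agent.Lib.Helper97.Asch.mem_tensorProductSubgroup_of_normalizes (spanAlg N) a b e P ha hb hT k
    exact hKA k hk
  obtain ⟨f₁, f₂, h₁, h₂, hTF⟩ := Cfsg.Agent.Lib.Helper53.AschU.exists_tensorForm hF (spanAlg N) a b e P ha hb hT hadj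
  by_cases hab : a = b
  swap
  · exact Cfsg.Agent.Lib.Helper30.AschU.ugeom_of_tensor_ne K a b e P (by omega) (by omega) hab hKT f₁ f₂ h₁ h₂ hTF
  subst hab
  by_cases hq3 : q = 2 ∧ a = 3
  · obtain ⟨hq, ha3⟩ := hq3
    subst hq
    subst ha3
    exact ugeom_of_tensor_three_three' hF K e P hKT f₁ f₂ h₁ h₂ hTF
  obtain ⟨e', P', hTP, hKW⟩ := Cfsg.Agent.Lib.Helper59.AschU.exists_tensorPower_of_tensor_eq hF K a e P ha hKT f₁ f₂ h₁ h₂ hTF
  by_cases ha2 : a = 2
  · subst ha2
    exact Cfsg.Agent.Lib.Helper09.AschU.ugeom_of_tensorWreath_two hF K hKΔ 2 le_rfl e' P' hKW (hermForm 2 F q)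
      (isUnitaryFormPow_hermForm hF 2) hTP
  · exact UGeom.of_c7 a 2 e' P' (hermForm a F q) (by omega) le_rfl hq3 (isUnitaryFormPow_hermForm hF a) hTP hKW

end Cfsg.Agent.Lib.Helper61.AschU
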