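import Mathlib
import Cfsg.Prelude.Def_GeometricClasses
import Cfsg.Agent.Lib.Helper61.AschDefs
import Cfsg.Agent.Lib.Helper61.AschBasic
import Cfsg.Agent.Lib.Helper61.AschUDefs
import Cfsg.Agent.Lib.Helper61.AschUGlueA
import Cfsg.Agent.Lib.Helper72.AschC6
import Cfsg.Agent.Lib.Helper36.AschUC6b
import Cfsg.Agent.Lib.Helper57.AschUC6a
import Cfsg.Agent.Lib.Helper65.AschUC6c
import Cfsg.Agent.Lib.Helper93.AschUC6p

/-!
Glue for S5663, part C: a normal absolutely irreducible subgroup realisable over a proper subfield, with multipliers in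
that subfield, puts `K` into the subfield class.
-/

set_option autoImplicit false

namespace Cfsg.Agent.Lib.Helper61.AschU

open Cfsg Cfsg.Geo Cfsg.Agent.Lib.Helper61.Asch
open scoped Matrix Kronecker MatrixGroups

variable {F : Type*} [Field F] [Fintype F] {n q : ℕ}

local notation "Z" => scalars (Fin n) F
local notation "𝔥" => hermForm n F q
local notation "Δ" => similarityGroup (hermForm n F q)

theorem ugeom_of_realisable (hF : Fintype.card F = q ^ 2) (hn : 2 ≤ n) (K X : Subgroup (GL (Fin n) F))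
    (hKΔ : K ≤ Δ) (hK : ActsIrreducibly (matrixSet K)) (hX : spanAlg X = ⊤) (hKX : NormBy K X)
    (F₀ : Subfield F) (hF₀ : F₀ ≠ ⊤) (hreal : RealisableOver F₀ (matrixSet X))
    (hmult : ∀ x ∈ X, ∃ c : F, c ∈ F₀ ∧ IsSim 𝔥 x c) : UGeom n q K := by
  obtain ⟨F₁, r, hr, hle, hcard⟩ := Cfsg.Agent.Lib.Helper72.Asch.exists_subfield_prime_index F₀ hF₀
  obtain ⟨B, hB⟩ := hreal
  have hB' : ∀ s ∈ matrixSet X, ∀ i j,
      ((B : Matrix (Fin n) (Fin n) F) * s * ((B⁻¹ : GL (Fin n) F) : Matrix (Fin n) (Fin n) F)) i j ∈ F₁ :=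
    fun s hs i j => hle (hB s hs i j)
  have hmult' : ∀ x ∈ X, ∃ c : F, c ∈ F₁ ∧ IsSim 𝔥 x c := by
    intro x hx
    obtain ⟨c, hc, hs⟩ := hmult x hx
    exact ⟨c, hle hc, hs⟩
  have hKB : K ≤ subfieldSubgroup F₁ B⁻¹ := Cfsg.Agent.Lib.Helper93.AschU.le_subfieldSubgroup_of_realises K X hX hKX F₁ B hB'
  obtain ⟨ζ, hζ, hrat⟩ := Cfsg.Agent.Lib.Helper57.AschU.exists_formRational hF X hX F₁ B hB' hmult'
  by_cases hr2 : r = 2
  · subst hr2
    exact Cfsg.Agent.Lib.Helper65.AschU.ugeom_of_subfield_two hF hn K hKΔ hK F₁ hcard B⁻¹ hKB ζ hζ hrat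
  · exact Cfsg.Agent.Lib.Helper36.AschU.ugeom_of_subfield_odd hF K F₁ r hr (hr.odd_of_ne_two hr2) hcard B⁻¹ hKB ζ hζ hrat

end Cfsg.Agent.Lib.Helper61.AschU
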