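import Mathlib
import Cfsg.Prelude.Def_GeometricClasses
import Cfsg.Agent.Lib.Helper61.AschDefs
import Cfsg.Agent.Lib.Helper61.AschBasic
import Cfsg.Agent.Lib.Helper61.AschGlueA
import Cfsg.Agent.Lib.Helper61.AschGlueC
import Cfsg.Agent.Lib.Helper61.AschGlueD
import Cfsg.Agent.Lib.Helper61.AschGlueE
import Cfsg.Agent.Lib.Helper61.AschGlueF
import Cfsg.Agent.Lib.Helper61.AschResidual
import Cfsg.Agent.Lib.Helper61.AschUDefs
import Cfsg.Agent.Lib.Helper61.AschUGlueA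
import Cfsg.Agent.Lib.Helper61.AschUGlueB
import Cfsg.Agent.Lib.Helper61.AschUGlueC
import Cfsg.Agent.Lib.Helper80.AschD1
import Cfsg.Agent.Lib.Helper61.AschUE6v2
import Cfsg.Agent.Lib.Helper09.AschUE4
import Cfsg.Agent.Lib.Helper18.AschUR
import Cfsg.Agent.Lib.Helper23.AschUAdj
import Cfsg.Agent.Lib.Helper34.AschUR8
import Cfsg.Agent.Lib.Helper48.AschUE5a
import Cfsg.Agent.Lib.Helper66.AschUD2
import Cfsg.Agent.Lib.Helper73.AschUE7

/-!
Aschbacher's theorem for subgroups of `GU_n(q)`, `n ≥ 3`: assembly.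
-/

set_option autoImplicit false

namespace Cfsg.Agent.Lib.Helper61.AschU

open Cfsg Cfsg.Geo Cfsg.Agent.Lib.Helper61.Asch Cfsg.Agent.Lib.Helper61.AschRes
open scoped Matrix Kronecker MatrixGroups commutatorElement

variable {F : Type*} [Field F] [Fintype F] {n q : ℕ}

local notation "Z" => scalars (Fin n) F
local notation "𝔥" => hermForm n F q
local notation "Δ" => similarityGroup (hermForm n F q)

theorem aschbacher_unitary (hF : Fintype.card F = q ^ 2) (hn : 3 ≤ n) (H : Subgroup (GL (Fin n) F))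
    (hH : H ≤ GU n F q) :
    (∃ M : Subgroup (GL (Fin n) F), InUnitaryClass n F q M ∧ H ≤ M) ∨ InUnitaryResidualClass H := by
  obtain ⟨K, hK⟩ : ∃ K : Subgroup (GL (Fin n) F), K = H ⊔ Z := ⟨_, rfl⟩
  have hHK : H ≤ K := by rw [hK]; exact le_sup_left
  have hZK : Z ≤ K := by rw [hK]; exact le_sup_right
  have hKΔ : K ≤ Δ := by rw [hK]; exact sup_scalars_le_delta hH
  by_cases hG : UGeom n q K
  · obtain ⟨M, hM, hKM⟩ := hG
    exact Or.inl ⟨M, hM, (le_inf hHK hH).trans hKM⟩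
  right
  have hKirr : ActsIrreducibly (matrixSet K) := by
    by_contra h
    exact hG (Cfsg.Agent.Lib.Helper18.AschU.ugeom_of_reducible hF K hKΔ h)
  have hKZ : ¬ K ≤ Z := not_le_scalars_of_irreducible (by omega) hKirr
  have hT : ∀ N : Subgroup (GL (Fin n) F), NormBy K N → N ≤ K → N ≤ Z ∨ spanAlg N = ⊤ := by
    intro N hN hNK
    rcases normal_trichotomy hF hn K N hKΔ hKirr hN (hNK.trans hKΔ) with h | h
    · exact absurd h hG
    · exact h
  obtain ⟨N, hZN, hNK, hKN, hNZ, hmin⟩ := exists_minimal_normal K hZK hKZ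
  have hspan : spanAlg N = ⊤ := (hT N hKN hNK).resolve_left hNZ
  have hD1 : Z ≤ ⁅N, N⁆ ⊔ Z := le_sup_right
  have hD2 : ⁅N, N⁆ ⊔ Z ≤ N := sup_le (commutator_le_self N) hZN
  have hD3 : NormBy K (⁅N, N⁆ ⊔ Z) := (hKN.commutator hKN).sup (normBy_scalars K)
  rcases hmin _ hD1 hD2 hD3 with hD | hD
  · -- abelian mod scalars
    exfalso
    have hcomm : ∀ x ∈ N, ∀ y ∈ N, x * y * x⁻¹ * y⁻¹ ∈ Z := by
      intro x hx y hy
      have : ⁅x, y⁆ ∈ ⁅N, N⁆ ⊔ Z := Subgroup.mem_sup_left (Subgroup.commutator_mem_commutator hx hy)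
      rw [hD, commutatorElement_def] at this
      exact this
    obtain ⟨r, hr, hexp⟩ := exists_prime_exponent K N hZN hNZ hKN hcomm hmin
    have hab : ∀ B : Subgroup (GL (Fin n) F), B ≤ N → NormBy K B → (∀ x ∈ B, ∀ y ∈ B, x * y = y * x) →
        B ≤ Z := by
      intro B hBN hKB hB
      rcases hT B hKB (hBN.trans hNK) with h | h
      · exact h
      · intro b hb
        exact mem_scalars_of_commute h b (fun x hx => hB b hb x hx)
    obtain ⟨R, hRN, hKR, hspanR, hR, hrq, htr, hRexp, m, hm, hnm, hcen, hcard⟩ :=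
      Cfsg.Agent.Lib.Helper80.Asch.exists_symplecticType K N (by omega) hZN hNK hKN hspan r hr hcomm hexp hmin hab
    exact hG (Cfsg.Agent.Lib.Helper66.AschU.ugeom_of_symplecticType hF K R hn (hRN.trans hNK) hKΔ hKR hspanR r hR hrq htr hRexp m hm hnm hcen
      hcard (fun F₀ hF₀ hreal hmult =>
        ugeom_of_realisable hF (by omega) K R hKΔ hKirr hspanR hKR F₀ hF₀ hreal hmult))
  · by_cases hns : ∃ M : Subgroup (GL (Fin n) F), Z ≤ M ∧ M ≤ N ∧ NormBy N M ∧ M ≠ Z ∧ M ≠ N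
    · exfalso
      obtain ⟨m, t, e, P, Q, hm, ht, hKW, hQN, hNQ, hQfac⟩ :=
        Cfsg.Agent.Lib.Helper48.AschU.exists_tensorWreath_of_nonsimple_perfect K N hn hZN hNK hKN hspan hD hmin hns
      have hQΔ : ∀ i, Q i ≤ Δ := fun i => ((hQN i).trans hNK).trans hKΔ
      have hadj : ∀ (i : Fin t) (x : Matrix (Fin m) (Fin m) F), ∃ y : Matrix (Fin m) (Fin m) F,
          ∀ u v : Fin n → F, 𝔥 (fac m t e P i x *ᵥ u) v = 𝔥 u (fac m t e P i y *ᵥ v) := by
        intro i x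
        have h1 := Cfsg.Agent.Lib.Helper23.AschU.isAdjointClosedFor_spanAlg hF (Q i) (hQΔ i)
        obtain ⟨k', hk', hk'adj⟩ := h1 (fac m t e P i x) ((hQfac i _).mpr ⟨x, rfl⟩)
        obtain ⟨y, rfl⟩ := (hQfac i k').mp hk'
        exact ⟨y, hk'adj⟩
      obtain ⟨P', hTP, hKW', hfac⟩ := exists_tensorPowerForm_fac hF K m t (by omega) (by omega) e P hKW hadj
      by_cases hm2 : m = 2
      · subst hm2
        exact hG (Cfsg.Agent.Lib.Helper09.AschU.ugeom_of_tensorWreath_two hF K hKΔ t ht e P' hKW' (hermForm 2 F q)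
          (isUnitaryFormPow_hermForm hF 2) hTP)
      by_cases hq3 : q = 2 ∧ m = 3
      · obtain ⟨hq, hm3⟩ := hq3
        subst hq
        subst hm3
        refine Cfsg.Agent.Lib.Helper73.AschU.false_of_tensorPower_three hF N t e P' Q hNZ hD hNQ hQΔ ?_ hTP
        intro i g hg
        obtain ⟨x, hx⟩ := (hQfac i _).mp (coe_mem_spanAlg hg)
        obtain ⟨y, hy⟩ := hfac i x
        exact ⟨y, hx.trans hy⟩
      · exact hG (UGeom.of_c7 m t e P' (hermForm m F q) (by omega) ht hq3 (isUnitaryFormPow_hermForm hF m)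
          hTP hKW')
    · obtain ⟨hPH, hspanP, hKP, hcore⟩ := residual_data H K N hK hNZ hKN hNK hspan hD hns
      have hnosub : ∀ F₀ : Subfield F, F₀ ≠ ⊤ → ¬ RealisableOver F₀ (matrixSet ⁅N, N⁆) := by
        intro F₀ hF₀ hreal
        apply hG
        refine ugeom_of_realisable hF (by omega) K ⁅N, N⁆ hKΔ hKirr hspanP hKP F₀ hF₀ hreal ?_
        intro x hx
        refine ⟨1, F₀.one_mem, ?_⟩
        have hxGU : x ∈ GU n F q := hH (hPH hx)
        rw [Cfsg.Agent.Lib.Helper19.mem_GU_iff] at hxGU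
        intro u v
        rw [hxGU, one_mul]
      have hPGU : ⁅N, N⁆ ≤ GU n F q := hPH.trans hH
      refine ⟨⁅N, N⁆, hcore hnosub, ?_, ?_⟩
      · rintro ⟨Q, hQ, hfix⟩
        obtain ⟨F₁, hF₁, hreal⟩ := Cfsg.Agent.Lib.Helper34.AschU.realisable_of_fixes_bilinear hF ⁅N, N⁆ hspanP hPGU (QuadraticMap.polar Q)
          hQ.polar_bilinear hQ.nondegenerate (fixesForm_polar Q hfix)
        exact hnosub F₁ hF₁ hreal
      · rintro ⟨f, hf, hfix⟩
        obtain ⟨F₁, hF₁, hreal⟩ := Cfsg.Agent.Lib.Helper34.AschU.realisable_of_fixes_bilinear hF ⁅N, N⁆ hspanP hPGU f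
          hf.bilinear hf.nondegenerate hfix
        exact hnosub F₁ hF₁ hreal

end Cfsg.Agent.Lib.Helper61.AschU
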