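import Mathlib
import Cfsg.Prelude.Def_GeometricClasses
import Cfsg.Prelude.Def_ClassicalGeometry
import Cfsg.Agent.Lib.Helper79.SpUDefs
import Cfsg.Agent.Lib.Helper79.SpUTools
import Cfsg.Agent.Lib.Helper49.SpSemiConj
import Cfsg.Agent.Lib.Helper49.SemisimpleConj
import Cfsg.Agent.Lib.Helper01.SpUH0

/-!
# K-SpU-M (keystone 597607): any two unitary-type quadratic field subalgebras are `Sp`-conjugate
-/

set_option autoImplicit false

namespace Cfsg.Agent.Lib.Helper61.SpU

open Cfsg Cfsg.Geo Cfsg.Agent.Lib.Helper79.SpU Polynomial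
open scoped Matrix MatrixGroups

variable {F : Type*} [Field F] {d : ℕ}

local notation "II" => (Fin d ⊕ Fin d)
local notation "Mat" => Matrix (Fin d ⊕ Fin d) (Fin d ⊕ Fin d) F
local notation "JJ" => Matrix.J (Fin d) F

/-- some `X² - tX + 1` has no root in a finite field -/
theorem exists_noroot [Fintype F] : ∃ t : F, ∀ l : F, l * l - t * l + 1 ≠ 0 := by
  classical
  by_contra hcon
  have hcon' : ∀ t : F, ∃ l : F, l * l - t * l + 1 = 0 := by
    intro t
    by_contra h
    exact hcon ⟨t, fun l hl => h ⟨l, hl⟩⟩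
  let g : Fˣ → F := fun u => (u : F) + ((u⁻¹ : Fˣ) : F)
  have hsurj : Function.Surjective g := by
    intro t
    obtain ⟨l, hl⟩ := hcon' t
    have hl0 : l ≠ 0 := by
      intro h
      rw [h] at hl
      simp at hl
    refine ⟨Units.mk0 l hl0, ?_⟩
    show l + ((Units.mk0 l hl0)⁻¹ : Fˣ) = t
    rw [Units.val_inv_eq_inv_val, Units.val_mk0]
    field_simp
    linear_combination hl
  have h1 := Fintype.card_le_of_surjective g hsurj
  rw [Fintype.card_units] at h1
  have h2 : 0 < Fintype.card F := Fintype.card_pos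
  omega

/-- uniqueness of adjoints for the symplectic form -/
theorem eq_of_sympForm_eq (a b : Mat)
    (h : ∀ u v : II → F, sympForm d F u (a *ᵥ v) = sympForm d F u (b *ᵥ v)) : a = b := by
  apply Matrix.toLin'.injective
  apply LinearMap.ext
  intro v
  rw [Matrix.toLin'_apply, Matrix.toLin'_apply]
  have h1 : JJ *ᵥ (a *ᵥ v) = JJ *ᵥ (b *ᵥ v) := by
    apply dotProduct_eq
    intro u
    rw [dotProduct_comm, dotProduct_comm (JJ *ᵥ (b *ᵥ v))]
    exact h u v
  have h2 : JJ *ᵥ (JJ *ᵥ (a *ᵥ v)) = JJ *ᵥ (JJ *ᵥ (b *ᵥ v)) := by rw [h1]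
  rw [Matrix.mulVec_mulVec, Matrix.mulVec_mulVec (b *ᵥ v), Matrix.J_squared,
    Matrix.neg_mulVec, Matrix.neg_mulVec, Matrix.one_mulVec, Matrix.one_mulVec] at h2
  exact neg_inj.mp h2

theorem sympForm_add_left (u w v : II → F) :
    sympForm d F (u + w) v = sympForm d F u v + sympForm d F w v := by
  unfold sympForm; rw [add_dotProduct]

theorem sympForm_smul_left (c : F) (u v : II → F) :
    sympForm d F (c • u) v = c * sympForm d F u v := by
  unfold sympForm; rw [smul_dotProduct, smul_eq_mul]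

theorem sympForm_add_right (u v w : II → F) :
    sympForm d F u (v + w) = sympForm d F u v + sympForm d F u w := by
  unfold sympForm; rw [Matrix.mulVec_add, dotProduct_add]

theorem sympForm_smul_right (c : F) (u v : II → F) :
    sympForm d F u (c • v) = c * sympForm d F u v := by
  unfold sympForm; rw [Matrix.mulVec_smul, dotProduct_smul, smul_eq_mul]

theorem sympForm_neg_right (u v : II → F) :
    sympForm d F u (-v) = - sympForm d F u v := by
  unfold sympForm; rw [Matrix.mulVec_neg, dotProduct_neg]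


/-- a nonscalar element of a quadratic field subalgebra spans it together with `1` -/
theorem span_pair (hd : 1 ≤ d) (K : Subalgebra F Mat) (hK : IsFieldSubalgebra 2 K)
    (θ : Mat) (hθ : θ ∈ K) (hθns : ∀ a : F, θ ≠ a • (1 : Mat)) (k : Mat) :
    k ∈ K ↔ ∃ a b : F, k = a • (1 : Mat) + b • θ := by
  classical
  haveI : Nonempty II := ⟨Sum.inl ⟨0, hd⟩⟩
  haveI : Module.Finite F K := Module.finite_of_finrank_pos (by rw [hK.finrank_eq]; norm_num)
  let θ' : K := ⟨θ, hθ⟩
  have hli : LinearIndependent F ![(1 : K), θ'] := by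
    rw [LinearIndependent.pair_iff]
    intro a b hab
    have hab' : a • (1 : Mat) + b • θ = 0 := by
      have := congrArg (fun k : K => (k : Mat)) hab
      simpa [θ'] using this
    have hb : b = 0 := by
      by_contra hb
      apply hθns (-(a / b))
      have h1 : b • θ = -(a • (1 : Mat)) := by
        rw [eq_neg_iff_add_eq_zero, add_comm]; exact hab'
      have h2 : θ = b⁻¹ • (b • θ) := by rw [smul_smul, inv_mul_cancel₀ hb, one_smul]
      rw [h2, h1, smul_neg, smul_smul, neg_smul]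
      congr 2
      field_simp
    refine ⟨?_, hb⟩
    rw [hb, zero_smul, add_zero] at hab'
    by_contra ha
    have h1 : (1 : Mat) = a⁻¹ • (a • (1 : Mat)) := by
      rw [smul_smul, inv_mul_cancel₀ ha, one_smul]
    rw [hab', smul_zero] at h1
    exact one_ne_zero h1
  have hspan : Submodule.span F (Set.range ![(1 : K), θ']) = ⊤ := by
    apply hli.span_eq_top_of_card_eq_finrank'
    rw [Fintype.card_fin, hK.finrank_eq]
  constructor
  · intro hk
    have h1 : (⟨k, hk⟩ : K) ∈ Submodule.span F (Set.range ![(1 : K), θ']) := by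
      rw [hspan]; exact Submodule.mem_top
    rw [Submodule.mem_span_range_iff_exists_fun] at h1
    obtain ⟨c, hc⟩ := h1
    rw [Fin.sum_univ_two] at hc
    refine ⟨c 0, c 1, ?_⟩
    have := congrArg (fun k : K => (k : Mat)) hc
    simpa [θ'] using this.symm
  · rintro ⟨a, b, rfl⟩
    exact K.add_mem (K.smul_mem K.one_mem a) (K.smul_mem hθ b)

theorem two_ne_zero_of_odd [Fintype F] (hodd : Odd (Fintype.card F)) : (2 : F) ≠ 0 := by
  intro h
  have hchar : ringChar F = 2 := by
    have : ringChar F ∣ 2 := by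
      apply (ringChar.spec F 2).mp
      exact_mod_cast h
    rcases (Nat.dvd_prime Nat.prime_two).mp this with h1 | h1
    · exfalso
      have := CharP.ringChar_ne_one (R := F)
      exact this h1
    · exact h1
  have := FiniteField.even_card_of_char_two hchar
  exact (Nat.not_even_iff_odd.mpr hodd) (Nat.even_iff.mpr this)

/-- in a quadratic field subalgebra there is a root of `X² - tX + 1` (any `t` without root in `F`) -/
theorem exists_root [Fintype F] (hodd : Odd (Fintype.card F)) (hd : 1 ≤ d) (K : Subalgebra F Mat)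
    (hK : IsFieldSubalgebra 2 K) (t : F) (ht : ∀ l : F, l * l - t * l + 1 ≠ 0) :
    ∃ y : Mat, y ∈ K ∧ y * y = t • y - 1 := by
  classical
  have h2 : (2 : F) ≠ 0 := two_ne_zero_of_odd hodd
  obtain ⟨θ, hθK, hθns⟩ := exists_nonscalar K hK
  obtain ⟨s, d0, hθ2⟩ := exists_quad_rel K hK θ hθK
  -- no root of `X² - sX + d0`
  have hnr : ∀ l : F, l * l - s * l + d0 ≠ 0 := by
    intro l hl
    have h1 : (θ - l • (1 : Mat)) * (θ - (s - l) • (1 : Mat)) = 0 := by
      have e1 : (θ - l • (1 : Mat)) * (θ - (s - l) • (1 : Mat)) =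
          θ * θ - s • θ + (l * (s - l)) • (1 : Mat) := by
        rw [Matrix.sub_mul, Matrix.mul_sub, Matrix.mul_sub, Matrix.smul_mul, Matrix.mul_smul,
          Matrix.smul_mul, Matrix.mul_smul, Matrix.one_mul, Matrix.mul_one, Matrix.mul_one, smul_smul]
        module
      rw [e1, hθ2]
      have : l * (s - l) = d0 := by linear_combination -hl
      rw [this]
      module
    rcases eq_zero_of_mul_eq_zero' hK (K.sub_mem hθK (K.smul_mem K.one_mem l)) h1 with h | h
    · exact hθns l (sub_eq_zero.mp h)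
    · exact hθns (s - l) (sub_eq_zero.mp h)
  -- discriminants are non-squares
  have h4 : (4 : F) ≠ 0 := by
    have : (4 : F) = 2 * 2 := by norm_num
    rw [this]; exact mul_ne_zero h2 h2
  have hΔ1 : ¬ IsSquare (t * t - 4) := by
    rintro ⟨c, hc⟩
    apply ht ((t + c) / 2)
    have hx : 2 * ((t + c) / 2) = t + c := by field_simp
    have h0 : 4 * (((t + c) / 2) * ((t + c) / 2) - t * ((t + c) / 2) + 1) = 0 := by
      linear_combination (2 * ((t + c) / 2) + c - t) * hx - hc
    rcases mul_eq_zero.mp h0 with h | h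
    · exact absurd h h4
    · exact h
  have hΔ2 : ¬ IsSquare (s * s - 4 * d0) := by
    rintro ⟨c, hc⟩
    apply hnr ((s + c) / 2)
    have hx : 2 * ((s + c) / 2) = s + c := by field_simp
    have h0 : 4 * (((s + c) / 2) * ((s + c) / 2) - s * ((s + c) / 2) + d0) = 0 := by
      linear_combination (2 * ((s + c) / 2) + c - s) * hx - hc
    rcases mul_eq_zero.mp h0 with h | h
    · exact absurd h h4
    · exact h
  have hΔ20 : s * s - 4 * d0 ≠ 0 := fun h => hΔ2 (h ▸ IsSquare.zero)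
  have hΔ10 : t * t - 4 ≠ 0 := fun h => hΔ1 (h ▸ IsSquare.zero)
  have hq : IsSquare ((t * t - 4) * (s * s - 4 * d0)) := by
    rw [← quadraticChar_one_iff_isSquare (mul_ne_zero hΔ10 hΔ20), map_mul,
      quadraticChar_neg_one_iff_not_isSquare.mpr hΔ1,
      quadraticChar_neg_one_iff_not_isSquare.mpr hΔ2]
    norm_num
  obtain ⟨e, he⟩ := hq
  obtain ⟨c, hc⟩ : ∃ c : F, c = e / (s * s - 4 * d0) := ⟨_, rfl⟩
  have hce : c * (s * s - 4 * d0) = e := by rw [hc, div_mul_cancel₀ _ hΔ20]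
  have hc2 : c * c * (s * s - 4 * d0) = t * t - 4 := by
    have h0 : (c * c * (s * s - 4 * d0) - (t * t - 4)) * (s * s - 4 * d0) = 0 := by
      linear_combination (c * (s * s - 4 * d0) + e) * hce - he
    rcases mul_eq_zero.mp h0 with h | h
    · exact sub_eq_zero.mp h
    · exact absurd h hΔ20
  -- `θ1 = 2θ - s`, `θ1² = Δ2`
  obtain ⟨θ1, hθ1⟩ : ∃ θ1 : Mat, θ1 = (2 : F) • θ - s • (1 : Mat) := ⟨_, rfl⟩
  have hθ1K : θ1 ∈ K := by
    rw [hθ1]; exact K.sub_mem (K.smul_mem hθK 2) (K.smul_mem K.one_mem s)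
  have hθ1sq : θ1 * θ1 = (s * s - 4 * d0) • (1 : Mat) := by
    have e1 : θ1 * θ1 = (4 : F) • (θ * θ) - (4 * s) • θ + (s * s) • (1 : Mat) := by
      rw [hθ1]
      simp only [Matrix.sub_mul, Matrix.mul_sub, Matrix.smul_mul, Matrix.mul_smul, Matrix.one_mul,
        Matrix.mul_one]
      module
    rw [e1, hθ2]
    module
  -- `w = c θ1`, `w² = t² - 4`
  obtain ⟨w, hw⟩ : ∃ w : Mat, w = c • θ1 := ⟨_, rfl⟩
  have hwK : w ∈ K := by rw [hw]; exact K.smul_mem hθ1K c
  have hwsq : w * w = (t * t - 4) • (1 : Mat) := by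
    rw [hw, Matrix.smul_mul, Matrix.mul_smul, smul_smul, hθ1sq, smul_smul, hc2]
  -- `Y = t + w`, `Y² = 2tY - 4`
  obtain ⟨Y, hY⟩ : ∃ Y : Mat, Y = t • (1 : Mat) + w := ⟨_, rfl⟩
  have hYK : Y ∈ K := by rw [hY]; exact K.add_mem (K.smul_mem K.one_mem t) hwK
  have hYsq : Y * Y = (2 * t) • Y - (4 : F) • (1 : Mat) := by
    have e1 : Y * Y = (t * t) • (1 : Mat) + (2 * t) • w + w * w := by
      rw [hY]
      simp only [Matrix.add_mul, Matrix.mul_add, Matrix.smul_mul, Matrix.mul_smul, Matrix.one_mul,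
        Matrix.mul_one]
      module
    rw [e1, hwsq, hY]
    module
  -- `y = Y / 2`
  obtain ⟨h, hh⟩ : ∃ h : F, h = 2⁻¹ := ⟨_, rfl⟩
  have hh1 : 2 * h = 1 := by rw [hh]; exact mul_inv_cancel₀ h2
  have hh2 : h * h * (2 * t) = t * h := by linear_combination (t * h) * hh1
  have hh4 : h * h * 4 = 1 := by linear_combination (2 * h + 1) * hh1
  refine ⟨h • Y, K.smul_mem hYK h, ?_⟩
  rw [Matrix.smul_mul, Matrix.mul_smul, smul_smul, hYsq, smul_sub, smul_smul, smul_smul, hh2, hh4,
    one_smul, smul_smul]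


/-- a unitary-type subalgebra contains a symplectic generator with minimal polynomial `X² - tX + 1` -/
theorem exists_sp_gen [Fintype F] (hodd : Odd (Fintype.card F)) (hd : 1 ≤ d) (K : Subalgebra F Mat)
    (hK : IsUType d K) (t : F) (ht : ∀ l : F, l * l - t * l + 1 ≠ 0) :
    ∃ y : Mat, y ∈ K ∧ y * y = t • y - 1 ∧ (∀ a : F, y ≠ a • (1 : Mat)) ∧
      (∀ u v : II → F, sympForm d F (y *ᵥ u) (y *ᵥ v) = sympForm d F u v) := by
  classical
  obtain ⟨y, hyK, hy2⟩ := exists_root hodd hd K hK.field t ht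
  have hyns : ∀ a : F, y ≠ a • (1 : Mat) := by
    intro a ha
    apply ht a
    rw [ha] at hy2
    have h1 := congrFun (congrFun hy2 (Sum.inl ⟨0, hd⟩)) (Sum.inl ⟨0, hd⟩)
    simp only [Matrix.smul_mul, Matrix.mul_smul, Matrix.one_mul, Matrix.smul_apply, Matrix.one_apply_eq,
      Matrix.sub_apply, smul_eq_mul, mul_one] at h1
    linear_combination h1
  refine ⟨y, hyK, hy2, hyns, ?_⟩
  obtain ⟨y', hy'K, hadj⟩ := hK.adj y hyK
  -- `y'` is a root as well
  have hy'2 : y' * y' = t • y' - 1 := by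
    apply eq_of_sympForm_eq
    intro u v
    have e1 : sympForm d F u ((y' * y') *ᵥ v) = sympForm d F ((y * y) *ᵥ u) v := by
      rw [← Matrix.mulVec_mulVec, ← hadj, ← hadj, Matrix.mulVec_mulVec]
    rw [e1, hy2, Matrix.sub_mulVec, Matrix.sub_mulVec, Matrix.smul_mulVec, Matrix.smul_mulVec,
      Matrix.one_mulVec, Matrix.one_mulVec, sub_eq_add_neg, sympForm_add_left, sympForm_smul_left,
      hadj, sub_eq_add_neg (t • y' *ᵥ v), sympForm_add_right, sympForm_smul_right, sympForm_neg_right]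
    congr 1
    unfold sympForm
    rw [neg_dotProduct]
  have hcomm : y' * y = y * y' := hK.field.comm y' hy'K y hyK
  have hprod : (y' - y) * (y' - (t • (1 : Mat) - y)) = 0 := by
    have e1 : (y' - y) * (y' - (t • (1 : Mat) - y)) =
        y' * y' - t • y' + (t • y - y * y) + (y' * y - y * y') := by
      simp only [Matrix.sub_mul, Matrix.mul_sub, Matrix.smul_mul, Matrix.mul_smul, Matrix.one_mul,
        Matrix.mul_one]
      module
    rw [e1, hy'2, hy2, hcomm]
    module
  rcases eq_zero_of_mul_eq_zero' hK.field (K.sub_mem hy'K hyK) hprod with h | h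
  · -- `y' = y`: `K` would be self-adjoint
    exfalso
    have hyy : y' = y := sub_eq_zero.mp h
    apply hK.nsa
    intro k hk u v
    obtain ⟨a, b, rfl⟩ := (span_pair hd K hK.field y hyK hyns k).mp hk
    rw [Matrix.add_mulVec, Matrix.add_mulVec, Matrix.smul_mulVec, Matrix.smul_mulVec,
      Matrix.smul_mulVec, Matrix.smul_mulVec, Matrix.one_mulVec, Matrix.one_mulVec,
      sympForm_add_left, sympForm_add_right, sympForm_smul_left, sympForm_smul_left,
      sympForm_smul_right, sympForm_smul_right, hadj, hyy]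
  · have hyy : y' = t • (1 : Mat) - y := sub_eq_zero.mp h
    intro u v
    rw [hadj, Matrix.mulVec_mulVec, hyy]
    have : (t • (1 : Mat) - y) * y = 1 := by
      rw [Matrix.sub_mul, Matrix.smul_mul, Matrix.one_mul, hy2]
      abel
    rw [this, Matrix.one_mulVec]

/-- `GL`-conjugacy of two matrices killed by the same irreducible polynomial -/
theorem exists_GL_conj_of_irreducible [Finite F] {n : Type*} [Fintype n] [DecidableEq n]
    (A B : Matrix n n F) (p : F[X]) (hp : Irreducible p)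
    (hA : aeval A p = 0) (hB : aeval B p = 0) :
    ∃ P : GL n F, (P : Matrix n n F) * A = B * (P : Matrix n n F) := by
  have hA' : aeval (Matrix.toLin' A) p = 0 := by
    have : Matrix.toLin' A = Matrix.toLinAlgEquiv' A := rfl
    rw [this, aeval_algHom_apply, hA, map_zero]
  have hB' : aeval (Matrix.toLin' B) p = 0 := by
    have : Matrix.toLin' B = Matrix.toLinAlgEquiv' B := rfl
    rw [this, aeval_algHom_apply, hB, map_zero]
  obtain ⟨e, he⟩ := Cfsg.Agent.Lib.Helper49.exists_equiv_of_irreducible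
    (Matrix.toLin' A) (Matrix.toLin' B) p hp hA' hB' rfl
  have h1 : LinearMap.toMatrix' (e : (n → F) →ₗ[F] (n → F)) *
      LinearMap.toMatrix' (e.symm : (n → F) →ₗ[F] (n → F)) = 1 := by
    rw [← LinearMap.toMatrix'_comp, ← LinearMap.toMatrix'_id]
    congr 1
    apply LinearMap.ext
    intro v
    simp
  have h2 : LinearMap.toMatrix' (e.symm : (n → F) →ₗ[F] (n → F)) *
      LinearMap.toMatrix' (e : (n → F) →ₗ[F] (n → F)) = 1 := by
    rw [← LinearMap.toMatrix'_comp, ← LinearMap.toMatrix'_id]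
    congr 1
    apply LinearMap.ext
    intro v
    simp
  refine ⟨⟨_, _, h1, h2⟩, ?_⟩
  change LinearMap.toMatrix' (e : (n → F) →ₗ[F] (n → F)) * A =
    B * LinearMap.toMatrix' (e : (n → F) →ₗ[F] (n → F))
  conv_lhs => rw [← LinearMap.toMatrix'_toLin' A]
  conv_rhs => rw [← LinearMap.toMatrix'_toLin' B]
  rw [← LinearMap.toMatrix'_comp, ← LinearMap.toMatrix'_comp]
  congr 1
  apply LinearMap.ext
  intro v
  exact he v

/-- the quadratic polynomial `X² - tX + 1` -/
theorem quad_poly_props (t : F) (ht : ∀ l : F, l * l - t * l + 1 ≠ 0) :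
    Irreducible ((X : F[X]) ^ 2 - C t * X + 1) ∧ ((X : F[X]) ^ 2 - C t * X + 1).natDegree = 2 := by
  have hdeg : ((X : F[X]) ^ 2 - C t * X + 1).natDegree = 2 := by compute_degree!
  refine ⟨?_, hdeg⟩
  apply Polynomial.irreducible_of_degree_le_three_of_not_isRoot
  · rw [hdeg]; decide
  · intro x hx
    apply ht x
    rw [IsRoot.def] at hx
    simp only [eval_add, eval_sub, eval_pow, eval_X, eval_mul, eval_C, eval_one] at hx
    linear_combination hx

theorem aeval_quad (t : F) (y : Mat) (hy2 : y * y = t • y - 1) :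
    aeval y ((X : F[X]) ^ 2 - C t * X + 1) = 0 := by
  rw [map_add, map_sub, map_pow, map_mul, aeval_X, aeval_C, map_one, pow_two, hy2,
    Algebra.algebraMap_eq_smul_one, Matrix.smul_mul, Matrix.one_mul]
  abel

/-- a root of `X² - tX + 1` has order dividing `q² - 1` -/
theorem pow_card_sq_sub_one [Fintype F] (t : F) (ht : ∀ l : F, l * l - t * l + 1 ≠ 0)
    (y : Mat) (hy2 : y * y = t • y - 1) : y ^ (Fintype.card F ^ 2 - 1) = 1 := by
  classical
  obtain ⟨hirr, hdeg⟩ := quad_poly_props t ht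
  have hdvd : ((X : F[X]) ^ 2 - C t * X + 1) ∣ X ^ (Nat.card F) ^ 2 - X := by
    apply (Irreducible.natDegree_dvd_iff_dvd_X_pow_card_pow_sub_X hirr).mp
    rw [hdeg]
  obtain ⟨r, hr⟩ := hdvd
  have h0 : aeval y ((X : F[X]) ^ (Nat.card F) ^ 2 - X) = 0 := by
    rw [hr, map_mul, aeval_quad t y hy2, zero_mul]
  rw [map_sub, map_pow, aeval_X, sub_eq_zero, Nat.card_eq_fintype_card] at h0
  have hinv : y * (t • (1 : Mat) - y) = 1 := by
    rw [Matrix.mul_sub, Matrix.mul_smul, Matrix.mul_one, hy2]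
    abel
  have hpos : 1 ≤ Fintype.card F ^ 2 := Nat.one_le_pow _ _ Fintype.card_pos
  have h1 : y ^ (Fintype.card F ^ 2 - 1) * y = y := by
    rw [← pow_succ, Nat.sub_add_cancel hpos, h0]
  calc y ^ (Fintype.card F ^ 2 - 1) = y ^ (Fintype.card F ^ 2 - 1) * (y * (t • (1 : Mat) - y)) := by
        rw [hinv, Matrix.mul_one]
    _ = (y ^ (Fintype.card F ^ 2 - 1) * y) * (t • (1 : Mat) - y) := by rw [Matrix.mul_assoc]
    _ = 1 := by rw [h1, hinv]

theorem cast_card_sq_sub_one [Fintype F] : ((Fintype.card F ^ 2 - 1 : ℕ) : F) ≠ 0 := by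
  have hpos : 1 ≤ Fintype.card F ^ 2 := Nat.one_le_pow _ _ Fintype.card_pos
  rw [Nat.cast_sub hpos, Nat.cast_pow, FiniteField.cast_card_eq_zero]
  simp

/-- **K-SpU-M** any two unitary-type quadratic field subalgebras are conjugate under `Sp` -/
theorem exists_conj [Fintype F] (hodd : Odd (Fintype.card F)) (d : ℕ) (hd : 1 ≤ d)
    (K K' : Subalgebra F (Matrix (Fin d ⊕ Fin d) (Fin d ⊕ Fin d) F)) (hK : IsUType d K) (hK' : IsUType d K') :
    ∃ g ∈ spGL d F, ∀ a : Matrix (Fin d ⊕ Fin d) (Fin d ⊕ Fin d) F,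
      a ∈ K ↔ (g : Matrix _ _ F) * a * ((g⁻¹ : GL (Fin d ⊕ Fin d) F) : Matrix _ _ F) ∈ K' := by
  classical
  obtain ⟨t, ht⟩ := exists_noroot (F := F)
  obtain ⟨y, hyK, hy2, hyns, hysp⟩ := exists_sp_gen hodd hd K hK t ht
  obtain ⟨y', hy'K, hy'2, hy'ns, hy'sp⟩ := exists_sp_gen hodd hd K' hK' t ht
  obtain ⟨hirr, hdeg⟩ := quad_poly_props t ht
  obtain ⟨P, hP⟩ := exists_GL_conj_of_irreducible y y' _ hirr (aeval_quad t y hy2)
    (aeval_quad t y' hy'2)
  have hyJ : yᵀ * Matrix.J (Fin d) F * y = Matrix.J (Fin d) F := by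
    apply Cfsg.Agent.Lib.Helper49.transpose_mul_mul_eq_of_forall
    intro u v
    exact hysp u v
  have hy'J : y'ᵀ * Matrix.J (Fin d) F * y' = Matrix.J (Fin d) F := by
    apply Cfsg.Agent.Lib.Helper49.transpose_mul_mul_eq_of_forall
    intro u v
    exact hy'sp u v
  let A : Matrix.symplecticGroup (Fin d) F := ⟨y, SymplecticGroup.mem_iff'.mpr hyJ⟩
  let B : Matrix.symplecticGroup (Fin d) F := ⟨y', SymplecticGroup.mem_iff'.mpr hy'J⟩
  have hAk : A ^ (Fintype.card F ^ 2 - 1) = 1 := by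
    apply Subtype.ext
    show y ^ (Fintype.card F ^ 2 - 1) = 1
    exact pow_card_sq_sub_one t ht y hy2
  have hconj : IsConj A B :=
    Cfsg.Agent.Lib.Helper49.sp_conj_of_matrix_conj A B _ cast_card_sq_sub_one hAk (P : Matrix _ _ F)
      ((Matrix.isUnit_iff_isUnit_det _).mp P.isUnit) hP
  obtain ⟨c, hc⟩ := isConj_iff.mp hconj
  have hcc1 : c.1 * (c⁻¹ : Matrix.symplecticGroup (Fin d) F).1 = 1 := by
    show (c * c⁻¹).1 = 1
    rw [mul_inv_cancel]
    rfl
  have hcc2 : (c⁻¹ : Matrix.symplecticGroup (Fin d) F).1 * c.1 = 1 := by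
    show (c⁻¹ * c).1 = 1
    rw [inv_mul_cancel]
    rfl
  let gC : GL (Fin d ⊕ Fin d) F := ⟨c.1, (c⁻¹ : Matrix.symplecticGroup (Fin d) F).1, hcc1, hcc2⟩
  have hgC : gC ∈ spGL d F :=
    Cfsg.Agent.Lib.Helper01.SpU.mem_spGL_of_eq gC (SymplecticGroup.mem_iff'.mp c.2)
  have hcy : c.1 * y * (c⁻¹ : Matrix.symplecticGroup (Fin d) F).1 = y' := congrArg Subtype.val hc
  refine ⟨gC, hgC, ?_⟩
  intro a
  show a ∈ K ↔ c.1 * a * (c⁻¹ : Matrix.symplecticGroup (Fin d) F).1 ∈ K'
  rw [span_pair hd K hK.field y hyK hyns a, span_pair hd K' hK'.field y' hy'K hy'ns]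
  constructor
  · rintro ⟨α, β, rfl⟩
    refine ⟨α, β, ?_⟩
    rw [Matrix.mul_add, Matrix.add_mul, Matrix.mul_smul, Matrix.mul_smul, Matrix.smul_mul,
      Matrix.smul_mul, Matrix.mul_one, hcc1, hcy]
  · rintro ⟨α, β, h⟩
    refine ⟨α, β, ?_⟩
    have h1 : a = (c⁻¹ : Matrix.symplecticGroup (Fin d) F).1 *
        (c.1 * a * (c⁻¹ : Matrix.symplecticGroup (Fin d) F).1) * c.1 := by
      rw [Matrix.mul_assoc, Matrix.mul_assoc, Matrix.mul_assoc, hcc2, Matrix.mul_one,
        ← Matrix.mul_assoc, hcc2, Matrix.one_mul]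
    rw [h1, h, ← hcy]
    rw [Matrix.mul_add, Matrix.add_mul, Matrix.mul_smul, Matrix.mul_smul, Matrix.smul_mul,
      Matrix.smul_mul, Matrix.mul_one, hcc2]
    congr 2
    rw [Matrix.mul_assoc, Matrix.mul_assoc, Matrix.mul_assoc, hcc2, Matrix.mul_one,
      ← Matrix.mul_assoc, hcc2, Matrix.one_mul]

end Cfsg.Agent.Lib.Helper61.SpU
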