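import Mathlib
import Cfsg.Prelude.Def_GeometricClasses
import Cfsg.Agent.Lib.Helper49.SLODefs
import Cfsg.Agent.Lib.Helper49.SemisimpleConj

/-!
# K-SLO-10 (keystone 598110, architect helper49): `x² = z`, `z` a non-square

Every `x ∈ GL_n(q)`, `q` odd, with `x² = z` a non-square scalar is `GL`-conjugate into the similarity
group of the diagonal quadratic form `Σ c_j v_j²`.
-/

set_option autoImplicit false

namespace Cfsg.Agent.Lib.Helper61.SLO

open Matrix Cfsg.Agent.Lib.Helper49.SLO Cfsg.Agent.Lib.Helper49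

section Blocks

variable {F : Type*} [Field F]

/-- block matrices with diagonal blocks. -/
def dbm {m : ℕ} (a b c d : Fin m → F) : Matrix (Fin m ⊕ Fin m) (Fin m ⊕ Fin m) F :=
  Matrix.fromBlocks (Matrix.diagonal a) (Matrix.diagonal b) (Matrix.diagonal c) (Matrix.diagonal d)

theorem dbm_mul {m : ℕ} (a b c d a' b' c' d' : Fin m → F) :
    dbm a b c d * dbm a' b' c' d' =
      dbm (a * a' + b * c') (a * b' + b * d') (c * a' + d * c') (c * b' + d * d') := by
  unfold dbm
  rw [Matrix.fromBlocks_multiply]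
  simp only [Matrix.diagonal_mul_diagonal, Matrix.diagonal_add]
  rfl

theorem dbm_scalar {m : ℕ} (z : F) :
    dbm (fun _ : Fin m => z) 0 0 (fun _ => z) = z • (1 : Matrix (Fin m ⊕ Fin m) (Fin m ⊕ Fin m) F) := by
  unfold dbm
  rw [← Matrix.fromBlocks_one, Matrix.fromBlocks_smul]
  congr 1 <;> ext i j <;> by_cases hij : i = j <;> simp [hij]

theorem dbm_mulVec_inl {m : ℕ} (a b c d : Fin m → F) (v : Fin m ⊕ Fin m → F) (i : Fin m) :
    (dbm a b c d *ᵥ v) (Sum.inl i) = a i * v (Sum.inl i) + b i * v (Sum.inr i) := by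
  unfold dbm
  rw [Matrix.fromBlocks_mulVec]
  simp [Matrix.mulVec_diagonal]

theorem dbm_mulVec_inr {m : ℕ} (a b c d : Fin m → F) (v : Fin m ⊕ Fin m → F) (i : Fin m) :
    (dbm a b c d *ᵥ v) (Sum.inr i) = c i * v (Sum.inl i) + d i * v (Sum.inr i) := by
  unfold dbm
  rw [Matrix.fromBlocks_mulVec]
  simp [Matrix.mulVec_diagonal]

open Polynomial in
theorem aeval_toLin'_sq_sub' {n : ℕ} (A : Matrix (Fin n) (Fin n) F) (z : F)
    (hA : A * A = z • (1 : Matrix (Fin n) (Fin n) F)) :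
    aeval (Matrix.toLin' A) (X ^ 2 - C z : F[X]) = 0 := by
  rw [map_sub, map_pow, aeval_X, aeval_C, pow_two, Module.End.mul_eq_comp, ← Matrix.toLin'_mul, hA,
    Algebra.algebraMap_eq_smul_one, map_smul, Matrix.toLin'_one]
  exact sub_self _

end Blocks

variable {F : Type*} [Field F] [Fintype F]

/-- K-SLO-10 (598110). -/
theorem invol_nonsq (hodd : Odd (Fintype.card F)) (n : ℕ) (c : Fin n → F) (hc : ∀ j, c j ≠ 0)
    (x : GL (Fin n) F) (z : F) (hz : ¬ IsSquare z)
    (hx : ((x ^ 2 : GL (Fin n) F) : Matrix (Fin n) (Fin n) F) =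
      z • (1 : Matrix (Fin n) (Fin n) F)) :
    ∃ g : GL (Fin n) F, g⁻¹ * x * g ∈ Cfsg.Geo.quadSimilarityGroup (diagQ c) := by
  classical
  have hz0 : z ≠ 0 := by
    rintro rfl; exact hz ⟨0, by simp⟩
  have hXX : (x : Matrix (Fin n) (Fin n) F) * (x : Matrix (Fin n) (Fin n) F) =
      z • (1 : Matrix (Fin n) (Fin n) F) := by
    rw [← hx, pow_two, Units.val_mul]
  -- n is even
  obtain ⟨m, hm⟩ : ∃ m, n = 2 * m := by
    rcases Nat.even_or_odd' n with ⟨k, hk | hk⟩
    · exact ⟨k, hk⟩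
    · exfalso
      have hdet := congrArg Matrix.det hXX
      rw [Matrix.det_mul, Matrix.det_smul, Matrix.det_one, mul_one, Fintype.card_fin] at hdet
      apply hz
      have hzk : z ^ k ≠ 0 := pow_ne_zero _ hz0
      refine ⟨(x : Matrix (Fin n) (Fin n) F).det * (z ^ k)⁻¹, ?_⟩
      have h1 : z ^ k * (z ^ k)⁻¹ = 1 := mul_inv_cancel₀ hzk
      have h2 : z ^ n = z * (z ^ k) ^ 2 := by
        have : z ^ n = z ^ (2 * k + 1) := congrArg (fun t => z ^ t) hk
        rw [this]; ring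
      rw [h2] at hdet
      generalize (z ^ k)⁻¹ = wi at h1 ⊢
      generalize z ^ k = w at h1 hdet
      linear_combination (-(wi ^ 2)) * hdet + (-z * (w * wi + 1)) * h1
  let e : Fin m ⊕ Fin m ≃ Fin n := finSumFinEquiv.trans (finCongr (by omega))
  have hcard : Fintype.card F % 2 = 1 := Nat.odd_iff.1 hodd
  -- the coefficients of the blocks
  have hex : ∀ i : Fin m, ∃ a b : F,
      a ^ 2 + c (e (Sum.inl i)) * (c (e (Sum.inr i)))⁻¹ * b ^ 2 = z := by
    intro i
    have hd : c (e (Sum.inl i)) * (c (e (Sum.inr i)))⁻¹ ≠ 0 :=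
      mul_ne_zero (hc _) (inv_ne_zero (hc _))
    obtain ⟨a₀, b₀, hab⟩ := FiniteField.exists_root_sum_quadratic
      (f := (Polynomial.X ^ 2 : Polynomial F))
      (g := Polynomial.C (c (e (Sum.inl i)) * (c (e (Sum.inr i)))⁻¹) * Polynomial.X ^ 2 +
        Polynomial.C (-z))
      (Polynomial.degree_X_pow 2)
      (by
        rw [Polynomial.degree_add_C, Polynomial.degree_C_mul_X_pow 2 hd]
        · rfl
        · rw [Polynomial.degree_C_mul_X_pow 2 hd]; norm_num)
      hcard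
    simp only [Polynomial.eval_pow, Polynomial.eval_X, Polynomial.eval_add, Polynomial.eval_mul,
      Polynomial.eval_C] at hab
    exact ⟨a₀, b₀, by linear_combination hab⟩
  choose α β hαβ using hex
  set γ : Fin m → F := fun i => c (e (Sum.inl i)) * β i * (c (e (Sum.inr i)))⁻¹ with hγ
  set Y₀ : Matrix (Fin m ⊕ Fin m) (Fin m ⊕ Fin m) F := dbm α β γ (-α) with hY₀
  have hY₀2 : Y₀ * Y₀ = z • (1 : Matrix (Fin m ⊕ Fin m) (Fin m ⊕ Fin m) F) := by
    rw [hY₀, dbm_mul, ← dbm_scalar]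
    congr 1 <;> funext i <;> simp only [Pi.add_apply, Pi.mul_apply, Pi.neg_apply, Pi.zero_apply, hγ]
    · rw [← hαβ i]; ring
    · ring
    · ring
    · rw [← hαβ i]; ring
  set Y : Matrix (Fin n) (Fin n) F := Matrix.reindex e e Y₀ with hY
  have hY2 : Y * Y = z • (1 : Matrix (Fin n) (Fin n) F) := by
    rw [hY, Matrix.reindex_apply, Matrix.submatrix_mul_equiv, hY₀2]
    ext i j
    rw [Matrix.submatrix_apply, Matrix.smul_apply, Matrix.smul_apply, Matrix.one_apply,
      Matrix.one_apply]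
    simp only [e.symm.injective.eq_iff]
  -- Y multiplies the form by z
  have hYsim : ∀ v : Fin n → F, diagQ c (Y *ᵥ v) = z * diagQ c v := by
    intro v
    have hent : ∀ s : Fin m ⊕ Fin m, (Y *ᵥ v) (e s) = (Y₀ *ᵥ (v ∘ e)) s := by
      intro s
      rw [hY, Matrix.reindex_apply, Matrix.submatrix_mulVec_equiv]
      simp
    unfold diagQ
    rw [← Equiv.sum_comp e, ← Equiv.sum_comp e (fun j => c j * v j ^ 2), Fintype.sum_sum_type,
      Fintype.sum_sum_type, mul_add, Finset.mul_sum, Finset.mul_sum, ← Finset.sum_add_distrib,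
      ← Finset.sum_add_distrib]
    apply Finset.sum_congr rfl
    intro i _
    rw [hent, hent, hY₀, dbm_mulVec_inl, dbm_mulVec_inr]
    simp only [Function.comp_apply, Pi.neg_apply, hγ]
    have h1 : c (e (Sum.inr i)) * (c (e (Sum.inr i)))⁻¹ = 1 := mul_inv_cancel₀ (hc _)
    rw [← hαβ i]
    set c₀ := c (e (Sum.inl i))
    set c₁ := c (e (Sum.inr i))
    set c₁i := (c (e (Sum.inr i)))⁻¹
    set v₀ := v (e (Sum.inl i))
    set v₁ := v (e (Sum.inr i))
    linear_combination (c₀ ^ 2 * β i ^ 2 * c₁i * v₀ ^ 2 - 2 * c₀ * β i * α i * v₀ * v₁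
      - c₀ * β i ^ 2 * v₁ ^ 2) * h1
  -- conjugacy
  have hirr : Irreducible (Polynomial.X ^ 2 - Polynomial.C z : Polynomial F) := by
    apply X_pow_sub_C_irreducible_of_prime Nat.prime_two
    intro b hb
    exact hz ⟨b, by rw [← hb, pow_two]⟩
  obtain ⟨φ, hφ⟩ := exists_equiv_of_irreducible (Matrix.toLin' (x : Matrix (Fin n) (Fin n) F))
    (Matrix.toLin' Y) _ hirr (aeval_toLin'_sq_sub' _ z hXX) (aeval_toLin'_sq_sub' _ z hY2) rfl
  let G : Matrix (Fin n) (Fin n) F := LinearMap.toMatrix' (φ : (Fin n → F) →ₗ[F] (Fin n → F))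
  let G' : Matrix (Fin n) (Fin n) F := LinearMap.toMatrix' (φ.symm : (Fin n → F) →ₗ[F] (Fin n → F))
  have hGG' : G * G' = 1 := by
    rw [← LinearMap.toMatrix'_comp]; simp
  have hG'G : G' * G = 1 := by
    rw [← LinearMap.toMatrix'_comp]; simp
  have hGx : G * (x : Matrix (Fin n) (Fin n) F) = Y * G := by
    apply Matrix.toLin'.injective
    apply LinearMap.ext
    intro v
    rw [Matrix.toLin'_mul, Matrix.toLin'_mul, LinearMap.comp_apply, LinearMap.comp_apply]
    have e1 : Matrix.toLin' G = (φ : (Fin n → F) →ₗ[F] (Fin n → F)) := Matrix.toLin'_toMatrix' _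
    rw [e1]
    exact hφ v
  let g : GL (Fin n) F := ⟨G', G, hG'G, hGG'⟩
  refine ⟨g, ?_⟩
  have hval : ((g⁻¹ * x * g : GL (Fin n) F) : Matrix (Fin n) (Fin n) F) = Y := by
    show G * (x : Matrix (Fin n) (Fin n) F) * G' = Y
    rw [hGx, mul_assoc, hGG', mul_one]
  rw [mem_quadSim_iff]
  refine ⟨Units.mk0 z hz0, fun v => ?_⟩
  rw [hval, Units.val_mk0]
  exact hYsim v

end Cfsg.Agent.Lib.Helper61.SLO
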