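import Mathlib
import Cfsg.Agent.Lib.Helper53.StOmDefs
import Cfsg.Agent.Lib.Helper90.StOmR0a
import Cfsg.Agent.Lib.Helper14.StOmR0b
import Cfsg.Agent.Lib.Helper45.StOmR0c
import Cfsg.Agent.Lib.Helper91.StOmR1

/-!
# K-StOm-C3c (keystone 254916, row S2549, architect helper53): `s B s ≠ B` for a simple reflection

`s * x_α(1) * s` has a nonzero entry below the block diagonal (port of Lib/Helper14/StOC3c.lean).
-/

set_option autoImplicit false
set_option linter.unusedSectionVars false
set_option linter.unusedVariables false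


namespace Cfsg.Agent.Lib.Helper61.StOm

open Cfsg Cfsg.Agent.Lib.Helper53.StOm Matrix

variable {m : ℕ} {F : Type*} [Field F] {a b : F}

/-- conjugation of a matrix by the permutation matrix of an involution -/
theorem c3c_perm_mul_perm {ι : Type*} [Fintype ι] [DecidableEq ι] (σ : Equiv.Perm ι)
    (hσ : σ.symm = σ) (M : Matrix ι ι F) :
    σ.permMatrix F * M * σ.permMatrix F = M.submatrix σ σ := by
  unfold Equiv.Perm.permMatrix
  rw [PEquiv.toMatrix_toPEquiv_mul, PEquiv.mul_toMatrix_toPEquiv, hσ, submatrix_submatrix]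
  rfl

theorem c3c_swapE_symm (i j : Fin m) : (swapE m i j).symm = swapE m i j := by
  ext x
  rcases x with (x | x) | x <;> simp [swapE, Equiv.symm_swap]

theorem c3c_swapE_eI_right (i j : Fin m) : swapE m i j (eI j) = eI i := by
  simp [swapE]

theorem c3c_swapE_eI_left (i j : Fin m) : swapE m i j (eI i) = eI j := by
  simp [swapE]

theorem c3c_flipE_symm (k : Fin m) : (flipE m k).symm = flipE m k := Equiv.symm_swap _ _

theorem c3c_flipE_zI (k : Fin m) (j : Fin 2) : flipE m k (zI j) = zI j := by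
  unfold flipE
  apply Equiv.swap_apply_of_ne_of_ne
  · exact Sum.inr_ne_inl
  · exact Sum.inr_ne_inl

theorem c3c_flipE_eI (k : Fin m) : flipE m k (eI k) = fI k := Equiv.swap_apply_left _ _

theorem c3c_xPermMat_entry (i j : Fin m) (hij : i ≠ j) (t : F) :
    xPermMat m F i j t (eI i) (eI j) = t := by
  unfold xPermMat
  rw [Matrix.sub_apply, Matrix.add_apply, Matrix.one_apply_ne, Matrix.single_apply_same,
    Matrix.single_apply_of_ne, zero_add, sub_zero]
  · rintro ⟨h, -⟩
    exact absurd h (by simp)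
  · intro h
    exact hij (Sum.inl.inj (Sum.inl.inj h))

theorem c3c_xZMat_entry (k : Fin m) (s t : F) : xZMat m F a b k s t (zI 0) (fI k) = s := by
  unfold xZMat
  simp [Matrix.sub_apply, Matrix.add_apply]

/-- **LEAF C3c** (254916). -/
theorem S_conj_ne (s : OG m F a b) (hs : s ∈ Sset m F a b) :
    (fun g : OG m F a b => s * g * s) '' (Bsub m F a b : Set (OG m F a b)) ≠
      (Bsub m F a b : Set (OG m F a b)) := by
  intro heq
  have key : ∀ g : OG m F a b, g ∈ Bsub m F a b → ∀ x y : MI m, pos m x < pos m y →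
      (mat s * mat g * mat s) y x ≠ 0 → False := by
    intro g hg x y hxy hne
    have hmem : s * g * s ∈ (Bsub m F a b : Set (OG m F a b)) := by
      rw [← heq]
      exact ⟨g, hg, rfl⟩
    have h0 := (mem_Bsub_iff _).1 hmem y x hxy
    rw [mat_mul, mat_mul] at h0
    exact hne h0
  rcases hs with ⟨i, hi, rfl⟩ | ⟨hm, rfl⟩
  · have hlt : i < nxt i hi := by
      rw [Fin.lt_def]
      show i.val < i.val + 1
      omega
    have hb := Cfsg.Agent.Lib.Helper91.StOm.xPerm_mem_B (F := F) (a := a) (b := b) i (nxt i hi) hlt 1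
    apply key _ hb (eI i) (eI (nxt i hi))
    · show i.val < i.val + 1
      omega
    · rw [Cfsg.Agent.Lib.Helper90.StOm.mat_sPerm, Cfsg.Agent.Lib.Helper14.StOm.mat_xPerm i (nxt i hi) (ne_of_lt hlt) 1]
      unfold sPermMat
      rw [c3c_perm_mul_perm _ (c3c_swapE_symm i (nxt i hi)), Matrix.submatrix_apply,
        c3c_swapE_eI_right, c3c_swapE_eI_left, c3c_xPermMat_entry i (nxt i hi) (ne_of_lt hlt)]
      exact one_ne_zero
  · have hb := Cfsg.Agent.Lib.Helper91.StOm.xZ_mem_B (F := F) (a := a) (b := b) (lastF hm) 1 0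
    apply key _ hb (eI (lastF hm)) (zI 0)
    · show (lastF hm).val < m
      exact (lastF hm).2
    · rw [Cfsg.Agent.Lib.Helper90.StOm.mat_sFlip, Cfsg.Agent.Lib.Helper45.StOm.mat_xZ]
      unfold sFlipMat
      rw [c3c_perm_mul_perm _ (c3c_flipE_symm (lastF hm)), Matrix.submatrix_apply, c3c_flipE_zI,
        c3c_flipE_eI, c3c_xZMat_entry]
      exact one_ne_zero

end Cfsg.Agent.Lib.Helper61.StOm
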