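import Mathlib
import Cfsg.Agent.Lib.Helper56.NSE3Defs

/-!
# K-NSE3 leaf 399601 (S3996): `pair`, helper61

`p` prime, `p ∤ k`, `p k ∣ |G|`: `p ∣ s_k + s_{pk}` (strong induction on `k` from Frobenius' theorem
`Cfsg.Agent.S3995.frob_s` at `p k`).
-/

set_option autoImplicit false

namespace Cfsg.Agent.Lib.Helper61.NSE3

open Cfsg.Agent.S3995 (s)

/-- divisors of `p * k` for a prime `p ∤ k`. -/
theorem pair_sum_divisors {p k : ℕ} (hp : p.Prime) (hpk : ¬ p ∣ k) (hk : k ≠ 0) (F : ℕ → ℕ) :
    ∑ d ∈ (p * k).divisors, F d = ∑ j ∈ k.divisors, (F j + F (p * j)) := by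
  classical
  have hset : (p * k).divisors = k.divisors ∪ k.divisors.image (fun j => p * j) := by
    ext d
    simp only [Nat.mem_divisors, Finset.mem_union, Finset.mem_image]
    constructor
    · rintro ⟨hd, -⟩
      by_cases hpd : p ∣ d
      · obtain ⟨j, rfl⟩ := hpd
        right
        refine ⟨j, ⟨?_, hk⟩, rfl⟩
        exact Nat.dvd_of_mul_dvd_mul_left hp.pos hd
      · left
        have hcop : Nat.Coprime d p := ((Nat.Prime.coprime_iff_not_dvd hp).mpr hpd).symm
        exact ⟨hcop.dvd_of_dvd_mul_left hd, hk⟩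
    · rintro (⟨hd, -⟩ | ⟨j, ⟨hj, -⟩, rfl⟩)
      · exact ⟨hd.mul_left p, mul_ne_zero hp.ne_zero hk⟩
      · exact ⟨Nat.mul_dvd_mul_left p hj, mul_ne_zero hp.ne_zero hk⟩
  have hdisj : Disjoint k.divisors (k.divisors.image (fun j => p * j)) := by
    rw [Finset.disjoint_left]
    intro d hd hd'
    obtain ⟨j, -, rfl⟩ := Finset.mem_image.mp hd'
    exact hpk ((Dvd.intro _ rfl).trans (Nat.mem_divisors.mp hd).1)
  rw [hset, Finset.sum_union hdisj, Finset.sum_image, Finset.sum_add_distrib]
  intro a _ b _ hab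
  exact Nat.eq_of_mul_eq_mul_left hp.pos hab

variable {G : Type*} [Group G] [Finite G]

theorem pair {p k : ℕ} (hp : p.Prime) (hpk : ¬ p ∣ k) (hdvd : p * k ∣ Nat.card G) :
    p ∣ s G k + s G (p * k) := by
  induction k using Nat.strong_induction_on with
  | _ k ih =>
    have hN : Nat.card G ≠ 0 := Nat.card_pos.ne'
    have hk : k ≠ 0 := by
      rintro rfl
      rw [mul_zero] at hdvd
      exact hN (Nat.eq_zero_of_zero_dvd hdvd)
    have h1 := Cfsg.Agent.S3995.frob_s (G := G) (p * k) hdvd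
    rw [pair_sum_divisors hp hpk hk (s G), ← Nat.insert_self_properDivisors hk,
      Finset.sum_insert (by simp [Nat.mem_properDivisors])] at h1
    have h2 : p ∣ ∑ j ∈ k.properDivisors, (s G j + s G (p * j)) := by
      apply Finset.dvd_sum
      intro j hj
      rw [Nat.mem_properDivisors] at hj
      apply ih j hj.2
      · exact fun h => hpk (h.trans hj.1)
      · exact (Nat.mul_dvd_mul_left p hj.1).trans hdvd
    have h3 : p ∣ (s G k + s G (p * k)) + ∑ j ∈ k.properDivisors, (s G j + s G (p * j)) :=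
      (Dvd.intro _ rfl).trans h1
    exact (Nat.dvd_add_left h2).mp h3

end Cfsg.Agent.Lib.Helper61.NSE3
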