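import Mathlib

/-!
# K-PG2 pack (S3452), leaf PGLb1: an element of order `p` in `PGL₂(F)`, `char F = p`

The class of the transvection `!![1,1;0,1]`.
-/

set_option autoImplicit false
set_option linter.unusedSectionVars false
set_option linter.unusedVariables false

namespace Cfsg.Agent.Lib.Helper61.PG2

open Matrix

/-- `PGL₂(F)` as in the statement S3452 (same unfolding as in the spec of helper59) -/
abbrev PGL2 (F : Type*) [Field F] : Type _ :=
  Matrix.GeneralLinearGroup (Fin 2) F ⧸ Subgroup.center (Matrix.GeneralLinearGroup (Fin 2) F)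

/-- the upper unitriangular element `!![1,c;0,1]` of `GL₂(F)` -/
def upperGL {F : Type*} [Field F] (c : F) : Matrix.GeneralLinearGroup (Fin 2) F :=
  ⟨!![1, c; 0, 1], !![1, -c; 0, 1],
    by ext i j; fin_cases i <;> fin_cases j <;> simp [Matrix.mul_apply, Fin.sum_univ_two],
    by ext i j; fin_cases i <;> fin_cases j <;> simp [Matrix.mul_apply, Fin.sum_univ_two]⟩

/-- the lower unitriangular element `!![1,0;c,1]` of `GL₂(F)` -/
def lowerGL {F : Type*} [Field F] (c : F) : Matrix.GeneralLinearGroup (Fin 2) F :=
  ⟨!![1, 0; c, 1], !![1, 0; -c, 1],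
    by ext i j; fin_cases i <;> fin_cases j <;> simp [Matrix.mul_apply, Fin.sum_univ_two],
    by ext i j; fin_cases i <;> fin_cases j <;> simp [Matrix.mul_apply, Fin.sum_univ_two]⟩

theorem upperGL_mul {F : Type*} [Field F] (a b : F) :
    upperGL a * upperGL b = upperGL (a + b) := by
  apply Units.ext
  ext i j
  fin_cases i <;> fin_cases j <;>
    simp [upperGL, Matrix.mul_apply, Fin.sum_univ_two, add_comm]

theorem upperGL_zero {F : Type*} [Field F] : upperGL (0 : F) = 1 := by
  apply Units.ext
  ext i j
  fin_cases i <;> fin_cases j <;> simp [upperGL]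

theorem upperGL_pow {F : Type*} [Field F] (c : F) (n : ℕ) :
    upperGL c ^ n = upperGL (n * c) := by
  induction n with
  | zero => simp [upperGL_zero]
  | succ n ih =>
    rw [pow_succ, ih, upperGL_mul]
    congr 1
    push_cast
    ring

theorem upperGL_one_not_mem_center {F : Type*} [Field F] :
    upperGL (1 : F) ∉ Subgroup.center (Matrix.GeneralLinearGroup (Fin 2) F) := by
  intro h
  rw [Subgroup.mem_center_iff] at h
  have h1 := h (lowerGL 1)
  have h2 := congrArg (fun g : Matrix.GeneralLinearGroup (Fin 2) F =>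
    (g : Matrix (Fin 2) (Fin 2) F) 0 0) h1
  simp [upperGL, lowerGL, Matrix.mul_apply, Fin.sum_univ_two] at h2

theorem pgl2_exists_orderOf_eq_char {F : Type*} [Field F] [Fintype F] (p : ℕ) [Fact p.Prime]
    [CharP F p] :
    ∃ x : PGL2 F, orderOf x = p := by
  refine ⟨QuotientGroup.mk (upperGL (1 : F)), orderOf_eq_prime ?_ ?_⟩
  · rw [← QuotientGroup.mk_pow, upperGL_pow]
    have : ((p : ℕ) : F) * 1 = 0 := by simp
    rw [this, upperGL_zero]
    rfl
  · intro h
    rw [QuotientGroup.eq_one_iff] at h
    exact upperGL_one_not_mem_center h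

end Cfsg.Agent.Lib.Helper61.PG2
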