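import Mathlib
import Cfsg.Agent.Lib.Helper06.NormalFour
import Cfsg.Agent.Lib.Helper59.CSCTop
import Cfsg.Agent.Lib.Helper42.Meta2
import Cfsg.Agent.Lib.Helper03.PGroupFrattini

/-!
# Pack K-4188 (S4188), leaf A8 `caseC`: 2-groups without a normal four-group

A finite 2-group `X` without a "normal four-group" `{1, z, u, uz}` (`z` a central involution, `u` an involution
whose class is contained in `{u, uz}`) has `|X : Φ(X)| ≤ 4`, and `≤ 2` when `X` is abelian.
-/

set_option autoImplicit false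

namespace Cfsg.Agent.Lib.Helper61.AG

open Subgroup

variable {X : Type*} [Group X] [Finite X]

/-- the Frattini index of a cyclic 2-group is at most 2 -/
theorem frattini_index_le_two_of_isCyclic (hX : IsPGroup 2 X) (hc : IsCyclic X) :
    (frattini X).index ≤ 2 := by
  have : Fact (Nat.Prime 2) := ⟨Nat.prime_two⟩
  obtain ⟨g, hg⟩ := hc.exists_generator
  have hgen : ∀ y : X ⧸ frattini X,
      y ∈ Subgroup.zpowers (QuotientGroup.mk g : X ⧸ frattini X) := by
    intro y
    obtain ⟨x, rfl⟩ := QuotientGroup.mk_surjective y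
    obtain ⟨k, rfl⟩ := Subgroup.mem_zpowers_iff.mp (hg x)
    exact Subgroup.mem_zpowers_iff.mpr ⟨k, by simp⟩
  have h1 : orderOf (QuotientGroup.mk g : X ⧸ frattini X) = Nat.card (X ⧸ frattini X) :=
    orderOf_eq_card_of_forall_mem_zpowers hgen
  have h2 : (QuotientGroup.mk g : X ⧸ frattini X) ^ 2 = 1 := by
    rw [← QuotientGroup.mk_pow, QuotientGroup.eq_one_iff]
    exact Cfsg.Agent.Lib.Helper03.pow_mem_frattini_of_isPGroup hX g
  have h3 := orderOf_dvd_of_pow_eq_one h2
  have h4 := Nat.le_of_dvd (by norm_num) h3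
  rw [h1] at h4
  exact h4

/-- without a normal four-group, every normal abelian subgroup is cyclic -/
theorem normal_abelian_isCyclic (hX : IsPGroup 2 X)
    (h : ¬ ∃ z u : X, z ≠ 1 ∧ z ^ 2 = 1 ∧ z ∈ Subgroup.center X ∧ u ≠ 1 ∧ u ^ 2 = 1 ∧ u ≠ z ∧
      ∀ s : X, s * u * s⁻¹ = u ∨ s * u * s⁻¹ = u * z)
    (A : Subgroup X) [hAn : A.Normal] (hAc : ∀ a ∈ A, ∀ b ∈ A, a * b = b * a) : IsCyclic A := by
  by_cases hA : A = ⊥
  · subst hA
    exact isCyclic_of_subsingleton
  obtain ⟨z, hzA, hz1, hz2, hzc⟩ := Cfsg.Agent.Lib.Helper06.exists_central_invol_mem_normal hX A hA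
  let : CommGroup A := { (inferInstance : Group A) with
    mul_comm := fun a b => Subtype.ext (hAc a a.2 b b.2) }
  apply Cfsg.Agent.Lib.Helper06.isCyclic_of_unique_invol (hX.to_subgroup A) ⟨z, hzA⟩
  intro w hw2
  by_contra hcon
  rw [not_or] at hcon
  obtain ⟨hw1, hwz⟩ := hcon
  let Ω : Subgroup X :=
    { carrier := {a | a ∈ A ∧ a ^ 2 = 1}
      mul_mem' := by
        rintro a b ⟨ha, ha2⟩ ⟨hb, hb2⟩
        refine ⟨A.mul_mem ha hb, ?_⟩
        have hab := hAc a ha b hb
        rw [pow_two] at *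
        calc a * b * (a * b) = a * (b * a) * b := by group
          _ = a * (a * b) * b := by rw [hab]
          _ = (a * a) * (b * b) := by group
          _ = 1 := by rw [ha2, hb2, one_mul]
      one_mem' := ⟨A.one_mem, one_pow 2⟩
      inv_mem' := by
        rintro a ⟨ha, ha2⟩
        exact ⟨A.inv_mem ha, by rw [inv_pow, ha2, inv_one]⟩ }
  have hΩn : Ω.Normal := ⟨fun a ha s => ⟨hAn.conj_mem a ha.1 s, by
    rw [conj_pow, ha.2, mul_one, mul_inv_cancel]⟩⟩
  have hwΩ : (w : X) ∈ Ω := ⟨w.2, by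
    have := congrArg Subtype.val hw2
    simpa using this⟩
  have hw1' : (w : X) ≠ 1 := fun hh => hw1 (Subtype.ext hh)
  have hwz' : (w : X) ≠ z := fun hh => hwz (Subtype.ext hh)
  obtain ⟨u, huΩ, hu1, huz, hconj⟩ :=
    Cfsg.Agent.Lib.Helper06.normal_four_of_elemAb hX Ω z (w : X) hz1 hz2 hzc hwΩ hw1' hwz'
  exact h ⟨z, u, hz1, hz2, hzc, hu1, huΩ.2, huz, hconj⟩

theorem caseC {X : Type*} [Group X] [Finite X] (hX : IsPGroup 2 X)
    (h : ¬ ∃ z u : X, z ≠ 1 ∧ z ^ 2 = 1 ∧ z ∈ Subgroup.center X ∧ u ≠ 1 ∧ u ^ 2 = 1 ∧ u ≠ z ∧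
      ∀ s : X, s * u * s⁻¹ = u ∨ s * u * s⁻¹ = u * z) :
    (frattini X).index ≤ 4 ∧ ((∀ a b : X, a * b = b * a) → (frattini X).index ≤ 2) := by
  have : Fact (Nat.Prime 2) := ⟨Nat.prime_two⟩
  have hab : (∀ a b : X, a * b = b * a) → (frattini X).index ≤ 2 := by
    intro hcomm
    have h1 : IsCyclic (⊤ : Subgroup X) :=
      normal_abelian_isCyclic hX h ⊤ (fun a _ b _ => hcomm a b)
    have h2 : IsCyclic X := (Subgroup.topEquiv (G := X)).isCyclic.mp h1
    exact frattini_index_le_two_of_isCyclic hX h2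
  refine ⟨?_, hab⟩
  by_cases hc : ∀ a b : X, a * b = b * a
  · exact (hab hc).trans (by norm_num)
  -- non-abelian case
  have hna : ¬ IsMulCommutative X := by
    intro hcm
    exact hc (fun a b => mul_comm' a b)
  -- a maximal normal abelian subgroup
  obtain ⟨A, hAn, hAc, hAmax⟩ : ∃ A : Subgroup X, A.Normal ∧ IsMulCommutative A ∧
      ∀ B : Subgroup X, B.Normal → IsMulCommutative B → A ≤ B → B = A := by
    let T := {B : Subgroup X // B.Normal ∧ IsMulCommutative B}
    have hne : Nonempty T := ⟨⟨⊥, inferInstance, inferInstance⟩⟩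
    obtain ⟨⟨A, hA1, hA2⟩, hmax⟩ := Finite.exists_max (fun B : T => Nat.card B.1)
    refine ⟨A, hA1, hA2, ?_⟩
    intro B hBn hBc hAB
    have h1 := hmax ⟨B, hBn, hBc⟩
    simp only at h1
    exact (Subgroup.eq_of_le_of_card_ge hAB h1).symm
  have := hAn
  have hAcomm : ∀ a ∈ A, ∀ b ∈ A, a * b = b * a := fun a ha b hb =>
    Cfsg.Agent.Lib.Helper06.comm_of_mem_isMulCommutative hAc ha hb
  have hCA : centralizer (A : Set X) ≤ A :=
    Cfsg.Agent.Lib.Helper06.centralizer_le_of_max_normal_abelian hX A hAn hAc hAmax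
  have hCA' : centralizer (A : Set X) = A := by
    apply le_antisymm hCA
    intro a ha
    rw [Subgroup.mem_centralizer_iff]
    intro b hb
    exact hAcomm b hb a ha
  have hAcyc : IsCyclic A := normal_abelian_isCyclic hX h A hAcomm
  obtain ⟨n, hn⟩ := (hX.to_subgroup A).exists_card_eq
  rcases Cfsg.Agent.Lib.Helper59.csc_main hX hna A hAcyc n hn hCA' with
    ⟨-, hcard, -⟩ | ⟨-, hE, hE4, hEchar⟩
  · -- `|X| = 2 |A|`: `X` is 2-generated
    obtain ⟨⟨a, haA⟩, hgen⟩ := hAcyc.exists_generator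
    have hAle : A ≤ zpowers a := by
      intro x hx
      obtain ⟨i, hi⟩ := Subgroup.mem_zpowers_iff.mp (hgen ⟨x, hx⟩)
      rw [Subgroup.mem_zpowers_iff]
      refine ⟨i, ?_⟩
      have := congrArg Subtype.val hi
      simpa using this
    have hidx : A.index = 2 := by
      have h1 := Subgroup.card_mul_index A
      rw [hn, hcard, pow_succ] at h1
      exact Nat.eq_of_mul_eq_mul_left (by positivity) h1
    obtain ⟨x, hx⟩ : ∃ x : X, x ∉ A := by
      by_contra hall
      rw [not_exists] at hall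
      have : A = ⊤ := by
        rw [eq_top_iff]
        intro y _
        exact not_not.mp (hall y)
      rw [this, Subgroup.index_top] at hidx
      omega
    have hS : zpowers a ⊔ zpowers x = ⊤ := by
      obtain ⟨S, hSdef⟩ : ∃ S : Subgroup X, S = zpowers a ⊔ zpowers x := ⟨_, rfl⟩
      rw [← hSdef]
      have hAS : A ≤ S := by rw [hSdef]; exact hAle.trans le_sup_left
      have hxS : x ∈ S := by rw [hSdef]; exact le_sup_right (α := Subgroup X) (mem_zpowers x)
      have h1 := Subgroup.relIndex_mul_index hAS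
      rw [hidx] at h1
      have h2 : A.relIndex S ≠ 1 := by
        intro h3
        rw [Subgroup.relIndex_eq_one] at h3
        exact hx (h3 hxS)
      have h3 : A.relIndex S ∣ 2 := Dvd.intro _ h1
      rcases (Nat.dvd_prime Nat.prime_two).mp h3 with h4 | h4
      · exact absurd h4 h2
      · rw [h4] at h1
        have h5 : S.index = 1 := by omega
        exact Subgroup.index_eq_one.mp h5
    exact Cfsg.Agent.Lib.Helper42.Meta2.card_frattini_quotient_le hX a x hS
  · -- a characteristic elementary abelian subgroup of order 4: contradiction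
    exfalso
    obtain ⟨E, hEdef⟩ : ∃ E : Subgroup X, E = Cfsg.omegaOne 2
        (Subgroup.centralizer (Cfsg.powerClosure 2 1 A : Set X)) := ⟨_, rfl⟩
    rw [← hEdef] at hE hE4 hEchar
    have := hEchar
    have hEne : E ≠ ⊥ := by
      intro hbot
      rw [hbot, Subgroup.card_bot] at hE4
      omega
    obtain ⟨z, hzE, hz1, hz2, hzc⟩ :=
      Cfsg.Agent.Lib.Helper06.exists_central_invol_mem_normal hX E hEne
    obtain ⟨w, hwE, hw1, hwz⟩ : ∃ w ∈ E, w ≠ 1 ∧ w ≠ z := by
      by_contra hall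
      have hsub : (E : Set X) ⊆ {1, z} := by
        intro w hw
        by_contra hw'
        rw [Set.mem_insert_iff, Set.mem_singleton_iff, not_or] at hw'
        exact hall ⟨w, hw, hw'.1, hw'.2⟩
      have h1 := Set.ncard_le_ncard hsub (Set.toFinite _)
      have h2 : ({1, z} : Set X).ncard ≤ 2 := by
        rw [Set.ncard_pair (Ne.symm hz1)]
      have h3 : Nat.card E = (E : Set X).ncard := rfl
      omega
    obtain ⟨u, huE, hu1, huz, hconj⟩ :=
      Cfsg.Agent.Lib.Helper06.normal_four_of_elemAb hX E z w hz1 hz2 hzc hwE hw1 hwz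
    exact h ⟨z, u, hz1, hz2, hzc, hu1, hE.2 u huE, huz, hconj⟩

end Cfsg.Agent.Lib.Helper61.AG
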