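import Mathlib
import Cfsg.Agent.Lib.Helper39.HyperplaneGen
import Cfsg.Agent.Lib.Helper30.Generation
import Cfsg.Agent.S0026

set_option autoImplicit false

/-!
Coprime action of an abelian group `A` on `G` (both subgroups of `X`):
`G` is generated by the centralizers `C_G(B)` with `A / B` cyclic.
-/

namespace Cfsg.Agent.Lib.Helper61

open scoped commutatorElement Pointwise

universe u

/-- a finite abelian `p`-group with at most `p` solutions of `x ^ p = 1` is cyclic -/
theorem isCyclic_of_card_pow_p_le {P : Type*} [CommGroup P] [Finite P] {p : ℕ} [hp : Fact p.Prime]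
    (hP : IsPGroup p P) (h : Nat.card {x : P // x ^ p = 1} ≤ p) : IsCyclic P := by
  classical
  haveI := Fintype.ofFinite P
  have hΩ : ∀ k : ℕ, (Finset.univ.filter (fun a : P => a ^ (p ^ k) = 1)).card ≤ p ^ k := by
    intro k
    induction k with
    | zero =>
      simp only [pow_zero, pow_one]
      rw [Finset.card_le_one]
      intro a ha b hb
      rw [(Finset.mem_filter.mp ha).2, (Finset.mem_filter.mp hb).2]
    | succ k ih =>
      set s := Finset.univ.filter (fun a : P => a ^ (p ^ (k + 1)) = 1) with hs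
      have h1 : s.card ≤ p ^ k * (s.image (fun a : P => a ^ (p ^ k))).card := by
        apply Finset.card_le_mul_card_image
        intro b hb
        obtain ⟨x₀, hx₀, rfl⟩ := Finset.mem_image.mp hb
        refine le_trans ?_ ih
        apply Finset.card_le_card_of_injOn (fun x => x₀⁻¹ * x)
        · intro x hx
          rw [Finset.mem_coe] at hx
          have hx' := (Finset.mem_filter.mp hx).2
          rw [Finset.mem_coe, Finset.mem_filter]
          refine ⟨Finset.mem_univ _, ?_⟩
          rw [mul_pow, inv_pow, hx', inv_mul_cancel]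
        · intro x _ y _ hxy
          exact mul_left_cancel hxy
      have h2 : (s.image (fun a : P => a ^ (p ^ k))).card ≤ p := by
        refine le_trans (Finset.card_le_card (t := Finset.univ.filter (fun b : P => b ^ p = 1)) ?_) ?_
        · intro b hb
          obtain ⟨x, hx, rfl⟩ := Finset.mem_image.mp hb
          have hx' := (Finset.mem_filter.mp hx).2
          simp only [Finset.mem_filter, Finset.mem_univ, true_and]
          rw [← pow_mul, ← pow_succ]
          exact hx'
        · rw [← Fintype.card_subtype, ← Nat.card_eq_fintype_card]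
          exact h
      calc s.card ≤ p ^ k * (s.image (fun a : P => a ^ (p ^ k))).card := h1
        _ ≤ p ^ k * p := Nat.mul_le_mul_left _ h2
        _ = p ^ (k + 1) := (pow_succ p k).symm
  apply isCyclic_of_card_pow_eq_one_le
  intro n hn
  obtain ⟨m, hm⟩ := (IsPGroup.iff_card (p := p)).mp hP
  obtain ⟨k, _, hk⟩ := (Nat.dvd_prime_pow hp.out).mp (Nat.gcd_dvd_right n (p ^ m))
  refine le_trans (Finset.card_le_card (t := Finset.univ.filter (fun a : P => a ^ (p ^ k) = 1)) ?_)
    (le_trans (hΩ k) ?_)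
  · intro a ha
    have ha' := (Finset.mem_filter.mp ha).2
    simp only [Finset.mem_filter, Finset.mem_univ, true_and]
    rw [← hk]
    refine pow_gcd_eq_one.mpr ⟨ha', ?_⟩
    rw [← hm]
    exact pow_card_eq_one'
  · rw [← hk]
    exact Nat.gcd_le_left _ hn

variable {X : Type u} [Group X]

/-- a finite abelian non-cyclic subgroup contains an elementary abelian `p`-subgroup of rank two -/
theorem exists_elementary_of_not_isCyclic [Finite X] (A : Subgroup X)
    (hAc : ∀ a ∈ A, ∀ b ∈ A, a * b = b * a) (hA : ¬ IsCyclic A) :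
    ∃ p : ℕ, p.Prime ∧ ∃ E : Subgroup X, E ≤ A ∧ (∀ e ∈ E, e ^ p = 1) ∧ p ^ 2 ≤ Nat.card E := by
  by_contra hcon
  push Not at hcon
  apply hA
  letI : CommGroup A :=
    { (inferInstance : Group A) with mul_comm := fun a b => Subtype.ext (hAc a a.2 b b.2) }
  haveI : IsZGroup A := by
    constructor
    intro p hp P
    haveI : Fact p.Prime := ⟨hp⟩
    apply isCyclic_of_card_pow_p_le (p := p) P.2
    by_contra hgt
    push Not at hgt
    set Ω : Subgroup (P : Subgroup A) :=
      (powMonoidHom p : (P : Subgroup A) →* (P : Subgroup A)).ker with hΩ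
    set E : Subgroup X := (Ω.map (P : Subgroup A).subtype).map A.subtype with hE
    have hcardE : Nat.card E = Nat.card Ω := by
      rw [hE, Subgroup.card_map_of_injective A.subtype_injective,
        Subgroup.card_map_of_injective (Subgroup.subtype_injective _)]
    have hcardΩ : Nat.card Ω = Nat.card {x : (P : Subgroup A) // x ^ p = 1} := by
      apply Nat.card_congr
      exact Equiv.subtypeEquivRight (fun x => by rw [hΩ, MonoidHom.mem_ker, powMonoidHom_apply])
    have hEA : E ≤ A := by
      rintro _ ⟨y, _, rfl⟩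
      exact y.2
    have hEp : ∀ e ∈ E, e ^ p = 1 := by
      rintro _ ⟨_, ⟨z, hz, rfl⟩, rfl⟩
      have hz := MonoidHom.mem_ker.mp hz
      rw [powMonoidHom_apply] at hz
      have := congrArg (fun t : (P : Subgroup A) => ((t : A) : X)) hz
      simpa using this
    have hEpg : IsPGroup p E := by
      intro e
      refine ⟨1, Subtype.ext ?_⟩
      simpa using hEp e.1 e.2
    obtain ⟨j, hj⟩ := (IsPGroup.iff_card (p := p)).mp hEpg
    have hlt : p < Nat.card E := by rw [hcardE, hcardΩ]; exact hgt
    have hj2 : 2 ≤ j := by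
      by_contra hj2
      push Not at hj2
      have : p ^ j ≤ p ^ 1 := Nat.pow_le_pow_right hp.pos (by omega)
      rw [pow_one, ← hj] at this
      omega
    have := hcon p hp E hEA hEp
    rw [hj] at this
    exact absurd (Nat.pow_le_pow_right hp.pos hj2) (not_le.mpr this)
  infer_instance

/-- the subgroups `B` of `A` with `A / B` cyclic -/
def cyclicQuot (A : Subgroup X) : Set (Subgroup X) :=
  {B | B ≤ A ∧ ∃ a ∈ A, B ⊔ Subgroup.zpowers a = A}

/-- the subgroup of `G` generated by the `C_G(B)`, `A / B` cyclic -/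
def genCent (A G : Subgroup X) : Subgroup X :=
  ⨆ B ∈ cyclicQuot A, G ⊓ Subgroup.centralizer (B : Set X)

theorem genCent_le (A G : Subgroup X) : genCent A G ≤ G :=
  iSup₂_le fun _ _ => inf_le_left

theorem genCent_mono (A : Subgroup X) {G₁ G₂ : Subgroup X} (h : G₁ ≤ G₂) :
    genCent A G₁ ≤ genCent A G₂ :=
  iSup₂_mono fun _ _ => inf_le_inf_right _ h

theorem le_genCent_of_mem {A G B : Subgroup X} (hB : B ∈ cyclicQuot A) :
    G ⊓ Subgroup.centralizer (B : Set X) ≤ genCent A G :=
  le_iSup₂_of_le (f := fun B (_ : B ∈ cyclicQuot A) => G ⊓ Subgroup.centralizer (B : Set X))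
    B hB le_rfl

theorem genCent_le_iff {A G T : Subgroup X} :
    genCent A G ≤ T ↔ ∀ B ∈ cyclicQuot A, G ⊓ Subgroup.centralizer (B : Set X) ≤ T :=
  iSup₂_le_iff

/-- transport along the inclusion of a subgroup containing `A` and `G` -/
theorem le_genCent_of_subgroupOf (H A G : Subgroup X) (hA : A ≤ H) (hG : G ≤ H)
    (h : G.subgroupOf H ≤ genCent (A.subgroupOf H) (G.subgroupOf H)) : G ≤ genCent A G := by
  have h1 : G = (G.subgroupOf H).map H.subtype := (Subgroup.map_subgroupOf_eq_of_le hG).symm
  calc G = (G.subgroupOf H).map H.subtype := h1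
    _ ≤ (genCent (A.subgroupOf H) (G.subgroupOf H)).map H.subtype := Subgroup.map_mono h
    _ ≤ genCent A G := by
        rw [Subgroup.map_le_iff_le_comap, genCent_le_iff]
        intro B' hB'
        rw [← Subgroup.map_le_iff_le_comap]
        obtain ⟨hB'A, a', ha', hBa'⟩ := hB'
        have hB : B'.map H.subtype ∈ cyclicQuot A := by
          refine ⟨?_, (a' : X), ?_, ?_⟩
          · rintro _ ⟨b, hb, rfl⟩; exact Subgroup.mem_subgroupOf.mp (hB'A hb)
          · exact Subgroup.mem_subgroupOf.mp ha'
          · have : (B' ⊔ Subgroup.zpowers a').map H.subtype =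
                (A.subgroupOf H).map H.subtype := by rw [hBa']
            rw [Subgroup.map_sup, MonoidHom.map_zpowers, Subgroup.map_subgroupOf_eq_of_le hA] at this
            exact this
        refine le_trans ?_ (le_genCent_of_mem hB)
        rintro _ ⟨g, hg, rfl⟩
        obtain ⟨hgG, hgC⟩ := Subgroup.mem_inf.mp hg
        refine Subgroup.mem_inf.mpr ⟨Subgroup.mem_subgroupOf.mp hgG, ?_⟩
        rw [Subgroup.mem_centralizer_iff]
        rintro _ ⟨b, hb, rfl⟩
        have := Subgroup.mem_centralizer_iff.mp hgC b hb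
        exact congrArg Subtype.val this

/-- transport along a homomorphism whose kernel lies in `A` -/
theorem le_genCent_of_map {Y Q : Type*} [Group Y] [Group Q] (f : Y →* Q) (A G : Subgroup Y)
    (hker : f.ker ≤ A) (hGA : ∀ x ∈ G, x ∈ A → x = 1)
    (hAG : A ≤ Subgroup.normalizer (G : Set Y))
    (h : G.map f ≤ genCent (A.map f) (G.map f)) : G ≤ genCent A G := by
  have step : genCent (A.map f) (G.map f) ≤ (genCent A G).map f := by
    rw [genCent_le_iff]
    intro B' hB'
    obtain ⟨hB'A, a', ha', hBa'⟩ := hB'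
    obtain ⟨a, ha, rfl⟩ := ha'
    set B : Subgroup Y := A ⊓ B'.comap f with hB
    have hmapB : B.map f = B' := by
      apply le_antisymm
      · rintro _ ⟨b, hb, rfl⟩; exact (Subgroup.mem_inf.mp hb).2
      · intro y hy
        obtain ⟨x, hx, rfl⟩ := hB'A hy
        exact ⟨x, Subgroup.mem_inf.mpr ⟨hx, hy⟩, rfl⟩
    have hkerB : f.ker ≤ B := by
      intro k hk
      refine Subgroup.mem_inf.mpr ⟨hker hk, ?_⟩
      rw [Subgroup.mem_comap, MonoidHom.mem_ker.mp hk]; exact B'.one_mem
    have hBq : B ∈ cyclicQuot A := by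
      refine ⟨inf_le_left, a, ha,
        le_antisymm (sup_le inf_le_left (by rw [Subgroup.zpowers_le]; exact ha)) ?_⟩
      have h1 : A.map f ≤ (B ⊔ Subgroup.zpowers a).map f := by
        rw [Subgroup.map_sup, MonoidHom.map_zpowers, hmapB, hBa']
      have h2 := Subgroup.map_le_map_iff.mp h1
      exact h2.trans (sup_le le_rfl (hkerB.trans le_sup_left))
    refine le_trans ?_ (Subgroup.map_mono (le_genCent_of_mem hBq))
    rintro y hy
    obtain ⟨hyG, hyC⟩ := Subgroup.mem_inf.mp hy
    obtain ⟨g, hg, rfl⟩ := hyG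
    refine ⟨g, Subgroup.mem_inf.mpr ⟨hg, ?_⟩, rfl⟩
    rw [Subgroup.mem_centralizer_iff]
    intro b hb
    have hfb : f b ∈ B' := (Subgroup.mem_inf.mp hb).2
    have hcomm := Subgroup.mem_centralizer_iff.mp hyC (f b) hfb
    have hc : b * g * b⁻¹ * g⁻¹ = 1 := by
      apply hGA
      · exact G.mul_mem ((Subgroup.mem_normalizer_iff.mp (hAG (Subgroup.mem_inf.mp hb).1) g).mp hg)
          (G.inv_mem hg)
      · apply hker
        rw [MonoidHom.mem_ker, map_mul, map_mul, map_mul, map_inv, map_inv, hcomm]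
        group
    calc b * g = (b * g * b⁻¹ * g⁻¹) * (g * b) := by group
      _ = g * b := by rw [hc, one_mul]
  intro g hg
  have h1 : f g ∈ (genCent A G).map f := step (h (Subgroup.mem_map_of_mem f hg))
  obtain ⟨t, ht, htg⟩ := h1
  have hk : t⁻¹ * g = 1 := by
    apply hGA
    · exact G.mul_mem (G.inv_mem (genCent_le A G ht)) hg
    · apply hker; rw [MonoidHom.mem_ker, map_mul, map_inv, htg, inv_mul_cancel]
  have : g = t := by
    calc g = t * (t⁻¹ * g) := by group
      _ = t := by rw [hk, mul_one]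
  rw [this]; exact ht

theorem le_genCent_aux : ∀ n : ℕ, ∀ (X : Type u) [Group X] [Finite X] (A G : Subgroup X),
    Nat.card A = n → (∀ a ∈ A, ∀ b ∈ A, a * b = b * a) → A ≤ Subgroup.normalizer (G : Set X) →
    (Nat.card A).Coprime (Nat.card G) → G ≤ genCent A G := by
  intro n
  induction n using Nat.strong_induction_on with
  | _ n ih =>
  have hK : ∀ (X : Type u) [Group X] [Finite X] (A G : Subgroup X),
      Nat.card A = n → (∀ a ∈ A, ∀ b ∈ A, a * b = b * a) →
      A ≤ Subgroup.normalizer (G : Set X) → (Nat.card A).Coprime (Nat.card G) →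
      A ⊓ Subgroup.centralizer (G : Set X) ≠ ⊥ → G ≤ genCent A G := by
    intro X _ _ A G hn hAc hAG hcop hKne
    set K := A ⊓ Subgroup.centralizer (G : Set X) with hKdef
    set Y := G ⊔ A with hY
    have hGY : G ≤ Y := le_sup_left
    have hAY : A ≤ Y := le_sup_right
    have hKY : K ≤ Y := inf_le_left.trans hAY
    have hGAbot : G ⊓ A = ⊥ := (Subgroup.disjoint_of_coprime_natCard hcop.symm).eq_bot
    have hYK : Y ≤ Subgroup.normalizer (K : Set X) := by
      apply sup_le
      · intro g hg
        apply Subgroup.mem_normalizer_fintype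
        intro k hk
        have hkc := (Subgroup.mem_inf.mp hk).2
        have hgk : g * k = k * g := Subgroup.mem_centralizer_iff.mp hkc g hg
        rw [hgk, mul_assoc, mul_inv_cancel, mul_one]
        exact hk
      · intro a ha
        apply Subgroup.mem_normalizer_fintype
        intro k hk
        have hak : a * k = k * a := hAc a ha k (Subgroup.mem_inf.mp hk).1
        rw [hak, mul_assoc, mul_inv_cancel, mul_one]
        exact hk
    haveI hKn : (K.subgroupOf Y).Normal :=
      (Subgroup.normal_subgroupOf_iff_le_normalizer hKY).mpr hYK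
    apply le_genCent_of_subgroupOf Y A G hAY hGY
    set f := QuotientGroup.mk' (K.subgroupOf Y) with hf
    have hkerf : f.ker = K.subgroupOf Y := QuotientGroup.ker_mk' _
    have hAG' : A.subgroupOf Y ≤ Subgroup.normalizer ((G.subgroupOf Y : Subgroup Y) : Set Y) := by
      intro a ha
      apply Subgroup.mem_normalizer_fintype
      intro g hg
      rw [SetLike.mem_coe, Subgroup.mem_subgroupOf] at hg ⊢
      exact (Subgroup.mem_normalizer_iff.mp (hAG (Subgroup.mem_subgroupOf.mp ha)) _).mp hg
    have hlt : Nat.card ((A.subgroupOf Y).map f) < Nat.card (A.subgroupOf Y) := by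
      classical
      haveI := Fintype.ofFinite (A.subgroupOf Y)
      haveI := Fintype.ofFinite ((A.subgroupOf Y).map f)
      rw [Nat.card_eq_fintype_card, Nat.card_eq_fintype_card]
      apply Fintype.card_lt_of_surjective_not_injective
        (fun x : A.subgroupOf Y =>
          (⟨f x, Subgroup.mem_map_of_mem f x.2⟩ : (A.subgroupOf Y).map f))
      · rintro ⟨_, x, hx, rfl⟩; exact ⟨⟨x, hx⟩, rfl⟩
      · intro hinj
        obtain ⟨⟨k, hk⟩, hk1⟩ := (Subgroup.ne_bot_iff_exists_ne_one).mp hKne
        have hkA : (⟨k, hKY hk⟩ : Y) ∈ A.subgroupOf Y :=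
          Subgroup.mem_subgroupOf.mpr (Subgroup.mem_inf.mp hk).1
        have hfk : f ⟨k, hKY hk⟩ = 1 := by
          rw [← MonoidHom.mem_ker, hkerf]; exact Subgroup.mem_subgroupOf.mpr hk
        have := @hinj ⟨⟨k, hKY hk⟩, hkA⟩ 1 (by
          apply Subtype.ext
          show f ⟨k, hKY hk⟩ = f 1
          rw [hfk, map_one])
        apply hk1
        have h2 := congrArg (fun t : A.subgroupOf Y => ((t : Y) : X)) this
        exact Subtype.ext (by simpa using h2)
    have hcardA : Nat.card (A.subgroupOf Y) = Nat.card A :=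
      Nat.card_congr (Subgroup.subgroupOfEquivOfLe hAY).toEquiv
    have hcardG : Nat.card (G.subgroupOf Y) = Nat.card G :=
      Nat.card_congr (Subgroup.subgroupOfEquivOfLe hGY).toEquiv
    apply le_genCent_of_map f (A.subgroupOf Y) (G.subgroupOf Y)
    · rw [hkerf]
      intro x hx
      exact Subgroup.mem_subgroupOf.mpr (Subgroup.mem_inf.mp (Subgroup.mem_subgroupOf.mp hx)).1
    · intro x hxG hxA
      have : (x : X) ∈ G ⊓ A :=
        Subgroup.mem_inf.mpr ⟨Subgroup.mem_subgroupOf.mp hxG, Subgroup.mem_subgroupOf.mp hxA⟩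
      rw [hGAbot, Subgroup.mem_bot] at this
      exact Subtype.ext this
    · exact hAG'
    · refine ih (Nat.card ((A.subgroupOf Y).map f)) (by rw [← hn, ← hcardA]; exact hlt)
        (↥Y ⧸ K.subgroupOf Y) ((A.subgroupOf Y).map f) ((G.subgroupOf Y).map f) rfl ?_ ?_ ?_
      · rintro _ ⟨a, ha, rfl⟩ _ ⟨b, hb, rfl⟩
        rw [← map_mul, ← map_mul]
        congr 1
        exact Subtype.ext (hAc _ (Subgroup.mem_subgroupOf.mp ha) _ (Subgroup.mem_subgroupOf.mp hb))
      · exact (Subgroup.map_mono hAG').trans (Subgroup.le_normalizer_map f)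
      · apply Nat.Coprime.coprime_dvd_left (Subgroup.card_map_dvd _ f)
        apply Nat.Coprime.coprime_dvd_right (Subgroup.card_map_dvd _ f)
        rw [hcardA, hcardG]
        exact hcop
  intro X _ _ A G hn hAc hAG hcop
  by_cases hKb : A ⊓ Subgroup.centralizer (G : Set X) = ⊥
  swap
  · exact hK X A G hn hAc hAG hcop hKb
  by_cases hcyc : IsCyclic A
  · obtain ⟨⟨a, haA⟩, ha⟩ := hcyc.exists_generator
    have hB : (⊥ : Subgroup X) ∈ cyclicQuot A := by
      refine ⟨bot_le, a, haA, ?_⟩
      rw [bot_sup_eq]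
      apply le_antisymm (by rw [Subgroup.zpowers_le]; exact haA)
      intro x hx
      obtain ⟨k, hk⟩ := Subgroup.mem_zpowers_iff.mp (ha ⟨x, hx⟩)
      rw [Subgroup.mem_zpowers_iff]
      exact ⟨k, by have := congrArg Subtype.val hk; simpa using this⟩
    refine le_trans ?_ (le_genCent_of_mem hB)
    intro g hg
    refine Subgroup.mem_inf.mpr ⟨hg, ?_⟩
    rw [Subgroup.mem_centralizer_iff]
    intro h hh
    rw [SetLike.mem_coe, Subgroup.mem_bot] at hh
    rw [hh, one_mul, mul_one]
  · obtain ⟨p, hp, E, hEA, hEp, hE2⟩ := exists_elementary_of_not_isCyclic A hAc hcyc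
    haveI : Fact p.Prime := ⟨hp⟩
    have hEpg : IsPGroup p E := by
      intro e
      refine ⟨1, Subtype.ext ?_⟩
      simpa using hEp e.1 e.2
    have hpE : p ∣ Nat.card E := by
      rcases hEpg.card_eq_or_dvd with h1 | h1
      · exfalso
        rw [h1] at hE2
        have := hp.two_le
        nlinarith
      · exact h1
    have hpA : p ∣ Nat.card A := hpE.trans (Subgroup.card_dvd_of_le hEA)
    have hGp : (Nat.card G).Coprime p := (Nat.Coprime.coprime_dvd_left hpA hcop).symm
    apply Cfsg.Agent.Lib.Helper39.le_of_hyperplane_centralizers_le (p := p) (A := E) (N := G)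
      (H := genCent A G) (fun a ha b hb => hAc a (hEA ha) b (hEA hb)) hEp hGp (hEA.trans hAG)
    intro E₁ hE₁ hcard
    have hE₁ne : E₁ ≠ ⊥ := by
      rintro rfl
      rw [Subgroup.card_bot, mul_one] at hcard
      have := hp.one_lt
      nlinarith
    set G₁ := G ⊓ Subgroup.centralizer (E₁ : Set X) with hG₁
    have hAG₁ : A ≤ Subgroup.normalizer (G₁ : Set X) :=
      Cfsg.Agent.Lib.Helper39.normalizes_inf_centralizer hAc hAG E₁ (hE₁.trans hEA)
    have hcop₁ : (Nat.card A).Coprime (Nat.card G₁) :=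
      Nat.Coprime.coprime_dvd_right (Subgroup.card_dvd_of_le inf_le_left) hcop
    have hK₁ : A ⊓ Subgroup.centralizer (G₁ : Set X) ≠ ⊥ := by
      intro hbot
      apply hE₁ne
      rw [eq_bot_iff, ← hbot]
      refine le_inf (hE₁.trans hEA) ?_
      rw [Subgroup.le_centralizer_iff]
      exact inf_le_right
    exact (hK X A G₁ hn hAc hAG₁ hcop₁ hK₁).trans (genCent_mono A inf_le_left)

/-- **Coprime action of an abelian group**: `G = ⟨C_G(B) : A / B cyclic⟩`. -/
theorem le_genCent [Finite X] (A G : Subgroup X) (hAc : ∀ a ∈ A, ∀ b ∈ A, a * b = b * a)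
    (hAG : A ≤ Subgroup.normalizer (G : Set X)) (hcop : (Nat.card A).Coprime (Nat.card G)) :
    G ≤ genCent A G :=
  le_genCent_aux _ X A G rfl hAc hAG hcop

/-- **Coprime action of an abelian group**, commutator form:
`[G, A] = ⟨[C_G(B), A] : A / B cyclic⟩`. -/
theorem commutator_genCent [Finite X] (A G : Subgroup X)
    (hAc : ∀ a ∈ A, ∀ b ∈ A, a * b = b * a)
    (hAG : A ≤ Subgroup.normalizer (G : Set X)) (hcop : (Nat.card A).Coprime (Nat.card G)) :
    (⨆ B ∈ cyclicQuot A, ⁅G ⊓ Subgroup.centralizer (B : Set X), A⁆) = ⁅G, A⁆ := by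
  set Kc : Subgroup X := ⨆ B ∈ cyclicQuot A, ⁅G ⊓ Subgroup.centralizer (B : Set X), A⁆ with hKc
  apply le_antisymm
  · exact iSup₂_le fun B _ => Subgroup.commutator_mono inf_le_left le_rfl
  set CA := G ⊓ Subgroup.centralizer (A : Set X) with hCA
  have hsolv : Group.IsSolvable A := by
    letI : CommGroup A :=
      { (inferInstance : Group A) with mul_comm := fun a b => Subtype.ext (hAc a a.2 b b.2) }
    infer_instance
  have hKmem : ∀ B ∈ cyclicQuot A, ⁅G ⊓ Subgroup.centralizer (B : Set X), A⁆ ≤ Kc := by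
    intro B hB
    exact le_iSup₂_of_le
      (f := fun B (_ : B ∈ cyclicQuot A) => ⁅G ⊓ Subgroup.centralizer (B : Set X), A⁆) B hB le_rfl
  have h1 : ∀ B ∈ cyclicQuot A, G ⊓ Subgroup.centralizer (B : Set X) ≤ Kc ⊔ CA := by
    intro B hB
    have hBA := hB.1
    have hAGB := Cfsg.Agent.Lib.Helper39.normalizes_inf_centralizer hAc hAG B hBA
    have hcopB : (Nat.card A).Coprime (Nat.card ↥(G ⊓ Subgroup.centralizer (B : Set X))) :=
      Nat.Coprime.coprime_dvd_right (Subgroup.card_dvd_of_le inf_le_left) hcop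
    have h := Cfsg.Agent.S0026.result A (G ⊓ Subgroup.centralizer (B : Set X)) hAGB hcopB
      (Or.inl hsolv)
    calc G ⊓ Subgroup.centralizer (B : Set X)
        = ⁅G ⊓ Subgroup.centralizer (B : Set X), A⁆ ⊔
          (G ⊓ Subgroup.centralizer (B : Set X) ⊓ Subgroup.centralizer (A : Set X)) := h.symm
      _ ≤ Kc ⊔ CA := sup_le_sup (hKmem B hB) (inf_le_inf_right _ inf_le_left)
  have h2 : G ≤ Kc ⊔ CA := (le_genCent A G hAc hAG hcop).trans (genCent_le_iff.mpr h1)
  have hAKc : A ≤ Subgroup.normalizer (Kc : Set X) := by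
    apply Cfsg.Agent.Lib.Helper30.gen_le_normalizer_iSup
    intro B
    apply Cfsg.Agent.Lib.Helper30.gen_le_normalizer_iSup
    intro _
    exact Cfsg.Agent.Lib.Helper01.le_normalizer_commutator_right _ _
  have hCAKc : CA ≤ Subgroup.normalizer (Kc : Set X) := by
    apply Cfsg.Agent.Lib.Helper30.gen_le_normalizer_iSup
    intro B
    apply Cfsg.Agent.Lib.Helper30.gen_le_normalizer_iSup
    intro hB
    have hle : CA ≤ G ⊓ Subgroup.centralizer (B : Set X) :=
      inf_le_inf_left G (Subgroup.centralizer_le (SetLike.coe_subset_coe.mpr hB.1))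
    exact hle.trans (Cfsg.Agent.Lib.Helper01.le_normalizer_commutator_left _ _)
  rw [Subgroup.commutator_le]
  intro g hg a ha
  have hg' := h2 hg
  rw [← SetLike.mem_coe, Subgroup.coe_mul_of_right_le_normalizer_left Kc CA hCAKc] at hg'
  obtain ⟨k, hk, c, hc, rfl⟩ := Set.mem_mul.mp hg'
  have hca : a * c = c * a :=
    Subgroup.mem_centralizer_iff.mp (Subgroup.mem_inf.mp hc).2 a ha
  have : ⁅k * c, a⁆ = k * (a * k⁻¹ * a⁻¹) := by
    rw [commutatorElement_def]
    calc k * c * a * (k * c)⁻¹ * a⁻¹ = k * (c * a) * c⁻¹ * k⁻¹ * a⁻¹ := by group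
      _ = k * (a * c) * c⁻¹ * k⁻¹ * a⁻¹ := by rw [hca]
      _ = k * (a * k⁻¹ * a⁻¹) := by group
  rw [this]
  exact Kc.mul_mem hk ((Subgroup.mem_normalizer_iff.mp (hAKc ha) _).mp (Kc.inv_mem hk))

end Cfsg.Agent.Lib.Helper61
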