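import Mathlib
import Cfsg.Prelude.Def_GeometricClasses
import Cfsg.Agent.Lib.Helper61.AschDefs
import Cfsg.Agent.Lib.Helper61.AschBasic
import Cfsg.Agent.Lib.Helper61.AschGlueA
import Cfsg.Agent.Lib.Helper61.AschGlueB
import Cfsg.Agent.Lib.Helper61.AschGlueC
import Cfsg.Agent.Lib.Helper61.AschGlueD
import Cfsg.Agent.Lib.Helper61.AschGlueE
import Cfsg.Agent.Lib.Helper61.AschGlueF
import Cfsg.Agent.Lib.Helper80.AschD1
import Cfsg.Agent.Lib.Helper19.AschD2Core
import Cfsg.Agent.Lib.Helper23.AschC2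
import Cfsg.Agent.Lib.Helper23.AschC3
import Cfsg.Agent.Lib.Helper22.AschC4
import Cfsg.Agent.Lib.Helper42.AschC5
import Cfsg.Agent.Lib.Helper72.AschC6
import Cfsg.Agent.Lib.Helper60.AschE5

set_option autoImplicit false

namespace Cfsg.Agent.Lib.Helper61.Asch

open Cfsg Cfsg.Geo
open Cfsg.Agent.Lib.Helper61
open scoped Matrix Kronecker MatrixGroups commutatorElement

variable {F : Type*} [Field F] [Fintype F] {n : ℕ}

local notation "Z" => scalars (Fin n) F

theorem aschbacher_linear (hn : 3 ≤ n) (H : Subgroup (GL (Fin n) F)) :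
    (∃ M : Subgroup (GL (Fin n) F), InLinearClass n F M ∧ H ≤ M) ∨ InLinearResidualClass H := by
  obtain ⟨K, hK⟩ : ∃ K : Subgroup (GL (Fin n) F), K = H ⊔ Z := ⟨_, rfl⟩
  have hHK : H ≤ K := by rw [hK]; exact le_sup_left
  have hZK : Z ≤ K := by rw [hK]; exact le_sup_right
  by_cases hG : Geom K
  · obtain ⟨M, hM, hKM⟩ := hG
    exact Or.inl ⟨M, hM, hHK.trans hKM⟩
  right
  have hKirr : ActsIrreducibly (matrixSet K) := by
    by_contra h
    exact hG (geom_of_reducible K h)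
  have hKZ : ¬ K ≤ Z := not_le_scalars_of_irreducible (by omega) hKirr
  have hT : ∀ N : Subgroup (GL (Fin n) F), NormBy K N → N ≤ Z ∨ spanAlg N = ⊤ := by
    intro N hN
    rcases normal_trichotomy hn K N hKirr hN with h | h
    · exact absurd h hG
    · exact h
  obtain ⟨N, hZN, hNK, hKN, hNZ, hmin⟩ := exists_minimal_normal K hZK hKZ
  have hspan : spanAlg N = ⊤ := (hT N hKN).resolve_left hNZ
  have hD1 : Z ≤ ⁅N, N⁆ ⊔ Z := le_sup_right
  have hD2 : ⁅N, N⁆ ⊔ Z ≤ N := sup_le (commutator_le_self N) hZN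
  have hD3 : NormBy K (⁅N, N⁆ ⊔ Z) := (hKN.commutator hKN).sup (normBy_scalars K)
  rcases hmin _ hD1 hD2 hD3 with hD | hD
  · -- abelian mod scalars
    exfalso
    have hcomm : ∀ x ∈ N, ∀ y ∈ N, x * y * x⁻¹ * y⁻¹ ∈ Z := by
      intro x hx y hy
      have : ⁅x, y⁆ ∈ ⁅N, N⁆ ⊔ Z := Subgroup.mem_sup_left (Subgroup.commutator_mem_commutator hx hy)
      rw [hD, commutatorElement_def] at this
      exact this
    obtain ⟨r, hr, hexp⟩ := exists_prime_exponent K N hZN hNZ hKN hcomm hmin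
    have hab : ∀ B : Subgroup (GL (Fin n) F), B ≤ N → NormBy K B → (∀ x ∈ B, ∀ y ∈ B, x * y = y * x) →
        B ≤ Z := by
      intro B _ hKB hB
      rcases hT B hKB with h | h
      · exact h
      · intro b hb
        exact mem_scalars_of_commute h b (fun x hx => hB b hb x hx)
    obtain ⟨R, _, hKR, hspanR, hR, hrq, htr, hRexp, m, hm, hnm, hcen, hcard⟩ :=
      Cfsg.Agent.Lib.Helper80.Asch.exists_symplecticType K N (by omega) hZN hNK hKN hspan r hr hcomm hexp hmin hab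
    exact hG (Cfsg.Agent.Lib.Helper19.Asch.geom_of_symplecticType_core K R hn hKR hspanR r hR hrq htr m hm hnm hcen
      hcard
      (fun h => Cfsg.Agent.Lib.Helper23.Asch.exists_form_of_trace_inv R (by omega) hspanR h)
      (fun σ h1 h2 h3 => Cfsg.Agent.Lib.Helper23.Asch.exists_unitary_of_trace_inv R hspanR σ h1 h2 h3)
      (fun f hf hfix => Cfsg.Agent.Lib.Helper22.Asch.le_similarityGroup_of_fixes_symplectic K R hspanR hKR f hf hfix)
      (fun σ f hf hfix => Cfsg.Agent.Lib.Helper22.Asch.le_similarityGroup_of_fixes_unitary K R hspanR hKR σ f hf hfix)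
      (fun hodd Q hQ hfix => Cfsg.Agent.Lib.Helper22.Asch.le_quadSimilarityGroup_of_fixes K R hspanR hKR hodd Q hQ hfix)
      (fun F₀ h => Cfsg.Agent.Lib.Helper42.Asch.realisableOver_of_trace_mem R hspanR F₀ h)
      (fun F₀ h1 h2 => Cfsg.Agent.Lib.Helper72.Asch.le_subfieldSubgroup_of_realisable K R hspanR hKR F₀ h1 h2))
  · by_cases hns : ∃ M : Subgroup (GL (Fin n) F), Z ≤ M ∧ M ≤ N ∧ NormBy N M ∧ M ≠ Z ∧ M ≠ N
    · exfalso
      exact hG (Cfsg.Agent.Lib.Helper60.Asch.geom_of_nonsimple_perfect K N hn hZN hNK hKN hspan hD hmin hns)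
    · exact residual_of_simple hn H K N hK hG hNZ hKN hNK hspan hD hns

end Cfsg.Agent.Lib.Helper61.Asch
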