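import Mathlib
import Cfsg.Agent.Lib.Helper15.BG147Defs
import Cfsg.Agent.Lib.Helper15.BG142Final
import Cfsg.Agent.Lib.Helper01.BG134CJ
import Cfsg.Agent.Lib.Helper31.BG134Glue

/-!
# BG 14.7 closure lemma, leaf C1 (keystone 147101): the first consequences `CL1`
-/

set_option autoImplicit false

namespace Cfsg.Agent.Lib.Helper61.BG147

open Cfsg Cfsg.Agent.Lib.Helper55 Cfsg.Agent.Lib.Helper31.BG134 Cfsg.Agent.Lib.Helper15.BG139
  Cfsg.Agent.Lib.Helper15.BG142 Cfsg.Agent.Lib.Helper15.BG147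

variable {G : Type*} [Group G] [Finite G]

/-- LEAF C1 (147101) -/
theorem cl1 {M K X H : Subgroup G} (c : CL M K X H) : CL1 M K X H := by
  have hG := c.hG
  have hM := c.hM
  have hK := c.hK
  have hH := c.hH
  have hNH := c.hNH
  have hXK := c.hXK
  have hXp := c.hXp
  obtain ⟨E, ks⟩ := exists_ks hG hM hK c.hK1
  obtain ⟨-, -, h3⟩ := s1430_of_ks hG hM ks
  obtain ⟨hN, -, hXs⟩ := h3 X hXK hXp
  have hXσ : X ≤ sigmaCore H := hXs H hH hNH
  have hKM : K ≤ M := hK.1
  have hXM : X ≤ M := hXK.trans hKM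
  have hC : CP M X ≠ ⊥ := by
    intro h
    apply ks.hKs
    rw [eq_bot_iff, ← h]
    exact inf_le_inf_left _ (Subgroup.centralizer_le (SetLike.coe_subset_coe.mpr hXK))
  have hpσH : Nat.card X ∈ sigma H :=
    htx' hG M X H (Nat.card X) hM hXM rfl (ks.h13 X hXK hXp) hC hH hNH
  have hpκ : Nat.card X ∈ kappa M := hK.2.1 _ hXp (Subgroup.card_dvd_of_le hXK)
  have hpσM : Nat.card X ∉ sigma M := hpκ.2.2.1
  have hnc : ∀ g : G, cj g M ≠ H := by
    intro g hg
    apply hpσM
    rw [← Cfsg.Agent.Lib.Helper01.BG134.mem_sigma_cj_iff g, hg]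
    exact hpσH
  have hZH : K ⊔ KStar M K ≤ H := by
    rw [← hN]
    exact inf_le_right.trans hNH
  have hbot : sigmaCore M ⊓ sigmaCore H = ⊥ := by
    by_contra hne
    have hcard : Nat.card ↥(sigmaCore M ⊓ sigmaCore H) ≠ 1 := by
      intro h
      exact hne (Subgroup.card_eq_one.mp h)
    obtain ⟨r, hr, hrd⟩ := Nat.exists_prime_and_dvd hcard
    have hrM : r ∈ sigma M := Cfsg.Agent.Lib.Helper71.BG11.sigmaCore_pi hG hM hr
      (hrd.trans (Subgroup.card_dvd_of_le inf_le_left))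
    have hrH : r ∈ sigma H := Cfsg.Agent.Lib.Helper71.BG11.sigmaCore_pi hG hH hr
      (hrd.trans (Subgroup.card_dvd_of_le inf_le_right))
    exact hsp hG M H hM hH hnc r hrM hrH
  have hXH : X ≤ H := hXK.trans (le_sup_left.trans hZH)
  have hXne : X ≠ ⊥ := by
    intro h
    have h1 := hXp
    rw [h] at h1
    simp only [Subgroup.card_bot] at h1
    exact Nat.not_prime_one h1
  have hσ : sigmaCore M ⊓ H = KStar M K := by
    apply le_antisymm
    · haveI : Fact (Nat.card X).Prime := ⟨hXp⟩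
      have hXpg : IsPGroup (Nat.card X) X := IsPGroup.of_card (n := 1) (pow_one _).symm
      have hnt1 : Nat.card X ∉ tau1 H := fun h => h.2.1 hpσH
      have hcent := Cfsg.Agent.Lib.Helper31.BG134.t131 hG M H hM hH hnc (Nat.card X) hpσM X hXpg
        hXM hXH hnt1
      obtain ⟨x, hx1⟩ := (Subgroup.ne_bot_iff_exists_ne_one).mp hXne
      have hxX : (x : G) ∈ X := x.2
      have hx1' : (x : G) ≠ 1 := fun h => hx1 (Subtype.ext h)
      rw [← ks.hpa (x : G) (hXK hxX) hx1']
      intro y hy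
      refine ⟨hy.1, ?_⟩
      change y ∈ Subgroup.centralizer ({(x : G)} : Set G)
      rw [Subgroup.mem_centralizer_iff]
      intro z hz
      rw [Set.mem_singleton_iff] at hz
      subst hz
      have := Subgroup.mem_centralizer_iff.mp (hcent hxX) y hy
      exact this.symm
    · exact le_inf inf_le_left (le_sup_right.trans hZH)
  have hcomm : sigmaCore H ⊓ M ≤ Subgroup.centralizer (KStar M K : Set G) := by
    intro d hd
    rw [Subgroup.mem_centralizer_iff]
    intro k hk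
    have hkMσ : k ∈ sigmaCore M := hk.1
    have hkH : k ∈ H := (le_sup_right.trans hZH) hk
    have hdHσ : d ∈ sigmaCore H := hd.1
    have hdM : d ∈ M := hd.2
    have h1 : d * k * d⁻¹ ∈ sigmaCore M :=
      (Subgroup.mem_normalizer_iff.mp
        (Cfsg.Agent.Lib.Helper71.BG11.le_normalizer_sigmaCore M hdM) k).mp hkMσ
    have h2 : k * d⁻¹ * k⁻¹ ∈ sigmaCore H :=
      (Subgroup.mem_normalizer_iff.mp
        (Cfsg.Agent.Lib.Helper71.BG11.le_normalizer_sigmaCore H hkH) d⁻¹).mp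
        ((sigmaCore H).inv_mem hdHσ)
    have h3 : d * k * d⁻¹ * k⁻¹ ∈ sigmaCore M ⊓ sigmaCore H := by
      refine ⟨(sigmaCore M).mul_mem h1 ((sigmaCore M).inv_mem hkMσ), ?_⟩
      have : d * k * d⁻¹ * k⁻¹ = d * (k * d⁻¹ * k⁻¹) := by group
      rw [this]
      exact (sigmaCore H).mul_mem hdHσ h2
    rw [hbot, Subgroup.mem_bot] at h3
    have : d * k = k * d := by
      have h4 : d * k * d⁻¹ * k⁻¹ * (k * d) = k * d := by rw [h3, one_mul]
      rw [← h4]
      group
    exact this.symm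
  exact ⟨hnc, hXσ, hZH, hσ, hbot, hcomm, ks.hKs⟩

end Cfsg.Agent.Lib.Helper61.BG147
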