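import Mathlib
import Cfsg.Agent.Lib.Helper31.BG15KA
import Cfsg.Agent.Lib.Helper55.SylowIn
import Cfsg.Agent.Lib.Helper71.BG10Sub
import Cfsg.Agent.Lib.Helper31.FittingHall

/-!
# Pack K-147P, leaf BG-1 (keystone 147204): for `p ∣ |U|`, `p ∉ σ(M)` and `U` contains an
`M`-conjugate of every `p`-subgroup of `M`
-/

set_option autoImplicit false

namespace Cfsg.Agent.Lib.Helper61.BG147P

open Cfsg Cfsg.Agent.Lib.Helper55

variable {G : Type*} [Group G] [Finite G]

/-- 147204 BG-1 -/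
theorem exists_conj_le_of_pgroup (hG : IsMinSimpleOddOrder G) {M K U : Subgroup G} (hM : IsCoatom M)
    (hKU : IsSigmaDecomposition M K U) {p : ℕ} (hp : p.Prime) (hpU : p ∣ Nat.card U) :
    p ∉ sigma M ∧ ∀ A : Subgroup G, IsPGroup p A → A ≤ M →
      ∃ m ∈ M, A.map (MulAut.conj m).toMonoidHom ≤ U := by
  haveI : Fact p.Prime := ⟨hp⟩
  have hUM : U ≤ M := hKU.compl.1
  have hpσ : p ∉ sigma M := by
    intro hσ
    obtain ⟨x, hx⟩ := exists_prime_orderOf_dvd_card' p hpU
    have hHall := (Cfsg.Agent.S1350.result hG M hM).1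
    have hle : Subgroup.zpowers (x : G) ≤ sigmaCore M := by
      apply Cfsg.Agent.Lib.Helper71.BG10.le_of_isPiHallOf_normal hHall
        (Cfsg.Agent.Lib.Helper71.BG11.le_normalizer_sigmaCore M)
        ((Subgroup.zpowers_le).mpr (hUM x.2))
      intro q hq hqd
      rw [Nat.card_zpowers, Subgroup.orderOf_coe, hx] at hqd
      rw [(Nat.prime_dvd_prime_iff_eq hq hp).mp hqd]
      exact hσ
    have hxmem : (x : G) ∈ U ⊓ (K ⊔ sigmaCore M) :=
      ⟨x.2, Subgroup.mem_sup_right (hle (Subgroup.mem_zpowers _))⟩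
    rw [hKU.compl.2.2.1, Subgroup.mem_bot] at hxmem
    have h1 : orderOf (x : G) = 1 := by rw [hxmem]; exact orderOf_one
    rw [Subgroup.orderOf_coe, hx] at h1
    exact hp.one_lt.ne' h1
  refine ⟨hpσ, ?_⟩
  have h1 := Cfsg.Agent.Lib.Helper31.IsComplIn.card_mul
    (Cfsg.Agent.Lib.Helper31.BG15.isComplIn_sup_of_sigmaDecomposition hG hM hKU)
  have h2 := Cfsg.Agent.Lib.Helper31.IsComplIn.card_mul
    (Cfsg.Agent.Lib.Helper31.BG15.isComplIn_kappa_of_sigmaDecomposition hKU)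
  have hpK : ¬ p ∣ Nat.card K := fun h =>
    Cfsg.Agent.Lib.Helper31.BG15.not_mem_kappa_of_dvd_card hKU hp hpU (hKU.hall.2.1 p hp h)
  have hpS : ¬ p ∣ Nat.card (sigmaCore M) := fun h =>
    hpσ (Cfsg.Agent.Lib.Helper71.BG11.sigmaCore_pi hG hM hp h)
  have hfac : (Nat.card M).factorization p = (Nat.card U).factorization p := by
    rw [← h1, ← h2]
    have hK0 : Nat.card K ≠ 0 := Nat.card_pos.ne'
    have hU0 : Nat.card U ≠ 0 := Nat.card_pos.ne'
    have hS0 : Nat.card (sigmaCore M) ≠ 0 := Nat.card_pos.ne'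
    rw [Nat.factorization_mul (mul_ne_zero hK0 hU0) hS0, Nat.factorization_mul hK0 hU0]
    simp only [Finsupp.coe_add, Pi.add_apply]
    rw [Nat.factorization_eq_zero_of_not_dvd hpK, Nat.factorization_eq_zero_of_not_dvd hpS]
    omega
  obtain ⟨T, hT, -⟩ := exists_isSylowIn_ge (p := p) (K := U) (Z := ⊥) bot_le IsPGroup.of_bot
  have hTcard : Nat.card T = p ^ (Nat.card U).factorization p := by
    have h3 := (hT.toSylow).card_eq_multiplicity
    rw [hT.coe_toSylow] at h3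
    rw [← h3]
    exact (Nat.card_congr (Subgroup.subgroupOfEquivOfLe hT.1).toEquiv).symm
  have hTM : IsSylowIn p M T := by
    refine ⟨hT.1.trans hUM, hT.2.1, ?_⟩
    intro T' hT'M hT'p hle
    obtain ⟨b, hb⟩ := hT'p.exists_card_eq
    have hdvd : p ^ b ∣ Nat.card M := hb ▸ Subgroup.card_dvd_of_le hT'M
    have hble : b ≤ (Nat.card M).factorization p :=
      (hp.pow_dvd_iff_le_factorization Nat.card_pos.ne').mp hdvd
    rw [hfac] at hble
    have hcard : Nat.card T' ≤ Nat.card T := by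
      rw [hb, hTcard]
      exact Nat.pow_le_pow_right hp.pos hble
    exact (Subgroup.eq_of_le_of_card_ge hle hcard).symm
  intro A hA hAM
  obtain ⟨m, hm, hmA⟩ := hTM.exists_conj_le hAM hA
  exact ⟨m, hm, hmA.trans hT.1⟩

end Cfsg.Agent.Lib.Helper61.BG147P
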