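import Mathlib
import Cfsg.Agent.S1350
import Cfsg.Agent.S1431
import Cfsg.Agent.Lib.Helper65.BG151D
import Cfsg.Agent.Lib.Helper71.BG10Sub
import Cfsg.Agent.Lib.Helper71.BG11a

/-!
# Pack K-151 (S1355 + S1364), leaf I (keystone 135511)

A normal Sylow `q`-subgroup `S` of `M_σ`, `q ∣ |K*|`, is not cyclic.
-/

set_option autoImplicit false

namespace Cfsg.Agent.Lib.Helper61.BG151

open Cfsg

/-- K-151-I -/
theorem not_isCyclic_of_normal_sylow {G : Type*} [Group G] [Finite G]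
    (hG : IsMinSimpleOddOrder G) {M : Subgroup G} (hM : IsCoatom M) {K : Subgroup G}
    (hK : IsPiHallOf (kappa M) K M) (hK1 : K ≠ ⊥) (q : ℕ) (hq : q.Prime)
    (hqd : q ∣ Nat.card ↥(sigmaCore M ⊓ Subgroup.centralizer (K : Set G)))
    (S : Subgroup G) (hSσ : S ≤ sigmaCore M) (hSq : IsPGroup q S)
    (hSyl : ¬ q ∣ S.relIndex (sigmaCore M)) (hSn : M ≤ Subgroup.normalizer (S : Set G)) :
    ¬ IsCyclic S := by
  intro hSc
  haveI : Fact q.Prime := ⟨hq⟩
  have hσM : sigmaCore M ≤ M := Cfsg.Agent.Lib.Helper71.BG11.sigmaCore_le M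
  -- q ∈ σ(M)
  have hqσ : q ∈ sigma M := Cfsg.Agent.Lib.Helper71.BG11.sigmaCore_pi hG hM hq
    (hqd.trans (Subgroup.card_dvd_of_le inf_le_left))
  -- q ∤ |K|
  have hqK : ¬ q ∣ Nat.card K := fun h => (hK.2.1 q hq h).2.2.1 hqσ
  have hcop : (Nat.card K).Coprime q := ((Nat.Prime.coprime_iff_not_dvd hq).mpr hqK).symm
  -- q ≠ 2
  have hq2 : q ≠ 2 := by
    rintro rfl
    have h2 : 2 ∣ Nat.card G := hqd.trans (Subgroup.card_subgroup_dvd_card _)
    exact (Nat.not_even_iff_odd.mpr hG.1) (even_iff_two_dvd.mpr h2)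
  -- an element of order q in K*
  obtain ⟨y, hy⟩ := exists_prime_orderOf_dvd_card' q hqd
  have hyσ : (y : G) ∈ sigmaCore M := y.2.1
  have hyc : (y : G) ∈ Subgroup.centralizer (K : Set G) := y.2.2
  have hyo : orderOf (y : G) = q := by rw [Subgroup.orderOf_coe, hy]
  have hy1 : (y : G) ≠ 1 := by
    intro h
    rw [h, orderOf_one] at hyo
    exact hq.one_lt.ne hyo
  -- y ∈ S
  have hHallS : IsPiHallOf ({q} : Set ℕ) S (sigmaCore M) := by
    refine ⟨hSσ, ?_, ?_⟩
    · intro p hp hpd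
      obtain ⟨n, hn⟩ := hSq.exists_card_eq
      rw [hn] at hpd
      exact (Nat.prime_dvd_prime_iff_eq hp hq).mp (hp.dvd_of_dvd_pow hpd)
    · intro p hp hpq
      rw [Set.mem_singleton_iff.mp hpq]
      exact hSyl
  have hyS : (y : G) ∈ S := by
    have hle : Subgroup.zpowers (y : G) ≤ S := by
      apply Cfsg.Agent.Lib.Helper71.BG10.le_of_isPiHallOf_normal hHallS (hσM.trans hSn)
        ((Subgroup.zpowers_le).mpr hyσ)
      intro p hp hpd
      rw [Nat.card_zpowers, hyo] at hpd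
      exact (Nat.prime_dvd_prime_iff_eq hp hq).mp hpd
    exact hle (Subgroup.mem_zpowers _)
  -- K centralizes y
  have hyK : K ≤ Subgroup.centralizer ({(y : G)} : Set G) := by
    intro k hk
    rw [Subgroup.mem_centralizer_iff]
    intro h hh
    rw [Set.mem_singleton_iff] at hh
    subst hh
    exact (Subgroup.mem_centralizer_iff.mp hyc k hk).symm
  have hKS : K ≤ Subgroup.centralizer (S : Set G) :=
    Cfsg.Agent.Lib.Helper65.BG151.le_centralizer_of_cyclic q hq2 S K hSq hSc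
      (hK.1.trans hSn) hcop (y : G) hyS hy1 hyK
  have hSK : S ≤ sigmaCore M ⊓ Subgroup.centralizer (K : Set G) := by
    refine le_inf hSσ ?_
    intro s hs
    rw [Subgroup.mem_centralizer_iff]
    intro k hk
    exact (Subgroup.mem_centralizer_iff.mp (hKS hk) s hs).symm
  -- the Sylow subgroup of M_σ
  have hPq : IsPGroup q (S.subgroupOf (sigmaCore M)) := hSq.comap_subtype
  have hPi : ¬ q ∣ (S.subgroupOf (sigmaCore M)).index := hSyl
  have h3 := (Cfsg.Agent.S1431.result hG M hM K hK hK1).2.2.1 q hq hqd (hPq.toSylow hPi)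
  apply h3.2.2
  rw [IsPGroup.toSylow_coe, Subgroup.map_subgroupOf_eq_of_le hSσ]
  exact hSK

end Cfsg.Agent.Lib.Helper61.BG151
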