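import Mathlib
import Cfsg.Agent.Lib.Helper61.QuatAut

/-!
# K-GS leaf 484006 (S4840): `centralizes_of_quaternion_big`, helper61

A normal generalized quaternion subgroup of order at least 16 is centralized by every element of
odd order (variant of `Helper61.conj_eq_of_quaternion` for the whole quaternion group, `n ≥ 2`).
-/

set_option autoImplicit false

namespace Cfsg.Agent.Lib.Helper61.GS

open Cfsg.Agent.Lib.Helper61 QuaternionGroup

theorem gs_conj_eq_of_quaternion {H : Type*} [Group H] (n : ℕ)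
    (ρ : QuaternionGroup (2 ^ n) →* H) (hρ : Function.Injective ρ)
    (R : Subgroup H) (hRT : R ≤ ρ.range)
    (hbig0 : ∃ b₀ : QuaternionGroup (2 ^ n), ρ b₀ ∈ R ∧ b₀ ∈ quatA (2 ^ n) ∧ b₀ ^ 4 ≠ 1)
    (g : H) (hg : ∀ r ∈ R, g * r * g⁻¹ ∈ R) (k : ℕ) (hk : Odd k) (hgk : g ^ k = 1) :
    ∀ r ∈ R, g * r * g⁻¹ = r := by
  have hkpos : 0 < k := hk.pos
  have : NeZero (2 ^ n) := ⟨by positivity⟩
  set A := quatA (2 ^ n) with hA
  set Abar := A.map ρ with hAbar
  have hAc : IsCyclic ↥A := quatA_isCyclic _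
  have hAbarc : IsCyclic ↥Abar :=
    isCyclic_of_surjective (ρ.subgroupMap A) (ρ.subgroupMap_surjective A)
  have hQ2 : IsPGroup 2 (QuaternionGroup (2 ^ n)) :=
    IsPGroup.of_card (n := n + 2) (by rw [Nat.card_eq_fintype_card, QuaternionGroup.card]; ring)
  have hrange2 : IsPGroup 2 ↥ρ.range := hQ2.of_surjective ρ.rangeRestrict ρ.rangeRestrict_surjective
  have hFinRange : Finite ↥ρ.range := Finite.of_surjective ρ.rangeRestrict ρ.rangeRestrict_surjective
  have hR2 : IsPGroup 2 ↥R := hrange2.to_le hRT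
  have hRfin : Finite ↥R :=
    Finite.of_injective (Subgroup.inclusion hRT) (Subgroup.inclusion_injective hRT)
  by_cases hRA : R ≤ Abar
  · have hRc : IsCyclic ↥R :=
      isCyclic_of_injective (Subgroup.inclusion hRA) (Subgroup.inclusion_injective hRA)
    exact conj_eq_of_cyclic_two R hRc hR2 g (mem_normalizer_of_conj_mem R g k hkpos hgk hg) k hk hgk
  · obtain ⟨b₀, hb₀R, hb₀A, hb₀4⟩ := hbig0
    set B := R ⊓ Abar with hB
    have hBfin : Finite ↥B :=
      Finite.of_injective (Subgroup.inclusion (inf_le_left : B ≤ R)) (Subgroup.inclusion_injective _)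
    have hBc : IsCyclic ↥B :=
      isCyclic_of_injective (Subgroup.inclusion (inf_le_right : B ≤ Abar)) (Subgroup.inclusion_injective _)
    have hB2 : IsPGroup 2 ↥B := hR2.to_le inf_le_left
    have hout4 : ∀ c ∈ R, c ∉ Abar → c ^ 4 = 1 := by
      intro c hc hcA
      obtain ⟨q, rfl⟩ := hRT hc
      have hq : q ∉ A := fun h => hcA ⟨q, h, rfl⟩
      rw [← map_pow, pow_four_of_not_mem_quatA q hq, map_one]
    have hout_mul : ∀ c ∈ R, ∀ d ∈ R, c ∉ Abar → d ∉ Abar → c⁻¹ * d ∈ B := by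
      intro c hc d hd hcA hdA
      refine ⟨R.mul_mem (R.inv_mem hc) hd, ?_⟩
      obtain ⟨p, rfl⟩ := hRT hc
      obtain ⟨q, rfl⟩ := hRT hd
      have hp : p ∉ A := fun h => hcA ⟨p, h, rfl⟩
      have hq : q ∉ A := fun h => hdA ⟨q, h, rfl⟩
      exact ⟨p⁻¹ * q, inv_mul_mem_quatA p q hp hq, by simp⟩
    have hbig : ∃ b ∈ B, b ^ 4 ≠ 1 := by
      refine ⟨ρ b₀, ⟨hb₀R, ⟨b₀, hb₀A, rfl⟩⟩, ?_⟩
      rw [← map_pow]
      intro h
      apply hb₀4
      exact hρ (by rw [h, map_one])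
    have hgB : ∀ b ∈ B, g * b * g⁻¹ ∈ B := by
      obtain ⟨⟨b₁, hb₁B⟩, hgen⟩ := hBc.exists_generator
      have hrepr : ∀ b ∈ B, ∃ z : ℤ, b = b₁ ^ z := by
        intro b hb
        obtain ⟨z, hz⟩ := Subgroup.mem_zpowers_iff.mp (hgen ⟨b, hb⟩)
        refine ⟨z, ?_⟩
        have := congrArg Subtype.val hz
        simpa using this.symm
      have hb₁4 : b₁ ^ 4 ≠ 1 := by
        intro h1
        obtain ⟨b, hbB, hb4⟩ := hbig
        apply hb4
        obtain ⟨z, rfl⟩ := hrepr b hbB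
        rw [← zpow_natCast, ← zpow_mul, mul_comm, zpow_mul, zpow_natCast, h1, one_zpow]
      have hgb₁ : g * b₁ * g⁻¹ ∈ B := by
        refine ⟨hg _ hb₁B.1, ?_⟩
        by_contra hcon
        have h4 := hout4 _ (hg _ hb₁B.1) hcon
        apply hb₁4
        rw [conj_pow] at h4
        have : b₁ ^ 4 = g⁻¹ * (g * b₁ ^ 4 * g⁻¹) * g := by group
        rw [this, h4]; group
      intro b hb
      obtain ⟨z, rfl⟩ := hrepr b hb
      have : g * b₁ ^ z * g⁻¹ = (g * b₁ * g⁻¹) ^ z := conj_zpow.symm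
      rw [this]
      exact B.zpow_mem hgb₁ z
    have hgBN := mem_normalizer_of_conj_mem B g k hkpos hgk hgB
    have hcentB := conj_eq_of_cyclic_two B hBc hB2 g hgBN k hk hgk
    intro r hr
    by_cases hrA : r ∈ Abar
    · exact hcentB r ⟨hr, hrA⟩
    · have hgr : g * r * g⁻¹ ∉ Abar := by
        intro hcon
        have h1 : g * r * g⁻¹ ∈ B := ⟨hg r hr, hcon⟩
        have h2 : r ∈ B := (Subgroup.mem_normalizer_iff.mp hgBN r).mpr h1
        exact hrA h2.2
      have hb' : r⁻¹ * (g * r * g⁻¹) ∈ B := hout_mul r hr _ (hg r hr) hrA hgr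
      set b' := r⁻¹ * (g * r * g⁻¹) with hb'def
      have hgr' : g * r * g⁻¹ = r * b' := by rw [hb'def]; group
      have hgb' : g * b' * g⁻¹ = b' := hcentB b' hb'
      have hpow : ∀ j : ℕ, g ^ j * r * (g ^ j)⁻¹ = r * b' ^ j := by
        intro j
        induction j with
        | zero => simp
        | succ j ih =>
          have e : g ^ (j + 1) * r * (g ^ (j + 1))⁻¹ = g * (g ^ j * r * (g ^ j)⁻¹) * g⁻¹ := by
            rw [pow_succ']; group
          rw [e, ih]
          have e2 : g * (r * b' ^ j) * g⁻¹ = (g * r * g⁻¹) * (g * b' * g⁻¹) ^ j := by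
            rw [conj_pow]; group
          rw [e2, hgr', hgb', mul_assoc, ← pow_succ']
      have hk1 := hpow k
      rw [hgk] at hk1
      have hb'k : b' ^ k = 1 := by
        have : r * 1 = r * b' ^ k := by simpa using hk1
        exact (mul_left_cancel this).symm
      obtain ⟨s, hs⟩ := hB2 ⟨b', hb'⟩
      have hs' : b' ^ (2 ^ s) = 1 := by simpa using congrArg Subtype.val hs
      have hb'1 : b' = 1 := by
        have h1 : orderOf b' ∣ k := orderOf_dvd_of_pow_eq_one hb'k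
        have h2 : orderOf b' ∣ 2 ^ s := orderOf_dvd_of_pow_eq_one hs'
        have hcop : Nat.Coprime k (2 ^ s) := Nat.Coprime.pow_right s (Nat.coprime_two_right.mpr hk)
        exact orderOf_eq_one_iff.mp (Nat.eq_one_of_dvd_coprimes hcop h1 h2)
      rw [hgr', hb'1, mul_one]

universe u

variable {Γ : Type u} [Group Γ] [Finite Γ]

theorem centralizes_of_quaternion_big (R : Subgroup Γ) [R.Normal] (n : ℕ) (hn : 2 ≤ n)
    (e : R ≃* QuaternionGroup (2 ^ n)) (x : Γ) (hx : Odd (orderOf x)) :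
    x ∈ Subgroup.centralizer (R : Set Γ) := by
  have : NeZero (2 ^ n) := ⟨by positivity⟩
  obtain ⟨ρ, hρdef⟩ : ∃ ρ : QuaternionGroup (2 ^ n) →* Γ, ρ = R.subtype.comp e.symm.toMonoidHom :=
    ⟨_, rfl⟩
  have hρapp : ∀ q, ρ q = ((e.symm q : R) : Γ) := fun q => by rw [hρdef]; rfl
  have hρ : Function.Injective ρ := by
    intro q₁ q₂ h
    rw [hρapp, hρapp] at h
    exact e.symm.injective (Subtype.ext h)
  have hRT : R ≤ ρ.range := by
    intro r hr
    refine ⟨e ⟨r, hr⟩, ?_⟩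
    rw [hρapp, MulEquiv.symm_apply_apply]
  have hbig0 : ∃ b₀ : QuaternionGroup (2 ^ n), ρ b₀ ∈ R ∧ b₀ ∈ quatA (2 ^ n) ∧ b₀ ^ 4 ≠ 1 := by
    refine ⟨a 1, ?_, a_mem_quatA _, ?_⟩
    · rw [hρapp]; exact (e.symm (a 1)).2
    · rw [a_one_pow, one_def]
      intro hcon
      have h4 : ((4 : ℕ) : ZMod (2 * 2 ^ n)) = 0 := by
        injection hcon
      rw [ZMod.natCast_eq_zero_iff] at h4
      have hle : 2 * 2 ^ n ≤ 4 := Nat.le_of_dvd (by norm_num) h4
      have h3 : 2 ^ 2 ≤ 2 ^ n := Nat.pow_le_pow_right (by norm_num) hn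
      omega
  have hnorm : ∀ r ∈ R, x * r * x⁻¹ ∈ R := fun r hr =>
    Subgroup.Normal.conj_mem (inferInstance : R.Normal) r hr x
  have hc := gs_conj_eq_of_quaternion n ρ hρ R hRT hbig0 x hnorm (orderOf x) hx (pow_orderOf_eq_one x)
  rw [Subgroup.mem_centralizer_iff]
  intro r hr
  have h1 := hc r hr
  calc r * x = (x * r * x⁻¹) * x := by rw [h1]
    _ = x * r := by group

end Cfsg.Agent.Lib.Helper61.GS
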