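import Mathlib

set_option autoImplicit false
set_option linter.unusedSectionVars false
set_option linter.unusedVariables false

/-!
# Involutive automorphisms of groups of odd order

For a finite group `K` of odd order with an automorphism `τ` of order dividing two, and a
`τ`-invariant subgroup `H`: `|H| = |I_H| * |C_H|` where `I_H` are the inverted and `C_H` the fixed
elements of `H`; there are `τ`-invariant Sylow subgroups; and if all inverted elements are
`p`-elements, they all lie in one `τ`-invariant Sylow `p`-subgroup.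
-/

namespace Cfsg.Agent.Lib.Helper61.InvAut

open scoped Pointwise

variable {K : Type*} [Group K] [Finite K] (τ : MulAut K)

/-- The fixed elements of `τ` in `H`. -/
def fixIn (H : Subgroup K) : Subgroup K where
  carrier := {k | k ∈ H ∧ τ k = k}
  mul_mem' := by
    rintro a b ⟨ha, ha'⟩ ⟨hb, hb'⟩
    exact ⟨H.mul_mem ha hb, by rw [map_mul, ha', hb']⟩
  one_mem' := ⟨H.one_mem, map_one τ⟩
  inv_mem' := by
    rintro a ⟨ha, ha'⟩
    exact ⟨H.inv_mem ha, by rw [map_inv, ha']⟩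

/-- The elements of `H` inverted by `τ`. -/
def invIn (H : Subgroup K) : Set K := {k | k ∈ H ∧ τ k = k⁻¹}

lemma fixIn_le (H : Subgroup K) : fixIn τ H ≤ H := fun _ h => h.1

lemma fixIn_mono {H H' : Subgroup K} (h : H ≤ H') : fixIn τ H ≤ fixIn τ H' :=
  fun _ hk => ⟨h hk.1, hk.2⟩

lemma invIn_mono {H H' : Subgroup K} (h : H ≤ H') : invIn τ H ⊆ invIn τ H' :=
  fun _ hk => ⟨h hk.1, hk.2⟩

/-- The square root section. -/
noncomputable def sq (i : K) : K := i ^ ((orderOf i + 1) / 2)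

lemma sq_mul_sq (i : K) (hodd : Odd (orderOf i)) : sq i * sq i = i := by
  unfold sq
  rw [← pow_add]
  obtain ⟨m, hm⟩ := hodd
  have : (orderOf i + 1) / 2 + (orderOf i + 1) / 2 = orderOf i + 1 := by omega
  rw [this, pow_succ, pow_orderOf_eq_one, one_mul]

lemma sq_mem (H : Subgroup K) (i : K) (hi : i ∈ H) : sq i ∈ H := H.pow_mem hi _

lemma tau_sq (i : K) (hi : τ i = i⁻¹) : τ (sq i) = (sq i)⁻¹ := by
  unfold sq
  rw [map_pow, hi, inv_pow]

lemma odd_orderOf_of_mem (H : Subgroup K) (hodd : Odd (Nat.card H)) (i : K) (hi : i ∈ H) :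
    Odd (orderOf i) := by
  have h1 : orderOf i ∣ Nat.card H := Subgroup.orderOf_dvd_natCard H hi
  exact Odd.of_dvd_nat hodd h1

/-- `|H| = |I_H| * |C_H|` for a `τ`-invariant subgroup of odd order. -/
lemma card_eq (hτ : ∀ k, τ (τ k) = k) (H : Subgroup K) (hH : ∀ h ∈ H, τ h ∈ H)
    (hodd : Odd (Nat.card H)) :
    Nat.card H = Nat.card (invIn τ H) * Nat.card (fixIn τ H) := by
  rw [← Nat.card_prod]
  apply Nat.card_congr
  refine
    { toFun := fun h => (⟨h.1 * (τ h.1)⁻¹, ?_⟩, ⟨(sq (h.1 * (τ h.1)⁻¹))⁻¹ * h.1, ?_⟩)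
      invFun := fun ic => ⟨sq ic.1.1 * ic.2.1, ?_⟩
      left_inv := ?_
      right_inv := ?_ }
  · refine ⟨H.mul_mem h.2 (H.inv_mem (hH _ h.2)), ?_⟩
    rw [map_mul, map_inv, hτ, mul_inv_rev, inv_inv]
  · have hi : h.1 * (τ h.1)⁻¹ ∈ H := H.mul_mem h.2 (H.inv_mem (hH _ h.2))
    have hti : τ (h.1 * (τ h.1)⁻¹) = (h.1 * (τ h.1)⁻¹)⁻¹ := by
      rw [map_mul, map_inv, hτ, mul_inv_rev, inv_inv]
    refine ⟨H.mul_mem (H.inv_mem (sq_mem H _ hi)) h.2, ?_⟩
    rw [map_mul, map_inv, tau_sq τ _ hti, inv_inv]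
    have hs := sq_mul_sq (h.1 * (τ h.1)⁻¹) (odd_orderOf_of_mem H hodd _ hi)
    -- sq * τ h = sq⁻¹ * h  ⟸  sq * sq * τ h = h
    have : sq (h.1 * (τ h.1)⁻¹) * sq (h.1 * (τ h.1)⁻¹) * τ h.1 = h.1 := by
      rw [hs, inv_mul_cancel_right]
    calc sq (h.1 * (τ h.1)⁻¹) * τ h.1
        = (sq (h.1 * (τ h.1)⁻¹))⁻¹ * (sq (h.1 * (τ h.1)⁻¹) * sq (h.1 * (τ h.1)⁻¹) * τ h.1) := by
          group
      _ = (sq (h.1 * (τ h.1)⁻¹))⁻¹ * h.1 := by rw [this]
  · exact H.mul_mem (sq_mem H _ ic.1.2.1) ic.2.2.1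
  · intro h
    apply Subtype.ext
    simp only
    group
  · rintro ⟨⟨i, hi, hti⟩, ⟨c, hc, htc⟩⟩
    have hs := sq_mul_sq i (odd_orderOf_of_mem H hodd _ hi)
    have h1 : sq i * c * (τ (sq i * c))⁻¹ = i := by
      rw [map_mul, tau_sq τ i hti, htc, mul_inv_rev, inv_inv, mul_assoc, mul_inv_cancel_left, hs]
    apply Prod.ext
    · apply Subtype.ext
      exact h1
    · apply Subtype.ext
      simp only
      rw [h1, inv_mul_cancel_left]

/-- There is a `τ`-invariant Sylow `q`-subgroup when `|K|` is odd. -/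
lemma exists_invariant_sylow (hτ : ∀ k, τ (τ k) = k) (hodd : Odd (Nat.card K)) (q : ℕ)
    [Fact q.Prime] : ∃ Q : Sylow q K, ∀ k ∈ Q, τ k ∈ Q := by
  classical
  let Z : Subgroup (MulAut K) := Subgroup.zpowers τ
  have hτ2 : τ * τ = 1 := by
    ext k
    simp [hτ]
  have hZ : IsPGroup 2 Z := by
    rintro ⟨z, hz⟩
    obtain ⟨n, rfl⟩ := Subgroup.mem_zpowers_iff.mp hz
    refine ⟨1, ?_⟩
    apply Subtype.ext
    simp only [pow_one, Subgroup.coe_pow, Subgroup.coe_one]
    rw [← zpow_natCast, ← zpow_mul, mul_comm, zpow_mul, zpow_natCast, pow_two, hτ2, one_zpow]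
  have : Fact (Nat.Prime 2) := ⟨Nat.prime_two⟩
  have hmod := hZ.card_modEq_card_fixedPoints (Sylow q K)
  have hoddS : Odd (Nat.card (Sylow q K)) := by
    obtain ⟨Q0⟩ : Nonempty (Sylow q K) := inferInstance
    have h1 : Nat.card (Sylow q K) ∣ (Q0 : Subgroup K).index := Q0.card_dvd_index
    have h2 : (Q0 : Subgroup K).index ∣ Nat.card K := Subgroup.index_dvd_card _
    exact Odd.of_dvd_nat hodd (h1.trans h2)
  have hne : Nat.card (MulAction.fixedPoints Z (Sylow q K)) ≠ 0 := by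
    intro h0
    rw [h0] at hmod
    have : Nat.card (Sylow q K) % 2 = 0 := hmod
    rw [Nat.odd_iff] at hoddS
    omega
  have hnonempty : Nonempty (MulAction.fixedPoints Z (Sylow q K)) := by
    by_contra hcon
    rw [not_nonempty_iff] at hcon
    exact hne Nat.card_of_isEmpty
  obtain ⟨Q, hQ⟩ := hnonempty
  refine ⟨Q, fun k hk => ?_⟩
  have h1 : (⟨τ, Subgroup.mem_zpowers τ⟩ : Z) • Q = Q := hQ _
  have h2 : τ • (Q : Subgroup K) = (Q : Subgroup K) := by
    have := congrArg (fun P : Sylow q K => (P : Subgroup K)) h1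
    simpa [Sylow.pointwise_smul_def] using this
  have h3 : τ • k ∈ τ • (Q : Subgroup K) := Subgroup.smul_mem_pointwise_smul k τ _ hk
  rw [h2] at h3
  exact h3


lemma invIn_finite (H : Subgroup K) : (invIn τ H).Finite := Set.toFinite _

lemma one_mem_invIn (H : Subgroup K) : (1 : K) ∈ invIn τ H :=
  ⟨H.one_mem, by rw [map_one, inv_one]⟩

lemma card_invIn_pos (H : Subgroup K) : 0 < Nat.card (invIn τ H) := by
  have : Nonempty (invIn τ H) := ⟨⟨1, one_mem_invIn τ H⟩⟩
  exact Nat.card_pos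

/-- If every inverted element is a `p`-element then all inverted elements lie in one
`τ`-invariant Sylow `p`-subgroup. -/
theorem exists_sylow_contains_inverted (hτ : ∀ k, τ (τ k) = k) (hodd : Odd (Nat.card K))
    (p : ℕ) [hp : Fact p.Prime]
    (hI : ∀ i : K, τ i = i⁻¹ → ∃ j : ℕ, orderOf i = p ^ j) :
    ∃ P : Sylow p K, ∀ i : K, τ i = i⁻¹ → i ∈ P := by
  classical
  have hoddH : ∀ H : Subgroup K, Odd (Nat.card H) := fun H =>
    Odd.of_dvd_nat hodd (Subgroup.card_subgroup_dvd_card H)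
  have htop : ∀ k ∈ (⊤ : Subgroup K), τ k ∈ (⊤ : Subgroup K) := fun _ _ => Subgroup.mem_top _
  have hK : Nat.card K = Nat.card (invIn τ ⊤) * Nat.card (fixIn τ ⊤) := by
    have := card_eq τ hτ ⊤ htop (hoddH ⊤)
    rwa [Subgroup.card_top] at this
  -- the number of inverted elements is a power of p
  have hpow : ∃ a : ℕ, Nat.card (invIn τ ⊤) = p ^ a := by
    refine ⟨_, Nat.eq_prime_pow_of_unique_prime_dvd (card_invIn_pos τ ⊤).ne' ?_⟩
    intro q hq hqdvd
    by_contra hqp
    have : Fact q.Prime := ⟨hq⟩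
    obtain ⟨Q, hQ⟩ := exists_invariant_sylow τ hτ hodd q
    have hcQ := card_eq τ hτ (Q : Subgroup K) hQ (hoddH _)
    -- inverted elements of Q are trivial
    have hIQ : invIn τ (Q : Subgroup K) = {1} := by
      ext i
      constructor
      · rintro ⟨hiQ, hti⟩
        obtain ⟨j, hj⟩ := hI i hti
        obtain ⟨e, he⟩ := (IsPGroup.iff_orderOf.mp Q.isPGroup') ⟨i, hiQ⟩
        rw [Subgroup.orderOf_mk] at he
        rw [hj] at he
        have hj0 : j = 0 := by
          by_contra hj0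
          have h1 : p ∣ q ^ e := by
            rw [← he]; exact dvd_pow_self p hj0
          have h2 : p ∣ q := hp.out.dvd_of_dvd_pow h1
          exact hqp ((Nat.prime_dvd_prime_iff_eq hp.out hq).mp h2).symm
        rw [hj0, pow_zero, orderOf_eq_one_iff] at hj
        exact hj
      · intro hi
        rw [Set.mem_singleton_iff] at hi
        rw [hi]
        exact one_mem_invIn τ _
    have hIQ1 : Nat.card (invIn τ (Q : Subgroup K)) = 1 := by
      rw [hIQ]; simp
    rw [hIQ1, one_mul] at hcQ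
    -- so |Q| divides |C_K|
    have hQdvd : Nat.card (Q : Subgroup K) ∣ Nat.card (fixIn τ ⊤) := by
      rw [hcQ]
      exact Subgroup.card_dvd_of_le (fixIn_mono τ le_top)
    rw [Q.card_eq_multiplicity] at hQdvd
    -- compare q-adic valuations
    have hfix_ne : Nat.card (fixIn τ ⊤) ≠ 0 := Nat.card_pos.ne'
    have hinv_ne : Nat.card (invIn τ ⊤) ≠ 0 := (card_invIn_pos τ ⊤).ne'
    have h1 : (Nat.card K).factorization q ≤ (Nat.card (fixIn τ ⊤)).factorization q :=
      (hq.pow_dvd_iff_le_factorization hfix_ne).mp hQdvd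
    have h2 : (Nat.card K).factorization q
        = (Nat.card (invIn τ ⊤)).factorization q + (Nat.card (fixIn τ ⊤)).factorization q := by
      rw [hK, Nat.factorization_mul hinv_ne hfix_ne]
      rfl
    have h3 : (Nat.card (invIn τ ⊤)).factorization q = 0 := by omega
    have h4 : 1 ≤ (Nat.card (invIn τ ⊤)).factorization q :=
      (hq.dvd_iff_one_le_factorization hinv_ne).mp hqdvd
    omega
  obtain ⟨a, ha⟩ := hpow
  obtain ⟨P, hP⟩ := exists_invariant_sylow τ hτ hodd p
  have hcP := card_eq τ hτ (P : Subgroup K) hP (hoddH _)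
  -- |C_P| divides |C_K|
  obtain ⟨t, ht⟩ : Nat.card (fixIn τ (P : Subgroup K)) ∣ Nat.card (fixIn τ ⊤) :=
    Subgroup.card_dvd_of_le (fixIn_mono τ le_top)
  -- |K| = |P| * u with u coprime to p
  obtain ⟨u, hu⟩ : Nat.card (P : Subgroup K) ∣ Nat.card K := Subgroup.card_subgroup_dvd_card _
  have hKne : Nat.card K ≠ 0 := Nat.card_pos.ne'
  have hucop : Nat.Coprime p u := by
    rw [Nat.Prime.coprime_iff_not_dvd hp.out]
    intro hpu
    obtain ⟨e, he⟩ : ∃ e, e = (Nat.card K).factorization p := ⟨_, rfl⟩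
    have hPc : Nat.card (P : Subgroup K) = p ^ e := by rw [he]; exact P.card_eq_multiplicity
    have h1 : p ^ (e + 1) ∣ Nat.card K := by
      rw [hu, hPc, pow_succ]
      exact Nat.mul_dvd_mul_left _ hpu
    have := (hp.out.pow_dvd_iff_le_factorization hKne).mp h1
    omega
  -- p^a divides |I_P|
  have hCPpos : 0 < Nat.card (fixIn τ (P : Subgroup K)) := Nat.card_pos
  have hkey : Nat.card (invIn τ ⊤) * t = Nat.card (invIn τ (P : Subgroup K)) * u := by
    have h1 : Nat.card (invIn τ ⊤) * (Nat.card (fixIn τ (P : Subgroup K)) * t)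
        = Nat.card (invIn τ (P : Subgroup K)) * Nat.card (fixIn τ (P : Subgroup K)) * u := by
      rw [← ht, ← hK, hu, hcP]
    have h2 : Nat.card (fixIn τ (P : Subgroup K)) * (Nat.card (invIn τ ⊤) * t)
        = Nat.card (fixIn τ (P : Subgroup K)) * (Nat.card (invIn τ (P : Subgroup K)) * u) := by
      rw [← mul_assoc, mul_comm (Nat.card (fixIn τ (P : Subgroup K))) (Nat.card (invIn τ ⊤)),
        mul_assoc, h1]
      ring
    exact Nat.eq_of_mul_eq_mul_left hCPpos h2
  have hdvd : Nat.card (invIn τ ⊤) ∣ Nat.card (invIn τ (P : Subgroup K)) := by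
    have h1 : Nat.card (invIn τ ⊤) ∣ Nat.card (invIn τ (P : Subgroup K)) * u :=
      ⟨t, hkey.symm⟩
    rw [ha] at h1 ⊢
    exact (Nat.Coprime.pow_left a hucop).dvd_of_dvd_mul_right h1
  have hle : Nat.card (invIn τ ⊤) ≤ Nat.card (invIn τ (P : Subgroup K)) :=
    Nat.le_of_dvd (card_invIn_pos τ _) hdvd
  have hsub : invIn τ (P : Subgroup K) ⊆ invIn τ ⊤ := invIn_mono τ le_top
  have heq : invIn τ (P : Subgroup K) = invIn τ ⊤ := by
    apply Set.eq_of_subset_of_ncard_le hsub _ (invIn_finite τ ⊤)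
    rw [← Nat.card_coe_set_eq, ← Nat.card_coe_set_eq]
    exact hle
  refine ⟨P, fun i hi => ?_⟩
  have : i ∈ invIn τ ⊤ := ⟨Subgroup.mem_top _, hi⟩
  rw [← heq] at this
  exact this.1

end Cfsg.Agent.Lib.Helper61.InvAut
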