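import Mathlib
import Cfsg.Agent.Lib.Helper94.LCDefs

/-!
# K-LC leaf A5 (keystone 640611, S0406, architect helper94)

The minimal vectors of `L` with all coordinates odd (shape `(∓3, ±1^23)`) number at most `24 * |codeOf L|`.
-/

set_option autoImplicit false
open Matrix

namespace Cfsg.Agent.Lib.Helper61.LC

open Cfsg.Agent.Lib.Helper94.LC

/-- the square of an odd integer is `1` or at least `9` -/
theorem odd_sq_cases (a : ℤ) (ha : ¬ (2 : ℤ) ∣ a) : a ^ 2 = 1 ∨ 9 ≤ a ^ 2 := by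
  have h : a ≤ -3 ∨ a = -1 ∨ a = 1 ∨ 3 ≤ a := by omega
  rcases h with h | h | h | h
  · right; nlinarith
  · left; rw [h]; norm_num
  · left; rw [h]; norm_num
  · right; nlinarith

/-- the shape of an odd vector with sum of squares `32`: one square is `9`, the others are `1` -/
theorem odd_min_shape (v : Fin 24 → ℤ) (h32 : ssq v = 32) (hodd : ∀ i, ¬ (2 : ℤ) ∣ v i) :
    ∃ p, v p ^ 2 = 9 ∧ ∀ i, i ≠ p → v i ^ 2 = 1 := by
  classical
  have hge : ∀ i, 1 ≤ v i ^ 2 := fun i => by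
    rcases odd_sq_cases (v i) (hodd i) with h | h <;> omega
  by_cases hall : ∀ i, v i ^ 2 = 1
  · exfalso
    have h24 : ssq v = 24 := by
      unfold ssq
      rw [Finset.sum_congr rfl (fun i _ => hall i)]
      simp
    omega
  · obtain ⟨p, hp⟩ : ∃ p, v p ^ 2 ≠ 1 := by
      by_contra hcon
      apply hall
      intro i
      by_contra hi
      exact hcon ⟨i, hi⟩
    have hp9 : 9 ≤ v p ^ 2 := by
      rcases odd_sq_cases (v p) (hodd p) with h | h
      · exact absurd h hp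
      · exact h
    have hsplit : ssq v = v p ^ 2 + ∑ i ∈ Finset.univ.erase p, v i ^ 2 := by
      unfold ssq
      exact (Finset.add_sum_erase Finset.univ (fun i => v i ^ 2) (Finset.mem_univ p)).symm
    have hrest : 23 ≤ ∑ i ∈ Finset.univ.erase p, v i ^ 2 := by
      have h1 : ∑ i ∈ Finset.univ.erase p, (1 : ℤ) ≤ ∑ i ∈ Finset.univ.erase p, v i ^ 2 :=
        Finset.sum_le_sum (fun i _ => hge i)
      have h2 : ∑ i ∈ (Finset.univ : Finset (Fin 24)).erase p, (1 : ℤ) = 23 := by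
        rw [Finset.sum_const, Finset.card_erase_of_mem (Finset.mem_univ p)]
        simp
      rw [h2] at h1
      exact h1
    refine ⟨p, by omega, ?_⟩
    intro i hi
    by_contra h1
    have h9 : 9 ≤ v i ^ 2 := by
      rcases odd_sq_cases (v i) (hodd i) with h | h
      · exact absurd h h1
      · exact h
    have hi' : i ∈ Finset.univ.erase p := Finset.mem_erase.mpr ⟨hi, Finset.mem_univ i⟩
    have hsplit2 : ∑ j ∈ Finset.univ.erase p, v j ^ 2 =
        v i ^ 2 + ∑ j ∈ (Finset.univ.erase p).erase i, v j ^ 2 := by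
      exact (Finset.add_sum_erase (Finset.univ.erase p) (fun j => v j ^ 2) hi').symm
    have hrest2 : 22 ≤ ∑ j ∈ (Finset.univ.erase p).erase i, v j ^ 2 := by
      have h1 : ∑ j ∈ (Finset.univ.erase p).erase i, (1 : ℤ) ≤
          ∑ j ∈ (Finset.univ.erase p).erase i, v j ^ 2 :=
        Finset.sum_le_sum (fun j _ => hge j)
      have h2 : ∑ j ∈ ((Finset.univ : Finset (Fin 24)).erase p).erase i, (1 : ℤ) = 22 := by
        rw [Finset.sum_const, Finset.card_erase_of_mem hi',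
          Finset.card_erase_of_mem (Finset.mem_univ p)]
        simp
      rw [h2] at h1
      exact h1
    omega

/-- odd integers with the same square that are congruent modulo `4` are equal -/
theorem eq_of_sq_eq_of_four_dvd (a b : ℤ) (ha : ¬ (2 : ℤ) ∣ a) (hsq : a ^ 2 = b ^ 2)
    (h4 : (4 : ℤ) ∣ a - b) : a = b := by
  have h : (a - b) * (a + b) = 0 := by ring_nf; linarith
  rcases mul_eq_zero.mp h with h | h
  · linarith
  · exfalso
    have hb : b = -a := by linarith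
    rw [hb] at h4
    omega

/-- **LEAF A5 (640611)**. -/
theorem card_odd_min_le (L : AddSubgroup (Fin 24 → ℤ)) (hL : CoordLattice L) :
    {v : Fin 24 → ℤ | v ∈ L ∧ ssq v = 32 ∧ ∀ i, ¬ (2 : ℤ) ∣ v i}.ncard ≤ 24 * Nat.card (codeOf L) := by
  classical
  obtain ⟨S, hS⟩ : ∃ S, S = {v : Fin 24 → ℤ | v ∈ L ∧ ssq v = 32 ∧ ∀ i, ¬ (2 : ℤ) ∣ v i} := ⟨_, rfl⟩
  rw [← hS]
  by_cases hne : S = ∅
  · rw [hne]; simp
  obtain ⟨v₀, hv₀⟩ := Set.nonempty_iff_ne_empty.mpr hne
  rw [hS] at hv₀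
  obtain ⟨hv₀L, -, hv₀odd⟩ := hv₀
  have hSmem : ∀ v ∈ S, v ∈ L ∧ ssq v = 32 ∧ ∀ i, ¬ (2 : ℤ) ∣ v i := by
    intro v hv
    rw [hS] at hv
    exact hv
  have hshape : ∀ v : S, ∃ p, (v : Fin 24 → ℤ) p ^ 2 = 9 ∧ ∀ i, i ≠ p → (v : Fin 24 → ℤ) i ^ 2 = 1 := by
    intro v
    have hv := hSmem v.1 v.2
    exact odd_min_shape v.1 hv.2.1 hv.2.2
  have hhalf : ∀ v : S, ∀ i, 2 * (((v : Fin 24 → ℤ) i - v₀ i) / 2) = (v : Fin 24 → ℤ) i - v₀ i := by
    intro v i
    have hv := hSmem v.1 v.2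
    have h1 := hv.2.2 i
    have h2 := hv₀odd i
    omega
  have hcode : ∀ v : S, (fun i => ((((v : Fin 24 → ℤ) i - v₀ i) / 2 : ℤ) : ZMod 2)) ∈ codeOf L := by
    intro v
    rw [mem_codeOf]
    refine ⟨fun i => ((v : Fin 24 → ℤ) i - v₀ i) / 2, ?_, fun i => rfl⟩
    have hv := hSmem v.1 v.2
    have h1 : (fun i => 2 * (((v : Fin 24 → ℤ) i - v₀ i) / 2)) = (v : Fin 24 → ℤ) - v₀ := by
      funext i
      rw [hhalf v i]
      rfl
    rw [h1]
    exact L.sub_mem hv.1 hv₀L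
  obtain ⟨f, hf⟩ : ∃ f : S → Fin 24 × codeOf L, f = fun v =>
      (Classical.choose (hshape v), ⟨_, hcode v⟩) := ⟨_, rfl⟩
  have hinj : Function.Injective f := by
    intro v v' hvv'
    rw [hf] at hvv'
    simp only [Prod.mk.injEq, Subtype.mk.injEq] at hvv'
    obtain ⟨hp, hw⟩ := hvv'
    obtain ⟨h9, h1⟩ := Classical.choose_spec (hshape v)
    obtain ⟨h9', h1'⟩ := Classical.choose_spec (hshape v')
    rw [← hp] at h9' h1'
    apply Subtype.ext
    funext i
    have hv := hSmem v.1 v.2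
    have hsq : (v : Fin 24 → ℤ) i ^ 2 = (v' : Fin 24 → ℤ) i ^ 2 := by
      by_cases hi : i = Classical.choose (hshape v)
      · rw [hi, h9, h9']
      · rw [h1 i hi, h1' i hi]
    have hwi := congrFun hw i
    have h2 : (2 : ℤ) ∣ ((v' : Fin 24 → ℤ) i - v₀ i) / 2 - ((v : Fin 24 → ℤ) i - v₀ i) / 2 := by
      have := (ZMod.intCast_eq_intCast_iff_dvd_sub _ _ 2).mp hwi
      exact_mod_cast this
    have e1 := hhalf v i
    have e2 := hhalf v' i
    have h4 : (4 : ℤ) ∣ (v : Fin 24 → ℤ) i - (v' : Fin 24 → ℤ) i := by omega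
    exact eq_of_sq_eq_of_four_dvd _ _ (hv.2.2 i) hsq h4
  have hfin : Finite (codeOf L) := inferInstance
  have h1 := Nat.card_le_card_of_injective f hinj
  rw [Nat.card_prod, Nat.card_fin, Nat.card_coe_set_eq] at h1
  exact h1

end Cfsg.Agent.Lib.Helper61.LC
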