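import Mathlib
import Cfsg.Agent.Lib.Helper05.N3Defs

/-!
# K-N3 leaf 400405 (S4004): `moebius_values`, helper61

All primes in one class (`S t = m` for every prime `t ∣ N`), at least two primes: the spectrum is
squarefree and `S D = n` / `m` according to the parity of the number of prime factors of `D`.
Route: abstract pairing lemma `t ∣ S k + S (t k)` (no Moebius function).
-/

set_option autoImplicit false

namespace Cfsg.Agent.Lib.Helper61.N3

open Cfsg.Agent.Lib.Helper05.N3 Cfsg.Agent.Lib.Helper22.Nse

/-- divisors of `p * k` for a prime `p ∤ k`. -/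
theorem a3_sum_divisors {p k : ℕ} (hp : p.Prime) (hpk : ¬ p ∣ k) (hk : k ≠ 0) (F : ℕ → ℕ) :
    ∑ d ∈ (p * k).divisors, F d = ∑ j ∈ k.divisors, (F j + F (p * j)) := by
  classical
  have hset : (p * k).divisors = k.divisors ∪ k.divisors.image (fun j => p * j) := by
    ext d
    simp only [Nat.mem_divisors, Finset.mem_union, Finset.mem_image]
    constructor
    · rintro ⟨hd, -⟩
      by_cases hpd : p ∣ d
      · obtain ⟨j, rfl⟩ := hpd
        right
        refine ⟨j, ⟨?_, hk⟩, rfl⟩
        exact Nat.dvd_of_mul_dvd_mul_left hp.pos hd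
      · left
        have hcop : Nat.Coprime d p := ((Nat.Prime.coprime_iff_not_dvd hp).mpr hpd).symm
        exact ⟨hcop.dvd_of_dvd_mul_left hd, hk⟩
    · rintro (⟨hd, -⟩ | ⟨j, ⟨hj, -⟩, rfl⟩)
      · exact ⟨hd.mul_left p, mul_ne_zero hp.ne_zero hk⟩
      · exact ⟨Nat.mul_dvd_mul_left p hj, mul_ne_zero hp.ne_zero hk⟩
  have hdisj : Disjoint k.divisors (k.divisors.image (fun j => p * j)) := by
    rw [Finset.disjoint_left]
    intro d hd hd'
    obtain ⟨j, -, rfl⟩ := Finset.mem_image.mp hd'
    exact hpk ((Dvd.intro _ rfl).trans (Nat.mem_divisors.mp hd).1)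
  rw [hset, Finset.sum_union hdisj, Finset.sum_image, Finset.sum_add_distrib]
  intro a _ b _ hab
  exact Nat.eq_of_mul_eq_mul_left hp.pos hab

/-- the abstract pairing lemma. -/
theorem a3_pair {N : ℕ} {S : ℕ → ℕ} {V : Finset ℕ} (H : NseHyp N S V) {p k : ℕ} (hp : p.Prime)
    (hpk : ¬ p ∣ k) (hdvd : p * k ∣ N) : p ∣ S k + S (p * k) := by
  induction k using Nat.strong_induction_on with
  | _ k ih =>
    have hN : N ≠ 0 := H.pos.ne'
    have hk : k ≠ 0 := by
      rintro rfl
      rw [mul_zero] at hdvd
      exact hN (Nat.eq_zero_of_zero_dvd hdvd)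
    have h1 := H.frob (p * k) hdvd
    rw [a3_sum_divisors hp hpk hk S, ← Nat.insert_self_properDivisors hk,
      Finset.sum_insert (by simp [Nat.mem_properDivisors])] at h1
    have h2 : p ∣ ∑ j ∈ k.properDivisors, (S j + S (p * j)) := by
      apply Finset.dvd_sum
      intro j hj
      rw [Nat.mem_properDivisors] at hj
      apply ih j hj.2
      · exact fun h => hpk (h.trans hj.1)
      · exact (Nat.mul_dvd_mul_left p hj.1).trans hdvd
    have h3 : p ∣ (S k + S (p * k)) + ∑ j ∈ k.properDivisors, (S j + S (p * j)) :=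
      (Dvd.intro _ rfl).trans h1
    exact (Nat.dvd_add_left h2).mp h3

/-- values of `S`. -/
theorem a3_val {N : ℕ} {S : ℕ → ℕ} {m n : ℕ} (C : Ctx N S m n) (k : ℕ) (hk : 2 < k) :
    S k = 0 ∨ S k = m ∨ S k = n := by
  by_cases h0 : S k = 0
  · exact Or.inl h0
  · right
    have h1 := C.H.mem k h0
    simp only [Finset.mem_insert, Finset.mem_singleton] at h1
    rcases h1 with h1 | h1 | h1
    · exfalso
      have h2 := C.H.phi k
      rw [h1] at h2
      have h3 := Nat.totient_even hk
      rw [Nat.dvd_one.mp h2] at h3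
      exact absurd h3 (by decide)
    · exact Or.inl h1
    · exact Or.inr h1

theorem a3_three_le {N : ℕ} (hodd : Odd N) {t : ℕ} (ht : t.Prime) (htN : t ∣ N) : 3 ≤ t := by
  have h2 : t ≠ 2 := by
    rintro rfl
    obtain ⟨j, hj⟩ := hodd
    omega
  have := ht.two_le
  omega

theorem a3_one_ne (t : ℕ) [Fact t.Prime] : (1 : ZMod t) ≠ 0 := one_ne_zero

theorem a3_two_ne (t : ℕ) [Fact t.Prime] (h3 : 3 ≤ t) : (2 : ZMod t) ≠ 0 := by
  intro h
  have h1 : ((2 : ℕ) : ZMod t) = 0 := by exact_mod_cast h
  rw [ZMod.natCast_eq_zero_iff] at h1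
  have := Nat.le_of_dvd (by norm_num) h1
  omega

theorem moebius_values {N : ℕ} {S : ℕ → ℕ} {m n : ℕ} (C : Ctx N S m n) {p q : ℕ} (hp : p.Prime) (hq : q.Prime)
    (hpq : p ≠ q) (hpN : p ∣ N) (hqN : q ∣ N) (hall : ∀ t : ℕ, t.Prime → t ∣ N → S t = m) :
    (∀ k, S k ≠ 0 → Squarefree k) ∧
      ∀ D, D ∣ N → Squarefree D → D ≠ 1 → S D = if Even D.primeFactors.card then n else m := by
  -- congruences modulo every prime divisor
  have hm : ∀ t : ℕ, [Fact t.Prime] → t ∣ N → ((m : ℕ) : ZMod t) = -1 := by
    intro t _ htN
    have ht : t.Prime := Fact.out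
    have h1 := a3_pair C.H ht (k := 1) (by simpa using ht.one_lt.ne') (by simpa using htN)
    rw [C.H.one, mul_one, hall t ht htN] at h1
    have h2 : ((1 + m : ℕ) : ZMod t) = 0 := (ZMod.natCast_eq_zero_iff _ _).mpr h1
    push_cast at h2
    linear_combination h2
  have hn : ∀ t : ℕ, [Fact t.Prime] → t ∣ N → ((n : ℕ) : ZMod t) = 1 := by
    intro t _ htN
    have ht : t.Prime := Fact.out
    have h3 := a3_three_le C.odd ht htN
    -- another prime
    obtain ⟨u, hu, huN, hut⟩ : ∃ u : ℕ, u.Prime ∧ u ∣ N ∧ u ≠ t := by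
      by_cases h : p = t
      · exact ⟨q, hq, hqN, fun h' => hpq (h.trans h'.symm)⟩
      · exact ⟨p, hp, hpN, h⟩
    have hu3 := a3_three_le C.odd hu huN
    have htu : ¬ t ∣ u := fun h => hut ((Nat.prime_dvd_prime_iff_eq ht hu).mp h).symm
    have hdvd : t * u ∣ N :=
      Nat.Coprime.mul_dvd_of_dvd_of_dvd ((Nat.coprime_primes ht hu).mpr (Ne.symm hut)) htN huN
    have h1 := a3_pair C.H ht htu hdvd
    rw [hall u hu huN] at h1
    have h2 : ((m + S (t * u) : ℕ) : ZMod t) = 0 := (ZMod.natCast_eq_zero_iff _ _).mpr h1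
    push_cast at h2
    have hmt := hm t htN
    have hbig : 2 < t * u := by nlinarith
    rcases a3_val C (t * u) hbig with h0 | h0 | h0
    · exfalso
      rw [h0] at h2
      apply a3_one_ne t
      push_cast at h2
      linear_combination hmt - h2
    · exfalso
      rw [h0] at h2
      apply a3_two_ne t h3
      linear_combination 2 * hmt - h2
    · rw [h0] at h2
      linear_combination h2 - hmt
  -- no squares
  have hsq : ∀ t : ℕ, t.Prime → ∀ k, S k ≠ 0 → ¬ t * t ∣ k := by
    intro t ht k hk htt
    haveI := Fact.mk ht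
    have hkN : k ∣ N := C.H.dvd k hk
    have httN : t * t ∣ N := htt.trans hkN
    have htN : t ∣ N := (Dvd.intro _ rfl).trans httN
    have h3 := a3_three_le C.odd ht htN
    have hS : S (t * t) ≠ 0 := C.H.closed k (t * t) hk htt
    have h1 := C.H.frob (t * t) httN
    rw [← pow_two, Cfsg.Agent.S3995.sum_div_prime_sq t ht S, pow_two, C.H.one, hall t ht htN] at h1
    have h2 : ((1 + m + S (t * t) : ℕ) : ZMod t) = 0 :=
      (ZMod.natCast_eq_zero_iff _ _).mpr ((Dvd.intro _ rfl).trans h1)
    push_cast at h2
    have hmt := hm t htN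
    have hnt := hn t htN
    have hbig : 2 < t * t := by nlinarith
    rcases a3_val C (t * t) hbig with h0 | h0 | h0
    · exact hS h0
    · rw [h0] at h2
      apply a3_one_ne t
      linear_combination 2 * hmt - h2
    · rw [h0] at h2
      apply a3_one_ne t
      linear_combination h2 - hmt - hnt
  refine ⟨?_, ?_⟩
  · intro k hk
    rw [Nat.squarefree_iff_prime_squarefree]
    intro t ht htt
    exact hsq t ht k hk htt
  · intro D
    induction D using Nat.strong_induction_on with
    | _ D ih =>
      intro hDN hDsq hD1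
      obtain ⟨t, ht⟩ : ∃ t, t = D.minFac := ⟨_, rfl⟩
      have htp : t.Prime := ht ▸ Nat.minFac_prime hD1
      have htD : t ∣ D := ht ▸ Nat.minFac_dvd D
      obtain ⟨k, rfl⟩ := htD
      haveI := Fact.mk htp
      have htN : t ∣ N := (Dvd.intro _ rfl).trans hDN
      have h3 := a3_three_le C.odd htp htN
      obtain ⟨hcop, -, hksq⟩ := Nat.squarefree_mul_iff.mp hDsq
      have htk : ¬ t ∣ k := (Nat.Prime.coprime_iff_not_dvd htp).mp hcop
      have hk0 : k ≠ 0 := by
        rintro rfl
        exact htk (dvd_zero t)
      have h1 := a3_pair C.H htp htk hDN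
      have hcard : (t * k).primeFactors.card = k.primeFactors.card + 1 := by
        rw [Nat.Coprime.primeFactors_mul hcop, Nat.Prime.primeFactors htp,
          Finset.card_union_of_disjoint (by
            rw [Finset.disjoint_singleton_left, Nat.mem_primeFactors]
            exact fun h => htk h.2.1), Finset.card_singleton, add_comm]
      have hmt := hm t htN
      have hnt := hn t htN
      by_cases hk1 : k = 1
      · subst hk1
        rw [mul_one] at *
        rw [Nat.Prime.primeFactors htp, Finset.card_singleton, if_neg (by decide)]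
        exact hall t htp htN
      · have hkN : k ∣ N := (Dvd.intro_left _ rfl).trans hDN
        have hklt : k < t * k := by
          have : 0 < k := Nat.pos_of_ne_zero hk0
          nlinarith
        have hIH := ih k hklt hkN hksq hk1
        have hk2 : 2 ≤ k := by omega
        have hbig : 2 < t * k := by nlinarith
        have h2 : ((S k + S (t * k) : ℕ) : ZMod t) = 0 := (ZMod.natCast_eq_zero_iff _ _).mpr h1
        push_cast at h2
        rw [hcard]
        by_cases hev : Even k.primeFactors.card
        · rw [if_pos hev] at hIH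
          rw [if_neg (by rw [Nat.even_add_one]; exact not_not.mpr hev)]
          rw [hIH] at h2
          rcases a3_val C (t * k) hbig with h0 | h0 | h0
          · exfalso
            rw [h0] at h2
            apply a3_one_ne t
            push_cast at h2
            linear_combination h2 - hnt
          · exact h0
          · exfalso
            rw [h0] at h2
            apply a3_two_ne t h3
            linear_combination h2 - 2 * hnt
        · rw [if_neg hev] at hIH
          rw [if_pos (by rw [Nat.even_add_one]; exact hev)]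
          rw [hIH] at h2
          rcases a3_val C (t * k) hbig with h0 | h0 | h0
          · exfalso
            rw [h0] at h2
            apply a3_one_ne t
            push_cast at h2
            linear_combination hmt - h2
          · exfalso
            rw [h0] at h2
            apply a3_two_ne t h3
            linear_combination 2 * hmt - h2
          · exact h0

end Cfsg.Agent.Lib.Helper61.N3
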