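import Mathlib
import Cfsg.Prelude.Def_Solvable

set_option autoImplicit false

namespace Cfsg.Agent.Lib.Helper61

open scoped commutatorElement

theorem eq_one_of_mem_pgroup_of_coprime {K : Type*} [Group K] {p : ℕ} {V : Subgroup K}
    (hV : IsPGroup p V) {g : K} (hg : g ∈ V) {n : ℕ} (hn : n.Coprime p) (hgn : g ^ n = 1) :
    g = 1 := by
  obtain ⟨k, hk⟩ := hV ⟨g, hg⟩
  have hk' : g ^ (p ^ k) = 1 := by
    have := congrArg Subtype.val hk
    simpa using this
  have h1 : orderOf g ∣ p ^ k := orderOf_dvd_of_pow_eq_one hk'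
  have h2 : orderOf g ∣ n := orderOf_dvd_of_pow_eq_one hgn
  have h3 : orderOf g = 1 :=
    Nat.Coprime.eq_one_of_dvd ((Nat.Coprime.pow_right k hn).coprime_dvd_left h2) h1
  exact orderOf_eq_one_iff.mp h3

/-- A group `K = V ⋊ ⟨t⟩` with `V` an abelian normal `p`-subgroup, `t` of prime order `q ≠ p`
acting fixed-point-freely: `O_{p'}(K) = 1` and no element has order the exponent. -/
theorem section_lemmaB {K : Type*} [Group K] [Finite K] {p q : ℕ} [hp : Fact p.Prime]
    (hq : q.Prime) (hpq : p ≠ q)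
    (V : Subgroup K) [hVn : V.Normal] (hV : IsPGroup p V) (hVb : V ≠ ⊥)
    (hVab : ∀ a ∈ V, ∀ b ∈ V, a * b = b * a)
    (t : K) (ht : t ^ q = 1) (htop : V ⊔ Subgroup.zpowers t = ⊤)
    (hfix : ∀ v ∈ V, v * t = t * v → v = 1) :
    Cfsg.pPrimeCore p K = ⊥ ∧ ¬ ∃ k : K, orderOf k = Monoid.exponent K := by
  -- decomposition
  have hdec : ∀ k : K, ∃ v ∈ V, ∃ i : ℤ, k = v * t ^ i := by
    intro k
    have hk : k ∈ V ⊔ Subgroup.zpowers t := by rw [htop]; exact Subgroup.mem_top k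
    rw [← SetLike.mem_coe, Subgroup.normal_mul] at hk
    obtain ⟨v, hv, z, hz, rfl⟩ := Set.mem_mul.mp hk
    obtain ⟨i, rfl⟩ := Subgroup.mem_zpowers_iff.mp hz
    exact ⟨v, hv, i, rfl⟩
  -- nontrivial element of V
  obtain ⟨u₀, hu₀V, hu₀⟩ : ∃ u ∈ V, u ≠ 1 := by
    by_contra hcon
    push Not at hcon
    exact hVb ((Subgroup.eq_bot_iff_forall _).mpr hcon)
  have htq : ∀ i : ℤ, (q : ℤ) ∣ i → t ^ i = 1 := by
    rintro i ⟨j, rfl⟩
    rw [zpow_mul, zpow_natCast, ht, one_zpow]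
  have hkey : ∀ i : ℤ, ∀ u ∈ V, u ≠ 1 → u * t ^ i = t ^ i * u → (q : ℤ) ∣ i := by
    intro i u hu hu1 hcomm
    by_contra hndvd
    have hcop : IsCoprime (q : ℤ) i := by
      have hqp : Prime (q : ℤ) := Nat.prime_iff_prime_int.mp hq
      exact (Prime.coprime_iff_not_dvd hqp).mpr hndvd
    obtain ⟨a, b, hab⟩ := hcop
    have ht' : t = (t ^ i) ^ b := by
      have : t ^ (a * q + b * i) = t := by rw [hab, zpow_one]
      rw [zpow_add, mul_comm a, zpow_mul, zpow_natCast, ht, one_zpow, one_mul, mul_comm b,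
        zpow_mul] at this
      exact this.symm
    apply hu1
    apply hfix u hu
    have hc : Commute u (t ^ i) := hcomm
    rw [ht']
    exact (hc.zpow_right b).eq
  constructor
  · unfold Cfsg.pPrimeCore
    rw [sSup_eq_bot]
    rintro R ⟨hRn, hRc⟩
    rw [Subgroup.eq_bot_iff_forall]
    intro r hr
    have hRV : ∀ g, g ∈ R → g ∈ V → g = 1 := by
      intro g hgR hgV
      exact eq_one_of_mem_pgroup_of_coprime hV hgV hRc (by
        have := Subgroup.orderOf_dvd_natCard R hgR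
        exact orderOf_dvd_iff_pow_eq_one.mp this)
    obtain ⟨v, hv, i, hri⟩ := hdec r
    have hcomm : ∀ u ∈ V, u * r = r * u := by
      intro u hu
      have h1 : r * u * r⁻¹ * u⁻¹ = 1 := by
        apply hRV
        · have : r * u * r⁻¹ * u⁻¹ = r * (u * r⁻¹ * u⁻¹) := by group
          rw [this]
          exact R.mul_mem hr (hRn.conj_mem _ (R.inv_mem hr) u)
        · exact V.mul_mem (hVn.conj_mem _ hu r) (V.inv_mem hu)
      calc u * r = (r * u * r⁻¹ * u⁻¹)⁻¹ * (r * u) := by group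
      _ = r * u := by rw [h1]; group
    have hqi : (q : ℤ) ∣ i := by
      apply hkey i u₀ hu₀V hu₀
      have h2 := hcomm u₀ hu₀V
      rw [hri] at h2
      have h3 : u₀ * v = v * u₀ := hVab _ hu₀V _ hv
      have : v * (u₀ * t ^ i) = v * (t ^ i * u₀) := by
        rw [← mul_assoc, ← h3, mul_assoc, h2, mul_assoc]
      exact mul_left_cancel this
    rw [htq i hqi, mul_one] at hri
    exact hRV r hr (hri ▸ hv)
  · rintro ⟨k, hk⟩
    set e := Monoid.exponent K with he
    have he0 : e ≠ 0 := Monoid.exponent_ne_zero_of_finite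
    have ht1 : t ≠ 1 := by
      intro h
      apply hu₀
      apply hfix u₀ hu₀V
      rw [h, mul_one, one_mul]
    have hot : orderOf t = q := by
      have := Fact.mk hq
      exact orderOf_eq_prime ht ht1
    have hqe : q ∣ e := hot ▸ Monoid.order_dvd_exponent t
    have hpe : p ∣ e := by
      obtain ⟨n, hn⟩ := hV ⟨u₀, hu₀V⟩
      have hn' : u₀ ^ (p ^ n) = 1 := by simpa using congrArg Subtype.val hn
      have h1 : orderOf u₀ ∣ p ^ n := orderOf_dvd_of_pow_eq_one hn'
      obtain ⟨m, hm, hom⟩ := (Nat.dvd_prime_pow hp.out).mp h1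
      have hm0 : m ≠ 0 := by
        rintro rfl
        rw [pow_zero] at hom
        exact hu₀ (orderOf_eq_one_iff.mp hom)
      have : p ∣ orderOf u₀ := by rw [hom]; exact dvd_pow_self p hm0
      exact this.trans (Monoid.order_dvd_exponent u₀)
    have hpqe : p * q ∣ e :=
      Nat.Coprime.mul_dvd_of_dvd_of_dvd ((Nat.coprime_primes hp.out hq).mpr hpq) hpe hqe
    obtain ⟨d, hd⟩ := hpqe
    have hd0 : d ≠ 0 := by rintro rfl; exact he0 (by rw [hd, mul_zero])
    set k₁ := k ^ d with hk₁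
    have hok₁ : orderOf k₁ = p * q := by
      rw [hk₁, orderOf_pow_of_dvd hd0 (by rw [hk, hd]; exact Dvd.intro_left _ rfl), hk, hd,
        Nat.mul_div_cancel _ (Nat.pos_of_ne_zero hd0)]
    set u := k₁ ^ q with hu
    set w := k₁ ^ p with hw
    have hou : orderOf u = p := by
      rw [hu, orderOf_pow_of_dvd hq.ne_zero (by rw [hok₁]; exact Dvd.intro_left _ rfl), hok₁,
        Nat.mul_div_cancel _ hq.pos]
    have how : orderOf w = q := by
      rw [hw, orderOf_pow_of_dvd hp.out.ne_zero (by rw [hok₁]; exact Dvd.intro _ rfl), hok₁,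
        Nat.mul_div_cancel_left _ hp.out.pos]
    have huw : u * w = w * u := by
      rw [hu, hw, ← pow_add, ← pow_add, add_comm]
    have hu1 : u ≠ 1 := by
      intro h
      rw [h, orderOf_one] at hou
      exact hp.out.one_lt.ne hou
    have huV : u ∈ V := by
      obtain ⟨v, hv, i, hki⟩ := hdec k₁
      rw [hu, ← QuotientGroup.eq_one_iff, QuotientGroup.mk_pow, hki, QuotientGroup.mk_mul,
        (QuotientGroup.eq_one_iff v).mpr hv, one_mul, QuotientGroup.mk_zpow, ← zpow_natCast,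
        ← zpow_mul, mul_comm, zpow_mul, zpow_natCast, ← QuotientGroup.mk_pow, ht,
        QuotientGroup.mk_one, one_zpow]
    obtain ⟨v, hv, i, hwi⟩ := hdec w
    have hqi : (q : ℤ) ∣ i := by
      apply hkey i u huV hu1
      have h3 : u * v = v * u := hVab _ huV _ hv
      rw [hwi] at huw
      have : v * (u * t ^ i) = v * (t ^ i * u) := by
        rw [← mul_assoc, ← h3, mul_assoc, huw, mul_assoc]
      exact mul_left_cancel this
    rw [htq i hqi, mul_one] at hwi
    obtain ⟨n, hn⟩ := hV ⟨w, hwi ▸ hv⟩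
    have hn' : w ^ (p ^ n) = 1 := by simpa using congrArg Subtype.val hn
    have h1 : q ∣ p ^ n := how ▸ orderOf_dvd_of_pow_eq_one hn'
    have := (Nat.prime_dvd_prime_iff_eq hq hp.out).mp (hq.dvd_of_dvd_pow h1)
    exact hpq this.symm

/-- The minimal configuration `H = Q ⋊ ⟨y⟩` yields a section `H ⧸ N` with `O_{p'} = 1` and no
element whose order is the exponent. -/
theorem section_lemmaA {H : Type*} [Group H] [Finite H] {p q : ℕ} [hp : Fact p.Prime]
    (hq : q.Prime) (hpq : p ≠ q)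
    (Q : Subgroup H) [hQn : Q.Normal] (hQ : IsPGroup p Q) (y : H) (hy : (orderOf y).Coprime p)
    (htop : Q ⊔ Subgroup.zpowers y = ⊤)
    (hyq : ∀ x ∈ Q, x * y ^ q = y ^ q * x)
    (hnc : ∃ x ∈ Q, x * y ≠ y * x)
    (hmin : ∀ Q₁ : Subgroup H, Q₁.Normal → Q₁ < Q → ∀ x ∈ Q₁, x * y = y * x) :
    ∃ (N : Subgroup H) (_ : N.Normal), Cfsg.pPrimeCore p (H ⧸ N) = ⊥ ∧
      ¬ ∃ k : H ⧸ N, orderOf k = Monoid.exponent (H ⧸ N) := by
  have hdec : ∀ h : H, ∃ x ∈ Q, ∃ i : ℤ, h = x * y ^ i := by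
    intro k
    have hk : k ∈ Q ⊔ Subgroup.zpowers y := by rw [htop]; exact Subgroup.mem_top k
    rw [← SetLike.mem_coe, Subgroup.normal_mul] at hk
    obtain ⟨v, hv, z, hz, rfl⟩ := Set.mem_mul.mp hk
    obtain ⟨i, rfl⟩ := Subgroup.mem_zpowers_iff.mp hz
    exact ⟨v, hv, i, rfl⟩
  obtain ⟨x₀, hx₀Q, hx₀⟩ := hnc
  -- commutators of `Q` commute with `y`
  have hder : ∀ a ∈ Q, ∀ b ∈ Q, ⁅a, b⁆ * y = y * ⁅a, b⁆ := by
    have hlt : ⁅Q, Q⁆ < Q := by
      refine lt_of_le_of_ne (Subgroup.commutator_le_right Q Q) ?_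
      intro heq
      have hnil : Group.IsNilpotent Q := hQ.isNilpotent
      have hnt : Nontrivial Q := by
        refine ⟨⟨⟨x₀, hx₀Q⟩, 1, ?_⟩⟩
        intro h
        have : x₀ = 1 := congrArg Subtype.val h
        apply hx₀
        rw [this, one_mul, mul_one]
      have h1 := Group.IsSolvable.commutator_lt_top_of_nontrivial Q
      have h2 : (_root_.commutator Q).map Q.subtype = (⊤ : Subgroup Q).map Q.subtype := by
        rw [Subgroup.map_subtype_commutator, heq, ← MonoidHom.range_eq_map, Subgroup.range_subtype]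
      exact h1.ne (Subgroup.map_injective Q.subtype_injective h2)
    intro a ha b hb
    exact hmin ⁅Q, Q⁆ inferInstance hlt _ (Subgroup.commutator_mem_commutator ha hb)
  -- `y ^ q` is central
  have hcen : ∀ g : H, g * y ^ q = y ^ q * g := by
    intro g
    obtain ⟨x, hx, i, rfl⟩ := hdec g
    have h1 : y ^ i * y ^ q = y ^ q * y ^ i := by
      rw [← zpow_natCast y q, ← zpow_add, ← zpow_add, add_comm]
    rw [mul_assoc, h1, ← mul_assoc, hyq x hx, mul_assoc]
  -- the centralizer of `y` in `Q`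
  set C : Subgroup H := Q ⊓ Subgroup.centralizer {y} with hC
  have hCmem : ∀ x, x ∈ C ↔ x ∈ Q ∧ x * y = y * x := by
    intro x
    rw [hC, Subgroup.mem_inf, Subgroup.mem_centralizer_singleton_iff]
  have hCn : C.Normal := by
    constructor
    intro n hn g
    obtain ⟨hnQ, hny⟩ := (hCmem n).mp hn
    obtain ⟨x, hx, i, rfl⟩ := hdec g
    have hc : Commute n y := hny
    have hci : n * y ^ i = y ^ i * n := (hc.zpow_right i).eq
    have h1 : x * y ^ i * n * (x * y ^ i)⁻¹ = ⁅x, n⁆ * n := by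
      have h2 : y ^ i * n * (y ^ i)⁻¹ = n := by
        rw [← hci, mul_assoc, mul_inv_cancel, mul_one]
      calc x * y ^ i * n * (x * y ^ i)⁻¹ = x * (y ^ i * n * (y ^ i)⁻¹) * x⁻¹ := by group
      _ = x * n * x⁻¹ := by rw [h2]
      _ = ⁅x, n⁆ * n := by rw [commutatorElement_def]; group
    rw [h1, hCmem]
    refine ⟨Q.mul_mem (Subgroup.commutator_le_right Q Q
      (Subgroup.commutator_mem_commutator hx hnQ)) hnQ, ?_⟩
    rw [mul_assoc, hny, ← mul_assoc, hder x hx n hnQ, mul_assoc]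
  set Z : Subgroup H := Subgroup.zpowers (y ^ q) with hZ
  have hZn : Z.Normal := by
    constructor
    intro n hn g
    obtain ⟨j, rfl⟩ := Subgroup.mem_zpowers_iff.mp hn
    have hc : Commute g (y ^ q) := hcen g
    have : g * (y ^ q) ^ j * g⁻¹ = (y ^ q) ^ j := by
      rw [(hc.zpow_right j).eq, mul_assoc, mul_inv_cancel, mul_one]
    rw [this]
    exact Subgroup.zpow_mem_zpowers _ j
  set N : Subgroup H := C ⊔ Z with hN
  have hNn : N.Normal := inferInstance
  have hNmem : ∀ h ∈ N, ∃ c ∈ C, ∃ j : ℤ, h = c * (y ^ q) ^ j := by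
    intro h hh
    rw [hN, ← SetLike.mem_coe, Subgroup.mul_normal] at hh
    obtain ⟨v, hv, z, hz, rfl⟩ := Set.mem_mul.mp hh
    obtain ⟨i, rfl⟩ := Subgroup.mem_zpowers_iff.mp hz
    exact ⟨v, hv, i, rfl⟩
  have hNQ : ∀ h ∈ N, h ∈ Q → h ∈ C := by
    intro h hh hhQ
    obtain ⟨c, hc, j, rfl⟩ := hNmem h hh
    have hcQ : c ∈ Q := ((hCmem c).mp hc).1
    have hzQ : (y ^ q) ^ j ∈ Q := by
      have : (y ^ q) ^ j = c⁻¹ * (c * (y ^ q) ^ j) := by group
      rw [this]
      exact Q.mul_mem (Q.inv_mem hcQ) hhQ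
    have hz1 : (y ^ q) ^ j = 1 := by
      apply eq_one_of_mem_pgroup_of_coprime hQ hzQ hy
      rw [← zpow_natCast y q, ← zpow_mul, ← zpow_natCast, ← zpow_mul, mul_comm, zpow_mul,
        zpow_natCast, pow_orderOf_eq_one, one_zpow]
    rw [hz1, mul_one]
    exact hc
  have hCN : C ≤ N := le_sup_left
  refine ⟨N, hNn, ?_⟩
  set π := QuotientGroup.mk' N with hπ
  have hπs : Function.Surjective π := QuotientGroup.mk'_surjective N
  have hVn : (Q.map π).Normal := hQn.map π hπs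
  apply section_lemmaB hq hpq (Q.map π) (hQ.map π) ?_ ?_ (π y) ?_ ?_ ?_
  · -- nontrivial
    intro hbot
    have h1 : π x₀ ∈ Q.map π := Subgroup.mem_map_of_mem π hx₀Q
    rw [hbot, Subgroup.mem_bot] at h1
    have h2 : x₀ ∈ N := (QuotientGroup.eq_one_iff x₀).mp h1
    exact hx₀ ((hCmem x₀).mp (hNQ x₀ h2 hx₀Q)).2
  · -- abelian
    rintro _ ⟨a, ha, rfl⟩ _ ⟨b, hb, rfl⟩
    rw [← map_mul, ← map_mul]
    apply QuotientGroup.eq.mpr
    apply hCN
    have h1 : (a * b)⁻¹ * (b * a) = ⁅b⁻¹, a⁻¹⁆ := by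
      rw [commutatorElement_def]; group
    rw [h1, hCmem]
    exact ⟨Subgroup.commutator_le_right Q Q
      (Subgroup.commutator_mem_commutator (Q.inv_mem hb) (Q.inv_mem ha)),
      hder _ (Q.inv_mem hb) _ (Q.inv_mem ha)⟩
  · -- t ^ q = 1
    rw [← map_pow]
    apply (QuotientGroup.eq_one_iff _).mpr
    exact le_sup_right (a := C) (Subgroup.mem_zpowers (y ^ q))
  · -- generation
    rw [← MonoidHom.map_zpowers, ← Subgroup.map_sup, htop, ← MonoidHom.range_eq_map,
      MonoidHom.range_eq_top]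
    exact hπs
  · -- fixed-point-free
    rintro _ ⟨x, hx, rfl⟩ hcomm
    rw [← map_mul, ← map_mul] at hcomm
    have h1 : (x * y)⁻¹ * (y * x) ∈ N := QuotientGroup.eq.mp hcomm
    set c := (x * y)⁻¹ * (y * x) with hc
    have hcQ : c ∈ Q := by
      have : c = (y⁻¹ * x⁻¹ * y⁻¹⁻¹) * x := by rw [hc]; group
      rw [this]
      exact Q.mul_mem (hQn.conj_mem _ (Q.inv_mem hx) y⁻¹) hx
    have hcC := (hCmem c).mp (hNQ c h1 hcQ)
    have hyc : y * c = x⁻¹ * y * x⁻¹⁻¹ := by rw [hc]; group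
    have hcomm' : Commute y c := hcC.2.symm
    have hpow : c ^ orderOf y = 1 := by
      have h2 : (y * c) ^ orderOf y = 1 := by
        rw [hyc, conj_pow, pow_orderOf_eq_one]; group
      rwa [hcomm'.mul_pow, pow_orderOf_eq_one, one_mul] at h2
    have hc1 : c = 1 := eq_one_of_mem_pgroup_of_coprime hQ hcQ hy hpow
    have hxy : x * y = y * x := by
      have : (x * y)⁻¹ * (y * x) = 1 := hc1
      exact (inv_mul_eq_one.mp this)
    apply (QuotientGroup.eq_one_iff x).mpr
    exact hCN ((hCmem x).mpr ⟨hx, hxy⟩)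

end Cfsg.Agent.Lib.Helper61
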