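import Mathlib
import Cfsg.Agent.Lib.Helper61.NilMax
import Cfsg.Agent.Lib.Helper03.FusionControl
import Cfsg.Agent.Lib.Helper03.NormalPComplement
import Cfsg.Agent.Lib.Helper41.Conj

set_option autoImplicit false

/-! Deskins-Janko-Thompson: a finite group with a maximal subgroup that is nilpotent of class at
most two is solvable.  The new ingredient (compared with `NilMax`) is the weak closure of `Z(S)`
and control of fusion for the prime at hand. -/

namespace Cfsg.Agent.Lib.Helper61
open Cfsg Cfsg.Agent.Lib.Helper97 Cfsg.Agent.Lib.Helper02 Cfsg.Agent.Lib.Helper41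
open scoped commutatorElement

universe u

/-- In a finite nilpotent group, conjugation by any element agrees on the (normal) Sylow
`p`-subgroup with conjugation by an element of that Sylow subgroup. -/
theorem nilpotent_conj_eq {M : Type*} [Group M] [Finite M] [Group.IsNilpotent M] {p : ℕ}
    [Fact p.Prime] (S₀ : Sylow p M) (n : M) :
    ∃ s ∈ (S₀ : Subgroup M), ∀ x ∈ (S₀ : Subgroup M), n * x * n⁻¹ = s * x * s⁻¹ := by
  have hSn : (S₀ : Subgroup M).Normal := inferInstance
  obtain ⟨N, hNn, hc⟩ :=
    (Cfsg.Agent.Lib.Helper03.hasNormalPComplement_iff S₀).mp (pn_of_isNilpotent p)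
  obtain ⟨⟨h, s⟩, hhs⟩ := hc.2 n
  have hdisj : Disjoint N (S₀ : Subgroup M) := hc.disjoint
  refine ⟨s, s.2, fun x hx => ?_⟩
  have hhs' : (h : M) * (s : M) = n := hhs
  have hcomm : Commute (h : M) ((s : M) * x * (s : M)⁻¹) :=
    Subgroup.commute_of_normal_of_disjoint N S₀ hNn hSn hdisj _ _ h.2 (hSn.conj_mem x hx s)
  rw [← hhs']
  calc (h : M) * s * x * ((h : M) * s)⁻¹ = h * ((s : M) * x * (s : M)⁻¹) * (h : M)⁻¹ := by group
    _ = ((s : M) * x * (s : M)⁻¹) * h * (h : M)⁻¹ := by rw [hcomm.eq]
    _ = (s : M) * x * (s : M)⁻¹ := by group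

/-- conjugation formula -/
theorem conj_eq_comm_mul {G : Type*} [Group G] (s t : G) : s * t * s⁻¹ = ⁅s, t⁆ * t := by
  rw [commutatorElement_def]; group

/-- The local data at a prime `p` for a core-free nilpotent maximal subgroup whose Sylow
`p`-subgroup has class at most two. -/
theorem prime_data_of_class_two {G : Type u} [Group G] [Finite G]
    (M : Subgroup G) (hmax : IsCoatom M) (hnil : Group.IsNilpotent M)
    (hcl : ∀ a ∈ M, ∀ b ∈ M, ∀ c ∈ M, ⁅⁅a, b⁆, c⁆ = 1)
    (hcore : ∀ N : Subgroup G, N.Normal → N ≤ M → N = ⊥)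
    (p : ℕ) (hpmem : p ∈ (Nat.card M).primeFactors) :
    (∃ N : Subgroup G, N.Normal ∧ (Nat.card N).Coprime p ∧ ∃ k : ℕ, N.index = p ^ k) ∧
      ¬ p ∣ M.index := by
  have hp : p.Prime := Nat.prime_of_mem_primeFactors hpmem
  have hpd : p ∣ Nat.card M := Nat.dvd_of_mem_primeFactors hpmem
  have : Fact p.Prime := ⟨hp⟩
  have : Group.IsNilpotent M := hnil
  let S₀ : Sylow p M := default
  have hS₀n : (S₀ : Subgroup M).Normal := inferInstance
  set S : Subgroup G := (S₀ : Subgroup M).map M.subtype with hS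
  have hSM : S ≤ M := Subgroup.map_subtype_le _
  have hSp : IsPGroup p S := S₀.2.map _
  have hSne : S ≠ ⊥ := by
    intro h
    rw [hS, Subgroup.map_eq_bot_iff_of_injective _ M.subtype_injective] at h
    exact S₀.ne_bot_of_dvd_card hpd h
  have hMS : M ≤ Subgroup.normalizer (S : Set G) := by
    have h1 := Subgroup.le_normalizer_map (H := (S₀ : Subgroup M)) M.subtype
    rw [Subgroup.normalizer_eq_top, ← MonoidHom.range_eq_map, Subgroup.range_subtype] at h1
    exact h1
  have hNS : Subgroup.normalizer (S : Set G) = M :=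
    normalizer_eq_of_corefree hmax hcore hSne hSM hMS
  have hSidx : ¬ p ∣ S.index := not_dvd_index_of_normalizer_le M S₀ hNS.le
  have hMidx : ¬ p ∣ M.index := fun h => hSidx (dvd_trans h (Subgroup.index_dvd_of_le hSM))
  refine ⟨?_, hMidx⟩
  let P' : Sylow p G := hSp.toSylow hSidx
  have hP' : (P' : Subgroup G) = S := rfl
  -- step 2: conjugation by elements of M on S
  have hfact : ∀ n ∈ M, ∃ s ∈ S, ∀ x ∈ S, n * x * n⁻¹ = s * x * s⁻¹ := by
    intro n hn
    obtain ⟨s, hs, hsx⟩ := nilpotent_conj_eq S₀ ⟨n, hn⟩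
    refine ⟨(s : G), Subgroup.mem_map_of_mem M.subtype hs, ?_⟩
    rintro _ ⟨x, hx, rfl⟩
    have := congrArg Subtype.val (hsx x hx)
    simpa using this
  -- step 3: p-subgroups of M lie in S
  have hSrel : ¬ p ∣ S.relIndex M := by
    intro h
    apply hSidx
    rw [← Subgroup.relIndex_mul_index hSM]
    exact Dvd.dvd.mul_right h _
  have hpsub : ∀ Q : Subgroup G, Q ≤ M → IsPGroup p Q → Q ≤ S := by
    intro Q hQM hQ
    obtain ⟨y, hyM, hy⟩ := exists_lc_le_of_relIndex hSM hSp hSrel hQ hQM
    rw [lc_le_iff] at hy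
    have h1 : lc y⁻¹ S = S := mem_normalizer_iff_lc.mp (hMS (M.inv_mem hyM))
    rwa [h1] at hy
  -- step 4: the centre of S
  have hZne : ZC S ≠ ⊥ := ZC_ne_bot hSp hSne
  have hZS : ZC S ≤ S := inf_le_left
  have hZM : ZC S ≤ M := le_trans hZS hSM
  have hNZ : Subgroup.normalizer (ZC S : Set G) = M :=
    normalizer_eq_of_corefree hmax hcore hZne hZM
      (le_trans hMS (normalizer_le_normalizer_ZC S))
  have hZc : ∀ z ∈ ZC S, ∀ s ∈ S, s * z = z * s := fun z hz => (mem_ZC_iff.mp hz).2
  -- step 5: class two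
  have hcomm : ∀ a ∈ S, ∀ b ∈ S, ⁅a, b⁆ ∈ ZC S := by
    intro a ha b hb
    rw [mem_ZC_iff]
    refine ⟨Subgroup.commutator_mem_commutator ha hb |> fun h => ?_, ?_⟩
    · exact (Subgroup.commutator_le.mpr (fun x hx y hy => by
        rw [commutatorElement_def]
        exact S.mul_mem (S.mul_mem (S.mul_mem hx hy) (S.inv_mem hx)) (S.inv_mem hy))) h
    · intro c hc
      have h1 := hcl a (hSM ha) b (hSM hb) c (hSM hc)
      rw [commutatorElement_def] at h1
      have h2 : ⁅a, b⁆ * c = c * ⁅a, b⁆ := by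
        have := mul_inv_eq_one.mp h1
        calc ⁅a, b⁆ * c = (⁅a, b⁆ * c * ⁅a, b⁆⁻¹) * ⁅a, b⁆ := by group
          _ = c * ⁅a, b⁆ := by rw [this]
      exact h2.symm
  have hcommg : ∀ g : G, ∀ u ∈ lc g S, ∀ v ∈ lc g S, ⁅u, v⁆ ∈ lc g (ZC S) := by
    intro g u hu v hv
    rw [mem_lc] at hu hv ⊢
    have : g⁻¹ * ⁅u, v⁆ * g = ⁅g⁻¹ * u * g, g⁻¹ * v * g⁆ := by
      rw [commutatorElement_def, commutatorElement_def]; group
    rw [this]
    exact hcomm _ hu _ hv
  -- step 6: weak closure
  have hWC : ∀ g : G, lc g (ZC S) ≤ S → g ∈ M := by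
    intro g hg
    set T := lc g (ZC S) with hT
    set A := T ⊔ ZC S with hA
    have hAS : A ≤ S := sup_le hg hZS
    have hAne : A ≠ ⊥ := fun h => hZne (le_bot_iff.mp (h ▸ le_sup_right))
    -- M normalises A
    have hMA : M ≤ Subgroup.normalizer (A : Set G) := by
      intro n hn
      apply mem_normalizer_of_lc_le
      obtain ⟨s, hs, hsx⟩ := hfact n hn
      have h1 : T ≤ A.comap (MulAut.conj n).toMonoidHom := by
        intro t ht
        rw [Subgroup.mem_comap]
        show n * t * n⁻¹ ∈ A
        rw [hsx t (hg ht), conj_eq_comm_mul]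
        exact A.mul_mem (le_sup_right (a := T) (hcomm s hs t (hg ht))) (le_sup_left (b := ZC S) ht)
      have h2 : ZC S ≤ A.comap (MulAut.conj n).toMonoidHom := by
        intro z hz
        rw [Subgroup.mem_comap]
        show n * z * n⁻¹ ∈ A
        rw [hsx z (hZS hz), hZc z hz s hs, mul_inv_cancel_right]
        exact le_sup_right (a := T) hz
      have h3 : A ≤ A.comap (MulAut.conj n).toMonoidHom := sup_le h1 h2
      exact Subgroup.map_le_iff_le_comap.mpr h3
    have hNA : Subgroup.normalizer (A : Set G) = M :=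
      normalizer_eq_of_corefree hmax hcore hAne (le_trans hAS hSM) hMA
    -- A ≤ lc g S
    have hAcent : A ≤ Subgroup.centralizer (T : Set G) := by
      apply sup_le
      · intro t ht
        rw [Subgroup.mem_centralizer_iff]
        intro t' ht'
        -- both in T = lc g Z, abelian
        rw [SetLike.mem_coe, hT, mem_lc] at ht'
        rw [hT, mem_lc] at ht
        have h1 := hZc _ ht' _ (hZS ht)
        -- (g⁻¹ t g) (g⁻¹ t' g) = (g⁻¹ t' g) (g⁻¹ t g)
        have h2 : g * ((g⁻¹ * t * g) * (g⁻¹ * t' * g)) * g⁻¹ =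
            g * ((g⁻¹ * t' * g) * (g⁻¹ * t * g)) * g⁻¹ := by rw [h1]
        have e1 : g * ((g⁻¹ * t * g) * (g⁻¹ * t' * g)) * g⁻¹ = t * t' := by group
        have e2 : g * ((g⁻¹ * t' * g) * (g⁻¹ * t * g)) * g⁻¹ = t' * t := by group
        rw [e1, e2] at h2
        exact h2.symm
      · intro z hz
        rw [Subgroup.mem_centralizer_iff]
        intro t ht
        exact hZc z hz t (hg ht)
    have hAMg : A ≤ lc g M := by
      have h1 : Subgroup.normalizer (T : Set G) = lc g M := by
        rw [hT, normalizer_lc, hNZ]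
      rw [← h1]
      exact le_trans hAcent (Subgroup.centralizer_le_normalizer _)
    have hASg : A ≤ lc g S := by
      have h1 : lc g⁻¹ A ≤ S := by
        apply hpsub
        · apply lc_le_iff.mpr
          rw [inv_inv]; exact hAMg
        · exact isPGroup_lc (hSp.to_le hAS)
      have h2 := lc_le_iff.mp h1
      rwa [inv_inv] at h2
    -- lc g S normalises A
    have hSgA : lc g S ≤ Subgroup.normalizer (A : Set G) := by
      intro u hu
      apply mem_normalizer_of_lc_le
      have h1 : T ≤ A.comap (MulAut.conj u).toMonoidHom := by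
        intro t ht
        rw [Subgroup.mem_comap]
        show u * t * u⁻¹ ∈ A
        rw [conj_eq_comm_mul]
        exact A.mul_mem (le_sup_left (b := ZC S)
          (hcommg g u hu t (lc_mono hZS ht))) (le_sup_left (b := ZC S) ht)
      have h2 : ZC S ≤ A.comap (MulAut.conj u).toMonoidHom := by
        intro z hz
        rw [Subgroup.mem_comap]
        show u * z * u⁻¹ ∈ A
        rw [conj_eq_comm_mul]
        exact A.mul_mem (le_sup_left (b := ZC S)
          (hcommg g u hu z (hASg (le_sup_right (a := T) hz)))) (le_sup_right (a := T) hz)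
      exact Subgroup.map_le_iff_le_comap.mpr (sup_le h1 h2)
    have hSgS : lc g S ≤ S := hpsub _ (hNA ▸ hSgA) (isPGroup_lc hSp)
    exact hNS ▸ mem_normalizer_of_lc_le hSgS
  -- step 7: control of fusion
  have hfus : Cfsg.Agent.Lib.Helper03.ControlsOwnFusion (P' : Subgroup G) := by
    intro x hx y hy ⟨g, hg⟩
    rw [hP'] at hx hy ⊢
    set C := Subgroup.centralizer ({y} : Set G) with hC
    have hZC : ZC S ≤ C := by
      intro z hz
      rw [hC, Subgroup.mem_centralizer_iff]
      intro w hw
      rw [Set.mem_singleton_iff.mp hw]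
      exact hZc z hz y hy
    have hTC : lc g (ZC S) ≤ C := by
      intro t ht
      rw [mem_lc] at ht
      rw [hC, Subgroup.mem_centralizer_iff]
      intro w hw
      rw [Set.mem_singleton_iff.mp hw, ← hg]
      have h1 := hZc _ ht x hx
      -- x * (g⁻¹ t g) = (g⁻¹ t g) * x
      have e1 : g * x * g⁻¹ * t = g * (x * (g⁻¹ * t * g)) * g⁻¹ := by group
      have e2 : t * (g * x * g⁻¹) = g * ((g⁻¹ * t * g) * x) * g⁻¹ := by group
      rw [e1, e2, h1]
    have hZp : IsPGroup p (ZC S) := hSp.to_le hZS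
    obtain ⟨R, hZR, hRC, hRp, hRidx⟩ := exists_sylowIn_ge hZp hZC
    obtain ⟨c, hcC, hcT⟩ := exists_lc_le_of_relIndex hRC hRp hRidx (isPGroup_lc hZp) hTC
    obtain ⟨m, hm⟩ := exists_lc_le_sylow P' hRp
    rw [hP'] at hm
    have hmM : m ∈ M := hWC m (le_trans (lc_mono hZR) hm)
    have hmcg : m * c * g ∈ M := by
      apply hWC
      rw [lc_mul, lc_mul]
      exact le_trans (lc_mono hcT) hm
    have hcg : c * g ∈ M := by
      have := M.mul_mem (M.inv_mem hmM) hmcg
      have e : m⁻¹ * (m * c * g) = c * g := by group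
      rwa [e] at this
    obtain ⟨s, hs, hsx⟩ := hfact (c * g) hcg
    refine ⟨s, hs, ?_⟩
    rw [← hsx x hx]
    have hcy : c * y = y * c := by
      have := (Subgroup.mem_centralizer_iff.mp hcC) y (Set.mem_singleton y)
      exact this.symm
    calc c * g * x * (c * g)⁻¹ = c * (g * x * g⁻¹) * c⁻¹ := by group
      _ = c * y * c⁻¹ := by rw [hg]
      _ = y := by rw [hcy]; group
  obtain ⟨N, hNn, hNc⟩ :=
    Cfsg.Agent.Lib.Helper03.exists_normal_complement_of_controlsOwnFusion P' hfus
  exact pn_iff.mp ⟨P', N, hNn, hNc⟩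

/-- From normal `p`-complements at all primes dividing `|M|` (and `M` containing Sylow subgroups
of `G` for these primes) to a normal complement of `M`. -/
theorem exists_normal_complement_of_prime_data {G : Type*} [Group G] [Finite G] (M : Subgroup G)
    (key : ∀ p ∈ (Nat.card M).primeFactors,
      (∃ N : Subgroup G, N.Normal ∧ (Nat.card N).Coprime p ∧ ∃ k : ℕ, N.index = p ^ k) ∧
        ¬ p ∣ M.index) :
    ∃ K : Subgroup G, K.Normal ∧ (Nat.card K).Coprime (Nat.card M) ∧
      Nat.card K * Nat.card M = Nat.card G := by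
  obtain ⟨K, hKn, hK1, hK2⟩ := exists_normal_pi_complement (Nat.card M).primeFactors
    (fun p hp => (key p hp).1) (fun p hp => Nat.prime_of_mem_primeFactors hp)
  have hMpos : Nat.card M ≠ 0 := Nat.card_pos.ne'
  have hca : (Nat.card M).Coprime (Nat.card K) := by
    apply Nat.coprime_of_dvd
    intro q hq hqM hqK
    exact hK1 q (Nat.mem_primeFactors.mpr ⟨hq, hqM, hMpos⟩) hqK
  have hbd : (K.index).Coprime (M.index) := by
    apply Nat.coprime_of_dvd
    intro q hq hqK hqM
    exact (key q (hK2 q hq hqK)).2 hqM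
  have e1 : Nat.card K * K.index = Nat.card G := Subgroup.card_mul_index K
  have e2 : Nat.card M * M.index = Nat.card G := Subgroup.card_mul_index M
  have h1 : Nat.card M ∣ K.index := by
    apply hca.dvd_of_dvd_mul_left
    rw [e1, ← e2]
    exact Dvd.intro _ rfl
  have h2 : K.index ∣ Nat.card M := by
    apply hbd.dvd_of_dvd_mul_right
    rw [e2, ← e1]
    exact Dvd.intro_left _ rfl
  have h3 : K.index = Nat.card M := Nat.dvd_antisymm h2 h1
  refine ⟨K, hKn, hca.symm, ?_⟩
  rw [← h3]
  exact e1

theorem class_two_maximal_aux : ∀ (n : ℕ) (G : Type u) [Group G] [Finite G],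
    Nat.card G = n → ∀ (M : Subgroup G), IsCoatom M → Group.IsNilpotent M →
      (∀ a ∈ M, ∀ b ∈ M, ∀ c ∈ M, ⁅⁅a, b⁆, c⁆ = 1) → Group.IsSolvable G := by
  intro n
  induction n using Nat.strong_induction_on with
  | _ n ih =>
    intro G _ _ hn M hmax hnil hcl
    have hMs : Group.IsSolvable M := inferInstance
    by_cases hcore : ∀ N : Subgroup G, N.Normal → N ≤ M → N = ⊥
    · obtain ⟨K, hKn, hcop, hcard⟩ := exists_normal_complement_of_prime_data M
        (fun p hp => prime_data_of_class_two M hmax hnil hcl hcore p hp)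
      have hKs := isSolvable_normal_complement M hmax hMs K hKn hcop hcard
      have hc : K.IsComplement' M := Subgroup.isComplement'_of_coprime hcard hcop
      exact isSolvable_of_normal_complement M hMs K hKn hKs hc.sup_eq_top
    · push Not at hcore
      obtain ⟨N, hNn, hNM, hNne⟩ := hcore
      have hf : Function.Surjective (QuotientGroup.mk' N) := QuotientGroup.mk'_surjective N
      have hlt : Nat.card (G ⧸ N) < n := by
        have h1 := Subgroup.card_eq_card_quotient_mul_card_subgroup N
        have h2 : 1 < Nat.card N := (Subgroup.one_lt_card_iff_ne_bot N).mpr hNne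
        have h3 : 0 < Nat.card (G ⧸ N) := Nat.card_pos
        rw [← hn, h1]
        nlinarith
      have hcm : Subgroup.comap (QuotientGroup.mk' N) (M.map (QuotientGroup.mk' N)) = M := by
        rw [Subgroup.comap_map_eq, QuotientGroup.ker_mk', sup_eq_left.mpr hNM]
      have hmax' : IsCoatom (M.map (QuotientGroup.mk' N)) := by
        constructor
        · intro h
          apply hmax.1
          rw [← hcm, h, Subgroup.comap_top]
        · intro H' hH'
          have h1 : M ≤ H'.comap (QuotientGroup.mk' N) := Subgroup.map_le_iff_le_comap.mp hH'.le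
          rcases eq_or_lt_of_le h1 with h | h
          · exfalso
            have h2 : H' = M.map (QuotientGroup.mk' N) := by
              rw [h, Subgroup.map_comap_eq_self_of_surjective hf]
            exact (ne_of_gt hH') h2
          · have h2 := hmax.2 _ h
            rw [← Subgroup.map_comap_eq_self_of_surjective hf H', h2,
              Subgroup.map_top_of_surjective _ hf]
      have hnil' : Group.IsNilpotent (M.map (QuotientGroup.mk' N)) :=
        Group.nilpotent_of_surjective ((QuotientGroup.mk' N).subgroupMap M)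
          ((QuotientGroup.mk' N).subgroupMap_surjective M)
      have hcl' : ∀ a ∈ M.map (QuotientGroup.mk' N), ∀ b ∈ M.map (QuotientGroup.mk' N),
          ∀ c ∈ M.map (QuotientGroup.mk' N), ⁅⁅a, b⁆, c⁆ = 1 := by
        rintro _ ⟨a, ha, rfl⟩ _ ⟨b, hb, rfl⟩ _ ⟨c, hc, rfl⟩
        rw [← map_commutatorElement, ← map_commutatorElement, hcl a ha b hb c hc, map_one]
      have hQs : Group.IsSolvable (G ⧸ N) :=
        ih (Nat.card (G ⧸ N)) hlt (G ⧸ N) rfl _ hmax' hnil' hcl'
      have hNs : Group.IsSolvable N :=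
        Group.isSolvable_of_isSolvable_injective (Subgroup.inclusion_injective hNM)
      exact Group.isSolvable_of_ker_le_range N.subtype (QuotientGroup.mk' N)
        (by rw [QuotientGroup.ker_mk', Subgroup.range_subtype])

/-- **Deskins–Janko–Thompson**: a finite group with a maximal subgroup which is nilpotent of class
at most two is solvable. -/
theorem class_two_maximal {G : Type u} [Group G] [Finite G]
    (M : Subgroup G) (hmax : IsCoatom M) (hnil : Group.IsNilpotent M)
    (hcl : Group.nilpotencyClass ↥M ≤ 2) : Group.IsSolvable G := by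
  have h2 : (⊤ : Subgroup ↥M).lowerCentralSeries 2 = ⊥ :=
    Subgroup.lowerCentralSeries_eq_bot_iff_nilpotencyClass_le.mpr hcl
  have hcl' : ∀ a ∈ M, ∀ b ∈ M, ∀ c ∈ M, ⁅⁅a, b⁆, c⁆ = 1 := by
    intro a ha b hb c hc
    have h3 : ⁅⁅(⟨a, ha⟩ : ↥M), (⟨b, hb⟩ : ↥M)⁆, (⟨c, hc⟩ : ↥M)⁆ ∈ (⊤ : Subgroup ↥M).lowerCentralSeries 2 := by
      apply Subgroup.commutator_mem_commutator _ (Subgroup.mem_top _)
      exact Subgroup.commutator_mem_commutator (Subgroup.mem_top _) (Subgroup.mem_top _)
    rw [h2, Subgroup.mem_bot] at h3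
    have h4 := congrArg M.subtype h3
    rw [map_commutatorElement, map_commutatorElement, map_one] at h4
    exact h4
  exact class_two_maximal_aux (Nat.card G) G rfl M hmax hnil hcl'

end Cfsg.Agent.Lib.Helper61
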