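import Mathlib
import Cfsg.Agent.Lib.Helper22.NseDefs

/-!
# Pack K-NSE (S3431), leaf A: a finite group satisfies the abstract numerical hypotheses `NseHyp`
-/

set_option autoImplicit false

namespace Cfsg.Agent.Lib.Helper61.Nse

open Cfsg.Agent.Lib.Helper22.Nse

/-- `φ(m)` divides the number of elements of order `m` -/
theorem totient_dvd_s {G : Type*} [Group G] [Finite G] (m : ℕ) :
    Nat.totient m ∣ Cfsg.Agent.S3995.s G m := by
  classical
  let _ : Fintype G := Fintype.ofFinite G
  have hs : Cfsg.Agent.S3995.s G m = (Finset.univ.filter (fun g : G => orderOf g = m)).card := by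
    unfold Cfsg.Agent.S3995.s
    rw [Nat.card_eq_fintype_card, Fintype.card_subtype]
  rw [hs]
  obtain ⟨T, hT⟩ : ∃ T : Finset G, T = Finset.univ.filter (fun g : G => orderOf g = m) := ⟨_, rfl⟩
  rw [← hT]
  rw [Finset.card_eq_sum_card_image (fun g : G => Subgroup.zpowers g) T]
  have hconst : ∀ b ∈ T.image (fun g : G => Subgroup.zpowers g),
      (T.filter (fun g : G => Subgroup.zpowers g = b)).card = Nat.totient m := by
    intro b hb
    obtain ⟨x₀, hx₀, rfl⟩ := Finset.mem_image.mp hb
    rw [hT, Finset.mem_filter] at hx₀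
    have : T.filter (fun g : G => Subgroup.zpowers g = Subgroup.zpowers x₀) =
        Finset.univ.filter (fun g : G => Subgroup.zpowers g = Subgroup.zpowers x₀) := by
      ext g
      simp only [Finset.mem_filter, Finset.mem_univ, true_and, hT]
      constructor
      · exact fun h => h.2
      · intro h
        refine ⟨?_, h⟩
        rw [← Nat.card_zpowers, h, Nat.card_zpowers]
        exact hx₀.2
    rw [this, Cfsg.Agent.S3993.card_gens x₀, hx₀.2]
  rw [Finset.sum_congr rfl hconst, Finset.sum_const, smul_eq_mul]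
  exact Dvd.intro_left _ rfl

theorem nseHyp_of_group {G : Type*} [Group G] [Finite G] (V : Finset ℕ)
    (h : ((fun m : ℕ => Nat.card {g : G // orderOf g = m}) '' Set.range (orderOf : G → ℕ)) = (↑V : Set ℕ)) :
    NseHyp (Nat.card G) (Cfsg.Agent.S3995.s G) V := by
  classical
  refine ⟨Nat.card_pos, Cfsg.Agent.S3995.s_one, fun m hm => Cfsg.Agent.S3995.frob_s m hm, ?_, ?_, ?_,
    fun m => totient_dvd_s m, ?_, ?_, ?_⟩
  · -- dvd
    intro m hm
    obtain ⟨g, hg⟩ := (Cfsg.Agent.S3995.s_ne_zero_iff m).mp hm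
    rw [← hg]; exact orderOf_dvd_natCard g
  · -- closed
    intro m d hm hd
    obtain ⟨g, hg⟩ := (Cfsg.Agent.S3995.s_ne_zero_iff m).mp hm
    exact (Cfsg.Agent.S3995.s_ne_zero_iff d).mpr (Cfsg.Agent.S3995.exists_orderOf_of_dvd hd g hg)
  · -- cauchy
    intro p hp hpN
    have : Fact p.Prime := ⟨hp⟩
    exact (Cfsg.Agent.S3995.s_ne_zero_iff p).mpr (exists_prime_orderOf_dvd_card' p hpN)
  · -- total
    let _ : Fintype G := Fintype.ofFinite G
    have hN0 : Nat.card G ≠ 0 := Nat.card_pos.ne'
    have h2 := sum_card_orderOf_eq_card_pow_eq_one (G := G) hN0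
    have h3 : ∑ d ∈ (Nat.card G).divisors, Cfsg.Agent.S3995.s G d =
        ∑ d ∈ (Nat.card G).divisors, (Finset.univ.filter (fun x : G => orderOf x = d)).card := by
      refine Finset.sum_congr rfl (fun d _ => ?_)
      unfold Cfsg.Agent.S3995.s
      rw [Nat.card_eq_fintype_card, Fintype.card_subtype]
    rw [h3, h2]
    have h4 : (Finset.univ.filter (fun x : G => x ^ Nat.card G = 1)) = Finset.univ := by
      ext x
      simp only [Finset.mem_filter, Finset.mem_univ, true_and, iff_true]
      exact pow_card_eq_one'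
    rw [h4, Finset.card_univ, Nat.card_eq_fintype_card]
  · -- mem
    intro m hm
    obtain ⟨g, hg⟩ := (Cfsg.Agent.S3995.s_ne_zero_iff m).mp hm
    have : Cfsg.Agent.S3995.s G m ∈ (↑V : Set ℕ) := by
      rw [← h]
      exact ⟨m, ⟨g, hg⟩, rfl⟩
    exact this
  · -- attained
    intro v hv
    have : v ∈ (↑V : Set ℕ) := hv
    rw [← h] at this
    obtain ⟨m, -, hm⟩ := this
    exact ⟨m, hm⟩

end Cfsg.Agent.Lib.Helper61.Nse
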