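import Mathlib
import Cfsg.Prelude.Def_GeometricClasses
import Cfsg.Agent.Lib.Helper11.SpMax

set_option autoImplicit false
set_option linter.unusedSectionVars false
set_option linter.unusedVariables false

namespace Cfsg.Agent.Lib.Helper61.OMax

open Cfsg.Agent.Lib.Helper18 Cfsg.Agent.Lib.Helper11.SpMax Matrix

section
variable {F : Type*} [Field F] (m : ℕ)

local notation "V" => (Fin m ⊕ Fin m → F)
local notation "B" => Cfsg.sympForm m F
local notation "GLm" => Matrix.GeneralLinearGroup (Fin m ⊕ Fin m) F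

/-- The data of a quadratic form in characteristic two over a perfect field whose polar form is
the standard alternating form. -/
structure QData (Q : V → F) : Prop where
  smul : ∀ (c : F) (v : V), Q (c • v) = c ^ 2 * Q v
  pol : ∀ u v : V, Q (u + v) = Q u + Q v + B u v
  two : (2 : F) = 0
  sq : ∀ a : F, ∃ r : F, r * r = a

variable {m}
variable {Q : (Fin m ⊕ Fin m → F) → F}

lemma QData.add_self (hQ : QData m Q) (a : F) : a + a = 0 := by
  rw [← two_mul, hQ.two, zero_mul]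

lemma QData.neg_eq (hQ : QData m Q) (a : F) : -a = a := by
  rw [neg_eq_iff_add_eq_zero]; exact hQ.add_self a

lemma QData.vadd_self (hQ : QData m Q) (v : V) : v + v = 0 := by
  rw [← two_smul F v, hQ.two, zero_smul]

lemma QData.symm (hQ : QData m Q) (u v : V) : B u v = B v u := by
  rw [sf_swap, hQ.neg_eq]

lemma QData.zero (hQ : QData m Q) : Q 0 = 0 := by
  have := hQ.smul 0 0
  rw [zero_smul] at this
  rw [this]; ring

/-- `Q (x + c v) = Q x + c² Q v + c B(x,v)`. -/
lemma QData.add_smul (hQ : QData m Q) (x v : V) (c : F) :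
    Q (x + c • v) = Q x + c ^ 2 * Q v + c * B x v := by
  rw [hQ.pol, hQ.smul, sf_smul_right]

/-- The value of `Q` on the image of a transvection. -/
lemma QData.tg_val (hQ : QData m Q) (v x : V) (c : F) :
    Q ((tg m v c).1 *ᵥ x) = Q x + c * (B x v) ^ 2 * (c * Q v + 1) := by
  rw [tg_act, hQ.add_smul]
  ring

/-- Reflections are isometries. -/
lemma QData.refl_val (hQ : QData m Q) (a x : V) (ha : Q a ≠ 0) :
    Q ((tg m a (Q a)⁻¹).1 *ᵥ x) = Q x := by
  rw [hQ.tg_val, inv_mul_cancel₀ ha, hQ.add_self, mul_zero, add_zero]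

lemma QData.refl_mem (hQ : QData m Q) (a : V) (ha : Q a ≠ 0) :
    tg m a (Q a)⁻¹ ∈ Cfsg.Geo.quadSimilarityGroup Q ⊓ Cfsg.spGL m F := by
  refine ⟨⟨1, fun x => ?_⟩, tg_mem m a _⟩
  rw [Units.val_one, one_mul]
  exact hQ.refl_val a x ha

/-- Elements of `H` are isometries of `Q`. -/
lemma QData.isometry_of_mem (hQ : QData m Q) (i0 : Fin m) (g : GLm)
    (hg : g ∈ Cfsg.Geo.quadSimilarityGroup Q ⊓ Cfsg.spGL m F) (v : V) :
    Q (g.1 *ᵥ v) = Q v := by
  obtain ⟨⟨c, hc⟩, hsp⟩ := hg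
  have hsp' := (mem_spGL_iff m g).mp hsp
  have e0 : (Pi.single (Sum.inl i0) 1 : V) ≠ 0 := by
    intro h
    have := congrFun h (Sum.inl i0)
    simp at this
  obtain ⟨y, hy⟩ := sf_nondeg_top m _ e0
  have h1 := hc (Pi.single (Sum.inl i0) 1 + y)
  rw [Matrix.mulVec_add] at h1
  change Q (g.1 *ᵥ _ + g.1 *ᵥ y) = _ at h1
  rw [hQ.pol, hQ.pol, hsp'] at h1
  have h2 := hc (Pi.single (Sum.inl i0) 1)
  have h3 := hc y
  change Q (g.1 *ᵥ _) = _ at h2
  change Q (g.1 *ᵥ _) = _ at h3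
  rw [h2, h3] at h1
  have h4 : ((c : F) - 1) * B (Pi.single (Sum.inl i0) 1) y = 0 := by
    linear_combination -h1
  rcases mul_eq_zero.mp h4 with h5 | h5
  · have := hc v
    change Q (g.1 *ᵥ v) = _ at this
    rw [this, sub_eq_zero.mp h5, one_mul]
  · exact absurd h5 hy

lemma QData.exists_of_not_mem (hQ : QData m Q) (g : GLm) (hsp : g ∈ Cfsg.spGL m F)
    (hg : g ∉ Cfsg.Geo.quadSimilarityGroup Q ⊓ Cfsg.spGL m F) :
    ∃ a : V, Q (g.1 *ᵥ a) ≠ Q a := by
  by_contra hcon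
  push Not at hcon
  apply hg
  refine ⟨⟨1, fun v => ?_⟩, hsp⟩
  rw [Units.val_one, one_mul]
  exact hcon v


/-! ### Orthogonal projection off a hyperbolic pair and the key existence lemma -/

lemma exists_not_mem_span_pair (hm : 2 ≤ m) (v x : V) : ∃ z : V, z ∉ Submodule.span F {v, x} := by
  classical
  by_contra hcon
  push Not at hcon
  have htop : Submodule.span F ({v, x} : Set V) = ⊤ := by
    rw [eq_top_iff]; intro z _; exact hcon z
  have h1 : Module.finrank F (Submodule.span F (({v, x} : Finset V) : Set V)) ≤ 2 :=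
    le_trans (finrank_span_finset_le_card _) Finset.card_le_two
  rw [Finset.coe_insert, Finset.coe_singleton, htop, finrank_top,
    Module.finrank_fintype_fun_eq_card, Fintype.card_sum, Fintype.card_fin] at h1
  omega

/-- Projection onto the orthogonal complement of a hyperbolic pair (characteristic two). -/
def proj (v x z : V) : V := z + (B z x / B v x) • v + (B z v / B x v) • x

lemma QData.proj_perp_left (hQ : QData m Q) (v x z : V) (hvx : B v x ≠ 0) :
    B (proj v x z) v = 0 := by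
  have hxv : B x v ≠ 0 := by rw [hQ.symm]; exact hvx
  unfold proj
  rw [sf_add_left, sf_add_left, sf_smul_left, sf_smul_left, sf_self, mul_zero, add_zero,
    div_mul_cancel₀ _ hxv]
  exact hQ.add_self _

lemma QData.proj_perp_right (hQ : QData m Q) (v x z : V) (hvx : B v x ≠ 0) :
    B (proj v x z) x = 0 := by
  unfold proj
  rw [sf_add_left, sf_add_left, sf_smul_left, sf_smul_left, sf_self, mul_zero, add_zero,
    div_mul_cancel₀ _ hvx]
  exact hQ.add_self _

lemma QData.proj_pair (hQ : QData m Q) (v x y w : V) (hyv : B y v = 0) (hyx : B y x = 0) :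
    B y (proj v x w) = B y w := by
  unfold proj
  rw [sf_add_right, sf_add_right, sf_smul_right, sf_smul_right, hyv, hyx, mul_zero, mul_zero,
    add_zero, add_zero]

lemma proj_eq_zero_mem (v x z : V) (h : proj v x z = 0) : z ∈ Submodule.span F {v, x} := by
  unfold proj at h
  have hz : z = -((B z x / B v x) • v + (B z v / B x v) • x) := by
    rw [eq_neg_iff_add_eq_zero, ← add_assoc]; exact h
  rw [hz]
  apply Submodule.neg_mem
  apply Submodule.add_mem
  · exact Submodule.smul_mem _ _ (Submodule.subset_span (by simp))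
  · exact Submodule.smul_mem _ _ (Submodule.subset_span (by simp))

/-- Key existence lemma: the orthogonal complement of a hyperbolic pair represents every value. -/
lemma QData.exists_perp_value (hQ : QData m Q) (hm : 2 ≤ m) (v x : V) (hvx : B v x ≠ 0) (s : F) :
    ∃ y : V, B y v = 0 ∧ B y x = 0 ∧ Q y = s := by
  obtain ⟨z, hz⟩ := exists_not_mem_span_pair hm v x
  have hy1 : proj v x z ≠ 0 := fun h => hz (proj_eq_zero_mem v x z h)
  obtain ⟨w, hw⟩ := sf_nondeg_top m _ hy1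
  set y1 := proj v x z with hy1def
  set y2 := proj v x w with hy2def
  have h1v := hQ.proj_perp_left v x z hvx
  have h1x := hQ.proj_perp_right v x z hvx
  have h2v := hQ.proj_perp_left v x w hvx
  have h2x := hQ.proj_perp_right v x w hvx
  have h12 : B y1 y2 ≠ 0 := by
    rw [hy2def, hQ.proj_pair v x y1 w h1v h1x]; exact hw
  -- a nonsingular vector in the complement
  obtain ⟨y0, h0v, h0x, h0Q⟩ : ∃ y0 : V, B y0 v = 0 ∧ B y0 x = 0 ∧ Q y0 ≠ 0 := by
    by_cases hq1 : Q y1 = 0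
    · by_cases hq2 : Q y2 = 0
      · refine ⟨y1 + y2, ?_, ?_, ?_⟩
        · rw [sf_add_left, h1v, h2v, add_zero]
        · rw [sf_add_left, h1x, h2x, add_zero]
        · rw [hQ.pol, hq1, hq2, zero_add, zero_add]; exact h12
      · exact ⟨y2, h2v, h2x, hq2⟩
    · exact ⟨y1, h1v, h1x, hq1⟩
  obtain ⟨r, hr⟩ := hQ.sq (s / Q y0)
  refine ⟨r • y0, ?_, ?_, ?_⟩
  · rw [sf_smul_left, h0v, mul_zero]
  · rw [sf_smul_left, h0x, mul_zero]
  · rw [hQ.smul, pow_two, hr, div_mul_cancel₀ _ h0Q]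

/-- For nonsingular `v` there is a singular `a` with `B v a = Q v`. -/
lemma QData.exists_singular_pair (hQ : QData m Q) (hm : 2 ≤ m) (v : V) (hv : Q v ≠ 0) :
    ∃ a : V, Q a = 0 ∧ B v a = Q v := by
  have hv0 : v ≠ 0 := by
    rintro rfl; exact hv hQ.zero
  obtain ⟨x0, hx0⟩ := sf_nondeg_top m v hv0
  set x : V := (Q v / B v x0) • x0 with hx
  have hvx : B v x = Q v := by
    rw [hx, sf_smul_right, div_mul_cancel₀ _ hx0]
  have hvx0 : B v x ≠ 0 := by rw [hvx]; exact hv
  obtain ⟨y, hyv, hyx, hyQ⟩ := hQ.exists_perp_value hm v x hvx0 (Q x)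
  refine ⟨x + y, ?_, ?_⟩
  · rw [hQ.pol, hyQ, hQ.symm x y, hyx, add_zero]; exact hQ.add_self _
  · rw [sf_add_right, hvx, hQ.symm v y, hyv, add_zero]


/-! ### Transvection bookkeeping -/

lemma tg_zero_right (v : V) : tg m v 0 = 1 := by
  apply gl_ext
  intro x
  rw [tg_act, zero_mul, zero_smul, add_zero, Units.val_one, Matrix.one_mulVec]

lemma mulVec_ne_zero (g : GLm) (a : V) (ha : a ≠ 0) : g.1 *ᵥ a ≠ 0 := by
  intro h
  apply ha
  have := gl_inv_act m g a
  rw [h, Matrix.mulVec_zero] at this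
  exact this.symm

/-- Step A': an element of an overgroup which is not an isometry yields a transvection in `M`
with nonzero singular centre. -/
lemma QData.exists_singular_tv (hQ : QData m Q) (hm : 2 ≤ m) (M : Subgroup GLm)
    (hHM : Cfsg.Geo.quadSimilarityGroup Q ⊓ Cfsg.spGL m F ≤ M) (hMS : M ≤ Cfsg.spGL m F)
    (g : GLm) (hgM : g ∈ M) (hgH : g ∉ Cfsg.Geo.quadSimilarityGroup Q ⊓ Cfsg.spGL m F) :
    ∃ (b : V) (l : F), b ≠ 0 ∧ Q b = 0 ∧ l ≠ 0 ∧ tg m b l ∈ M := by
  obtain ⟨a, ha⟩ := hQ.exists_of_not_mem g (hMS hgM) hgH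
  by_cases hqa : Q a = 0
  · -- `a` singular, `g a` nonsingular
    have hqa' : Q (g.1 *ᵥ a) ≠ 0 := by rw [hqa] at ha; exact ha
    have ha0 : a ≠ 0 := by
      rintro rfl
      rw [Matrix.mulVec_zero, hQ.zero] at hqa'
      exact hqa' rfl
    refine ⟨a, (Q (g.1 *ᵥ a))⁻¹, ha0, hqa, inv_ne_zero hqa', ?_⟩
    have hr : tg m (g.1 *ᵥ a) (Q (g.1 *ᵥ a))⁻¹ ∈ M := hHM (hQ.refl_mem _ hqa')
    have hginv : g⁻¹ ∈ Cfsg.spGL m F := (Cfsg.spGL m F).inv_mem (hMS hgM)
    have hc := conj_tg m g⁻¹ hginv (g.1 *ᵥ a) (Q (g.1 *ᵥ a))⁻¹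
    rw [gl_inv_act, inv_inv] at hc
    rw [← hc]
    exact M.mul_mem (M.mul_mem (M.inv_mem hgM) hr) hgM
  · -- `a` nonsingular
    have ha0 : a ≠ 0 := by
      rintro rfl; exact hqa hQ.zero
    have hr : tg m a (Q a)⁻¹ ∈ M := hHM (hQ.refl_mem _ hqa)
    have hc := conj_tg m g (hMS hgM) a (Q a)⁻¹
    have hbM : tg m (g.1 *ᵥ a) (Q a)⁻¹ ∈ M := by
      rw [← hc]
      exact M.mul_mem (M.mul_mem hgM hr) (M.inv_mem hgM)
    set b : V := g.1 *ᵥ a with hb
    set l : F := (Q a)⁻¹ with hl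
    have hb0 : b ≠ 0 := mulVec_ne_zero g a ha0
    have hl0 : l ≠ 0 := inv_ne_zero hqa
    by_cases hqb : Q b = 0
    · exact ⟨b, l, hb0, hqb, hl0, hbM⟩
    · -- both nonsingular with different values
      have hlb : l * Q b + 1 ≠ 0 := by
        intro h
        have h1 : l * Q b = 1 := by
          have := congrArg (fun t => t + 1) h
          simp only [add_assoc, hQ.add_self, add_zero, zero_add] at this
          exact this
        apply ha
        rw [hl] at h1
        field_simp at h1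
        exact h1
      set κ : F := l * (l * Q b + 1) with hκ
      have hκ0 : κ ≠ 0 := mul_ne_zero hl0 hlb
      obtain ⟨x0, hx0⟩ := sf_nondeg_top m b hb0
      set x : V := (B b x0)⁻¹ • x0 with hx
      have hbx : B b x = 1 := by
        rw [hx, sf_smul_right, inv_mul_cancel₀ hx0]
      have hbx0 : B b x ≠ 0 := by rw [hbx]; exact one_ne_zero
      obtain ⟨y, hyb, hyx, hyQ⟩ := hQ.exists_perp_value hm b x hbx0 (κ + Q x)
      set n : V := x + y with hn
      have hnb : B n b = 1 := by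
        rw [hn, sf_add_left, hyb, add_zero, hQ.symm, hbx]
      have hnQ : Q n = κ := by
        rw [hn, hQ.pol, hyQ, hQ.symm x y, hyx, add_zero, ← add_assoc, add_comm (Q x) κ,
          add_assoc, hQ.add_self, add_zero]
      have hnQ0 : Q n ≠ 0 := by rw [hnQ]; exact hκ0
      have hrn : tg m n (Q n)⁻¹ ∈ M := hHM (hQ.refl_mem _ hnQ0)
      have hc2 := conj_tg m (tg m b l) (tg_mem m b l) n (Q n)⁻¹
      have hn'M : tg m ((tg m b l).1 *ᵥ n) (Q n)⁻¹ ∈ M := by
        rw [← hc2]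
        exact M.mul_mem (M.mul_mem hbM hrn) (M.inv_mem hbM)
      refine ⟨(tg m b l).1 *ᵥ n, (Q n)⁻¹, ?_, ?_, inv_ne_zero hnQ0, hn'M⟩
      · apply mulVec_ne_zero
        intro h0
        rw [h0, hQ.zero] at hnQ0
        exact hnQ0 rfl
      · rw [hQ.tg_val, hnb, hnQ, hκ, one_pow, mul_one]
        exact hQ.add_self _

/-- Swap step: from a transvection at a singular `b` to all nonzero parameters at the
hyperbolic partner `b'`. -/
lemma QData.swap_step (hQ : QData m Q) (M : Subgroup GLm)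
    (hHM : Cfsg.Geo.quadSimilarityGroup Q ⊓ Cfsg.spGL m F ≤ M)
    (b b' : V) (hb : Q b = 0) (hb' : Q b' = 0) (hbb' : B b b' = 1) (l : F) (hl : l ≠ 0)
    (hM : tg m b l ∈ M) (c : F) (hc : c ≠ 0) : tg m b' c ∈ M := by
  obtain ⟨ν, hν⟩ := hQ.sq (c / l)
  have hν0 : ν ≠ 0 := by
    rintro rfl
    rw [mul_zero] at hν
    exact div_ne_zero hc hl hν.symm
  set n : V := b + ν • b' with hn
  have hnQ : Q n = ν := by
    rw [hn, hQ.add_smul, hb, hb', hbb', mul_zero, zero_add, zero_add, mul_one]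
  have hnQ0 : Q n ≠ 0 := by rw [hnQ]; exact hν0
  have hr : tg m n (Q n)⁻¹ ∈ M := hHM (hQ.refl_mem _ hnQ0)
  have hbn : B b n = ν := by
    rw [hn, sf_add_right, sf_self, zero_add, sf_smul_right, hbb', mul_one]
  have hrb : (tg m n (Q n)⁻¹).1 *ᵥ b = ν • b' := by
    rw [tg_act, hbn, hnQ, inv_mul_cancel₀ hν0, one_smul, hn, ← add_assoc, hQ.vadd_self, zero_add]
  have hcj := conj_tg m (tg m n (Q n)⁻¹) (tg_mem m n _) b l
  rw [hrb, tg_smul, hν, div_mul_cancel₀ _ hl] at hcj
  rw [← hcj]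
  exact M.mul_mem (M.mul_mem hr hM) (M.inv_mem hr)

/-- Step A'': a singular centre carrying one nontrivial transvection of `M` is a full centre. -/
lemma QData.singular_full (hQ : QData m Q) (M : Subgroup GLm)
    (hHM : Cfsg.Geo.quadSimilarityGroup Q ⊓ Cfsg.spGL m F ≤ M)
    (b : V) (hb0 : b ≠ 0) (hb : Q b = 0) (l : F) (hl : l ≠ 0) (hM : tg m b l ∈ M) :
    b ∈ XS m M := by
  obtain ⟨x0, hx0⟩ := sf_nondeg_top m b hb0
  set x : V := (B b x0)⁻¹ • x0 with hx
  have hbx : B b x = 1 := by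
    rw [hx, sf_smul_right, inv_mul_cancel₀ hx0]
  set b' : V := x + (Q x) • b with hb'
  have hb'Q : Q b' = 0 := by
    rw [hb', hQ.add_smul, hb, mul_zero, add_zero, hQ.symm, hbx, mul_one]
    exact hQ.add_self _
  have hbb' : B b b' = 1 := by
    rw [hb', sf_add_right, hbx, sf_smul_right, sf_self, mul_zero, add_zero]
  have hb'b : B b' b = 1 := by rw [hQ.symm]; exact hbb'
  have h1 : tg m b' 1 ∈ M := hQ.swap_step M hHM b b' hb hb'Q hbb' l hl hM 1 one_ne_zero
  intro c
  by_cases hc : c = 0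
  · rw [hc, tg_zero_right]; exact M.one_mem
  · exact hQ.swap_step M hHM b' b hb'Q hb hb'b 1 one_ne_zero h1 c hc

/-- Moving a full centre along a reflection. -/
lemma QData.sing_move (hQ : QData m Q) (M : Subgroup GLm)
    (hHM : Cfsg.Geo.quadSimilarityGroup Q ⊓ Cfsg.spGL m F ≤ M) (hMS : M ≤ Cfsg.spGL m F)
    (a b : V) (ha : Q a = 0) (hb : Q b = 0) (hab : B a b ≠ 0) (hbX : b ∈ XS m M) :
    a ∈ XS m M := by
  set n : V := a + b with hn
  have hnQ : Q n = B a b := by rw [hn, hQ.pol, ha, hb, zero_add, zero_add]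
  have hnQ0 : Q n ≠ 0 := by rw [hnQ]; exact hab
  have hr : tg m n (Q n)⁻¹ ∈ M := hHM (hQ.refl_mem _ hnQ0)
  have hbn : B b n = B a b := by
    rw [hn, sf_add_right, sf_self, add_zero, hQ.symm]
  have hrb : (tg m n (Q n)⁻¹).1 *ᵥ b = a := by
    rw [tg_act, hbn, hnQ, inv_mul_cancel₀ hab, one_smul, hn, add_comm a b, ← add_assoc,
      hQ.vadd_self, zero_add]
  have := XS_act m M hMS _ hr b hbX
  rw [hrb] at this
  exact this

/-- Step B': all singular vectors are full centres. -/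
lemma QData.singular_all (hQ : QData m Q) (M : Subgroup GLm)
    (hHM : Cfsg.Geo.quadSimilarityGroup Q ⊓ Cfsg.spGL m F ≤ M) (hMS : M ≤ Cfsg.spGL m F)
    (b : V) (hb0 : b ≠ 0) (hb : Q b = 0) (hbX : b ∈ XS m M) (a : V) (ha : Q a = 0) :
    a ∈ XS m M := by
  by_cases ha0 : a = 0
  · rw [ha0]; exact XS_zero m M
  by_cases hab : B a b = 0
  · obtain ⟨u, hu⟩ := sf_nondeg_top m a ha0
    obtain ⟨u', hu'⟩ := sf_nondeg_top m b hb0
    obtain ⟨w, haw, hbw⟩ : ∃ w, B a w ≠ 0 ∧ B b w ≠ 0 := by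
      by_cases h1 : B b u = 0
      · by_cases h2 : B a u' = 0
        · refine ⟨u + u', ?_, ?_⟩
          · rw [sf_add_right, h2, add_zero]; exact hu
          · rw [sf_add_right, h1, zero_add]; exact hu'
        · exact ⟨u', h2, hu'⟩
      · exact ⟨u, hu, h1⟩
    have hwa : B w a ≠ 0 := by rw [hQ.symm]; exact haw
    set c : V := w + (Q w / B w a) • a with hc
    have hcQ : Q c = 0 := by
      rw [hc, hQ.add_smul, ha, mul_zero, add_zero, div_mul_cancel₀ _ hwa]
      exact hQ.add_self _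
    have hcb : B c b ≠ 0 := by
      rw [hc, sf_add_left, sf_smul_left, hab, mul_zero, add_zero, hQ.symm]; exact hbw
    have hac : B a c ≠ 0 := by
      rw [hc, sf_add_right, sf_smul_right, sf_self, mul_zero, add_zero]; exact haw
    have hcX := hQ.sing_move M hHM hMS c b hcQ hb hcb hbX
    exact hQ.sing_move M hHM hMS a c ha hcQ hac hcX
  · exact hQ.sing_move M hHM hMS a b ha hb hab hbX

/-- Step C': nonsingular vectors are full centres once all singular ones are. -/
lemma QData.nonsingular_all (hQ : QData m Q) (hm : 2 ≤ m) (M : Subgroup GLm)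
    (hMS : M ≤ Cfsg.spGL m F)
    (hS : ∀ a : V, Q a = 0 → a ∈ XS m M) (v : V) : v ∈ XS m M := by
  by_cases hv : Q v = 0
  · exact hS v hv
  obtain ⟨a, haQ, hva⟩ := hQ.exists_singular_pair hm v hv
  have hbQ : Q (v + a) = 0 := by
    rw [hQ.pol, haQ, add_zero, hva]; exact hQ.add_self _
  have hba : B (v + a) a ≠ 0 := by
    rw [sf_add_left, sf_self, add_zero, hva]; exact hv
  have := XS_hyp m M hMS a (v + a) (hS a haQ) (hS _ hbQ) hba 1
  rw [one_smul, add_assoc, hQ.vadd_self, add_zero] at this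
  exact this

/-- The maximality half. -/
lemma QData.max_aux (hQ : QData m Q) (hm : 2 ≤ m) (M : Subgroup GLm)
    (hHM : Cfsg.Geo.quadSimilarityGroup Q ⊓ Cfsg.spGL m F ≤ M) (hMS : M ≤ Cfsg.spGL m F) :
    M = Cfsg.Geo.quadSimilarityGroup Q ⊓ Cfsg.spGL m F ∨ M = Cfsg.spGL m F := by
  by_cases hMH : M = Cfsg.Geo.quadSimilarityGroup Q ⊓ Cfsg.spGL m F
  · left; exact hMH
  · right
    obtain ⟨g, hgM, hgH⟩ := SetLike.exists_of_lt (lt_of_le_of_ne hHM (Ne.symm hMH))
    obtain ⟨b, l, hb0, hbQ, hl0, hbM⟩ := hQ.exists_singular_tv hm M hHM hMS g hgM hgH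
    have hbX := hQ.singular_full M hHM b hb0 hbQ l hl0 hbM
    have hS := hQ.singular_all M hHM hMS b hb0 hbQ hbX
    exact le_antisymm hMS (le_of_XS_univ m M (hQ.nonsingular_all hm M hMS hS))

/-- Properness. -/
lemma QData.lt_spGL (hQ : QData m Q) (hm : 2 ≤ m) :
    Cfsg.Geo.quadSimilarityGroup Q ⊓ Cfsg.spGL m F < Cfsg.spGL m F := by
  rw [SetLike.lt_iff_le_and_exists]
  refine ⟨inf_le_right, ?_⟩
  have i0 : Fin m := ⟨0, by omega⟩
  have e0 : (Pi.single (Sum.inl i0) 1 : V) ≠ 0 := by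
    intro h
    have := congrFun h (Sum.inl i0)
    simp at this
  -- a nonzero singular vector
  obtain ⟨b, hb0, hbQ⟩ : ∃ b : V, b ≠ 0 ∧ Q b = 0 := by
    by_cases h : Q (Pi.single (Sum.inl i0) 1 : V) = 0
    · exact ⟨_, e0, h⟩
    · obtain ⟨a, haQ, hva⟩ := hQ.exists_singular_pair hm _ h
      refine ⟨a, ?_, haQ⟩
      rintro rfl
      rw [sf_zero_right] at hva
      exact h hva.symm
  refine ⟨tg m b 1, tg_mem m b 1, fun hmem => ?_⟩
  obtain ⟨x, hx⟩ := sf_nondeg_top m b hb0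
  have h1 := hQ.isometry_of_mem i0 _ hmem x
  rw [hQ.tg_val, hbQ, mul_zero, zero_add, mul_one, one_mul] at h1
  have h2 : (B x b) ^ 2 = 0 := by
    have := congrArg (fun t => Q x + t) h1
    simp only [← add_assoc, hQ.add_self, zero_add] at this
    exact this
  have h3 : B x b = 0 := by
    rcases pow_eq_zero_iff (two_ne_zero) |>.mp h2 with h
    exact h
  rw [hQ.symm] at h3
  exact hx h3

/-- `O(Q)` is maximal in `Sp`. -/
theorem QData.isMaximalIn (hQ : QData m Q) (hm : 2 ≤ m) :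
    Cfsg.Geo.IsMaximalIn (Cfsg.spGL m F) (Cfsg.Geo.quadSimilarityGroup Q ⊓ Cfsg.spGL m F) :=
  ⟨hQ.lt_spGL hm, fun M hHM hMS => hQ.max_aux hm M hHM hMS⟩

end

end Cfsg.Agent.Lib.Helper61.OMax
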