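import Mathlib
import Cfsg.Agent.Lib.Helper98.Ti2
import Cfsg.Agent.Lib.Helper98.Os3
import Cfsg.Agent.Lib.Helper99.OTsDefs

/-!
# K-OTs, TWO sub-pack (S5973 + S5987), TYPE B core for `q ≡ 3 (mod 4)`

`-1` is a non-square of `F`, `x` is an endomorphism with `x * x = -1`:

* `even_finrank_of_inv_of_sq_neg_one`: EVERY `x`-invariant subspace has even dimension (no form needed);
* `exists_inv_isotropic_of_sq_neg_one` / `exists_inv_ts_of_sq_neg_one`: if moreover `2 ≠ 0`, `F` is finite and `x` is an
  isometry of a nondegenerate symmetric form / quadratic form on a space of dimension `2 d`, then for every `k` with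
  `2 * k ≤ d` there is an `x`-invariant totally singular subspace of dimension `2 * k`
  (`V` is a hermitian space of dimension `d` over `F(x) ≅ F_{q²}`, of Witt index `⌊d/2⌋`).
-/

set_option autoImplicit false
set_option linter.unusedSimpArgs false
set_option linter.unusedVariables false
set_option linter.unusedSectionVars false

namespace Cfsg.Agent.Lib.Helper61.OTs

open Module Cfsg.Agent.Lib.Helper98.Elus Cfsg.Agent.Lib.Helper98.Sy Cfsg.Agent.Lib.Helper99.OTs

universe u
variable {F : Type u} [Field F] {V : Type u} [AddCommGroup V] [Module F V]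

/-- `x * x = -1` pointwise -/
theorem sq_neg_one_apply {x : V →ₗ[F] V} (hx : x * x = -1) (v : V) : x (x v) = -v := by
  have h1 := congrArg (fun g : V →ₗ[F] V => g v) hx
  simpa using h1

/-- **TYPE B (i)**: `-1` a non-square, `x * x = -1`: every invariant subspace has even dimension. -/
theorem even_finrank_of_inv_of_sq_neg_one (hm1 : ¬ IsSquare (-1 : F)) [FiniteDimensional F V]
    (x : V →ₗ[F] V) (hx : x * x = -1) (W : Submodule F V) (hW : Inv x W) : Even (finrank F W) := by
  classical
  have hW' : ∀ v ∈ W, x v ∈ W := hW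
  have hz : (x.restrict hW') * (x.restrict hW') = -1 := by
    apply LinearMap.ext
    intro y
    apply Subtype.ext
    have h1 := sq_neg_one_apply hx y.1
    rw [Module.End.mul_apply, LinearMap.coe_restrict_apply, LinearMap.coe_restrict_apply, h1]
    simp
  let b := Module.finBasis F W
  obtain ⟨Z, hZdef⟩ : ∃ Z, Z = LinearMap.toMatrix b b (x.restrict hW') := ⟨_, rfl⟩
  have hZZ : Z * Z = -1 := by
    rw [hZdef, ← LinearMap.toMatrix_mul, hz, map_neg, LinearMap.toMatrix_one]
  have hdet2 : Z.det * Z.det = (-1) ^ finrank F W := by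
    have h := congrArg Matrix.det hZZ
    rw [Matrix.det_mul, Matrix.det_neg, Matrix.det_one, mul_one, Fintype.card_fin] at h
    exact h
  by_contra hodd
  rw [Nat.not_even_iff_odd] at hodd
  rw [hodd.neg_one_pow] at hdet2
  exact hm1 ⟨Z.det, hdet2.symm⟩

/-- the plane `⟨u, x u⟩` is invariant -/
theorem inv_span_pair_of_sq_neg_one {x : V →ₗ[F] V} (hx : x * x = -1) (u : V) :
    Inv x (Submodule.span F {u, x u}) := by
  intro v hv
  obtain ⟨a, b, rfl⟩ := Submodule.mem_span_pair.mp hv
  rw [Submodule.mem_span_pair]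
  refine ⟨-b, a, ?_⟩
  rw [map_add, map_smul, map_smul, sq_neg_one_apply hx, smul_neg, neg_smul]
  abel

/-- a sum of two squares vanishes only trivially when `-1` is a non-square -/
theorem sq_add_sq_ne_zero (hm1 : ¬ IsSquare (-1 : F)) {a b : F} (ha : a ≠ 0) :
    a * a + b * b ≠ 0 := by
  intro h
  apply hm1
  refine ⟨b / a, ?_⟩
  field_simp
  linear_combination -h

/-- the inductive statement behind TYPE B (ii) -/
theorem exists_inv_isotropic_aux [Fintype F] (h2 : (2 : F) ≠ 0) (hm1 : ¬ IsSquare (-1 : F))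
    [FiniteDimensional F V] (B : LinearMap.BilinForm F V) (hS : ∀ a b, B a b = B b a)
    (x : V →ₗ[F] V) (hx : x * x = -1) (hiso : Iso B x) :
    ∀ (k : ℕ) (U : Submodule F V), Inv x U → NonDeg B U → 4 * k ≤ finrank F U →
      ∃ W : Submodule F V, W ≤ U ∧ Inv x W ∧ (∀ w ∈ W, B w w = 0) ∧ finrank F W = 2 * k := by
  have hR := Cfsg.Agent.Lib.Helper98.Os.isRefl_of_symm hS
  have hxx : ∀ v, x (x v) = -v := sq_neg_one_apply hx
  have hx4 : x ^ 4 = 1 := by
    have h : x ^ 4 = (x * x) * (x * x) := by
      rw [pow_succ, pow_succ, pow_succ, pow_one, mul_assoc]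
    rw [h, hx]
    simp
  -- `x` is skew-adjoint
  have hskew : ∀ u v, B (x u) v = - B u (x v) := by
    intro u v
    have h1 := hiso u (x v)
    rw [hxx, map_neg] at h1
    linear_combination (-1 : F) * h1
  have hself : ∀ u, B u (x u) = 0 := by
    intro u
    have h1 := hskew u u
    rw [hS (x u) u] at h1
    have h3 : (2 : F) * B u (x u) = 0 := by linear_combination h1
    rcases mul_eq_zero.mp h3 with h4 | h4
    · exact absurd h4 h2
    · exact h4
  intro k
  induction k with
  | zero =>
    intro U _ _ _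
    refine ⟨⊥, bot_le, inv_bot x, ?_, by simp⟩
    intro w hw
    rw [(Submodule.mem_bot F).mp hw]
    simp
  | succ k ih =>
    intro U hUinv hUnd hdim
    -- an isotropic vector of `U`
    obtain ⟨v, hvU, hv0, hvv'⟩ :=
      Cfsg.Agent.Lib.Helper98.Ti.exists_common_isotropic U 1 (fun _ => B) (by omega)
    have hvv : B v v = 0 := hvv' 0
    obtain ⟨w₀, hw₀U, hw₀⟩ : ∃ w₀ ∈ U, B v w₀ ≠ 0 := by
      by_contra hcon
      apply hv0
      apply hUnd v hvU
      intro t ht
      by_contra hne
      exact hcon ⟨t, ht, hne⟩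
    -- normalise the partner
    obtain ⟨w, hw⟩ : ∃ w, w = B v w₀ • w₀ + B v (x w₀) • x w₀ := ⟨_, rfl⟩
    have hwU : w ∈ U := by
      rw [hw]
      exact U.add_mem (U.smul_mem _ hw₀U) (U.smul_mem _ (hUinv _ hw₀U))
    obtain ⟨c, hc⟩ : ∃ c, c = B v w := ⟨_, rfl⟩
    have hc0 : c ≠ 0 := by
      rw [hc, hw]
      simp only [map_add, map_smul, smul_eq_mul]
      exact sq_add_sq_ne_zero hm1 hw₀
    have hvxw : B v (x w) = 0 := by
      rw [hw]
      simp only [map_add, map_smul, smul_eq_mul, hxx, map_neg]
      ring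
    have hxvw : B (x v) w = 0 := by rw [hskew, hvxw, neg_zero]
    have hxvxw : B (x v) (x w) = c := by rw [hiso, hc]
    have hxvv : B (x v) v = 0 := by rw [hS]; exact hself v
    have hxvxv : B (x v) (x v) = 0 := by rw [hiso]; exact hvv
    have hvxv : B v (x v) = 0 := hself v
    -- the two planes
    obtain ⟨P, hP⟩ : ∃ P, P = Submodule.span F {v, x v} := ⟨_, rfl⟩
    obtain ⟨P', hP'⟩ : ∃ P', P' = Submodule.span F {w, x w} := ⟨_, rfl⟩
    have hPmem : ∀ t, t ∈ P ↔ ∃ a b : F, a • v + b • x v = t := by
      intro t; rw [hP]; exact Submodule.mem_span_pair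
    have hP'mem : ∀ t, t ∈ P' ↔ ∃ a b : F, a • w + b • x w = t := by
      intro t; rw [hP']; exact Submodule.mem_span_pair
    have hPU : P ≤ U := by
      rw [hP, Submodule.span_le]
      intro t ht
      rcases ht with rfl | ht
      · exact hvU
      · rw [Set.mem_singleton_iff] at ht
        rw [ht]
        exact hUinv v hvU
    have hP'U : P' ≤ U := by
      rw [hP', Submodule.span_le]
      intro t ht
      rcases ht with rfl | ht
      · exact hwU
      · rw [Set.mem_singleton_iff] at ht
        rw [ht]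
        exact hUinv w hwU
    have hPinv : Inv x P := by rw [hP]; exact inv_span_pair_of_sq_neg_one hx v
    have hP'inv : Inv x P' := by rw [hP']; exact inv_span_pair_of_sq_neg_one hx w
    have hPiso : ∀ t ∈ P, ∀ t' ∈ P, B t t' = 0 := by
      intro t ht t' ht'
      obtain ⟨a, b, rfl⟩ := (hPmem t).mp ht
      obtain ⟨a', b', rfl⟩ := (hPmem t').mp ht'
      simp only [map_add, map_smul, LinearMap.add_apply, LinearMap.smul_apply, smul_eq_mul, hvv,
        hvxv, hxvv, hxvxv]
      ring
    have hli : LinearIndependent F ![v, x v] := by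
      rw [LinearIndependent.pair_iff]
      intro s t hst
      have h1 : B (s • v + t • x v) w = 0 := by rw [hst]; simp
      have h1' : B (s • v + t • x v) (x w) = 0 := by rw [hst]; simp
      simp only [map_add, map_smul, LinearMap.add_apply, LinearMap.smul_apply, smul_eq_mul,
        hxvw, ← hc, hvxw, hxvxw] at h1 h1'
      constructor
      · rcases mul_eq_zero.mp (by linear_combination h1 : s * c = 0) with h | h
        · exact h
        · exact absurd h hc0
      · rcases mul_eq_zero.mp (by linear_combination h1' : t * c = 0) with h | h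
        · exact h
        · exact absurd h hc0
    have hPdim : finrank F P = 2 := by
      have h1 := finrank_span_eq_card hli
      rw [Fintype.card_fin, Matrix.range_cons_cons_empty] at h1
      rw [hP]
      exact h1
    have hP'dim : finrank F P' ≤ 2 := by
      classical
      have h0 : P' = Submodule.span F (↑({w, x w} : Finset V) : Set V) := by
        rw [hP']
        congr 1
        simp
      rw [h0]
      exact (finrank_span_finset_le_card ({w, x w} : Finset V)).trans Finset.card_le_two
    -- the 4-space `H = P ⊔ P'`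
    have hHU : P ⊔ P' ≤ U := sup_le hPU hP'U
    have hHinv : Inv x (P ⊔ P') := hPinv.sup hP'inv
    have hHnd : NonDeg B (P ⊔ P') := by
      intro h hh hh'
      obtain ⟨p, hp, p', hp', rfl⟩ := Submodule.mem_sup.mp hh
      obtain ⟨α, β, rfl⟩ := (hPmem p).mp hp
      obtain ⟨γ, δ, rfl⟩ := (hP'mem p').mp hp'
      have hvH : v ∈ P ⊔ P' := Submodule.mem_sup_left ((hPmem v).mpr ⟨1, 0, by simp⟩)
      have hxvH : x v ∈ P ⊔ P' := Submodule.mem_sup_left ((hPmem _).mpr ⟨0, 1, by simp⟩)
      have hwH : w ∈ P ⊔ P' := Submodule.mem_sup_right ((hP'mem w).mpr ⟨1, 0, by simp⟩)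
      have hxwH : x w ∈ P ⊔ P' := Submodule.mem_sup_right ((hP'mem _).mpr ⟨0, 1, by simp⟩)
      have e1 := hh' v hvH
      have e2 := hh' (x v) hxvH
      have e3 := hh' w hwH
      have e4 := hh' (x w) hxwH
      have hwv : B w v = c := by rw [hS, hc]
      have hxwv : B (x w) v = 0 := by rw [hS]; exact hvxw
      have hwxv : B w (x v) = 0 := by rw [hS]; exact hxvw
      have hxwxv : B (x w) (x v) = c := by rw [hS]; exact hxvxw
      have hwxw : B w (x w) = 0 := hself w
      have hxww : B (x w) w = 0 := by rw [hS]; exact hself w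
      have hxwxw : B (x w) (x w) = B w w := hiso w w
      simp only [map_add, map_smul, LinearMap.add_apply, LinearMap.smul_apply, smul_eq_mul, hvv,
        hvxv, hxvv, hxvxv, hwv, hxwv, hwxv, hxwxv, ← hc, hvxw, hxvw, hxvxw, hwxw, hxww, hxwxw]
        at e1 e2 e3 e4
      have hγ : γ = 0 := by
        rcases mul_eq_zero.mp (by linear_combination e1 : γ * c = 0) with h | h
        · exact h
        · exact absurd h hc0
      have hδ : δ = 0 := by
        rcases mul_eq_zero.mp (by linear_combination e2 : δ * c = 0) with h | h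
        · exact h
        · exact absurd h hc0
      subst hγ hδ
      have hα : α = 0 := by
        rcases mul_eq_zero.mp (by linear_combination e3 : α * c = 0) with h | h
        · exact h
        · exact absurd h hc0
      have hβ : β = 0 := by
        rcases mul_eq_zero.mp (by linear_combination e4 : β * c = 0) with h | h
        · exact h
        · exact absurd h hc0
      subst hα hβ
      simp
    have hHdim : finrank F ↥(P ⊔ P') ≤ 4 := by
      have h1 := Submodule.finrank_add_le_finrank_add_finrank P P'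
      omega
    obtain ⟨hsup, hinf, hU'nd, hU'dim⟩ :=
      Cfsg.Agent.Lib.Helper98.Os.compl_props hR (P ⊔ P') U hHnd hHU hUnd
    have hU'inv : Inv x (B.orthogonal (P ⊔ P') ⊓ U) :=
      (inv_orth 4 (by norm_num) x hx4 hiso (P ⊔ P') hHinv).inf hUinv
    obtain ⟨W', hW'U, hW'inv, hW'iso, hW'dim⟩ := ih _ hU'inv hU'nd (by omega)
    have hW'orth : ∀ p ∈ P, ∀ t ∈ W', B p t = 0 := by
      intro p hp t ht
      have h1 := (Submodule.mem_inf.mp (hW'U ht)).1
      exact LinearMap.BilinForm.mem_orthogonal_iff.mp h1 p (Submodule.mem_sup_left hp)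
    refine ⟨P ⊔ W', sup_le hPU (hW'U.trans inf_le_right), hPinv.sup hW'inv, ?_, ?_⟩
    · intro t ht
      obtain ⟨p, hp, t', ht', rfl⟩ := Submodule.mem_sup.mp ht
      simp only [map_add, LinearMap.add_apply]
      rw [hPiso p hp p hp, hW'iso t' ht', hW'orth p hp t' ht', hS t' p, hW'orth p hp t' ht']
      ring
    · have hdisj : P ⊓ W' = ⊥ := by
        rw [eq_bot_iff, ← hinf]
        exact inf_le_inf le_sup_left hW'U
      have h := Submodule.finrank_sup_add_finrank_inf_eq P W'
      rw [hdisj, finrank_bot, hPdim, hW'dim] at h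
      omega

/-- **TYPE B (ii)**, bilinear version: `-1` a non-square, `2 ≠ 0`, `x` an isometry of the nondegenerate symmetric form `B` on a
space of dimension `2 d`, `x * x = -1`: for every `k` with `2 * k ≤ d` there is an invariant totally isotropic subspace of
dimension `2 * k`. -/
theorem exists_inv_isotropic_of_sq_neg_one [Fintype F] (h2 : (2 : F) ≠ 0) (hm1 : ¬ IsSquare (-1 : F))
    [FiniteDimensional F V] (B : LinearMap.BilinForm F V) (hS : ∀ a b, B a b = B b a) (hV : NonDeg B ⊤)
    (x : V →ₗ[F] V) (hx : x * x = -1) (hiso : Iso B x) (d : ℕ) (hd : finrank F V = 2 * d)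
    (k : ℕ) (hk : 2 * k ≤ d) :
    ∃ W : Submodule F V, Inv x W ∧ (∀ w ∈ W, B w w = 0) ∧ Ort B W W ∧ finrank F W = 2 * k := by
  obtain ⟨W, -, hWinv, hWiso, hWdim⟩ := exists_inv_isotropic_aux h2 hm1 B hS x hx hiso k ⊤
    (fun v _ => Submodule.mem_top) hV (by rw [finrank_top, hd]; omega)
  refine ⟨W, hWinv, hWiso, ?_, hWdim⟩
  intro a ha b hb
  have h1 := hWiso (a + b) (W.add_mem ha hb)
  simp only [map_add, LinearMap.add_apply] at h1
  rw [hWiso a ha, hWiso b hb, hS b a] at h1
  have h3 : (2 : F) * B a b = 0 := by linear_combination h1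
  rcases mul_eq_zero.mp h3 with h4 | h4
  · exact absurd h4 h2
  · exact h4

/-- **TYPE B (ii)**, quadratic form version (vocabulary of `Helper99.OTsDefs`). -/
theorem exists_inv_ts_of_sq_neg_one [Fintype F] (h2 : (2 : F) ≠ 0) (hm1 : ¬ IsSquare (-1 : F))
    [FiniteDimensional F V] (Q : QuadraticForm F V) (hV : NonDeg (QuadraticMap.polarBilin Q) ⊤)
    (x : V →ₗ[F] V) (hx : x * x = -1) (hiso : QIso Q x) (d : ℕ) (hd : finrank F V = 2 * d)
    (k : ℕ) (hk : 2 * k ≤ d) :
    ∃ W : Submodule F V, Inv x W ∧ TS Q W ∧ finrank F W = 2 * k := by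
  obtain ⟨W, hWinv, hWiso, -, hWdim⟩ := exists_inv_isotropic_of_sq_neg_one h2 hm1
    (QuadraticMap.polarBilin Q) (polarBilin_symm Q) hV x hx hiso.iso d hd k hk
  refine ⟨W, hWinv, ?_, hWdim⟩
  intro w hw
  have h1 : QuadraticMap.polar Q w w = 0 := hWiso w hw
  rw [QuadraticMap.polar_self, two_nsmul] at h1
  have h3 : (2 : F) * Q w = 0 := by linear_combination h1
  rcases mul_eq_zero.mp h3 with h4 | h4
  · exact absurd h4 h2
  · exact h4

/-- **TYPE B (i)** in the quadratic vocabulary: no invariant subspace of odd dimension. -/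
theorem not_inv_of_odd_of_sq_neg_one (hm1 : ¬ IsSquare (-1 : F)) [FiniteDimensional F V]
    (x : V →ₗ[F] V) (hx : x * x = -1) (m : ℕ) (hm : Odd m) (W : Submodule F V) (hW : Inv x W) :
    finrank F W ≠ m := by
  intro h
  have := even_finrank_of_inv_of_sq_neg_one hm1 x hx W hW
  rw [h] at this
  exact (Nat.not_even_iff_odd.mpr hm) this

end Cfsg.Agent.Lib.Helper61.OTs
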