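import Mathlib
import Cfsg.Agent.S0215
import Cfsg.Agent.Lib.Helper61.InvAut

set_option autoImplicit false
set_option linter.unusedSectionVars false
set_option linter.unusedVariables false

/-!
# Classes of involutions whose pairwise products have odd prime power order
-/

namespace Cfsg.Agent.Lib.Helper61.OddProd

open Cfsg.Agent.Lib.Helper61.InvAut

variable {G : Type*} [Group G] [Finite G]

theorem commutator_isPGroup (p : ℕ) (hp : p.Prime) (hodd : p ≠ 2) {D : Set G}
    (hinv : ∀ d ∈ D, orderOf d = 2) (hconj : ∃ d ∈ D, D = conjugatesOf d)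
    (hgen : Subgroup.closure D = ⊤)
    (hprod : ∀ x ∈ D, ∀ y ∈ D, x ≠ y → ∃ k : ℕ, orderOf (x * y) = p ^ k) :
    IsPGroup p ↥(commutator G) := by
  classical
  have : Fact p.Prime := ⟨hp⟩
  obtain ⟨d, hdD, hD⟩ := hconj
  have hd2 : orderOf d = 2 := hinv d hdD
  have hdd : d * d = 1 := by
    have := pow_orderOf_eq_one d
    rwa [hd2, pow_two] at this
  have hdinv : d⁻¹ = d := inv_eq_of_mul_eq_one_left hdd
  have hconjD : ∀ g : G, g * d * g⁻¹ ∈ D := by
    intro g
    rw [hD]
    change IsConj d _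
    rw [isConj_iff]
    exact ⟨g, rfl⟩
  have hDconj : ∀ y ∈ D, ∃ g : G, y = g * d * g⁻¹ := by
    intro y hy
    rw [hD] at hy
    change IsConj d y at hy
    rw [isConj_iff] at hy
    obtain ⟨g, hg⟩ := hy
    exact ⟨g, hg.symm⟩
  have hy2 : ∀ y ∈ D, y * y = 1 := by
    intro y hy
    have := pow_orderOf_eq_one y
    rwa [hinv y hy, pow_two] at this
  -- a Sylow 2-subgroup containing d
  have : Fact (Nat.Prime 2) := ⟨Nat.prime_two⟩
  have hz2 : IsPGroup 2 (Subgroup.zpowers d) := by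
    rw [IsPGroup.iff_card]
    refine ⟨1, ?_⟩
    rw [Nat.card_zpowers, hd2, pow_one]
  obtain ⟨S, hS⟩ := hz2.exists_le_sylow
  have hdS : d ∈ S := hS (Subgroup.mem_zpowers d)
  -- isolation
  have hiso : ∀ g : G, g * d * g⁻¹ ∈ S → g * d * g⁻¹ = d := by
    intro g hg
    by_contra hne
    obtain ⟨k, hk⟩ := hprod d hdD _ (hconjD g) (Ne.symm hne)
    have hmem : d * (g * d * g⁻¹) ∈ (S : Subgroup G) := S.mul_mem hdS hg
    obtain ⟨j, hj⟩ := (IsPGroup.iff_orderOf.mp S.isPGroup') ⟨_, hmem⟩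
    rw [Subgroup.orderOf_mk, hk] at hj
    have hk0 : k = 0 := by
      by_contra hk0
      have h1 : p ∣ 2 ^ j := by rw [← hj]; exact dvd_pow_self p hk0
      have h2 : p ∣ 2 := hp.dvd_of_dvd_pow h1
      exact hodd ((Nat.prime_dvd_prime_iff_eq hp Nat.prime_two).mp h2)
    rw [hk0, pow_zero, orderOf_eq_one_iff] at hk
    apply hne
    have : g * d * g⁻¹ = d⁻¹ := (inv_eq_of_mul_eq_one_right hk).symm
    rw [this, hdinv]
  -- Z*
  obtain ⟨N, hNn, hNodd, hNc⟩ := Cfsg.Agent.S0215.result S d hd2 hdS hiso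
  have := hNn
  have hdy : ∀ y ∈ D, d * y ∈ N := by
    intro y hy
    obtain ⟨g, rfl⟩ := hDconj y hy
    have := hNc g
    rw [hdinv] at this
    have h2 : d * (g * d * g⁻¹) = d * g * d * g⁻¹ := by group
    rw [h2]; exact this
  -- the involutive automorphism of N
  let τ : MulAut N := MulAut.conjNormal d
  have hτ : ∀ k : N, τ (τ k) = k := by
    intro k
    apply Subtype.ext
    rw [MulAut.conjNormal_apply, MulAut.conjNormal_apply, hdinv]
    calc d * (d * (k : G) * d) * d = (d * d) * (k : G) * (d * d) := by group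
      _ = (k : G) := by rw [hdd, one_mul, mul_one]
  have hoddN : ∀ k : N, Odd (orderOf k) := fun k =>
    Odd.of_dvd_nat hNodd (orderOf_dvd_natCard k)
  -- inverted elements are p-elements
  have hI : ∀ i : N, τ i = i⁻¹ → ∃ j : ℕ, orderOf i = p ^ j := by
    intro i hi
    have hi' : d * (i : G) * d = (i : G)⁻¹ := by
      have := congrArg (fun k : N => (k : G)) hi
      simp only [τ, MulAut.conjNormal_apply, Subgroup.coe_inv, hdinv] at this
      exact this
    -- y = i⁻¹ d i, d * y = i²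
    have hyD : (i : G)⁻¹ * d * ((i : G)⁻¹)⁻¹ ∈ D := hconjD _
    have hdy2 : d * ((i : G)⁻¹ * d * ((i : G)⁻¹)⁻¹) = (i : G) * (i : G) := by
      have h1 : d * ((i : G)⁻¹ * d * ((i : G)⁻¹)⁻¹) = (d * (i : G)⁻¹ * d) * (i : G) := by group
      have h2 : d * (i : G)⁻¹ * d = (i : G) := by
        have := congrArg (fun x => x⁻¹) hi'
        simp only [mul_inv_rev, inv_inv, hdinv] at this
        rw [← mul_assoc] at this
        exact this
      rw [h1, h2]
    by_cases hyd : (i : G)⁻¹ * d * ((i : G)⁻¹)⁻¹ = d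
    · -- then i² = 1, so i = 1
      rw [hyd, hdd] at hdy2
      have h1 : i ^ 2 = 1 := by
        apply Subtype.ext
        rw [Subgroup.coe_pow, pow_two, ← hdy2, Subgroup.coe_one]
      have h2 : orderOf i ∣ 2 := orderOf_dvd_of_pow_eq_one h1
      have h3 : orderOf i = 1 := by
        have := hoddN i
        rcases (Nat.dvd_prime Nat.prime_two).mp h2 with h | h
        · exact h
        · rw [h] at this; exact absurd this (by decide)
      exact ⟨0, by rw [h3, pow_zero]⟩
    · obtain ⟨k, hk⟩ := hprod d hdD _ hyD (Ne.symm hyd)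
      rw [hdy2, ← pow_two] at hk
      refine ⟨k, ?_⟩
      have hcop : (orderOf (i : G)).Coprime 2 := by
        rw [Subgroup.orderOf_coe]
        exact (hoddN i).coprime_two_right
      rw [← Subgroup.orderOf_coe, ← hcop.orderOf_pow]
      exact hk
  obtain ⟨P, hP⟩ := exists_sylow_contains_inverted τ hτ hNodd p hI
  -- the image of P in G
  let P' : Subgroup G := (P : Subgroup N).map N.subtype
  have hP' : IsPGroup p P' := P.isPGroup'.map N.subtype
  have hdyP : ∀ y ∈ D, d * y ∈ P' := by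
    intro y hy
    have hmem := hdy y hy
    refine ⟨⟨d * y, hmem⟩, ?_, rfl⟩
    apply hP
    apply Subtype.ext
    simp only [τ, MulAut.conjNormal_apply, Subgroup.coe_inv, hdinv]
    have h1 : y⁻¹ = y := inv_eq_of_mul_eq_one_left (hy2 y hy)
    rw [mul_inv_rev, h1, hdinv]
    calc d * (d * y) * d = (d * d) * y * d := by group
      _ = y * d := by rw [hdd, one_mul]
  have hxyP : ∀ x ∈ D, ∀ y ∈ D, x * y ∈ P' := by
    intro x hx y hy
    have h1 : x * y = (d * x)⁻¹ * (d * y) := by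
      have hx1 : x⁻¹ = x := inv_eq_of_mul_eq_one_left (hy2 x hx)
      rw [mul_inv_rev, hx1, hdinv]
      calc x * y = x * (d * d) * y := by rw [hdd, mul_one]
        _ = x * d * (d * y) := by group
    rw [h1]
    exact P'.mul_mem (P'.inv_mem (hdyP x hx)) (hdyP y hy)
  -- the normal closure of the products d * y
  let M₀ : Subgroup G := Subgroup.normalClosure {z | ∃ y ∈ D, z = d * y}
  have hM₀P : M₀ ≤ P' := by
    change Subgroup.closure (Group.conjugatesOfSet _) ≤ P'
    rw [Subgroup.closure_le]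
    intro z hz
    rw [Group.mem_conjugatesOfSet_iff] at hz
    obtain ⟨w, ⟨y, hy, rfl⟩, hwz⟩ := hz
    rw [isConj_iff] at hwz
    obtain ⟨g, rfl⟩ := hwz
    obtain ⟨h, rfl⟩ := hDconj y hy
    have : g * (d * (h * d * h⁻¹)) * g⁻¹ = (g * d * g⁻¹) * ((g * h) * d * (g * h)⁻¹) := by group
    rw [SetLike.mem_coe, this]
    exact hxyP _ (hconjD g) _ (hconjD (g * h))
  -- G / M₀ is cyclic, generated by the image of d
  have hquot : ∀ g : G, ∃ n : ℤ, (g : G ⧸ M₀) = ((d : G ⧸ M₀)) ^ n := by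
    intro g
    have hg : g ∈ Subgroup.closure D := by rw [hgen]; exact Subgroup.mem_top g
    induction hg using Subgroup.closure_induction with
    | mem y hy =>
      refine ⟨1, ?_⟩
      rw [zpow_one]
      have h1 : d * y ∈ M₀ := Subgroup.subset_normalClosure ⟨y, hy, rfl⟩
      have h2 : ((d * y : G) : G ⧸ M₀) = 1 := (QuotientGroup.eq_one_iff _).mpr h1
      have h3 : ((d : G) : G ⧸ M₀) * ((d : G) : G ⧸ M₀) = 1 := by
        rw [← QuotientGroup.mk_mul, hdd, QuotientGroup.mk_one]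
      rw [QuotientGroup.mk_mul] at h2
      calc (y : G ⧸ M₀) = ((d : G ⧸ M₀) * (d : G ⧸ M₀)) * (y : G ⧸ M₀) := by rw [h3, one_mul]
        _ = (d : G ⧸ M₀) * ((d : G ⧸ M₀) * (y : G ⧸ M₀)) := by rw [mul_assoc]
        _ = (d : G ⧸ M₀) := by rw [h2, mul_one]
    | one => exact ⟨0, by rw [zpow_zero, QuotientGroup.mk_one]⟩
    | mul a b _ _ ha hb =>
      obtain ⟨n, hn⟩ := ha
      obtain ⟨m, hm⟩ := hb
      exact ⟨n + m, by rw [QuotientGroup.mk_mul, hn, hm, zpow_add]⟩
    | inv a _ ha =>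
      obtain ⟨n, hn⟩ := ha
      exact ⟨-n, by rw [QuotientGroup.mk_inv, hn, zpow_neg]⟩
  have hcomm : commutator G ≤ M₀ := by
    rw [commutator_def, Subgroup.commutator_le]
    intro g₁ _ g₂ _
    rw [← QuotientGroup.eq_one_iff, commutatorElement_def, QuotientGroup.mk_mul,
      QuotientGroup.mk_mul, QuotientGroup.mk_mul, QuotientGroup.mk_inv, QuotientGroup.mk_inv]
    obtain ⟨n, hn⟩ := hquot g₁
    obtain ⟨m, hm⟩ := hquot g₂
    rw [hn, hm, ← zpow_neg, ← zpow_neg, ← zpow_add, ← zpow_add, ← zpow_add]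
    have : n + m + -n + -m = 0 := by ring
    rw [this, zpow_zero]
  exact hP'.to_le (hcomm.trans hM₀P)

end Cfsg.Agent.Lib.Helper61.OddProd
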