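import Mathlib
import Cfsg.Prelude.Def_GeometricClasses
import Cfsg.Agent.Lib.Helper61.AschMain
import Cfsg.Agent.Lib.Helper95.Transvection
import Cfsg.Agent.Lib.Helper38.SLMaxN2
import Cfsg.Agent.Lib.Helper42.SLMaxN4
import Cfsg.Agent.Lib.Helper72.SLMaxN5
import Cfsg.Agent.Lib.Helper04.SLMaxN6
import Cfsg.Agent.Lib.Helper85.SLMaxN7
import Cfsg.Agent.Lib.Helper96.SLMaxN8ab
import Cfsg.Agent.Lib.Helper36.SLMaxN8c
import Cfsg.Agent.Lib.Helper36.SLMaxD2
import Cfsg.Agent.Lib.Helper63.SLMaxD3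
import Cfsg.Agent.Lib.Helper59.SLMaxD6a
import Cfsg.Agent.Lib.Helper44.SLMaxF1
import Cfsg.Agent.Lib.Helper44.SLMaxX1
import Cfsg.Agent.Lib.Helper43.SLMaxX2
import Cfsg.Agent.Lib.Helper43.SLMaxX3
import Cfsg.Agent.Lib.Helper40.SLMaxX4
import Cfsg.Agent.Lib.Helper18.SLMaxX5
import Cfsg.Agent.Lib.Helper41.SLMaxN3
import Cfsg.Agent.Lib.Helper97.SLMaxD6b

set_option autoImplicit false

namespace Cfsg.Agent.Lib.Helper61.SLMax

open Cfsg Cfsg.Geo
open Cfsg.Agent.Lib.Helper38.SLMax Cfsg.Agent.Lib.Helper42.SLMax Cfsg.Agent.Lib.Helper72.SLMax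
open Cfsg.Agent.Lib.Helper04.SLMax Cfsg.Agent.Lib.Helper85.SLMax Cfsg.Agent.Lib.Helper96.SLMax
open Cfsg.Agent.Lib.Helper36.SLMax Cfsg.Agent.Lib.Helper63.SLMax Cfsg.Agent.Lib.Helper59.SLMax
open Cfsg.Agent.Lib.Helper44.SLMax Cfsg.Agent.Lib.Helper43.SLMax Cfsg.Agent.Lib.Helper40.SLMax
open Cfsg.Agent.Lib.Helper18.SLMax
open scoped Matrix Kronecker MatrixGroups

variable {F : Type*} [Field F] [Fintype F] {n : ℕ}

local notation "V" => (Fin n → F)
local notation "Mat" => Matrix (Fin n) (Fin n) F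
local notation "SL" => specialLinear (Fin n) F

theorem eq_inf_of_le {H M : Subgroup (GL (Fin n) F)} (hH : IsMaximalIn SL H) (hHM : H ≤ M)
    (hM : ¬ SL ≤ M) : H = M ⊓ SL := by
  rcases hH.2 (M ⊓ SL) (le_inf hHM hH.1.le) inf_le_right with h | h
  · exact h.symm
  · exfalso
    apply hM
    rw [← h]
    exact inf_le_left

theorem sl_not_le_subspaceStabilizer (W : Submodule F V) (hW0 : W ≠ ⊥) (hW1 : W ≠ ⊤) :
    ¬ SL ≤ subspaceStabilizer W := by
  intro h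
  obtain ⟨g, hg, hgW⟩ := Cfsg.Agent.Lib.Helper95.exists_specialLinear_not_stabilizing W hW0 hW1
  exact hgW (h hg)

theorem card_ne_six : Fintype.card F ≠ 6 := by
  intro h
  have h6 : IsPrimePow (Fintype.card F) := FiniteField.isPrimePow_card F
  rw [h] at h6
  exact absurd h6 (by decide)

theorem two_le_card : 2 ≤ Fintype.card F := Fintype.one_lt_card

/-- The refined list of cases for a maximal subgroup of `SL_n(F)`, `n ≥ 3`. -/
theorem refined (hn : 3 ≤ n) (H : Subgroup (GL (Fin n) F)) (hH : IsMaximalIn SL H) :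
    (∃ W : Submodule F V, W ≠ ⊥ ∧ W ≠ ⊤ ∧ H = subspaceStabilizer W ⊓ SL) ∨
    (∃ (t m : ℕ) (D : Fin t → Submodule F V), IsMDecomposition m D ∧ t * m = n ∧
      (m = 1 → 5 ≤ Fintype.card F) ∧ (m = 2 → 3 ≤ Fintype.card F) ∧ H = decompositionStabilizer D ⊓ SL) ∨
    (∃ (r : ℕ) (K : Subalgebra F Mat), r.Prime ∧ r ∣ n ∧ IsFieldSubalgebra r K ∧ H = subalgebraNormalizer K ⊓ SL) ∨
    (∃ (n₁ n₂ : ℕ) (e : Fin n ≃ Fin n₁ × Fin n₂) (P : GL (Fin n) F), 2 ≤ n₁ ∧ n₁ < n₂ ∧ n₁ * n₂ = n ∧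
      (n₁ = 2 → 3 ≤ Fintype.card F) ∧ H = tensorProductSubgroup n₁ n₂ e P ⊓ SL) ∨
    (∃ (F₀ : Subfield F) (r : ℕ) (P : GL (Fin n) F), r.Prime ∧ Fintype.card F = Nat.card F₀ ^ r ∧
      H = subfieldSubgroup F₀ P ⊓ SL) ∨
    (∃ (r : ℕ) (R : Subgroup (GL (Fin n) F)), r.Prime ∧ r ∣ n ∧ IsLinearSymplecticTypeData r R ∧
      H = subgroupNormalizer R ⊓ SL) ∨
    (∃ (m t : ℕ) (e : Fin n ≃ (Fin t → Fin m)) (P : GL (Fin n) F), 3 ≤ m ∧ 2 ≤ t ∧ m ^ t = n ∧
      H = tensorWreathSubgroup m t e P ⊓ SL) ∨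
    (Even n ∧ ∃ f : V → V → F, IsSymplecticForm f ∧ H = similarityGroup f ⊓ SL) ∨
    (∃ (σ : F ≃+* F) (f : V → V → F), IsUnitaryForm σ f ∧ H = similarityGroup f ⊓ SL) ∨
    (Odd (Fintype.card F) ∧ ∃ Q : V → F, IsNondegenerateQuadraticForm Q ∧ H = quadSimilarityGroup Q ⊓ SL) ∨
    InLinearResidualClass H := by
  rcases Cfsg.Agent.Lib.Helper61.Asch.aschbacher_linear hn H with ⟨M, hM, hHM⟩ | hres
  swap
  · exact Or.inr (Or.inr (Or.inr (Or.inr (Or.inr (Or.inr (Or.inr (Or.inr (Or.inr (Or.inr hres)))))))))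
  -- the three targets used by the small-field exceptions
  have toC1 : ∀ W : Submodule F V, W ≠ ⊥ → W ≠ ⊤ → H ≤ subspaceStabilizer W →
      ∃ W : Submodule F V, W ≠ ⊥ ∧ W ≠ ⊤ ∧ H = subspaceStabilizer W ⊓ SL := fun W h0 h1 hle =>
    ⟨W, h0, h1, eq_inf_of_le hH hle (sl_not_le_subspaceStabilizer W h0 h1)⟩
  have toSp : ∀ f : V → V → F, IsSymplecticForm f → H ≤ similarityGroup f → H = similarityGroup f ⊓ SL :=
    fun f hf hle => eq_inf_of_le hH hle (sl_not_le_similarityGroup_symplectic hn f hf)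
  have toU : ∀ (σ : F ≃+* F) (f : V → V → F), IsUnitaryForm σ f → H ≤ similarityGroup f →
      H = similarityGroup f ⊓ SL :=
    fun σ f hf hle => eq_inf_of_le hH hle (sl_not_le_similarityGroup_unitary hn σ f hf)
  have toQ : ∀ Q : V → F, IsNondegenerateQuadraticForm Q → H ≤ quadSimilarityGroup Q →
      H = quadSimilarityGroup Q ⊓ SL :=
    fun Q hQ hle => eq_inf_of_le hH hle (sl_not_le_quadSimilarityGroup hn Q hQ)
  have toC3 : ∀ (r : ℕ) (K : Subalgebra F Mat), 2 ≤ r → IsFieldSubalgebra r K → H ≤ subalgebraNormalizer K →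
      H = subalgebraNormalizer K ⊓ SL :=
    fun r K hr hK hle => eq_inf_of_le hH hle (Cfsg.Agent.Lib.Helper41.SLMax.sl_not_le_subalgebraNormalizer hn hr K hK)
  rcases hM with ⟨W, h0, h1, rfl⟩ | ⟨W, U, h0, hWU, _, rfl⟩ | ⟨W, U, h0, hWU, hsup, hlt, rfl⟩ |
    ⟨t, m, D, hD, rfl⟩ | ⟨r, K, hr, hK, rfl⟩ | ⟨n₁, n₂, e, P, h1, h2, rfl⟩ | ⟨F₀, r, P, hr, hF, rfl⟩ |
    ⟨r, R, hR, rfl⟩ | ⟨m, t, e, P, hm, ht, rfl⟩ | ⟨f, hf, hev, _, rfl⟩ | ⟨σ, f, hf, _, rfl⟩ |
    ⟨Q, hQ, hodd, _, rfl⟩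
  · exact Or.inl (toC1 W h0 h1 hHM)
  · refine Or.inl (toC1 W h0 ?_ (hHM.trans inf_le_left))
    rintro rfl
    exact absurd hWU (not_lt_of_ge le_top)
  · refine Or.inl (toC1 W h0 ?_ (hHM.trans inf_le_left))
    rintro rfl
    have := Submodule.finrank_le U
    rw [finrank_top] at hlt
    omega
  · -- class 2
    have htm : t * m = n := mul_eq_of_isMDecomposition D hD
    by_cases hm1 : m = 1
    · subst hm1
      by_cases hq : 5 ≤ Fintype.card F
      · exact Or.inr (Or.inl ⟨t, 1, D, hD, htm, fun _ => hq, fun h => absurd h (by norm_num),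
          eq_inf_of_le hH hHM (sl_not_le_decompositionStabilizer D hD)⟩)
      · have h2 := two_le_card (F := F)
        have hcases : Fintype.card F = 2 ∨ Fintype.card F = 3 ∨ Fintype.card F = 4 := by omega
        rcases hcases with hq | hq | hq
        · obtain ⟨W, h0, h1, hle⟩ := lines_le_subspaceStabilizer_of_card_two hq D hD
          exact Or.inl (toC1 W h0 h1 (hHM.trans hle))
        · obtain ⟨Q, hQ, hle⟩ := lines_le_quadSimilarityGroup_of_card_three hq D hD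
          refine Or.inr (Or.inr (Or.inr (Or.inr (Or.inr (Or.inr (Or.inr (Or.inr (Or.inr (Or.inl
            ⟨?_, Q, hQ, toQ Q hQ (hHM.trans hle)⟩)))))))))
          rw [hq]; decide
        · obtain ⟨σ, f, hf, hle⟩ := lines_le_similarityGroup_of_card_four hq D hD
          exact Or.inr (Or.inr (Or.inr (Or.inr (Or.inr (Or.inr (Or.inr (Or.inr (Or.inl
            ⟨σ, f, hf, toU σ f hf (hHM.trans hle)⟩))))))))
    · by_cases hm2 : m = 2
      · subst hm2
        by_cases hq : 3 ≤ Fintype.card F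
        · exact Or.inr (Or.inl ⟨t, 2, D, hD, htm, fun h => absurd h (by norm_num), fun _ => hq,
            eq_inf_of_le hH hHM (sl_not_le_decompositionStabilizer D hD)⟩)
        · have h2 := two_le_card (F := F)
          have hq : Fintype.card F = 2 := by omega
          obtain ⟨f, hf, hle⟩ := planes_le_similarityGroup_of_card_two hq D hD
          exact Or.inr (Or.inr (Or.inr (Or.inr (Or.inr (Or.inr (Or.inr (Or.inl
            ⟨⟨t, by omega⟩, f, hf, toSp f hf (hHM.trans hle)⟩)))))))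
      · exact Or.inr (Or.inl ⟨t, m, D, hD, htm, fun h => absurd h hm1, fun h => absurd h hm2,
          eq_inf_of_le hH hHM (sl_not_le_decompositionStabilizer D hD)⟩)
  · -- class 3
    exact Or.inr (Or.inr (Or.inl ⟨r, K, hr, dvd_of_isFieldSubalgebra K hK, hK,
      toC3 r K hr.two_le hK hHM⟩))
  · -- class 4
    have hnn : n₁ * n₂ = n := by
      have := Fintype.card_congr e
      simp only [Fintype.card_fin, Fintype.card_prod] at this
      exact this.symm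
    by_cases hcase : n₁ = 2 ∧ Fintype.card F = 2
    · obtain ⟨rfl, hq⟩ := hcase
      obtain ⟨K, hK, hle⟩ := tensorProductSubgroup_two_le_of_card_two hq (by omega) e P
      exact Or.inr (Or.inr (Or.inl ⟨2, K, Nat.prime_two, ⟨n₂, hnn.symm⟩, hK,
        toC3 2 K le_rfl hK (hHM.trans hle)⟩))
    · refine Or.inr (Or.inr (Or.inr (Or.inl ⟨n₁, n₂, e, P, h1, h2, hnn, ?_,
        eq_inf_of_le hH hHM (sl_not_le_tensorProductSubgroup h1 (by omega) e P)⟩)))
      intro h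
      have h2 := two_le_card (F := F)
      by_contra hlt
      exact hcase ⟨h, by omega⟩
  · -- class 5
    exact Or.inr (Or.inr (Or.inr (Or.inr (Or.inl ⟨F₀, r, P, hr, hF,
      eq_inf_of_le hH hHM (sl_not_le_subfieldSubgroup (by omega) F₀ r hr hF P)⟩))))
  · -- class 6
    exact Or.inr (Or.inr (Or.inr (Or.inr (Or.inr (Or.inl ⟨r, R, hR.symplecticType.prime,
      dvd_of_isLinearSymplecticTypeData (by omega) R hR, hR,
      eq_inf_of_le hH hHM (sl_not_le_subgroupNormalizer hn R hR)⟩)))))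
  · -- class 7
    have hnn : m ^ t = n := by
      have := Fintype.card_congr e
      simp only [Fintype.card_fin, Fintype.card_pi, Finset.prod_const, Finset.card_univ] at this
      exact this.symm
    exact Or.inr (Or.inr (Or.inr (Or.inr (Or.inr (Or.inr (Or.inl ⟨m, t, e, P, hm, ht, hnn,
      eq_inf_of_le hH hHM (sl_not_le_tensorWreathSubgroup (by omega) ht e P)⟩))))))
  · exact Or.inr (Or.inr (Or.inr (Or.inr (Or.inr (Or.inr (Or.inr (Or.inl
      ⟨hev, f, hf, toSp f hf hHM⟩)))))))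
  · exact Or.inr (Or.inr (Or.inr (Or.inr (Or.inr (Or.inr (Or.inr (Or.inr (Or.inl
      ⟨σ, f, hf, toU σ f hf hHM⟩))))))))
  · exact Or.inr (Or.inr (Or.inr (Or.inr (Or.inr (Or.inr (Or.inr (Or.inr (Or.inr (Or.inl
      ⟨hodd, Q, hQ, toQ Q hQ hHM⟩)))))))))

/-! ## Arithmetic of the parameters -/

theorem c6_field_two (hn : 3 ≤ n) (R : Subgroup (GL (Fin n) F)) (hR : IsLinearSymplecticTypeData 2 R) :
    ∃ p : ℕ, p.Prime ∧ Fintype.card F = p ∧ p % 4 = 1 := by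
  obtain ⟨p, e, _, hmin, h | h | h⟩ := hR.field
  · exact absurd h.1 (by decide)
  · obtain ⟨_, he, hZ, _, _⟩ := h
    obtain ⟨hp, _, hcard, hdvd, _⟩ := hmin
    subst he
    rw [hZ, pow_one] at hdvd
    rw [pow_one] at hcard
    refine ⟨p, hp, hcard, ?_⟩
    have := hp.two_le
    omega
  · have := h.2.2.1
    simp only [Fintype.card_fin] at this
    omega

theorem c6_field_odd {r : ℕ} (hr2 : r ≠ 2) (R : Subgroup (GL (Fin n) F)) (hR : IsLinearSymplecticTypeData r R) :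
    ∃ p e : ℕ, p.Prime ∧ CharP F p ∧ Fintype.card F = p ^ e ∧ Odd e ∧ e ∣ r - 1 ∧ p ^ e % r = 1 ∧
      ∀ d : ℕ, 0 < d → d < e → p ^ d % r ≠ 1 := by
  obtain ⟨p, e, hrp, hmin, h | h | h⟩ := hR.field
  · obtain ⟨_, he, hZ, _⟩ := h
    rw [hZ] at hmin
    obtain ⟨h1, h2, h3, _, h5, h6, h7⟩ := minimalField_arith hR.symplecticType.prime hrp hmin
    exact ⟨p, e, h1, h2, h3, he, h5, h6, h7⟩
  · exact absurd h.1 hr2
  · exact absurd h.1 hr2

theorem wreath_arith {m t : ℕ} (hm : 3 ≤ m) (ht : 2 ≤ t) (h : m ^ t = n) (hn : n ≤ 12) : n = 9 ∧ m = 3 ∧ t = 2 := by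
  have h3 : 3 ^ t ≤ n := h ▸ Nat.pow_le_pow_left hm t
  have ht3 : t < 3 := by
    by_contra hge
    have : 3 ^ 3 ≤ 3 ^ t := Nat.pow_le_pow_right (by norm_num) (by omega)
    omega
  have ht2 : t = 2 := by omega
  subst ht2
  have hm4 : m < 4 := by
    by_contra hge
    have : 4 ^ 2 ≤ m ^ 2 := Nat.pow_le_pow_left (by omega) 2
    omega
  have hm3 : m = 3 := by omega
  subst hm3
  exact ⟨by omega, rfl, rfl⟩


theorem pow_of_c6 {r : ℕ} (R : Subgroup (GL (Fin n) F)) (hR : IsLinearSymplecticTypeData r R) : ∃ k : ℕ, n = r ^ k :=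
  Cfsg.Agent.Lib.Helper97.SLMax.exists_pow_eq_of_isLinearSymplecticTypeData R hR

theorem n5 (hn : 2 ≤ n) (F₀ : Subfield F) (r : ℕ) (hr : r.Prime)
    (hF : Fintype.card F = Nat.card F₀ ^ r) (P : GL (Fin n) F) : ¬ SL ≤ subfieldSubgroup F₀ P :=
  sl_not_le_subfieldSubgroup hn F₀ r hr hF P

theorem n8a (hn : 3 ≤ n) (f : V → V → F) (hf : IsSymplecticForm f) : ¬ SL ≤ similarityGroup f :=
  sl_not_le_similarityGroup_symplectic hn f hf

end Cfsg.Agent.Lib.Helper61.SLMax
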