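import Mathlib
import Cfsg.Prelude.Def_GeometricClasses
import Cfsg.Agent.Lib.Helper61.SLMaxGlue
import Cfsg.Agent.Lib.Helper39.SLMaxX6
import Cfsg.Agent.Lib.Helper90.SLMaxX7
import Cfsg.Agent.Lib.Helper66.SLMaxX8

set_option autoImplicit false

namespace Cfsg.Agent.Lib.Helper61.SLMax

open Cfsg Cfsg.Geo
open scoped Matrix Kronecker MatrixGroups

variable {F : Type*} [Field F] [Fintype F]

theorem x8 (hq : Fintype.card F = 4) (K : Subalgebra F (Matrix (Fin 3) (Fin 3) F)) (hK : IsFieldSubalgebra 3 K) :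
    ∃ (F₀ : Subfield F) (r : ℕ) (P : GL (Fin 3) F), r.Prime ∧ Fintype.card F = Nat.card F₀ ^ r ∧
      subalgebraNormalizer K ⊓ specialLinear (Fin 3) F ≤ subfieldSubgroup F₀ P :=
  Cfsg.Agent.Lib.Helper66.SLMax.fieldNormalizer_inf_sl_le_subfieldSubgroup_of_card_four hq K hK

theorem x6 (hq : Fintype.card F = 3)
    (D : Fin 2 → Submodule F (Fin 4 → F)) (hD : IsMDecomposition 2 D) :
    ∃ f : (Fin 4 → F) → (Fin 4 → F) → F, IsSymplecticForm f ∧
      decompositionStabilizer D ⊓ specialLinear (Fin 4) F ≤ similarityGroup f :=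
  Cfsg.Agent.Lib.Helper39.SLMax.planes_inf_sl_le_similarityGroup_of_card_three hq D hD

theorem x7 (hq : Fintype.card F = 5)
    (D : Fin 4 → Submodule F (Fin 4 → F)) (hD : IsMDecomposition 1 D) :
    ¬ IsMaximalIn (specialLinear (Fin 4) F) (decompositionStabilizer D ⊓ specialLinear (Fin 4) F) :=
  Cfsg.Agent.Lib.Helper90.SLMax.not_isMaximalIn_lines_of_card_five hq D hD

end Cfsg.Agent.Lib.Helper61.SLMax
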