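import Mathlib
import Cfsg.Agent.Lib.Helper72.SNCDefs

/-!
# K-SNC 8 (S4073): a finite group with transitive commuting and an abelian normal subgroup of
index `1` or a prime has no proper non-abelian normal subgroup
-/

set_option autoImplicit false

namespace Cfsg.Agent.Lib.Helper61.SNC

open Cfsg.Agent.Lib.Helper72.SNC

universe u

/-- A subgroup above `V` (of index dividing a prime) with an element outside `V` is everything. -/
theorem snc8_eq_top {K : Type u} [Group K] [Finite K] (V : Subgroup K) (r : ℕ) (hr : r.Prime)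
    (hidx : V.index ∣ r) (C : Subgroup K) (hVC : V ≤ C) (t : K) (htC : t ∈ C) (htV : t ∉ V) :
    C = ⊤ := by
  have hmul := Subgroup.relIndex_mul_index hVC
  rw [← Subgroup.index_eq_one]
  have hCdvd : C.index ∣ r := (Dvd.intro_left _ hmul).trans hidx
  rcases (Nat.dvd_prime hr).mp hCdvd with h1 | h1
  · exact h1
  · exfalso
    have hVr : V.index = r := by
      apply Nat.dvd_antisymm hidx
      rw [← h1]; exact Dvd.intro_left _ hmul
    rw [hVr, h1] at hmul
    have hrel : V.relIndex C = 1 := by
      have hrpos := hr.pos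
      have : V.relIndex C * r = 1 * r := by rw [hmul, one_mul]
      exact Nat.eq_of_mul_eq_mul_right hrpos this
    rw [Subgroup.relIndex_eq_one] at hrel
    exact htV (hrel htC)

theorem nnt_of_abelian_normal_prime_index {K : Type u} [Group K] [Finite K]
    (hCT : ∀ a b c : K, a ≠ 1 → a * b = b * a → a * c = c * a → b * c = c * b)
    (V : Subgroup K) [V.Normal] (hV : IsMulCommutative ↥V) (r : ℕ) (hr : r.Prime) (hidx : V.index ∣ r) :
    NNT K := by
  classical
  intro N hN hNc
  have hVcomm : ∀ a ∈ V, ∀ b ∈ V, a * b = b * a := by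
    intro a ha b hb
    exact congrArg Subtype.val (hV.is_comm.comm ⟨a, ha⟩ ⟨b, hb⟩)
  -- an element of N outside V
  obtain ⟨t, htN, htV⟩ : ∃ t, t ∈ N ∧ t ∉ V := by
    by_contra hcon
    push_neg at hcon
    apply hNc
    refine ⟨⟨fun a b => ?_⟩⟩
    exact Subtype.ext (hVcomm a.1 (hcon _ a.2) b.1 (hcon _ b.2))
  -- no nonidentity element of V commutes with t
  have hfree : ∀ v ∈ V, v * t = t * v → v = 1 := by
    intro v hv hvt
    by_contra hv1
    have hC : Subgroup.centralizer ({v} : Set K) = ⊤ := by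
      apply snc8_eq_top V r hr hidx _ _ t _ htV
      · intro w hw
        rw [Subgroup.mem_centralizer_iff]
        intro x hx
        rw [Set.mem_singleton_iff] at hx
        subst hx
        exact hVcomm x hv w hw
      · rw [Subgroup.mem_centralizer_iff]
        intro x hx
        rw [Set.mem_singleton_iff] at hx
        subst hx
        exact hvt
    apply hNc
    refine ⟨⟨fun a b => ?_⟩⟩
    have ha : (a : K) ∈ Subgroup.centralizer ({v} : Set K) := by rw [hC]; trivial
    have hb : (b : K) ∈ Subgroup.centralizer ({v} : Set K) := by rw [hC]; trivial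
    rw [Subgroup.mem_centralizer_iff] at ha hb
    exact Subtype.ext (hCT v a b hv1 (ha v rfl) (hb v rfl))
  -- the injective map V → N ⊓ V
  have hmem : ∀ v : V, (v : K) * t * (v : K)⁻¹ * t⁻¹ ∈ N ⊓ V := by
    intro v
    constructor
    · exact N.mul_mem (hN.conj_mem t htN v) (N.inv_mem htN)
    · have h1 : t * (v : K)⁻¹ * t⁻¹ ∈ V := Subgroup.Normal.conj_mem inferInstance _ (V.inv_mem v.2) t
      have h2 : (v : K) * t * (v : K)⁻¹ * t⁻¹ = (v : K) * (t * (v : K)⁻¹ * t⁻¹) := by group
      rw [h2]
      exact V.mul_mem v.2 h1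
  have hinj : Function.Injective (fun v : V => (⟨_, hmem v⟩ : ↥(N ⊓ V))) := by
    intro v w hvw
    have h1 : (v : K) * t * (v : K)⁻¹ * t⁻¹ = (w : K) * t * (w : K)⁻¹ * t⁻¹ :=
      congrArg Subtype.val hvw
    have h2 : ((w : K)⁻¹ * (v : K)) * t = t * ((w : K)⁻¹ * (v : K)) := by
      have h3 : (v : K) * t * (v : K)⁻¹ = (w : K) * t * (w : K)⁻¹ := mul_right_cancel h1
      calc ((w : K)⁻¹ * (v : K)) * t = (w : K)⁻¹ * ((v : K) * t * (v : K)⁻¹) * (v : K) := by group
        _ = (w : K)⁻¹ * ((w : K) * t * (w : K)⁻¹) * (v : K) := by rw [h3]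
        _ = t * ((w : K)⁻¹ * (v : K)) := by group
    have h4 := hfree _ (V.mul_mem (V.inv_mem w.2) v.2) h2
    apply Subtype.ext
    have : (v : K) = (w : K) := by
      calc (v : K) = (w : K) * ((w : K)⁻¹ * (v : K)) := by group
        _ = (w : K) := by rw [h4, mul_one]
    exact this
  have hcard : Nat.card ↥V ≤ Nat.card ↥(N ⊓ V) := Nat.card_le_card_of_injective _ hinj
  have hVN : V ≤ N := by
    have hle : N ⊓ V ≤ V := inf_le_right
    have heq : N ⊓ V = V := by
      apply Subgroup.eq_of_le_of_card_ge hle hcard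
    rw [← heq]; exact inf_le_left
  exact snc8_eq_top V r hr hidx N hVN t htN htV

end Cfsg.Agent.Lib.Helper61.SNC
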