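import Mathlib
import Cfsg.Prelude.Def_GeometricClasses
import Cfsg.Prelude.Def_ClassicalGeometry
import Cfsg.Agent.Lib.Helper69.SLTDefs
import Cfsg.Agent.Lib.Helper49.SpSemiConj
import Cfsg.Agent.Lib.Helper49.SemisimpleConj
import Cfsg.Agent.Lib.Helper01.SpUH0

/-!
# K-SpT-Ppos (keystone 598008): involutions of `Sp` with the same `(-1)`-eigenspace dimension are `Sp`-conjugate
-/

set_option autoImplicit false

namespace Cfsg.Agent.Lib.Helper61.SpT

open Matrix Polynomial Cfsg.Agent.Lib.Helper69.SLT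

variable {F : Type*} [Field F]

/-- the `± 1`-eigenspaces of an involution are complementary -/
theorem isCompl_eigenspace_of_invol {V : Type*} [AddCommGroup V] [Module F V] (h2 : (2 : F) ≠ 0)
    (φ : V →ₗ[F] V) (hφ : ∀ v, φ (φ v) = v) :
    IsCompl (Module.End.eigenspace φ 1) (Module.End.eigenspace φ (-1)) := by
  constructor
  · rw [Submodule.disjoint_def]
    intro v h1 h1'
    rw [Module.End.mem_eigenspace_iff] at h1 h1'
    have h3 : (1 : F) • v = (-1 : F) • v := h1.symm.trans h1'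
    have h4 : ((1 : F) - (-1)) • v = 0 := by rw [sub_smul, h3, sub_self]
    have h5 : (1 : F) - (-1) = 2 := by norm_num
    rw [h5] at h4
    exact (smul_eq_zero.mp h4).resolve_left h2
  · rw [codisjoint_iff, eq_top_iff]
    intro v _
    refine Submodule.mem_sup.mpr ⟨(2⁻¹ : F) • (v + φ v), ?_, (2⁻¹ : F) • (v - φ v), ?_, ?_⟩
    · rw [Module.End.mem_eigenspace_iff, map_smul, map_add, hφ, one_smul, add_comm]
    · rw [Module.End.mem_eigenspace_iff, map_smul, map_sub, hφ, neg_one_smul, ← smul_neg, neg_sub]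
    · rw [← smul_add]
      have : v + φ v + (v - φ v) = (2 : F) • v := by rw [two_smul]; abel
      rw [this, smul_smul, inv_mul_cancel₀ h2, one_smul]

/-- `GL`-conjugacy of two involutions with the same `(-1)`-eigenspace dimension -/
theorem exists_equiv_of_invol {V : Type*} [AddCommGroup V] [Module F V] [FiniteDimensional F V]
    (h2 : (2 : F) ≠ 0) (φ ψ : V →ₗ[F] V) (hφ : ∀ v, φ (φ v) = v) (hψ : ∀ v, ψ (ψ v) = v)
    (h : Module.finrank F (Module.End.eigenspace φ (-1)) =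
      Module.finrank F (Module.End.eigenspace ψ (-1))) :
    ∃ e : V ≃ₗ[F] V, ∀ v, e (φ v) = ψ (e v) := by
  have hcV := isCompl_eigenspace_of_invol h2 φ hφ
  have hcW := isCompl_eigenspace_of_invol h2 ψ hψ
  have h1 : Module.finrank F (Module.End.eigenspace φ 1) =
      Module.finrank F (Module.End.eigenspace ψ 1) := by
    have e1 := Submodule.finrank_add_eq_of_isCompl hcV
    have e2 := Submodule.finrank_add_eq_of_isCompl hcW
    omega
  have hV₁ : ∀ v ∈ Module.End.eigenspace φ 1, φ v ∈ Module.End.eigenspace φ 1 := by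
    intro v hv
    rw [Module.End.mem_eigenspace_iff.mp hv]
    exact Submodule.smul_mem _ _ hv
  have hV₂ : ∀ v ∈ Module.End.eigenspace φ (-1), φ v ∈ Module.End.eigenspace φ (-1) := by
    intro v hv
    rw [Module.End.mem_eigenspace_iff.mp hv]
    exact Submodule.smul_mem _ _ hv
  obtain e₁ : Module.End.eigenspace φ 1 ≃ₗ[F] Module.End.eigenspace ψ 1 :=
    LinearEquiv.ofFinrankEq _ _ h1
  obtain e₂ : Module.End.eigenspace φ (-1) ≃ₗ[F] Module.End.eigenspace ψ (-1) :=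
    LinearEquiv.ofFinrankEq _ _ h
  refine Cfsg.Agent.Lib.Helper49.exists_equiv_glue φ ψ _ _ _ _ hcV hcW hV₁ hV₂ e₁ e₂ ?_ ?_
  · intro v
    have hφv : (⟨φ v, hV₁ v v.2⟩ : Module.End.eigenspace φ 1) = v := by
      apply Subtype.ext
      show φ v = v
      rw [Module.End.mem_eigenspace_iff.mp v.2, one_smul]
    rw [hφv, Module.End.mem_eigenspace_iff.mp (e₁ v).2, one_smul]
  · intro v
    have hφv : (⟨φ v, hV₂ v v.2⟩ : Module.End.eigenspace φ (-1)) = -v := by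
      apply Subtype.ext
      show φ v = ((-v : Module.End.eigenspace φ (-1)) : V)
      rw [Module.End.mem_eigenspace_iff.mp v.2, neg_one_smul, Submodule.coe_neg]
    rw [hφv, map_neg, Submodule.coe_neg, Module.End.mem_eigenspace_iff.mp (e₂ v).2, neg_one_smul]

/-- from an intertwining linear equivalence to an intertwining invertible matrix -/
theorem exists_GL_of_equiv {n : Type*} [Fintype n] [DecidableEq n] (A B : Matrix n n F)
    (e : (n → F) ≃ₗ[F] (n → F)) (he : ∀ v, e (Matrix.toLin' A v) = Matrix.toLin' B (e v)) :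
    ∃ P : GL n F, (P : Matrix n n F) * A = B * (P : Matrix n n F) := by
  have h1 : LinearMap.toMatrix' (e : (n → F) →ₗ[F] (n → F)) *
      LinearMap.toMatrix' (e.symm : (n → F) →ₗ[F] (n → F)) = 1 := by
    rw [← LinearMap.toMatrix'_comp, ← LinearMap.toMatrix'_id]
    congr 1
    apply LinearMap.ext
    intro v
    simp
  have h2 : LinearMap.toMatrix' (e.symm : (n → F) →ₗ[F] (n → F)) *
      LinearMap.toMatrix' (e : (n → F) →ₗ[F] (n → F)) = 1 := by
    rw [← LinearMap.toMatrix'_comp, ← LinearMap.toMatrix'_id]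
    congr 1
    apply LinearMap.ext
    intro v
    simp
  refine ⟨⟨_, _, h1, h2⟩, ?_⟩
  change LinearMap.toMatrix' (e : (n → F) →ₗ[F] (n → F)) * A =
    B * LinearMap.toMatrix' (e : (n → F) →ₗ[F] (n → F))
  conv_lhs => rw [← LinearMap.toMatrix'_toLin' A]
  conv_rhs => rw [← LinearMap.toMatrix'_toLin' B]
  rw [← LinearMap.toMatrix'_comp, ← LinearMap.toMatrix'_comp]
  congr 1
  apply LinearMap.ext
  intro v
  exact he v

/-- **K-SpT-Ppos** -/
theorem sp_conj_of_invol [Fintype F] (h2 : (2 : F) ≠ 0) (d : ℕ) (x y : GL (Fin d ⊕ Fin d) F)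
    (hx : x ∈ Cfsg.spGL d F) (hy : y ∈ Cfsg.spGL d F) (hx2 : x ^ 2 = 1) (hy2 : y ^ 2 = 1)
    (h : eigDim (x : Matrix (Fin d ⊕ Fin d) (Fin d ⊕ Fin d) F) (-1) =
      eigDim (y : Matrix (Fin d ⊕ Fin d) (Fin d ⊕ Fin d) F) (-1)) :
    ∃ g ∈ Cfsg.spGL d F, g⁻¹ * x * g = y := by
  classical
  have hxx : (x : Matrix (Fin d ⊕ Fin d) (Fin d ⊕ Fin d) F) *
      (x : Matrix (Fin d ⊕ Fin d) (Fin d ⊕ Fin d) F) = 1 := by
    have := congrArg (fun g : GL (Fin d ⊕ Fin d) F => (g : Matrix (Fin d ⊕ Fin d) (Fin d ⊕ Fin d) F)) hx2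
    simpa [pow_two] using this
  have hyy : (y : Matrix (Fin d ⊕ Fin d) (Fin d ⊕ Fin d) F) *
      (y : Matrix (Fin d ⊕ Fin d) (Fin d ⊕ Fin d) F) = 1 := by
    have := congrArg (fun g : GL (Fin d ⊕ Fin d) F => (g : Matrix (Fin d ⊕ Fin d) (Fin d ⊕ Fin d) F)) hy2
    simpa [pow_two] using this
  have hφ : ∀ v, Matrix.toLin' (x : Matrix (Fin d ⊕ Fin d) (Fin d ⊕ Fin d) F)
      (Matrix.toLin' (x : Matrix (Fin d ⊕ Fin d) (Fin d ⊕ Fin d) F) v) = v := by
    intro v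
    rw [Matrix.toLin'_apply, Matrix.toLin'_apply, Matrix.mulVec_mulVec, hxx, Matrix.one_mulVec]
  have hψ : ∀ v, Matrix.toLin' (y : Matrix (Fin d ⊕ Fin d) (Fin d ⊕ Fin d) F)
      (Matrix.toLin' (y : Matrix (Fin d ⊕ Fin d) (Fin d ⊕ Fin d) F) v) = v := by
    intro v
    rw [Matrix.toLin'_apply, Matrix.toLin'_apply, Matrix.mulVec_mulVec, hyy, Matrix.one_mulVec]
  obtain ⟨e, he⟩ := exists_equiv_of_invol h2 _ _ hφ hψ h
  obtain ⟨P, hP⟩ := exists_GL_of_equiv _ _ e he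
  have hxJ := Cfsg.Agent.Lib.Helper01.SpU.eq_of_mem_spGL x hx
  have hyJ := Cfsg.Agent.Lib.Helper01.SpU.eq_of_mem_spGL y hy
  let A : Matrix.symplecticGroup (Fin d) F :=
    ⟨(x : Matrix (Fin d ⊕ Fin d) (Fin d ⊕ Fin d) F), SymplecticGroup.mem_iff'.mpr hxJ⟩
  let B : Matrix.symplecticGroup (Fin d) F :=
    ⟨(y : Matrix (Fin d ⊕ Fin d) (Fin d ⊕ Fin d) F), SymplecticGroup.mem_iff'.mpr hyJ⟩
  have hk : ((2 : ℕ) : F) ≠ 0 := by
    rw [Nat.cast_ofNat]; exact h2
  have hA2 : A ^ 2 = 1 := by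
    apply Subtype.ext
    show (x : Matrix (Fin d ⊕ Fin d) (Fin d ⊕ Fin d) F) ^ 2 = 1
    rw [pow_two, hxx]
  have hconj : IsConj A B :=
    Cfsg.Agent.Lib.Helper49.sp_conj_of_matrix_conj A B 2 hk hA2 (P : Matrix _ _ F)
      ((Matrix.isUnit_iff_isUnit_det _).mp P.isUnit) hP
  obtain ⟨c, hc⟩ := isConj_iff.mp hconj
  have hcc1 : c.1 * (c⁻¹ : Matrix.symplecticGroup (Fin d) F).1 = 1 := by
    show (c * c⁻¹).1 = 1
    rw [mul_inv_cancel]
    rfl
  have hcc2 : (c⁻¹ : Matrix.symplecticGroup (Fin d) F).1 * c.1 = 1 := by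
    show (c⁻¹ * c).1 = 1
    rw [inv_mul_cancel]
    rfl
  let gC : GL (Fin d ⊕ Fin d) F := ⟨c.1, (c⁻¹ : Matrix.symplecticGroup (Fin d) F).1, hcc1, hcc2⟩
  have hgC : gC ∈ Cfsg.spGL d F :=
    Cfsg.Agent.Lib.Helper01.SpU.mem_spGL_of_eq gC (SymplecticGroup.mem_iff'.mp c.2)
  refine ⟨gC⁻¹, Subgroup.inv_mem _ hgC, ?_⟩
  rw [inv_inv]
  apply Units.ext
  show c.1 * (x : Matrix (Fin d ⊕ Fin d) (Fin d ⊕ Fin d) F) *
    (c⁻¹ : Matrix.symplecticGroup (Fin d) F).1 = (y : Matrix (Fin d ⊕ Fin d) (Fin d ⊕ Fin d) F)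
  exact congrArg Subtype.val hc

end Cfsg.Agent.Lib.Helper61.SpT
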