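import Mathlib
import Cfsg.Agent.Lib.Helper69.StNDefs

/-!
# K-StN-A4 (keystone 240103, row S2401, architect helper69): `conj_self`

`w_ij(u) X_ij(t) w_ij(u)⁻¹ = X_ji(-u⁻² t)` and `w_ij(u) X_ji(t) w_ij(u)⁻¹ = X_ij(-u² t)`, from the row and
column formulas, via a third index `k` and `X i j t = [X i k t, X k j 1]`.
-/

set_option autoImplicit false

namespace Cfsg.Agent.Lib.Helper61.StN

open Cfsg.Agent.Lib.Helper69.StN Matrix

variable {n : ℕ} {K : Type*} [Field K] {S : Type*} [Group S] {X : Fin n → Fin n → K → S}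

/-- conjugating a commutator -/
theorem a4_conj_comm (W A B : S) :
    W * (A * B * A⁻¹ * B⁻¹) * W⁻¹ =
      (W * A * W⁻¹) * (W * B * W⁻¹) * (W * A * W⁻¹)⁻¹ * (W * B * W⁻¹)⁻¹ := by
  group

/-- **LEAF A4** (240103). -/
theorem conj_self (hX : IsSt X) (hn : 3 ≤ n)
    (hrow : ∀ {i j k : Fin n}, i ≠ j → i ≠ k → j ≠ k → ∀ {u : K}, u ≠ 0 → ∀ t : K,
      w X i j u * X i k t * (w X i j u)⁻¹ = X j k (-u⁻¹ * t) ∧
      w X i j u * X j k t * (w X i j u)⁻¹ = X i k (u * t))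
    (hcol : ∀ {i j k : Fin n}, i ≠ j → i ≠ k → j ≠ k → ∀ {u : K}, u ≠ 0 → ∀ t : K,
      w X i j u * X k i t * (w X i j u)⁻¹ = X k j (-(t * u)) ∧
      w X i j u * X k j t * (w X i j u)⁻¹ = X k i (t * u⁻¹))
    {i j : Fin n} (hij : i ≠ j) {u : K} (hu : u ≠ 0) (t : K) :
    w X i j u * X i j t * (w X i j u)⁻¹ = X j i (-(u⁻¹ ^ 2 * t)) ∧
    w X i j u * X j i t * (w X i j u)⁻¹ = X i j (-(u ^ 2 * t)) := by
  obtain ⟨k, hki, hkj⟩ : ∃ k, k ≠ i ∧ k ≠ j := Fin.exists_ne_and_ne_of_two_lt i j (by omega)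
  have hik : i ≠ k := hki.symm
  have hjk : j ≠ k := hkj.symm
  constructor
  · -- `X i j t = [X i k t, X k j 1]`
    have e1 : X i j t = X i k t * X k j 1 * (X i k t)⁻¹ * (X k j 1)⁻¹ := by
      rw [hX.comm3 i k j hik hkj hij t 1, mul_one]
    rw [e1, a4_conj_comm, (hrow hij hik hjk hu t).1, (hcol hij hik hjk hu 1).2,
      hX.comm3 j k i hjk hki hij.symm]
    congr 1
    ring
  · -- `X j i t = [X j k t, X k i 1]`
    have e1 : X j i t = X j k t * X k i 1 * (X j k t)⁻¹ * (X k i 1)⁻¹ := by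
      rw [hX.comm3 j k i hjk hki hij.symm t 1, mul_one]
    rw [e1, a4_conj_comm, (hrow hij hik hjk hu t).2, (hcol hij hik hjk hu 1).1,
      hX.comm3 i k j hik hkj hij]
    congr 1
    ring

end Cfsg.Agent.Lib.Helper61.StN
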