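import Mathlib
import Cfsg.Prelude.Def_GeometricClasses
import Cfsg.Agent.Lib.Helper43.OmegaPair5

/-!
Subfield subgroups of orthogonal groups `Ω(Q₀) < Ω(Q)`: rational structures over an arbitrary
index type, the setting `RQ`, membership of linear maps in a subgroup of `Ω`.
-/

set_option autoImplicit false
set_option linter.unusedSectionVars false
set_option linter.unusedVariables false

namespace Cfsg.Agent.Lib.Helper61.SubfieldOr

open Matrix Cfsg.Agent.Lib.Helper43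
open scoped Pointwise

section rat
variable {F : Type*} [Field F] {ι : Type} [Fintype ι] [DecidableEq ι]

theorem gi_mul_act (g h : GL ι F) (x : ι → F) : (g * h).1 *ᵥ x = g.1 *ᵥ (h.1 *ᵥ x) := by
  rw [Units.val_mul, Matrix.mulVec_mulVec]

theorem gi_inv_act (g : GL ι F) (x : ι → F) : g⁻¹.1 *ᵥ (g.1 *ᵥ x) = x := by
  rw [← gi_mul_act, inv_mul_cancel, Units.val_one, Matrix.one_mulVec]

theorem gi_act_inv (g : GL ι F) (x : ι → F) : g.1 *ᵥ (g⁻¹.1 *ᵥ x) = x := by
  rw [← gi_mul_act, mul_inv_cancel, Units.val_one, Matrix.one_mulVec]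

/-- rational vectors: the `F₀`-span of the columns of `P` -/
def Rt (F₀ : Subfield F) (P : GL ι F) (x : ι → F) : Prop :=
  ∃ u : ι → F, (∀ i, u i ∈ F₀) ∧ x = P.1 *ᵥ u

variable {F₀ : Subfield F} {P : GL ι F}

theorem rt_zero : Rt F₀ P 0 := ⟨0, fun i => F₀.zero_mem, by rw [Matrix.mulVec_zero]⟩

theorem rt_add {x y : ι → F} (hx : Rt F₀ P x) (hy : Rt F₀ P y) : Rt F₀ P (x + y) := by
  obtain ⟨u, hu, rfl⟩ := hx
  obtain ⟨v, hv, rfl⟩ := hy
  exact ⟨u + v, fun i => F₀.add_mem (hu i) (hv i), by rw [Matrix.mulVec_add]⟩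

theorem rt_smul {a : F} (ha : a ∈ F₀) {x : ι → F} (hx : Rt F₀ P x) : Rt F₀ P (a • x) := by
  obtain ⟨u, hu, rfl⟩ := hx
  exact ⟨a • u, fun i => F₀.mul_mem ha (hu i), by rw [Matrix.mulVec_smul]⟩

theorem rt_neg {x : ι → F} (hx : Rt F₀ P x) : Rt F₀ P (-x) := by
  have := rt_smul (F₀.neg_mem F₀.one_mem) hx
  rwa [neg_one_smul] at this

theorem rt_sub {x y : ι → F} (hx : Rt F₀ P x) (hy : Rt F₀ P y) : Rt F₀ P (x - y) := by
  rw [sub_eq_add_neg]
  exact rt_add hx (rt_neg hy)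

theorem rt_col (j : ι) : Rt F₀ P (P.1 *ᵥ Pi.single j 1) := by
  refine ⟨Pi.single j 1, fun i => ?_, rfl⟩
  by_cases h : i = j
  · subst h; rw [Pi.single_eq_same]; exact F₀.one_mem
  · rw [Pi.single_eq_of_ne h]; exact F₀.zero_mem

theorem rt_sum {κ : Type*} (s : Finset κ) (f : κ → ι → F) (hf : ∀ i ∈ s, Rt F₀ P (f i)) :
    Rt F₀ P (∑ i ∈ s, f i) := by
  classical
  induction s using Finset.induction_on with
  | empty => rw [Finset.sum_empty]; exact rt_zero
  | insert a s ha ih =>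
    rw [Finset.sum_insert ha]
    exact rt_add (hf a (Finset.mem_insert_self a s))
      (ih (fun i hi => hf i (Finset.mem_insert_of_mem hi)))

theorem scalars_normal' : (Cfsg.Geo.scalars ι F).Normal := by
  constructor
  intro s hs g
  rw [Cfsg.Geo.mem_scalars_iff] at hs ⊢
  obtain ⟨c, hc⟩ := hs
  refine ⟨c, ?_⟩
  rw [Units.val_mul, Units.val_mul, hc, Matrix.mul_smul, Matrix.mul_one, Matrix.smul_mul,
    ← Units.val_mul, mul_inv_cancel, Units.val_one]

/-- sufficient condition for membership in the subfield subgroup -/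
theorem mem_subfield_of_rt (g : GL ι F) (c : F) (hc : c ≠ 0)
    (h : ∀ x, Rt F₀ P x → Rt F₀ P (c • g.1 *ᵥ x)) : g ∈ Cfsg.Geo.subfieldSubgroup F₀ P := by
  classical
  let M : GL ι F := P⁻¹ * g * P
  let N : Matrix ι ι F := c • M.1
  have hN : ∀ i j, N i j ∈ F₀ := by
    intro i j
    obtain ⟨u, hu, hux⟩ := h _ (rt_col j)
    have h1 : N *ᵥ Pi.single j 1 = u := by
      simp only [N, M]
      rw [Matrix.smul_mulVec, gi_mul_act, gi_mul_act, ← Matrix.mulVec_smul, hux, gi_inv_act]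
    have h2 : N i j = u i := by
      rw [← h1, Matrix.mulVec_single_one]; rfl
    rw [h2]; exact hu i
  let N₀ : Matrix ι ι F₀ := fun i j => ⟨N i j, hN i j⟩
  have hmap : (F₀.subtype).mapMatrix N₀ = N := by ext i j; rfl
  have hdetM : M.1.det ≠ 0 := IsUnit.ne_zero ((Matrix.isUnit_iff_isUnit_det _).mp M.isUnit)
  have hdetN : N.det ≠ 0 := by
    simp only [N]
    rw [Matrix.det_smul]
    exact mul_ne_zero (pow_ne_zero _ hc) hdetM
  have hdet0 : N₀.det ≠ 0 := by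
    intro h0
    apply hdetN
    rw [← hmap, ← RingHom.map_det, h0, map_zero]
  let g₀ : Matrix.GeneralLinearGroup ι F₀ := Matrix.GeneralLinearGroup.mkOfDetNeZero N₀ hdet0
  let k₁ : GL ι F := Matrix.GeneralLinearGroup.map F₀.subtype g₀
  have hk₁ : k₁.1 = N := by
    ext i j
    rw [Matrix.GeneralLinearGroup.map_apply]
    rfl
  let s : GL ι F := Units.map (Matrix.scalar ι : F →+* Matrix ι ι F).toMonoidHom
    (Units.mk0 c⁻¹ (inv_ne_zero hc))
  have hs : s ∈ Cfsg.Geo.scalars ι F := ⟨_, rfl⟩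
  have hs1 : s.1 = c⁻¹ • (1 : Matrix ι ι F) := by
    simp [s, Matrix.smul_one_eq_diagonal]
  have hks : k₁ * s = M := by
    apply Units.ext
    rw [Units.val_mul, hk₁, hs1]
    simp only [N]
    rw [Matrix.mul_smul, Matrix.mul_one, smul_smul, inv_mul_cancel₀ hc, one_smul]
  have hk : k₁ * s ∈ (Matrix.GeneralLinearGroup.map (F₀.subtype : F₀ →+* F)).range ⊔
      Cfsg.Geo.scalars ι F :=
    mul_mem (Subgroup.mem_sup_left ⟨g₀, rfl⟩) (Subgroup.mem_sup_right hs)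
  refine ⟨k₁ * s, hk, ?_⟩
  rw [hks]
  show MulAut.conj P M = g
  rw [MulAut.conj_apply]
  simp only [M]
  group

/-- necessary condition for membership in the subfield subgroup -/
theorem rt_of_mem_subfield (g : GL ι F) (hg : g ∈ Cfsg.Geo.subfieldSubgroup F₀ P)
    (x : ι → F) (hx : Rt F₀ P x) : ∃ c : F, c ≠ 0 ∧ Rt F₀ P (c • g.1 *ᵥ x) := by
  classical
  haveI := scalars_normal' (F := F) (ι := ι)
  obtain ⟨k, hk, rfl⟩ := hg
  have hk' : k ∈ (((Matrix.GeneralLinearGroup.map (n := ι) (F₀.subtype : F₀ →+* F)).range :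
      Subgroup (GL ι F)) : Set (GL ι F)) *
      ((Cfsg.Geo.scalars ι F : Subgroup (GL ι F)) : Set (GL ι F)) := by
    rw [← Subgroup.mul_normal]; exact hk
  obtain ⟨a, ⟨g₀, rfl⟩, s, hs, rfl⟩ := hk'
  obtain ⟨d, hd⟩ := (Cfsg.Geo.mem_scalars_iff s).mp hs
  obtain ⟨u, hu, rfl⟩ := hx
  refine ⟨(d : F)⁻¹, inv_ne_zero d.ne_zero,
    ⟨(Matrix.GeneralLinearGroup.map (F₀.subtype : F₀ →+* F) g₀).1 *ᵥ u, ?_, ?_⟩⟩
  · intro i
    rw [Matrix.mulVec, dotProduct]
    apply F₀.sum_mem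
    intro j _
    rw [Matrix.GeneralLinearGroup.map_apply]
    exact F₀.mul_mem (g₀.1 i j).2 (hu j)
  · show (d : F)⁻¹ • (MulAut.conj P (Matrix.GeneralLinearGroup.map (F₀.subtype : F₀ →+* F) g₀ * s)).1 *ᵥ
      (P.1 *ᵥ u) = _
    rw [MulAut.conj_apply, gi_mul_act, gi_inv_act, gi_mul_act, gi_mul_act, hd,
      Matrix.smul_mulVec, Matrix.one_mulVec, Matrix.mulVec_smul, Matrix.mulVec_smul, smul_smul,
      inv_mul_cancel₀ d.ne_zero, one_smul]

end rat

section setting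
variable {F : Type*} [Field F] {ι : Type} [Fintype ι] [DecidableEq ι]
variable (Q : QuadraticForm F (ι → F))


/-- the setting: the quadratic form takes values in the subfield `F₀`, of prime index `r`, on
the rational structure `P • F₀^ι` -/
structure RQ [Fintype F] (F₀ : Subfield F) (P : GL ι F) (r : ℕ) : Prop where
  hQ : (QuadraticMap.polarBilin Q).Nondegenerate
  hr : r.Prime
  hcard : Fintype.card F = Nat.card F₀ ^ r
  val : ∀ x, Rt F₀ P x → Q x ∈ F₀

/-- the embedding of `Ω` into `GL` -/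
def omEmb : ↥(Cfsg.Omega F ⇑Q) →* GL ι F :=
  (Cfsg.isometryGroup F ⇑Q).subtype.comp (Cfsg.Omega F ⇑Q).subtype

theorem omEmb_act (t : ↥(Cfsg.Omega F ⇑Q)) (x : ι → F) : (omEmb Q t).1 *ᵥ x = lo Q t x := by
  unfold lo
  rw [linOf_apply]
  rfl

/-- the subfield subgroup inside `Ω` -/
def HQ (F₀ : Subfield F) (P : GL ι F) : Subgroup ↥(Cfsg.Omega F ⇑Q) :=
  (Cfsg.Geo.subfieldSubgroup F₀ P).comap (omEmb Q)

/-- the (unique) element of `Ω` with linear map `T`, if any, lies in `K` -/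
def InK (K : Subgroup ↥(Cfsg.Omega F ⇑Q)) (T : Module.End F (ι → F)) : Prop :=
  ∀ t : ↥(Cfsg.Omega F ⇑Q), lo Q t = T → t ∈ K

variable {Q}

theorem inK_of_mem {K : Subgroup ↥(Cfsg.Omega F ⇑Q)} (t : ↥(Cfsg.Omega F ⇑Q)) (ht : t ∈ K) : InK Q K (lo Q t) := by
  intro t' ht'
  rw [lo_injective Q ht']
  exact ht

theorem lo_mul (g h : ↥(Cfsg.Omega F ⇑Q)) : lo Q (g * h) = lo Q g * lo Q h := by
  apply LinearMap.ext
  intro v
  rw [lo_mul_apply]
  rfl

theorem lo_one : lo Q (1 : ↥(Cfsg.Omega F ⇑Q)) = 1 := by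
  apply LinearMap.ext
  intro v
  rw [lo_one_apply]
  rfl

/-- products -/
theorem InK.mul {K : Subgroup ↥(Cfsg.Omega F ⇑Q)} {A B : Module.End F (ι → F)} (hA : InK Q K A)
    (hB : InK Q K B) (a b : ↥(Cfsg.Omega F ⇑Q)) (ha : lo Q a = A) (hb : lo Q b = B) : InK Q K (A * B) := by
  intro t ht
  have : t = a * b := by
    apply lo_injective Q
    rw [ht, lo_mul, ha, hb]
  rw [this]
  exact K.mul_mem (hA a ha) (hB b hb)

/-- conjugation: if `g A = B g` with `g ∈ K` then `B` is in `K` -/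
theorem InK.conj {K : Subgroup ↥(Cfsg.Omega F ⇑Q)} {A B : Module.End F (ι → F)} (hA : InK Q K A) (a : ↥(Cfsg.Omega F ⇑Q))
    (ha : lo Q a = A) (g : ↥(Cfsg.Omega F ⇑Q)) (hg : g ∈ K) (e : lo Q g * A = B * lo Q g) : InK Q K B := by
  intro t ht
  have : t = g * a * g⁻¹ := by
    rw [eq_mul_inv_iff_mul_eq]
    apply lo_injective Q
    rw [lo_mul, lo_mul, ht, ha, e]
  rw [this]
  exact K.mul_mem (K.mul_mem hg (hA a ha)) (K.inv_mem hg)

/-- from a product and one factor -/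
theorem InK.of_mul_left {K : Subgroup ↥(Cfsg.Omega F ⇑Q)} {A B : Module.End F (ι → F)} (hAB : InK Q K (A * B))
    (hA : InK Q K A) (a b : ↥(Cfsg.Omega F ⇑Q)) (ha : lo Q a = A) (hb : lo Q b = B) : InK Q K B := by
  intro t ht
  have h1 : a * t ∈ K := hAB _ (by rw [lo_mul, ha, ht])
  have h2 : a ∈ K := hA a ha
  have : t = a⁻¹ * (a * t) := by group
  rw [this]
  exact K.mul_mem (K.inv_mem h2) h1

theorem InK.of_mul_right {K : Subgroup ↥(Cfsg.Omega F ⇑Q)} {A B : Module.End F (ι → F)}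
    (hAB : InK Q K (A * B)) (hB : InK Q K B) (a b : ↥(Cfsg.Omega F ⇑Q)) (ha : lo Q a = A) (hb : lo Q b = B) :
    InK Q K A := by
  intro t ht
  have h1 : t * b ∈ K := hAB _ (by rw [lo_mul, ht, hb])
  have h2 : b ∈ K := hB b hb
  have : t = (t * b) * b⁻¹ := by group
  rw [this]
  exact K.mul_mem h1 (K.inv_mem h2)

/-- a pair of independent orthogonal rational singular vectors -/
structure TIP (Q : QuadraticForm F (ι → F)) (F₀ : Subfield F) (P : GL ι F) (v w : ι → F) :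
    Prop where
  hv : Rt F₀ P v
  hw : Rt F₀ P w
  hvv : Q v = 0
  hww : Q w = 0
  hvw : QuadraticMap.polarBilin Q v w = 0
  ind1 : ∀ a ∈ F₀, w ≠ a • v
  ind2 : ∀ a ∈ F₀, v ≠ a • w

/-- the set of Siegel parameters of `K` for the pair `(v, w)` -/
def AB (Q : QuadraticForm F (ι → F)) (F₀ : Subfield F) (K : Subgroup ↥(Cfsg.Omega F ⇑Q))
    (v w : ι → F) : Set F :=
  {a | ∀ l ∈ F₀, InK Q K (siegelLin Q v ((l * a) • w))}

end setting

end Cfsg.Agent.Lib.Helper61.SubfieldOr
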