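import Mathlib
import Cfsg.Prelude.Def_GeometricClasses
import Cfsg.Agent.Lib.Helper61.SubfieldOrA

/-!
Subfield subgroups of orthogonal groups: algebra of Siegel transformations.
-/

set_option autoImplicit false
set_option linter.unusedSectionVars false
set_option linter.unusedVariables false

namespace Cfsg.Agent.Lib.Helper61.SubfieldOr

open Matrix Cfsg.Agent.Lib.Helper43

section siegel
variable {F V : Type*} [Field F] [AddCommGroup V] [Module F V]
variable (Q : QuadraticForm F V)

local notation "BB" => QuadraticMap.polarBilin Q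

theorem pol_self0 {p : V} (hp : Q p = 0) : BB p p = 0 := by
  rw [polar_self', hp, mul_zero]

theorem pol_symm0 {p z : V} (h : BB p z = 0) : BB z p = 0 := by
  rw [polar_symm, h]

/-- the value of a Siegel transformation with singular second vector -/
theorem siegel_apply_ts (u z v : V) (hz : Q z = 0) :
    siegelLin Q u z v = v + BB v z • u - BB v u • z := by
  rw [siegelLin_apply, hz, zero_mul, sub_zero, neg_smul, sub_eq_add_neg]

theorem siegel_mul (u z z' : V) (hu : Q u = 0) (huz : BB u z = 0) (huz' : BB u z' = 0) :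
    siegelLin Q u z * siegelLin Q u z' = siegelLin Q u (z + z') := by
  rw [Module.End.mul_eq_comp]
  exact siegelLin_comp Q u z z' hu huz huz'

theorem siegel_zero (u : V) : siegelLin Q u 0 = 1 := by
  apply LinearMap.ext
  intro v
  rw [siegelLin_apply]
  simp

theorem siegel_inv_right (u z : V) (hu : Q u = 0) (huz : BB u z = 0) :
    siegelLin Q u z * siegelLin Q u (-z) = 1 := by
  rw [siegel_mul Q u z (-z) hu huz (by rw [map_neg, huz, neg_zero]), add_neg_cancel, siegel_zero]

theorem siegel_inv_left (u z : V) (hu : Q u = 0) (huz : BB u z = 0) :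
    siegelLin Q u (-z) * siegelLin Q u z = 1 := by
  rw [siegel_mul Q u (-z) z hu (by rw [map_neg, huz, neg_zero]) huz, neg_add_cancel, siegel_zero]

theorem siegel_add_center (u z : V) (c : F) (hu : Q u = 0) (huz : BB u z = 0) :
    siegelLin Q u (z + c • u) = siegelLin Q u z := by
  have hzu : BB z u = 0 := pol_symm0 Q huz
  apply LinearMap.ext
  intro v
  rw [siegelLin_apply, siegelLin_apply, Q_add, Q_smul, hu]
  simp only [map_add, map_smul, LinearMap.add_apply, LinearMap.smul_apply, smul_eq_mul, hzu,
    mul_zero, add_zero]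
  module

theorem siegel_swap (v w : V) (a : F) (hv : Q v = 0) (hw : Q w = 0) :
    siegelLin Q v (a • w) = siegelLin Q w ((-a) • v) := by
  apply LinearMap.ext
  intro x
  rw [siegelLin_apply, siegelLin_apply, Q_smul, Q_smul, hv, hw]
  simp only [map_smul, smul_eq_mul, mul_zero, zero_mul, sub_zero]
  module

/-- conjugation by an isometry -/
theorem siegel_conj_end (g : Module.End F V) (hg : ∀ v, Q (g v) = Q v) (p z : V) :
    g * siegelLin Q p z = siegelLin Q (g p) (g z) * g := by
  rw [Module.End.mul_eq_comp, Module.End.mul_eq_comp]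
  exact siegelLin_conj Q g hg p z

/-- splitting off the component along a third singular vector -/
theorem siegel_split3 (x y e : V) (α β : F) (hx : Q x = 0) (hy : Q y = 0) (he : Q e = 0)
    (hxy : BB x y = 0) (hxe : BB x e = 0) (hye : BB y e = 0) :
    siegelLin Q (x + α • e) (y + β • e) = siegelLin Q x y * siegelLin Q e (α • y - β • x) := by
  have hyx : BB y x = 0 := pol_symm0 Q hxy
  have hex : BB e x = 0 := pol_symm0 Q hxe
  have hey : BB e y = 0 := pol_symm0 Q hye
  have hxx : BB x x = 0 := pol_self0 Q hx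
  have hyy : BB y y = 0 := pol_self0 Q hy
  have hee : BB e e = 0 := pol_self0 Q he
  have h1 : Q (y + β • e) = 0 := by
    rw [Q_add, Q_smul, hy, he, map_smul, smul_eq_mul, hye]; ring
  have h2 : Q (α • y - β • x) = 0 := by
    rw [sub_eq_add_neg, ← neg_smul, Q_add, Q_smul, Q_smul, hx, hy, map_smul, map_smul,
      LinearMap.smul_apply, smul_eq_mul, smul_eq_mul, hyx]
    ring
  apply LinearMap.ext
  intro v
  rw [Module.End.mul_apply, siegel_apply_ts Q _ _ _ h1, siegel_apply_ts Q e _ _ h2,
    siegel_apply_ts Q x y _ hy]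
  simp only [map_add, map_sub, map_smul, LinearMap.add_apply, LinearMap.sub_apply,
    LinearMap.smul_apply, smul_eq_mul, hxy, hyx, hxe, hex, hye, hey, hxx, hyy, hee, mul_zero,
    add_zero, sub_zero, zero_add]
  module

/-- the commutator relation -/
theorem siegel_comm (v w e f : V) (a b : F) (hv : Q v = 0) (hw : Q w = 0) (he : Q e = 0)
    (hf : Q f = 0) (hef : BB e f = 1) (hvw : BB v w = 0) (hve : BB v e = 0) (hvf : BB v f = 0)
    (hwe : BB w e = 0) (hwf : BB w f = 0) :
    siegelLin Q e (b • w) * siegelLin Q v (a • f) =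
      siegelLin Q v (a • f) * siegelLin Q v ((-(a * b)) • w) * siegelLin Q e (b • w) := by
  have hew : BB e w = 0 := pol_symm0 Q hwe
  have hfe : BB f e = 1 := by rw [polar_symm, hef]
  have hfw : BB f w = 0 := pol_symm0 Q hwf
  have hbw : Q (b • w) = 0 := by rw [Q_smul, hw, mul_zero]
  have hiso : ∀ x, Q (siegelLin Q e (b • w) x) = Q x :=
    siegelLin_isometry Q e (b • w) he (by rw [map_smul, smul_eq_mul, hew, mul_zero])
  rw [siegel_conj_end Q _ hiso v (a • f)]
  have e1 : siegelLin Q e (b • w) v = v := by
    rw [siegel_apply_ts Q _ _ _ hbw, map_smul, smul_eq_mul, hvw, hve, mul_zero, zero_smul,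
      zero_smul, add_zero, sub_zero]
  have e2 : siegelLin Q e (b • w) (a • f) = a • f + (-(a * b)) • w := by
    rw [siegel_apply_ts Q _ _ _ hbw]
    simp only [map_smul, LinearMap.smul_apply, smul_eq_mul, hfw, hfe, mul_zero, mul_one, zero_smul,
      add_zero]
    module
  rw [e1, e2, ← siegel_mul Q v (a • f) ((-(a * b)) • w) hv
    (by rw [map_smul, smul_eq_mul, hvf, mul_zero]) (by rw [map_smul, smul_eq_mul, hvw, mul_zero])]

/-- a Siegel transformation only depends on the bivector -/
theorem siegel_basis (x y : V) (α β γ δ : F) (hx : Q x = 0) (hy : Q y = 0) (hxy : BB x y = 0) :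
    siegelLin Q (α • x + β • y) (γ • x + δ • y) = siegelLin Q x ((α * δ - β * γ) • y) := by
  have hyx : BB y x = 0 := pol_symm0 Q hxy
  have h1 : Q (γ • x + δ • y) = 0 := by
    rw [Q_add, Q_smul, Q_smul, hx, hy, map_smul, map_smul, LinearMap.smul_apply, smul_eq_mul,
      smul_eq_mul, hxy]
    ring
  have h2 : Q ((α * δ - β * γ) • y) = 0 := by rw [Q_smul, hy, mul_zero]
  apply LinearMap.ext
  intro v
  rw [siegel_apply_ts Q _ _ _ h1, siegel_apply_ts Q _ _ _ h2]
  simp only [map_add, map_smul, smul_eq_mul]
  module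

end siegel

end Cfsg.Agent.Lib.Helper61.SubfieldOr
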