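import Mathlib
import Cfsg.Prelude.Def_GeometricClasses
import Cfsg.Agent.Lib.Helper61.SubfieldOrB

/-!
Subfield subgroups of orthogonal groups: geometry of the rational structure.
-/

set_option autoImplicit false
set_option linter.unusedSectionVars false
set_option linter.unusedVariables false

namespace Cfsg.Agent.Lib.Helper61.SubfieldOr

open Matrix Module Cfsg.Agent.Lib.Helper43

section geo
variable {F : Type*} [Field F] [Fintype F] {ι : Type} [Fintype ι] [DecidableEq ι]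
variable {Q : QuadraticForm F (ι → F)} {F₀ : Subfield F} {P : GL ι F} {r : ℕ}

local notation "BB" => QuadraticMap.polarBilin Q

/-- the embedding of the `F₀`-structure -/
def toV (P : GL ι F) (u : ι → F₀) : ι → F := P.1 *ᵥ (fun i => (u i : F))

theorem rt_toV (u : ι → F₀) : Rt F₀ P (toV P u) := ⟨fun i => (u i : F), fun i => (u i).2, rfl⟩

theorem exists_toV {x : ι → F} (hx : Rt F₀ P x) : ∃ u : ι → F₀, x = toV P u := by
  obtain ⟨u, hu, rfl⟩ := hx
  exact ⟨fun i => ⟨u i, hu i⟩, rfl⟩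

theorem toV_add (u v : ι → F₀) : toV P (u + v) = toV P u + toV P v := by
  unfold toV
  rw [← Matrix.mulVec_add]
  congr 1

theorem toV_smul (a : F₀) (u : ι → F₀) : toV P (a • u) = (a : F) • toV P u := by
  unfold toV
  rw [← Matrix.mulVec_smul]
  congr 1

theorem toV_zero : toV P (0 : ι → F₀) = 0 := by
  unfold toV
  have : (fun i => (((0 : ι → F₀) i : F₀) : F)) = 0 := by funext i; rfl
  rw [this, Matrix.mulVec_zero]

theorem toV_eq_zero {u : ι → F₀} (h : toV P u = 0) : u = 0 := by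
  unfold toV at h
  have h1 := gi_inv_act P (fun i => (u i : F))
  rw [h, Matrix.mulVec_zero] at h1
  funext i
  apply Subtype.ext
  exact (congrFun h1 i).symm

/-- expansion along the columns of `P` -/
theorem decomp_cols (y : ι → F) : y = ∑ j, (P⁻¹.1 *ᵥ y) j • (P.1 *ᵥ Pi.single j 1) := by
  have h1 : P.1 *ᵥ (P⁻¹.1 *ᵥ y) = y := gi_act_inv P y
  obtain ⟨w, hw⟩ : ∃ w : ι → F, w = P⁻¹.1 *ᵥ y := ⟨_, rfl⟩
  rw [← hw] at h1 ⊢
  have h2 : w = ∑ j, w j • (Pi.single j 1 : ι → F) := by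
    funext i
    rw [Finset.sum_apply]
    simp [Pi.single_apply]
  conv_lhs => rw [← h1, h2]
  rw [Matrix.mulVec_sum]
  apply Finset.sum_congr rfl
  intro j _
  rw [Matrix.mulVec_smul]

theorem RQ.val2 (h : RQ Q F₀ P r) {x y : ι → F} (hx : Rt F₀ P x) (hy : Rt F₀ P y) :
    BB x y ∈ F₀ := by
  rw [QuadraticMap.polarBilin_apply_apply]
  unfold QuadraticMap.polar
  exact F₀.sub_mem (F₀.sub_mem (h.val _ (rt_add hx hy)) (h.val _ hx)) (h.val _ hy)

/-- the polar form is non-degenerate on the rational vectors -/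
theorem RQ.nondeg_rat (h : RQ Q F₀ P r) (x : ι → F) (hx : ∀ y, Rt F₀ P y → BB x y = 0) :
    x = 0 := by
  apply h.hQ.1
  intro y
  rw [decomp_cols (P := P) y, map_sum]
  apply Finset.sum_eq_zero
  intro j _
  rw [map_smul, hx _ (rt_col j), smul_zero]

theorem RQ.exists_ne_rat (h : RQ Q F₀ P r) (x : ι → F) (hx0 : x ≠ 0) :
    ∃ y, Rt F₀ P y ∧ BB x y ≠ 0 := by
  by_contra hcon
  push Not at hcon
  exact hx0 (h.nondeg_rat x hcon)

/-- the quadratic form over the subfield, as a function -/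
def q0 (h : RQ Q F₀ P r) (u : ι → F₀) : F₀ := ⟨Q (toV P u), h.val _ (rt_toV u)⟩

theorem q0_coe (h : RQ Q F₀ P r) (u : ι → F₀) : ((q0 h u : F₀) : F) = Q (toV P u) := rfl

theorem polar_q0_coe (h : RQ Q F₀ P r) (u v : ι → F₀) :
    ((QuadraticMap.polar (q0 h) u v : F₀) : F) = BB (toV P u) (toV P v) := by
  rw [QuadraticMap.polarBilin_apply_apply]
  unfold QuadraticMap.polar
  rw [Subfield.coe_sub, Subfield.coe_sub, q0_coe, q0_coe, q0_coe, toV_add]

/-- the quadratic form over the subfield -/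
noncomputable def Q0 (h : RQ Q F₀ P r) : QuadraticForm F₀ (ι → F₀) :=
  QuadraticMap.ofPolar (q0 h)
    (by
      intro a x
      apply Subtype.ext
      rw [smul_eq_mul, Subfield.coe_mul, Subfield.coe_mul, q0_coe, q0_coe, toV_smul, Q_smul])
    (by
      intro x x' y
      apply Subtype.ext
      rw [Subfield.coe_add, polar_q0_coe, polar_q0_coe, polar_q0_coe, toV_add, map_add,
        LinearMap.add_apply])
    (by
      intro a x y
      apply Subtype.ext
      rw [smul_eq_mul, Subfield.coe_mul, polar_q0_coe, polar_q0_coe, toV_smul, map_smul,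
        LinearMap.smul_apply, smul_eq_mul])

theorem Q0_coe (h : RQ Q F₀ P r) (u : ι → F₀) : ((Q0 h u : F₀) : F) = Q (toV P u) := rfl

theorem B0_coe (h : RQ Q F₀ P r) (u v : ι → F₀) :
    ((QuadraticMap.polarBilin (Q0 h) u v : F₀) : F) = BB (toV P u) (toV P v) := by
  rw [QuadraticMap.polarBilin_apply_apply]
  exact polar_q0_coe h u v

theorem Q0_nondeg (h : RQ Q F₀ P r) : (QuadraticMap.polarBilin (Q0 h)).Nondegenerate := by
  have key : ∀ x : ι → F₀, (∀ y, QuadraticMap.polarBilin (Q0 h) x y = 0) → x = 0 := by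
    intro x hx
    apply toV_eq_zero (P := P)
    apply h.nondeg_rat
    intro y hy
    obtain ⟨v, rfl⟩ := exists_toV hy
    rw [← B0_coe h, hx v]
    rfl
  refine ⟨key, ?_⟩
  intro y hy
  apply key
  intro x
  rw [polar_symm]
  exact hy x

theorem finrank_span_range_le {κ : Type} [Fintype κ] (u : κ → ι → F₀) :
    finrank F₀ (Submodule.span F₀ (Set.range u)) ≤ Fintype.card κ :=
  finrank_range_le_card u

/-- a rational singular vector with a rational partner, orthogonal to a family -/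
theorem RQ.exists_iso_perp (h : RQ Q F₀ P r) {κ : Type} [Fintype κ] (s : κ → ι → F)
    (hs : ∀ i, Rt F₀ P (s i)) (hκ : 2 * Fintype.card κ + 3 ≤ Fintype.card ι) :
    ∃ e z, Rt F₀ P e ∧ Rt F₀ P z ∧ Q e = 0 ∧ (∀ i, BB (s i) e = 0) ∧ (∀ i, BB (s i) z = 0) ∧
      BB e z ≠ 0 := by
  classical
  haveI : Fintype F₀ := Fintype.ofFinite F₀
  choose u hu using fun i => exists_toV (hs i)
  have h1 := finrank_span_range_le u
  obtain ⟨e, z, he, hz, hee, hez⟩ := exists_singular_pair_orth (Q0 h) (Q0_nondeg h)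
    (Submodule.span F₀ (Set.range u))
    (by rw [Module.finrank_fintype_fun_eq_card]; omega)
  refine ⟨toV P e, toV P z, rt_toV e, rt_toV z, ?_, fun i => ?_, fun i => ?_, ?_⟩
  · rw [← Q0_coe h, hee]; rfl
  · rw [hu i, ← B0_coe h, he (u i) (Submodule.subset_span ⟨i, rfl⟩)]; rfl
  · rw [hu i, ← B0_coe h, hz (u i) (Submodule.subset_span ⟨i, rfl⟩)]; rfl
  · intro h0
    apply hez
    apply Subtype.ext
    rw [B0_coe h, h0]
    rfl

/-- adjusting a rational vector to a singular one, keeping its pairings with a family -/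
theorem RQ.exists_iso_adjust (h : RQ Q F₀ P r) {κ : Type} [Fintype κ] (s : κ → ι → F)
    (hs : ∀ i, Rt F₀ P (s i)) (z : ι → F) (hz : Rt F₀ P z)
    (hκ : 2 * (Fintype.card κ + 1) + 3 ≤ Fintype.card ι) :
    ∃ d, Rt F₀ P d ∧ Q d = 0 ∧ ∀ i, BB (s i) d = BB (s i) z := by
  classical
  have hzs : ∀ o : Option κ, Rt F₀ P (o.elim z s) := by
    intro o
    cases o with
    | none => exact hz
    | some i => exact hs i
  obtain ⟨e, x, he, hx, hee, hes, hxs, hex⟩ := h.exists_iso_perp (fun o : Option κ => o.elim z s)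
    hzs (by rw [Fintype.card_option]; omega)
  obtain ⟨t, ht⟩ := exists_value Q e x hee hex (-Q z)
  have hez : BB z e = 0 := hes none
  have hxz : BB z x = 0 := hxs none
  have hc : BB z (x + t • e) = 0 := by
    rw [map_add, map_smul, hez, hxz, smul_zero, add_zero]
  refine ⟨z + (x + t • e), rt_add hz (rt_add hx ?_), ?_, fun i => ?_⟩
  · have hB : BB e x ∈ F₀ := h.val2 he hx
    -- `t` is rational
    have hQ1 : Q (x + t • e) = Q x + t * BB x e := by
      rw [Q_add, Q_smul, hee, map_smul, smul_eq_mul]; ring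
    have hxe : BB x e = BB e x := polar_symm Q x e
    have ht' : t = (-Q z - Q x) / BB e x := by
      rw [eq_div_iff hex]
      rw [hQ1, hxe] at ht
      linear_combination ht
    have htm : t ∈ F₀ := by
      rw [ht']
      exact F₀.div_mem (F₀.sub_mem (F₀.neg_mem (h.val _ hz)) (h.val _ hx)) hB
    exact rt_smul htm he
  · rw [Q_add, ht, hc]; ring
  · have h1 : BB (s i) e = 0 := hes (some i)
    have h2 : BB (s i) x = 0 := hxs (some i)
    rw [map_add, map_add, map_smul, h1, h2, smul_zero, add_zero, add_zero]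

/-- a vector all of whose pairings with rational vectors are rational is rational -/
theorem RQ.rat_of_pairings (h : RQ Q F₀ P r) (y : ι → F)
    (hy : ∀ x, Rt F₀ P x → BB x y ∈ F₀) : Rt F₀ P y := by
  classical
  let φ : Module.Dual F₀ (ι → F₀) :=
    { toFun := fun u => ⟨BB (toV P u) y, hy _ (rt_toV u)⟩
      map_add' := by
        intro u v
        apply Subtype.ext
        rw [Subfield.coe_add]
        show BB (toV P (u + v)) y = BB (toV P u) y + BB (toV P v) y
        rw [toV_add, map_add, LinearMap.add_apply]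
      map_smul' := by
        intro a u
        apply Subtype.ext
        rw [RingHom.id_apply, smul_eq_mul, Subfield.coe_mul]
        show BB (toV P (a • u)) y = (a : F) * BB (toV P u) y
        rw [toV_smul, map_smul, LinearMap.smul_apply, smul_eq_mul] }
  obtain ⟨z, hz⟩ : ∃ z : ι → F₀, ∀ u, QuadraticMap.polarBilin (Q0 h) z u = φ u :=
    ⟨(LinearMap.BilinForm.toDual (QuadraticMap.polarBilin (Q0 h)) (Q0_nondeg h)).symm φ, fun u =>
      LinearMap.BilinForm.apply_toDual_symm_apply φ u⟩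
  have key : y - toV P z = 0 := by
    apply h.nondeg_rat
    intro x hx
    obtain ⟨u, rfl⟩ := exists_toV hx
    rw [map_sub, LinearMap.sub_apply, sub_eq_zero, polar_symm Q y, polar_symm Q (toV P z),
      ← B0_coe h, polar_symm (Q0 h), hz u]
    rfl
  rw [sub_eq_zero.mp key]
  exact rt_toV z

/-- a rational vector orthogonal to `x` but not to `y`, when `y` is not a rational multiple of
`x` -/
theorem RQ.exists_perp (h : RQ Q F₀ P r) (x y : ι → F) (hx : Rt F₀ P x) (hy : Rt F₀ P y)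
    (hx0 : x ≠ 0) (hyne : ∀ a ∈ F₀, y ≠ a • x) :
    ∃ z, Rt F₀ P z ∧ BB x z = 0 ∧ BB y z ≠ 0 := by
  obtain ⟨w, hw, hxw⟩ := h.exists_ne_rat x hx0
  have hb : BB x w ∈ F₀ := h.val2 hx hw
  obtain ⟨c, hc⟩ : ∃ c : F, c = (BB x w)⁻¹ := ⟨_, rfl⟩
  have hcm : c ∈ F₀ := by rw [hc]; exact F₀.inv_mem hb
  obtain ⟨w', hw'⟩ : ∃ w' : ι → F, w' = c • w := ⟨_, rfl⟩
  have hw'r : Rt F₀ P w' := by rw [hw']; exact rt_smul hcm hw
  have hxw' : BB x w' = 1 := by
    rw [hw', map_smul, smul_eq_mul, hc, inv_mul_cancel₀ hxw]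
  by_contra hcon
  push Not at hcon
  have hβm : BB y w' ∈ F₀ := h.val2 hy hw'r
  apply hyne (BB y w') hβm
  rw [← sub_eq_zero]
  apply h.nondeg_rat
  intro v hv
  have hcv : BB x v ∈ F₀ := h.val2 hx hv
  obtain ⟨z, hz⟩ : ∃ z : ι → F, z = v - (BB x v) • w' := ⟨_, rfl⟩
  have hzr : Rt F₀ P z := by rw [hz]; exact rt_sub hv (rt_smul hcv hw'r)
  have hxz : BB x z = 0 := by
    rw [hz, map_sub, map_smul, hxw', smul_eq_mul, mul_one, sub_self]
  have hyz := hcon z hzr hxz
  rw [hz, map_sub, map_smul, smul_eq_mul] at hyz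
  rw [map_sub, LinearMap.sub_apply, map_smul, LinearMap.smul_apply, smul_eq_mul]
  linear_combination hyz

/-- a rational singular vector with prescribed vanishing pairings and pairing `1` with `x`,
given a witness -/
theorem RQ.exists_iso_dual (h : RQ Q F₀ P r) {κ : Type} [Fintype κ] (s : κ → ι → F)
    (hs : ∀ i, Rt F₀ P (s i)) (x : ι → F) (hx : Rt F₀ P x) (z₁ : ι → F)
    (hz₁ : Rt F₀ P z₁) (hz₁s : ∀ i, BB (s i) z₁ = 0) (hxz₁ : BB x z₁ ≠ 0)
    (hκ : 2 * (Fintype.card κ + 2) + 3 ≤ Fintype.card ι) :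
    ∃ z, Rt F₀ P z ∧ Q z = 0 ∧ (∀ i, BB (s i) z = 0) ∧ BB x z = 1 := by
  classical
  have hb : BB x z₁ ∈ F₀ := h.val2 hx hz₁
  obtain ⟨z₂, hz₂⟩ : ∃ z₂ : ι → F, z₂ = (BB x z₁)⁻¹ • z₁ := ⟨_, rfl⟩
  have hz₂r : Rt F₀ P z₂ := by rw [hz₂]; exact rt_smul (F₀.inv_mem hb) hz₁
  have hxz₂ : BB x z₂ = 1 := by
    rw [hz₂, map_smul, smul_eq_mul, inv_mul_cancel₀ hxz₁]
  have hsz₂ : ∀ i, BB (s i) z₂ = 0 := by
    intro i
    rw [hz₂, map_smul, hz₁s i, smul_zero]
  have hxs : ∀ o : Option κ, Rt F₀ P (o.elim x s) := by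
    intro o
    cases o with
    | none => exact hx
    | some i => exact hs i
  obtain ⟨d, hd, hdd, hds⟩ := h.exists_iso_adjust (fun o : Option κ => o.elim x s) hxs z₂ hz₂r
    (by rw [Fintype.card_option]; omega)
  refine ⟨d, hd, hdd, fun i => ?_, ?_⟩
  · have := hds (some i)
    simp only [Option.elim] at this
    rw [this]
    exact hsz₂ i
  · have := hds none
    simp only [Option.elim] at this
    rw [this]
    exact hxz₂

/-- a rational hyperbolic pair orthogonal to a family of rational vectors -/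
theorem RQ.exists_hyp_perp (h : RQ Q F₀ P r) {κ : Type} [Fintype κ] (s : κ → ι → F)
    (hs : ∀ i, Rt F₀ P (s i)) (hκ : 2 * (Fintype.card κ + 2) + 3 ≤ Fintype.card ι) :
    ∃ e f, Rt F₀ P e ∧ Rt F₀ P f ∧ Q e = 0 ∧ Q f = 0 ∧ BB e f = 1 ∧
      (∀ i, BB (s i) e = 0) ∧ (∀ i, BB (s i) f = 0) := by
  obtain ⟨e, z, he, hz, hee, hes, hzs, hez⟩ := h.exists_iso_perp s hs (by omega)
  obtain ⟨f, hf, hff, hfs, hef⟩ := h.exists_iso_dual s hs e he z hz hzs hez hκ
  exact ⟨e, f, he, hf, hee, hff, hef, hes, hfs⟩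

/-- a rational singular partner -/
theorem RQ.exists_partner (h : RQ Q F₀ P r) (hn : 7 ≤ Fintype.card ι) (e : ι → F)
    (he : Rt F₀ P e) (he0 : e ≠ 0) : ∃ f, Rt F₀ P f ∧ Q f = 0 ∧ BB e f = 1 := by
  obtain ⟨z₁, hz₁, hez₁⟩ := h.exists_ne_rat e he0
  obtain ⟨f, hf, hff, -, hef⟩ := h.exists_iso_dual (fun i : Fin 0 => 0) (fun i => i.elim0) e he
    z₁ hz₁ (fun i => i.elim0) hez₁ (by simp; omega)
  exact ⟨f, hf, hff, hef⟩

/-- a rational singular vector orthogonal to `u` and to neither `p` nor `p'` -/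
theorem RQ.exists_iso_conn (h : RQ Q F₀ P r) (hn : 11 ≤ Fintype.card ι) (u p p' : ι → F)
    (hu : Rt F₀ P u) (hp : Rt F₀ P p) (hp' : Rt F₀ P p') (hu0 : u ≠ 0)
    (hpu : ∀ a ∈ F₀, p ≠ a • u) (hp'u : ∀ a ∈ F₀, p' ≠ a • u) :
    ∃ d, Rt F₀ P d ∧ Q d = 0 ∧ BB u d = 0 ∧ BB p d ≠ 0 ∧ BB p' d ≠ 0 := by
  classical
  obtain ⟨z, hz, huz, hpz⟩ := h.exists_perp u p hu hp hu0 hpu
  obtain ⟨z', hz', huz', hp'z'⟩ := h.exists_perp u p' hu hp' hu0 hp'u
  obtain ⟨z'', hz'', huz'', hpz'', hp'z''⟩ : ∃ z'', Rt F₀ P z'' ∧ BB u z'' = 0 ∧ BB p z'' ≠ 0 ∧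
      BB p' z'' ≠ 0 := by
    by_cases c1 : BB p' z = 0
    · by_cases c2 : BB p z' = 0
      · refine ⟨z + z', rt_add hz hz', ?_, ?_, ?_⟩
        · rw [map_add, huz, huz', add_zero]
        · rw [map_add, c2, add_zero]; exact hpz
        · rw [map_add, c1, zero_add]; exact hp'z'
      · exact ⟨z', hz', huz', c2, hp'z'⟩
    · exact ⟨z, hz, huz, hpz, c1⟩
  obtain ⟨d, hd, hdd, hds⟩ := h.exists_iso_adjust ![u, p, p']
    (by
      intro i
      fin_cases i
      · exact hu
      · exact hp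
      · exact hp') z'' hz'' (by simp; omega)
  refine ⟨d, hd, hdd, ?_, ?_, ?_⟩
  · have := hds 0
    simp only [Matrix.cons_val_zero] at this
    rw [this]; exact huz''
  · have := hds 1
    simp only [Matrix.cons_val_one, Matrix.cons_val_zero] at this
    rw [this]; exact hpz''
  · have := hds 2
    simp only [Matrix.cons_val_two, Matrix.tail_cons, Matrix.head_cons] at this
    rw [this]; exact hp'z''

end geo

end Cfsg.Agent.Lib.Helper61.SubfieldOr
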