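import Mathlib
import Cfsg.Prelude.Def_GeometricClasses
import Cfsg.Agent.Lib.Helper61.SubfieldOrC

/-!
Subfield subgroups of orthogonal groups: rational Siegel elements and the ring of Siegel
parameters of an overgroup.
-/

set_option autoImplicit false
set_option linter.unusedSectionVars false
set_option linter.unusedVariables false

namespace Cfsg.Agent.Lib.Helper61.SubfieldOr

open Matrix Module Cfsg.Agent.Lib.Helper43

section ring
variable {F : Type*} [Field F] [Fintype F] {ι : Type} [Fintype ι] [DecidableEq ι]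
variable {Q : QuadraticForm F (ι → F)} {F₀ : Subfield F} {P : GL ι F} {r : ℕ}
variable {K : Subgroup ↥(Cfsg.Omega F ⇑Q)}

local notation "BB" => QuadraticMap.polarBilin Q

theorem RQ.finrank (h : RQ Q F₀ P r) : Module.finrank F₀ F = r := by
  classical
  haveI : Fintype F₀ := Fintype.ofFinite F₀
  have h1 : Fintype.card F = Fintype.card F₀ ^ Module.finrank F₀ F := Module.card_eq_pow_finrank
  have h0 := h.hcard
  rw [Nat.card_eq_fintype_card] at h0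
  rw [h0] at h1
  have h2 : 1 < Fintype.card F₀ := Fintype.one_lt_card
  exact (Nat.pow_right_injective h2 h1).symm

/-- subalgebras of `F` over `F₀` are trivial -/
theorem RQ.subalgebra_dichotomy (h : RQ Q F₀ P r) (A : Subalgebra F₀ F) :
    (∀ a ∈ A, a ∈ F₀) ∨ (∀ a : F, a ∈ A) := by
  have hsimple : IsSimpleOrder (Subalgebra F₀ F) :=
    Subalgebra.isSimpleOrder_of_finrank_prime F₀ F (h.finrank ▸ h.hr)
  rcases hsimple.eq_bot_or_eq_top A with h1 | h1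
  · left
    intro a ha
    rw [h1, Algebra.mem_bot] at ha
    obtain ⟨y, rfl⟩ := ha
    exact y.2
  · right
    intro a
    rw [h1]
    exact Algebra.mem_top

/-- Siegel transformations with rational parameters preserve the rational structure -/
theorem RQ.siegel_rt (h : RQ Q F₀ P r) {u z x : ι → F} (hu : Rt F₀ P u) (hz : Rt F₀ P z)
    (hx : Rt F₀ P x) : Rt F₀ P (siegelLin Q u z x) := by
  rw [siegelLin_apply]
  exact rt_add (rt_add hx (rt_smul (F₀.sub_mem (h.val2 hx hz)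
    (F₀.mul_mem (h.val _ hz) (h.val2 hx hu))) hu)) (rt_smul (F₀.neg_mem (h.val2 hx hu)) hz)

theorem mem_HQ_of_rt (t : ↥(Cfsg.Omega F ⇑Q)) (ht : ∀ x, Rt F₀ P x → Rt F₀ P (lo Q t x)) :
    t ∈ HQ Q F₀ P := by
  show omEmb Q t ∈ Cfsg.Geo.subfieldSubgroup F₀ P
  apply mem_subfield_of_rt _ 1 one_ne_zero
  intro x hx
  rw [one_smul, omEmb_act]
  exact ht x hx

/-- rational Siegel elements lie in every overgroup of the subfield subgroup -/
theorem RQ.rat_siegel (h : RQ Q F₀ P r) (hHK : HQ Q F₀ P ≤ K) {u z : ι → F} (hu : Rt F₀ P u)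
    (hz : Rt F₀ P z) : InK Q K (siegelLin Q u z) := by
  intro t ht
  apply hHK
  apply mem_HQ_of_rt
  intro x hx
  rw [ht]
  exact h.siegel_rt hu hz hx

theorem InK.of_mul_eq_one {A B : Module.End F (ι → F)} (hA : InK Q K A)
    (a : ↥(Cfsg.Omega F ⇑Q)) (ha : lo Q a = A) (hAB : A * B = 1) : InK Q K B := by
  intro t ht
  have h1 : a * t = 1 := by
    apply lo_injective Q
    rw [lo_mul, ha, ht, hAB, lo_one]
  have : t = a⁻¹ := by
    rw [eq_inv_iff_mul_eq_one, mul_eq_one_iff_eq_inv, ← mul_eq_one_iff_eq_inv']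
    exact h1
  rw [this]
  exact K.inv_mem (hA a ha)

/-- conjugates of Siegel elements -/
theorem inK_siegel_conj (hQ : (QuadraticMap.polarBilin Q).Nondegenerate)
    (hn : 7 ≤ Fintype.card ι) {u z : ι → F} (hu : Q u = 0) (huz : BB u z = 0)
    (hK : InK Q K (siegelLin Q u z)) (g : ↥(Cfsg.Omega F ⇑Q)) (hg : g ∈ K) :
    InK Q K (siegelLin Q (lo Q g u) (lo Q g z)) :=
  hK.conj (sO Q hQ hn u z hu huz) (lo_sO Q hQ hn u z hu huz) g hg
    (siegel_conj_end Q (lo Q g) (lo_isometry Q g) u z)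

theorem inK_siegel_add (hQ : (QuadraticMap.polarBilin Q).Nondegenerate)
    (hn : 7 ≤ Fintype.card ι) {u z z' : ι → F} (hu : Q u = 0) (huz : BB u z = 0)
    (huz' : BB u z' = 0) (h1 : InK Q K (siegelLin Q u z)) (h2 : InK Q K (siegelLin Q u z')) :
    InK Q K (siegelLin Q u (z + z')) := by
  rw [← siegel_mul Q u z z' hu huz huz']
  exact h1.mul h2 (sO Q hQ hn u z hu huz) (sO Q hQ hn u z' hu huz') (lo_sO Q hQ hn u z hu huz)
    (lo_sO Q hQ hn u z' hu huz')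

theorem inK_siegel_neg (hQ : (QuadraticMap.polarBilin Q).Nondegenerate)
    (hn : 7 ≤ Fintype.card ι) {u z : ι → F} (hu : Q u = 0) (huz : BB u z = 0)
    (h1 : InK Q K (siegelLin Q u z)) : InK Q K (siegelLin Q u (-z)) :=
  h1.of_mul_eq_one (sO Q hQ hn u z hu huz) (lo_sO Q hQ hn u z hu huz)
    (siegel_inv_right Q u z hu huz)

/-- from `S u (z + z')` and `S u z` -/
theorem inK_siegel_cancel (hQ : (QuadraticMap.polarBilin Q).Nondegenerate)
    (hn : 7 ≤ Fintype.card ι) {u z z' : ι → F} (hu : Q u = 0) (huz : BB u z = 0)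
    (huz' : BB u z' = 0) (h1 : InK Q K (siegelLin Q u (z + z')))
    (h2 : InK Q K (siegelLin Q u z)) : InK Q K (siegelLin Q u z') := by
  have h3 := inK_siegel_neg hQ hn hu huz h2
  have h4 := inK_siegel_add hQ hn hu (by rw [map_neg, huz, neg_zero])
    (by rw [map_add, huz, huz', add_zero]) h3 h1
  rwa [neg_add_cancel_left] at h4

/-- one rational Siegel element moving `w₀` to a multiple of `w₁` and fixing `v₀` -/
theorem RQ.move (h : RQ Q F₀ P r) (hn : 11 ≤ Fintype.card ι) (hHK : HQ Q F₀ P ≤ K)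
    (v₀ w₀ w₁ : ι → F) (hv₀ : Rt F₀ P v₀) (hw₀ : Rt F₀ P w₀) (hw₁ : Rt F₀ P w₁) (hv₀0 : v₀ ≠ 0)
    (hw₀w₀ : Q w₀ = 0) (hw₁w₁ : Q w₁ = 0) (hv₀w₀ : BB v₀ w₀ = 0) (hv₀w₁ : BB v₀ w₁ = 0)
    (hw₀v₀ : ∀ a ∈ F₀, w₀ ≠ a • v₀) (hw₁v₀ : ∀ a ∈ F₀, w₁ ≠ a • v₀) :
    ∃ (t : ↥(Cfsg.Omega F ⇑Q)) (m : F), t ∈ K ∧ m ∈ F₀ ∧ m ≠ 0 ∧ lo Q t w₀ = m • w₁ ∧
      lo Q t v₀ = v₀ := by
  have hn7 : 7 ≤ Fintype.card ι := by omega
  obtain ⟨d, hd, hdd, hv₀d, hw₀d, hw₁d⟩ := h.exists_iso_conn hn v₀ w₀ w₁ hv₀ hw₀ hw₁ hv₀0 hw₀v₀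
    hw₁v₀
  obtain ⟨m, hm⟩ : ∃ m : F, m = BB w₀ d / BB w₁ d := ⟨_, rfl⟩
  have hmm : m ∈ F₀ := by rw [hm]; exact F₀.div_mem (h.val2 hw₀ hd) (h.val2 hw₁ hd)
  have hm0 : m ≠ 0 := by rw [hm]; exact div_ne_zero hw₀d hw₁d
  have hQb : Q w₀ = Q (m • w₁) := by rw [Q_smul, hw₁w₁, mul_zero, hw₀w₀]
  have hβ : BB w₀ d = BB (m • w₁) d := by
    rw [map_smul, LinearMap.smul_apply, smul_eq_mul, hm, div_mul_cancel₀ _ hw₁d]
  have hkey := siegelLin_key Q w₀ (m • w₁) d hQb hβ hw₀d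
  have horth := siegelLin_key_orth Q w₀ (m • w₁) d hdd hβ
  obtain ⟨z, hz⟩ : ∃ z : ι → F, z = (BB w₀ d)⁻¹ • (w₀ - m • w₁) := ⟨_, rfl⟩
  rw [← hz] at hkey horth
  have hzr : Rt F₀ P z := by
    rw [hz]
    exact rt_smul (F₀.inv_mem (h.val2 hw₀ hd)) (rt_sub hw₀ (rt_smul hmm hw₁))
  refine ⟨sO Q h.hQ hn7 d z hdd horth, m, ?_, hmm, hm0, ?_, ?_⟩
  · exact h.rat_siegel hHK hd hzr _ (lo_sO Q h.hQ hn7 d z hdd horth)
  · rw [lo_sO]; exact hkey
  · rw [lo_sO, siegelLin_apply, hv₀d]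
    have : BB v₀ z = 0 := by
      rw [hz, map_smul, map_sub, map_smul, hv₀w₀, hv₀w₁, smul_zero, sub_zero, smul_zero]
    rw [this]
    simp

theorem TIP.hwv {v w : ι → F} (t : TIP Q F₀ P v w) : BB w v = 0 := pol_symm0 Q t.hvw

theorem TIP.symm {v w : ι → F} (t : TIP Q F₀ P v w) : TIP Q F₀ P w v :=
  ⟨t.hw, t.hv, t.hww, t.hvv, t.hwv, t.ind2, t.ind1⟩

theorem TIP.v_ne {v w : ι → F} (t : TIP Q F₀ P v w) : v ≠ 0 := by
  intro h0
  apply t.ind2 0 F₀.zero_mem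
  rw [h0, zero_smul]

theorem TIP.w_ne {v w : ι → F} (t : TIP Q F₀ P v w) : w ≠ 0 := by
  intro h0
  apply t.ind1 0 F₀.zero_mem
  rw [h0, zero_smul]

/-- building a pair from a separating witness -/
theorem TIP.of_witness {v w z : ι → F} (hv : Rt F₀ P v) (hw : Rt F₀ P w) (hvv : Q v = 0)
    (hww : Q w = 0) (hvw : BB v w = 0) (hv0 : v ≠ 0) (hvz : BB v z = 0) (hwz : BB w z ≠ 0) :
    TIP Q F₀ P v w := by
  have h1 : ∀ a ∈ F₀, w ≠ a • v := by
    intro a _ he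
    apply hwz
    rw [he, map_smul, LinearMap.smul_apply, hvz, smul_zero]
  refine ⟨hv, hw, hvv, hww, hvw, h1, ?_⟩
  intro a ha he
  have ha0 : a ≠ 0 := by
    intro h0
    rw [h0, zero_smul] at he
    exact hv0 he
  apply h1 a⁻¹ (F₀.inv_mem ha)
  rw [he, smul_smul, inv_mul_cancel₀ ha0, one_smul]

theorem TIP.smul_mem {v w : ι → F} (t : TIP Q F₀ P v w) (a : F) : BB v (a • w) = 0 := by
  rw [map_smul, t.hvw, smul_zero]

theorem AB_add (hQ : (QuadraticMap.polarBilin Q).Nondegenerate) (hn : 7 ≤ Fintype.card ι)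
    {v w : ι → F} (t : TIP Q F₀ P v w) {a b : F}
    (ha : a ∈ AB Q F₀ K v w) (hb : b ∈ AB Q F₀ K v w) : a + b ∈ AB Q F₀ K v w := by
  intro l hl
  rw [mul_add, add_smul]
  exact inK_siegel_add hQ hn t.hvv (t.smul_mem _) (t.smul_mem _) (ha l hl) (hb l hl)

theorem AB_smul {v w : ι → F} {a l : F} (hl : l ∈ F₀) (ha : a ∈ AB Q F₀ K v w) :
    l * a ∈ AB Q F₀ K v w := by
  intro l' hl'
  rw [← mul_assoc]
  exact ha (l' * l) (F₀.mul_mem hl' hl)

theorem RQ.AB_rat (h : RQ Q F₀ P r) (hHK : HQ Q F₀ P ≤ K) {v w : ι → F} (t : TIP Q F₀ P v w)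
    {a : F} (ha : a ∈ F₀) : a ∈ AB Q F₀ K v w := by
  intro l hl
  exact h.rat_siegel hHK t.hv (rt_smul (F₀.mul_mem hl ha) t.hw)

/-- moving the second vector of the pair -/
theorem RQ.AB_move_right (h : RQ Q F₀ P r) (hn : 11 ≤ Fintype.card ι) (hHK : HQ Q F₀ P ≤ K)
    {v₀ w₀ w₁ : ι → F} (t₀ : TIP Q F₀ P v₀ w₀) (t₁ : TIP Q F₀ P v₀ w₁) :
    AB Q F₀ K v₀ w₀ ⊆ AB Q F₀ K v₀ w₁ := by
  have hn7 : 7 ≤ Fintype.card ι := by omega
  intro a ha l hl
  obtain ⟨t, m, ht, hm, hm0, e₁, e₂⟩ := h.move hn hHK v₀ w₀ w₁ t₀.hv t₀.hw t₁.hw t₀.v_ne t₀.hww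
    t₁.hww t₀.hvw t₁.hvw t₀.ind1 t₁.ind1
  have h1 : InK Q K (siegelLin Q v₀ ((l / m * a) • w₀)) := ha _ (F₀.div_mem hl hm)
  have h2 := inK_siegel_conj h.hQ hn7 t₀.hvv (t₀.smul_mem _) h1 t ht
  rw [e₂, map_smul, e₁, smul_smul] at h2
  have : l / m * a * m = l * a := by field_simp
  rwa [this] at h2

/-- swapping the pair -/
theorem AB_swap {v w : ι → F} (t : TIP Q F₀ P v w) {a : F}
    (ha : a ∈ AB Q F₀ K v w) : a ∈ AB Q F₀ K w v := by
  intro l hl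
  have h1 := ha (-l) (F₀.neg_mem hl)
  rw [siegel_swap Q v w _ t.hvv t.hww] at h1
  have : -(-l * a) = l * a := by ring
  rwa [this] at h1

/-- moving the first vector of the pair -/
theorem RQ.AB_move_left (h : RQ Q F₀ P r) (hn : 11 ≤ Fintype.card ι) (hHK : HQ Q F₀ P ≤ K)
    {v₀ v₁ w : ι → F} (t₀ : TIP Q F₀ P v₀ w) (t₁ : TIP Q F₀ P v₁ w) :
    AB Q F₀ K v₀ w ⊆ AB Q F₀ K v₁ w := by
  intro a ha
  have h1 := AB_swap t₀ ha
  have h2 := h.AB_move_right hn hHK t₀.symm t₁.symm h1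
  exact AB_swap t₁.symm h2

/-- multiplicativity -/
theorem AB_mul (hQ : (QuadraticMap.polarBilin Q).Nondegenerate) (hn : 7 ≤ Fintype.card ι)
    (v w e f : ι → F) (hv : Q v = 0) (hw : Q w = 0) (he : Q e = 0)
    (hf : Q f = 0) (hef : BB e f = 1) (hvw : BB v w = 0) (hve : BB v e = 0) (hvf : BB v f = 0)
    (hwe : BB w e = 0) (hwf : BB w f = 0) {a b : F} (ha : a ∈ AB Q F₀ K v f)
    (hb : b ∈ AB Q F₀ K e w) : a * b ∈ AB Q F₀ K v w := by
  intro l hl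
  have hew : BB e w = 0 := pol_symm0 Q hwe
  obtain ⟨a', ha'⟩ : ∃ a' : F, a' = -l * a := ⟨_, rfl⟩
  have hA : InK Q K (siegelLin Q v (a' • f)) := by rw [ha']; exact ha (-l) (F₀.neg_mem hl)
  have hB : InK Q K (siegelLin Q e (b • w)) := by
    have := hb 1 F₀.one_mem
    rwa [one_mul] at this
  have hvaf : BB v (a' • f) = 0 := by rw [map_smul, hvf, smul_zero]
  have hebw : BB e (b • w) = 0 := by rw [map_smul, hew, smul_zero]
  have hvc : BB v ((-(a' * b)) • w) = 0 := by rw [map_smul, hvw, smul_zero]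
  have hcomm := siegel_comm Q v w e f a' b hv hw he hf hef hvw hve hvf hwe hwf
  let tA := sO Q hQ hn v (a' • f) hv hvaf
  let tB := sO Q hQ hn e (b • w) he hebw
  let tC := sO Q hQ hn v ((-(a' * b)) • w) hv hvc
  have eA : lo Q tA = siegelLin Q v (a' • f) := lo_sO Q hQ hn _ _ _ _
  have eB : lo Q tB = siegelLin Q e (b • w) := lo_sO Q hQ hn _ _ _ _
  have eC : lo Q tC = siegelLin Q v ((-(a' * b)) • w) := lo_sO Q hQ hn _ _ _ _
  have h1 : InK Q K (siegelLin Q e (b • w) * siegelLin Q v (a' • f)) := hB.mul hA tB tA eB eA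
  rw [hcomm] at h1
  have h2 := h1.of_mul_right hB (tA * tC) tB (by rw [lo_mul, eA, eC]) eB
  have h3 := h2.of_mul_left hA tA tC eA eC
  have : -(a' * b) = l * (a * b) := by rw [ha']; ring
  rwa [this] at h3

/-- all pairs have the same parameter set -/
theorem RQ.AB_le (h : RQ Q F₀ P r) (hn : 11 ≤ Fintype.card ι) (hHK : HQ Q F₀ P ≤ K)
    {v w v' w' : ι → F} (t : TIP Q F₀ P v w) (t' : TIP Q F₀ P v' w') :
    AB Q F₀ K v w ⊆ AB Q F₀ K v' w' := by
  classical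
  obtain ⟨x, z, hx, hz, hxx, hxs, hzs, hxz⟩ := h.exists_iso_perp ![w, w']
    (by
      intro i
      fin_cases i
      · exact t.hw
      · exact t'.hw) (by simp; omega)
  have hwx : BB w x = 0 := hxs 0
  have hw'x : BB w' x = 0 := hxs 1
  have hwz : BB w z = 0 := hzs 0
  have hw'z : BB w' z = 0 := hzs 1
  have p1 : TIP Q F₀ P x w := (TIP.of_witness t.hw hx t.hww hxx hwx t.w_ne hwz hxz).symm
  have p2 : TIP Q F₀ P x w' := (TIP.of_witness t'.hw hx t'.hww hxx hw'x t'.w_ne hw'z hxz).symm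
  intro a ha
  have h1 := h.AB_move_left hn hHK t p1 ha
  have h2 := h.AB_move_right hn hHK p1 p2 h1
  exact h.AB_move_left hn hHK p2 t' h2

/-- the parameter set is a subalgebra -/
theorem RQ.AB_dichotomy (h : RQ Q F₀ P r) (hn : 11 ≤ Fintype.card ι) (hHK : HQ Q F₀ P ≤ K)
    {v w : ι → F} (t : TIP Q F₀ P v w) :
    (∀ a ∈ AB Q F₀ K v w, a ∈ F₀) ∨ (∀ a : F, a ∈ AB Q F₀ K v w) := by
  classical
  have hn7 : 7 ≤ Fintype.card ι := by omega
  obtain ⟨e, f, he, hf, hee, hff, hef, hes, hfs⟩ := h.exists_hyp_perp ![v, w]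
    (by
      intro i
      fin_cases i
      · exact t.hv
      · exact t.hw) (by simp; omega)
  have hve : BB v e = 0 := hes 0
  have hwe : BB w e = 0 := hes 1
  have hvf : BB v f = 0 := hfs 0
  have hwf : BB w f = 0 := hfs 1
  have hfe : BB f e = 1 := by rw [polar_symm, hef]
  have p1 : TIP Q F₀ P v f :=
    TIP.of_witness t.hv hf t.hvv hff hvf t.v_ne hve (by rw [hfe]; exact one_ne_zero)
  have p2 : TIP Q F₀ P e w :=
    (TIP.of_witness t.hw he t.hww hee hwe t.w_ne hwf (by rw [hef]; exact one_ne_zero)).symm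
  let A : Subalgebra F₀ F :=
    { carrier := AB Q F₀ K v w
      mul_mem' := by
        intro a b ha hb
        have ha' := h.AB_le hn hHK t p1 ha
        have hb' := h.AB_le hn hHK t p2 hb
        exact AB_mul h.hQ hn7 v w e f t.hvv t.hww hee hff hef t.hvw hve hvf hwe hwf ha' hb'
      add_mem' := fun {a b} ha hb => AB_add h.hQ hn7 t ha hb
      algebraMap_mem' := fun x => h.AB_rat hHK t x.2 }
  exact h.subalgebra_dichotomy A

end ring

end Cfsg.Agent.Lib.Helper61.SubfieldOr
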