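import Mathlib
import Cfsg.Prelude.Def_GeometricClasses
import Cfsg.Agent.Lib.Helper61.SubfieldOrD

/-!
Subfield subgroups of orthogonal groups: an overgroup whose ring of Siegel parameters is the
whole field is the whole group `Ω`.
-/

set_option autoImplicit false
set_option linter.unusedSectionVars false
set_option linter.unusedVariables false

namespace Cfsg.Agent.Lib.Helper61.SubfieldOr

open Matrix Module Cfsg.Agent.Lib.Helper43

section big
variable {F : Type*} [Field F] [Fintype F] {ι : Type} [Fintype ι] [DecidableEq ι]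
variable {Q : QuadraticForm F (ι → F)} {F₀ : Subfield F} {P : GL ι F} {r : ℕ}
variable {K : Subgroup ↥(Cfsg.Omega F ⇑Q)}

local notation "BB" => QuadraticMap.polarBilin Q

theorem inK_one : InK Q K (1 : Module.End F (ι → F)) := by
  intro t ht
  have : t = 1 := by
    apply lo_injective Q
    rw [ht, lo_one]
  rw [this]
  exact K.one_mem

theorem inK_siegel_sum (hQ : (QuadraticMap.polarBilin Q).Nondegenerate)
    (hn : 7 ≤ Fintype.card ι) {u : ι → F} (hu : Q u = 0) {κ : Type} (s : Finset κ)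
    (g : κ → ι → F) (hg : ∀ i ∈ s, BB u (g i) = 0)
    (hK : ∀ i ∈ s, InK Q K (siegelLin Q u (g i))) : InK Q K (siegelLin Q u (∑ i ∈ s, g i)) := by
  classical
  induction s using Finset.induction_on with
  | empty =>
    rw [Finset.sum_empty, siegel_zero]
    exact inK_one
  | insert a s ha ih =>
    rw [Finset.sum_insert ha]
    have h1 : BB u (∑ i ∈ s, g i) = 0 := by
      rw [map_sum]
      exact Finset.sum_eq_zero (fun i hi => hg i (Finset.mem_insert_of_mem hi))
    exact inK_siegel_add hQ hn hu (hg a (Finset.mem_insert_self a s)) h1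
      (hK a (Finset.mem_insert_self a s))
      (ih (fun i hi => hg i (Finset.mem_insert_of_mem hi))
        (fun i hi => hK i (Finset.mem_insert_of_mem hi)))

/-- if the parameter ring is everything, Siegel elements `S u (c x)` with rational `u, x` lie in
`K` -/
theorem RQ.inK_rat_smul (h : RQ Q F₀ P r) (hn : 11 ≤ Fintype.card ι) (hHK : HQ Q F₀ P ≤ K)
    {v₀ w₀ : ι → F} (t₀ : TIP Q F₀ P v₀ w₀) (hA : ∀ a : F, a ∈ AB Q F₀ K v₀ w₀)
    (u x : ι → F) (hu : Rt F₀ P u) (hu0 : u ≠ 0) (huu : Q u = 0) (hx : Rt F₀ P x)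
    (hux : BB u x = 0) (c : F) : InK Q K (siegelLin Q u (c • x)) := by
  classical
  have hn7 : 7 ≤ Fintype.card ι := by omega
  obtain ⟨e, f, he, hf, hee, hff, hef, hes, hfs⟩ := h.exists_hyp_perp ![u, x]
    (by
      intro i
      fin_cases i
      · exact hu
      · exact hx) (by simp; omega)
  have hue : BB u e = 0 := hes 0
  have hxe : BB x e = 0 := hes 1
  have huf : BB u f = 0 := hfs 0
  have hxf : BB x f = 0 := hfs 1
  have hfe : BB f e = 1 := by rw [polar_symm, hef]
  obtain ⟨s, hs⟩ : ∃ s : ι → F, s = x + (-Q x) • e + f := ⟨_, rfl⟩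
  have hsr : Rt F₀ P s := by
    rw [hs]
    exact rt_add (rt_add hx (rt_smul (F₀.neg_mem (h.val _ hx)) he)) hf
  have hss : Q s = 0 := by
    rw [hs, Q_add, Q_add, Q_smul, hee, hff]
    simp only [map_add, map_smul, LinearMap.add_apply, LinearMap.smul_apply, smul_eq_mul, hxe, hxf,
      hef]
    ring
  have hus : BB u s = 0 := by
    rw [hs, map_add, map_add, map_smul, hux, hue, huf, smul_zero, add_zero, add_zero]
  have hse : BB s e = 1 := by
    rw [hs]
    simp only [map_add, map_smul, LinearMap.add_apply, LinearMap.smul_apply, smul_eq_mul, hxe,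
      hfe, pol_self0 Q hee]
    ring
  have p1 : TIP Q F₀ P u s :=
    TIP.of_witness hu hsr huu hss hus hu0 hue (by rw [hse]; exact one_ne_zero)
  have p2 : TIP Q F₀ P u e :=
    TIP.of_witness hu he huu hee hue hu0 huf (by rw [hef]; exact one_ne_zero)
  have p3 : TIP Q F₀ P u f :=
    TIP.of_witness hu hf huu hff huf hu0 hue (by rw [hfe]; exact one_ne_zero)
  have k1 : InK Q K (siegelLin Q u (c • s)) := by
    have := h.AB_le hn hHK t₀ p1 (hA c) 1 F₀.one_mem
    rwa [one_mul] at this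
  have k2 : InK Q K (siegelLin Q u ((c * Q x) • e)) := by
    have := h.AB_le hn hHK t₀ p2 (hA (c * Q x)) 1 F₀.one_mem
    rwa [one_mul] at this
  have k3 : InK Q K (siegelLin Q u ((-c) • f)) := by
    have := h.AB_le hn hHK t₀ p3 (hA (-c)) 1 F₀.one_mem
    rwa [one_mul] at this
  have e1 : c • x = c • s + ((c * Q x) • e + (-c) • f) := by
    rw [hs]
    module
  rw [e1]
  exact inK_siegel_add h.hQ hn7 huu (p1.smul_mem _)
    (by rw [map_add, p2.smul_mem, p3.smul_mem, add_zero]) k1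
    (inK_siegel_add h.hQ hn7 huu (p2.smul_mem _) (p3.smul_mem _) k2 k3)

/-- if the parameter ring is everything, the whole Siegel group of a rational singular vector
lies in `K` -/
theorem RQ.siegIn_of_univ (h : RQ Q F₀ P r) (hn : 11 ≤ Fintype.card ι) (hHK : HQ Q F₀ P ≤ K)
    {v₀ w₀ : ι → F} (t₀ : TIP Q F₀ P v₀ w₀) (hA : ∀ a : F, a ∈ AB Q F₀ K v₀ w₀)
    (u : ι → F) (hu : Rt F₀ P u) (hu0 : u ≠ 0) (huu : Q u = 0) :
    SiegIn Q h.hQ (by omega) K u := by
  classical
  have hn7 : 7 ≤ Fintype.card ι := by omega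
  refine ⟨huu, fun z huz => ?_⟩
  suffices hs : InK Q K (siegelLin Q u z) from hs _ (lo_sO Q h.hQ _ u z huu huz)
  obtain ⟨f, hf, hff, huf⟩ := h.exists_partner hn7 u hu hu0
  have hfu : BB f u = 1 := by rw [polar_symm, huf]
  -- expand `z` along the rational vectors `b j - B (b j) u • f`
  obtain ⟨c, hc⟩ : ∃ c : ι → F, c = P⁻¹.1 *ᵥ z := ⟨_, rfl⟩
  obtain ⟨b, hb⟩ : ∃ b : ι → ι → F, b = fun j => P.1 *ᵥ Pi.single j 1 := ⟨_, rfl⟩
  have hbr : ∀ j, Rt F₀ P (b j) := by
    intro j
    rw [hb]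
    exact rt_col j
  have hz : z = ∑ j, c j • b j := by
    rw [hc, hb]
    exact decomp_cols (P := P) z
  obtain ⟨b', hb'⟩ : ∃ b' : ι → ι → F, b' = fun j => b j - BB (b j) u • f := ⟨_, rfl⟩
  have hb'r : ∀ j, Rt F₀ P (b' j) := by
    intro j
    rw [hb']
    exact rt_sub (hbr j) (rt_smul (h.val2 (hbr j) hu) hf)
  have hub' : ∀ j, BB u (b' j) = 0 := by
    intro j
    rw [hb']
    simp only
    rw [map_sub, map_smul, huf, smul_eq_mul, mul_one, polar_symm Q u, sub_self]
  have hz' : z = ∑ j, c j • b' j := by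
    have h1 : ∑ j, c j • b' j = ∑ j, c j • b j - (∑ j, c j * BB (b j) u) • f := by
      rw [hb', Finset.sum_smul, ← Finset.sum_sub_distrib]
      apply Finset.sum_congr rfl
      intro j _
      simp only
      rw [smul_sub, smul_smul]
    have h2 : ∑ j, c j * BB (b j) u = BB z u := by
      conv_rhs => rw [hz]
      rw [map_sum, LinearMap.sum_apply]
      apply Finset.sum_congr rfl
      intro j _
      rw [map_smul, LinearMap.smul_apply, smul_eq_mul]
    rw [h1, h2, ← hz, polar_symm Q z u, huz, zero_smul, sub_zero]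
  rw [hz']
  apply inK_siegel_sum h.hQ hn7 huu
  · intro j _
    rw [map_smul, hub' j, smul_zero]
  · intro j _
    exact h.inK_rat_smul hn hHK t₀ hA u (b' j) hu hu0 huu (hb'r j) (hub' j) (c j)

/-- an overgroup whose parameter ring is the whole field is `Ω` -/
theorem RQ.eq_top_of_univ (h : RQ Q F₀ P r) (hn : 11 ≤ Fintype.card ι) (hHK : HQ Q F₀ P ≤ K)
    {v₀ w₀ : ι → F} (t₀ : TIP Q F₀ P v₀ w₀) (hA : ∀ a : F, a ∈ AB Q F₀ K v₀ w₀) : K = ⊤ := by
  have hn7 : 7 ≤ Fintype.card ι := by omega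
  obtain ⟨f, hf, hff, huf⟩ := h.exists_partner hn7 v₀ t₀.hv t₀.v_ne
  have hf0 : f ≠ 0 := by
    intro h0
    rw [h0, map_zero] at huf
    exact zero_ne_one huf
  have h1 := h.siegIn_of_univ hn hHK t₀ hA v₀ t₀.hv t₀.v_ne t₀.hvv
  have h2 := h.siegIn_of_univ hn hHK t₀ hA f hf hf0 hff
  exact eq_top_of_SiegIn_pair K v₀ f h1 h2 (by rw [huf]; exact one_ne_zero)

end big

end Cfsg.Agent.Lib.Helper61.SubfieldOr
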