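import Mathlib
import Cfsg.Prelude.Def_GeometricClasses
import Cfsg.Agent.Lib.Helper61.SubfieldOrE

/-!
Subfield subgroups of orthogonal groups: the small case, Siegel elements of the overgroup centred
at a rational point or orthogonal to a rational point.
-/

set_option autoImplicit false
set_option linter.unusedSectionVars false
set_option linter.unusedVariables false

namespace Cfsg.Agent.Lib.Helper61.SubfieldOr

open Matrix Module Cfsg.Agent.Lib.Helper43

section small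
variable {F : Type*} [Field F] [Fintype F] {ι : Type} [Fintype ι] [DecidableEq ι]
variable {Q : QuadraticForm F (ι → F)} {F₀ : Subfield F} {P : GL ι F} {r : ℕ}
variable {K : Subgroup ↥(Cfsg.Omega F ⇑Q)}

local notation "BB" => QuadraticMap.polarBilin Q

/-- a rational vector orthogonal to a family with rational duals, and not to `t` -/
theorem RQ.exists_rat_perp_ne (h : RQ Q F₀ P r) {κ : Type} [Fintype κ] [DecidableEq κ]
    (s s' : κ → ι → F) (hs : ∀ i, Rt F₀ P (s i)) (hs' : ∀ i, Rt F₀ P (s' i))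
    (hd : ∀ i j, BB (s i) (s' j) = if i = j then 1 else 0) (t : ι → F)
    (ht : t - ∑ i, BB t (s' i) • s i ≠ 0) :
    ∃ z, Rt F₀ P z ∧ (∀ i, BB (s i) z = 0) ∧ BB t z ≠ 0 := by
  obtain ⟨y, hy, hty⟩ := h.exists_ne_rat _ ht
  refine ⟨y - ∑ i, BB (s i) y • s' i, rt_sub hy (rt_sum _ _ (fun i _ =>
    rt_smul (h.val2 (hs i) hy) (hs' i))), fun j => ?_, ?_⟩
  · rw [map_sub, map_sum]
    simp only [map_smul, smul_eq_mul, hd]
    rw [Finset.sum_eq_single j]
    · simp
    · intro i _ hij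
      rw [if_neg (Ne.symm hij), mul_zero]
    · intro hj
      exact absurd (Finset.mem_univ j) hj
  · intro h0
    apply hty
    rw [map_sub, LinearMap.sub_apply, map_sum, LinearMap.sum_apply]
    rw [map_sub, map_sum] at h0
    simp only [map_smul, LinearMap.smul_apply, smul_eq_mul] at h0 ⊢
    rw [← h0]
    congr 1
    apply Finset.sum_congr rfl
    intro i _
    ring

/-- a rational singular vector orthogonal to a family with rational duals, and not to `t` -/
theorem RQ.exists_sing_perp_ne (h : RQ Q F₀ P r) {κ : Type} [Fintype κ] [DecidableEq κ]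
    (s s' : κ → ι → F) (hs : ∀ i, Rt F₀ P (s i)) (hs' : ∀ i, Rt F₀ P (s' i))
    (hd : ∀ i j, BB (s i) (s' j) = if i = j then 1 else 0) (t : ι → F)
    (ht : t - ∑ i, BB t (s' i) • s i ≠ 0)
    (hκ : 2 * (Fintype.card κ + 3) + 3 ≤ Fintype.card ι) :
    ∃ z, Rt F₀ P z ∧ Q z = 0 ∧ (∀ i, BB (s i) z = 0) ∧ BB t z ≠ 0 := by
  classical
  obtain ⟨z, hz, hsz, htz⟩ := h.exists_rat_perp_ne s s' hs hs' hd t ht
  have hzs : ∀ o : Option κ, Rt F₀ P (o.elim z s) := by
    intro o
    cases o with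
    | none => exact hz
    | some i => exact hs i
  obtain ⟨e, f, he, hf, hee, hff, hef, hes, hfs⟩ := h.exists_hyp_perp
    (fun o : Option κ => o.elim z s) hzs (by rw [Fintype.card_option]; omega)
  have hze : BB z e = 0 := hes none
  have hzf : BB z f = 0 := hfs none
  by_cases c1 : BB t e = 0
  · by_cases c2 : BB t f = 0
    · refine ⟨z + (-Q z) • e + f, rt_add (rt_add hz (rt_smul (F₀.neg_mem (h.val _ hz)) he)) hf,
        ?_, fun i => ?_, ?_⟩
      · rw [Q_add, Q_add, Q_smul, hee, hff]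
        simp only [map_add, map_smul, LinearMap.add_apply, LinearMap.smul_apply, smul_eq_mul, hze,
          hzf, hef]
        ring
      · have h1 : BB (s i) e = 0 := hes (some i)
        have h2 : BB (s i) f = 0 := hfs (some i)
        rw [map_add, map_add, map_smul, hsz i, h1, h2, smul_zero, add_zero, add_zero]
      · rw [map_add, map_add, map_smul, c1, c2, smul_zero, add_zero, add_zero]
        exact htz
    · exact ⟨f, hf, hff, fun i => hfs (some i), c2⟩
  · exact ⟨e, he, hee, fun i => hes (some i), c1⟩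

/-- rational singular duals of a rational totally singular pair -/
theorem RQ.exists_duals (h : RQ Q F₀ P r) (hn : 9 ≤ Fintype.card ι) {v w : ι → F}
    (t : TIP Q F₀ P v w) :
    ∃ v' w', Rt F₀ P v' ∧ Rt F₀ P w' ∧ Q v' = 0 ∧ Q w' = 0 ∧ BB v v' = 1 ∧
      BB w v' = 0 ∧ BB v w' = 0 ∧ BB w w' = 1 := by
  classical
  obtain ⟨z₁, hz₁, hwz₁, hvz₁⟩ := h.exists_perp w v t.hw t.hv t.w_ne t.ind2
  obtain ⟨v', hv', hv'v', hv's, hvv'⟩ := h.exists_iso_dual ![w]
    (by
      intro i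
      fin_cases i
      exact t.hw) v t.hv z₁ hz₁
    (by
      intro i
      fin_cases i
      exact hwz₁) hvz₁ (by simp; omega)
  obtain ⟨z₂, hz₂, hvz₂, hwz₂⟩ := h.exists_perp v w t.hv t.hw t.v_ne t.ind1
  obtain ⟨w', hw', hw'w', hw's, hww'⟩ := h.exists_iso_dual ![v]
    (by
      intro i
      fin_cases i
      exact t.hv) w t.hw z₂ hz₂
    (by
      intro i
      fin_cases i
      exact hvz₂) hwz₂ (by simp; omega)
  exact ⟨v', w', hv', hw', hv'v', hw'w', hvv', hv's 0, hw's 0, hww'⟩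

/-- a vector whose pairings with the rational singular vectors of `e^⊥` are rational is rational
modulo `e` -/
theorem RQ.rat_mod_of_pairings (h : RQ Q F₀ P r) (hn : 11 ≤ Fintype.card ι) (e : ι → F)
    (he : Rt F₀ P e) (he0 : e ≠ 0) (hee : Q e = 0) (y : ι → F) (hey : BB e y = 0)
    (hy : ∀ w₁, Rt F₀ P w₁ → Q w₁ = 0 → BB e w₁ = 0 → BB w₁ y ∈ F₀) :
    ∃ (y₀ : ι → F) (δ : F), Rt F₀ P y₀ ∧ y = y₀ + δ • e := by
  classical
  obtain ⟨f, hf, hff, hef⟩ := h.exists_partner (by omega) e he he0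
  have hfe : BB f e = 1 := by rw [polar_symm, hef]
  have hye : BB y e = 0 := pol_symm0 Q hey
  have hee' : BB e e = 0 := pol_self0 Q hee
  obtain ⟨yW, hyW⟩ : ∃ yW : ι → F, yW = y - (BB y f) • e := ⟨_, rfl⟩
  have heyW : BB e yW = 0 := by
    rw [hyW, map_sub, map_smul, hey, hee', smul_zero, sub_zero]
  have hfyW : BB f yW = 0 := by
    rw [hyW, map_sub, map_smul, hfe, smul_eq_mul, mul_one, polar_symm Q f y, sub_self]
  have hrat : Rt F₀ P yW := by
    apply h.rat_of_pairings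
    intro x hx
    obtain ⟨xW, hxW⟩ : ∃ xW : ι → F, xW = x - (BB x f) • e - (BB x e) • f := ⟨_, rfl⟩
    have hxWr : Rt F₀ P xW := by
      rw [hxW]
      exact rt_sub (rt_sub hx (rt_smul (h.val2 hx hf) he)) (rt_smul (h.val2 hx he) hf)
    have hexW : BB e xW = 0 := by
      rw [hxW, map_sub, map_sub, map_smul, map_smul, hee', hef, polar_symm Q e x]
      simp
    have e1 : BB x yW = BB xW y := by
      have hx' : x = xW + (BB x f) • e + (BB x e) • f := by rw [hxW]; abel
      conv_lhs => rw [hx']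
      rw [map_add, map_add, map_smul, map_smul, LinearMap.add_apply, LinearMap.add_apply,
        LinearMap.smul_apply, LinearMap.smul_apply, heyW, hfyW, smul_zero, smul_zero, add_zero,
        add_zero, hyW, map_sub, map_smul, polar_symm Q xW e, hexW, smul_zero, sub_zero]
    rw [e1]
    obtain ⟨e', f', he', hf', he'e', hf'f', he'f', he's, hf's⟩ := h.exists_hyp_perp ![e, xW]
      (by
        intro j
        fin_cases j
        · exact he
        · exact hxWr) (by simp; omega)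
    have hee'' : BB e e' = 0 := he's 0
    have hxe' : BB xW e' = 0 := he's 1
    have hef' : BB e f' = 0 := hf's 0
    have hxf' : BB xW f' = 0 := hf's 1
    obtain ⟨s, hs⟩ : ∃ s : ι → F, s = xW + (-Q xW) • e' + f' := ⟨_, rfl⟩
    have hsr : Rt F₀ P s := by
      rw [hs]
      exact rt_add (rt_add hxWr (rt_smul (F₀.neg_mem (h.val _ hxWr)) he')) hf'
    have hss : Q s = 0 := by
      rw [hs, Q_add, Q_add, Q_smul, he'e', hf'f']
      simp only [map_add, map_smul, LinearMap.add_apply, LinearMap.smul_apply, smul_eq_mul, hxe',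
        hxf', he'f']
      ring
    have hes : BB e s = 0 := by
      rw [hs, map_add, map_add, map_smul, hexW, hee'', hef', smul_zero, add_zero, add_zero]
    have e2 : xW = s + (Q xW) • e' + (-1 : F) • f' := by
      rw [hs]
      module
    rw [e2, map_add, map_add, map_smul, map_smul, LinearMap.add_apply, LinearMap.add_apply,
      LinearMap.smul_apply, LinearMap.smul_apply, smul_eq_mul, smul_eq_mul]
    exact F₀.add_mem (F₀.add_mem (hy s hsr hss hes)
      (F₀.mul_mem (h.val _ hxWr) (hy e' he' he'e' hee'')))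
      (F₀.mul_mem (F₀.neg_mem F₀.one_mem) (hy f' hf' hf'f' hef'))
  refine ⟨yW, BB y f, hrat, ?_⟩
  rw [hyW]
  abel

/-- (O1) the vector part of a Siegel element of `K` centred at a rational singular point is
rational modulo the point -/
theorem RQ.siegel_vec_rat (h : RQ Q F₀ P r) (hn : 13 ≤ Fintype.card ι) (hHK : HQ Q F₀ P ≤ K)
    {v₀ w₀ : ι → F} (t₀ : TIP Q F₀ P v₀ w₀) (hA : ∀ a ∈ AB Q F₀ K v₀ w₀, a ∈ F₀)
    (e : ι → F) (he : Rt F₀ P e) (he0 : e ≠ 0) (hee : Q e = 0) (y : ι → F)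
    (hey : BB e y = 0) (hK : InK Q K (siegelLin Q e y)) :
    ∃ (y₀ : ι → F) (δ : F), Rt F₀ P y₀ ∧ y = y₀ + δ • e := by
  classical
  have hn7 : 7 ≤ Fintype.card ι := by omega
  have hn11 : 11 ≤ Fintype.card ι := by omega
  have hye : BB y e = 0 := pol_symm0 Q hey
  apply h.rat_mod_of_pairings hn11 e he he0 hee y hey
  intro w₁ hw₁ hw₁w₁ hew₁
  have hw₁e : BB w₁ e = 0 := pol_symm0 Q hew₁
  rw [polar_symm]
  by_cases hind : ∀ a ∈ F₀, w₁ ≠ a • e
  · obtain ⟨z', hz', hez', hw₁z'⟩ := h.exists_perp e w₁ he hw₁ he0 hind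
    have t : TIP Q F₀ P e w₁ := TIP.of_witness he hw₁ hee hw₁w₁ hew₁ he0 hez' hw₁z'
    -- a rational hyperbolic pair `z, f` orthogonal to `e, w₁`
    obtain ⟨z, f, hz, hf, hzz, hff, hzf, hzs, hfs⟩ := h.exists_hyp_perp ![e, w₁]
      (by
        intro i
        fin_cases i
        · exact he
        · exact hw₁) (by simp; omega)
    have hez : BB e z = 0 := hzs 0
    have hw₁z : BB w₁ z = 0 := hzs 1
    have hef : BB e f = 0 := hfs 0
    have hw₁f : BB w₁ f = 0 := hfs 1
    have hw₁w₁' : BB w₁ w₁ = 0 := pol_self0 Q hw₁w₁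
    obtain ⟨α, hα⟩ : ∃ α : F, α = BB y z := ⟨_, rfl⟩
    obtain ⟨β, hβ⟩ : ∃ β : F, β = BB y w₁ := ⟨_, rfl⟩
    -- step a: conjugate by `S w₁ z`
    have hg₁ : InK Q K (siegelLin Q w₁ z) := h.rat_siegel hHK hw₁ hz
    let g₁ := sO Q h.hQ hn7 w₁ z hw₁w₁ hw₁z
    have hg₁K : g₁ ∈ K := hg₁ g₁ (lo_sO Q h.hQ hn7 _ _ _ _)
    have hg₁e : lo Q g₁ e = e := by
      rw [lo_sO, siegel_apply_ts Q _ _ _ hzz, hez, hew₁, zero_smul, zero_smul, add_zero, sub_zero]
    have hg₁y : lo Q g₁ y = y + (α • w₁ + (-β) • z) := by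
      rw [lo_sO, siegel_apply_ts Q _ _ _ hzz, hα, hβ]
      module
    have k1 := inK_siegel_conj h.hQ hn7 hee hey hK g₁ hg₁K
    rw [hg₁e, hg₁y] at k1
    have heξ : BB e (α • w₁ + (-β) • z) = 0 := by
      rw [map_add, map_smul, map_smul, hew₁, hez, smul_zero, smul_zero, add_zero]
    have k2 := inK_siegel_cancel h.hQ hn7 hee hey heξ k1 hK
    -- step b: conjugate by `S w₁ (b f)`
    have hmem : β ∈ AB Q F₀ K e w₁ := by
      intro l hl
      have hlf : Q ((-l) • f) = 0 := by rw [Q_smul, hff, mul_zero]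
      have hw₁lf : BB w₁ ((-l) • f) = 0 := by rw [map_smul, hw₁f, smul_zero]
      have hg₂ : InK Q K (siegelLin Q w₁ ((-l) • f)) :=
        h.rat_siegel hHK hw₁ (rt_smul (F₀.neg_mem hl) hf)
      let g₂ := sO Q h.hQ hn7 w₁ ((-l) • f) hw₁w₁ hw₁lf
      have hg₂K : g₂ ∈ K := hg₂ g₂ (lo_sO Q h.hQ hn7 _ _ _ _)
      have hg₂e : lo Q g₂ e = e := by
        rw [lo_sO, siegel_apply_ts Q _ _ _ hlf, map_smul, hef, hew₁, smul_zero, zero_smul,
          zero_smul, add_zero, sub_zero]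
      have hg₂ξ : lo Q g₂ (α • w₁ + (-β) • z) = (α • w₁ + (-β) • z) + (l * β) • w₁ := by
        rw [lo_sO, siegel_apply_ts Q _ _ _ hlf]
        simp only [map_add, map_smul, LinearMap.add_apply, LinearMap.smul_apply, smul_eq_mul,
          hw₁w₁', hw₁f, hzf, pol_symm0 Q hw₁z, mul_zero, add_zero, mul_one, zero_smul, sub_zero]
        module
      have k3 := inK_siegel_conj h.hQ hn7 hee heξ k2 g₂ hg₂K
      rw [hg₂e, hg₂ξ] at k3
      exact inK_siegel_cancel h.hQ hn7 hee heξ (t.smul_mem _) k3 k2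
    rw [← hβ]
    exact hA β (h.AB_le hn11 hHK t t₀ hmem)
  · push Not at hind
    obtain ⟨a, ha, hae⟩ := hind
    rw [hae, map_smul, hye, smul_zero]
    exact F₀.zero_mem

/-- (O2) a Siegel element of `K` whose line is orthogonal to the rational singular vector `e` -/
theorem RQ.plane_rat (h : RQ Q F₀ P r) (hn : 13 ≤ Fintype.card ι) (hHK : HQ Q F₀ P ≤ K)
    {v₀ w₀ : ι → F} (t₀ : TIP Q F₀ P v₀ w₀) (hA : ∀ a ∈ AB Q F₀ K v₀ w₀, a ∈ F₀)
    (x y : ι → F) (hx : Q x = 0) (hy : Q y = 0) (hxy : BB x y = 0)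
    (hK : InK Q K (siegelLin Q x y))
    (e : ι → F) (he : Rt F₀ P e) (he0 : e ≠ 0) (hee : Q e = 0) (hxe : BB x e = 0)
    (hye : BB y e = 0) (z₁ : ι → F) (hz₁ : Rt F₀ P z₁) (hez₁ : BB e z₁ = 0) :
    ∃ (y₀ : ι → F) (δ : F), Rt F₀ P y₀ ∧ BB x z₁ • y - BB y z₁ • x = y₀ + δ • e := by
  have hn7 : 7 ≤ Fintype.card ι := by omega
  have hex : BB e x = 0 := pol_symm0 Q hxe
  have hey : BB e y = 0 := pol_symm0 Q hye
  have hg : InK Q K (siegelLin Q e z₁) := h.rat_siegel hHK he hz₁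
  let g := sO Q h.hQ hn7 e z₁ hee hez₁
  have hgK : g ∈ K := hg g (lo_sO Q h.hQ hn7 _ _ _ _)
  have hgx : lo Q g x = x + BB x z₁ • e := by
    rw [lo_sO, siegelLin_apply, hxe, mul_zero, sub_zero, neg_zero, zero_smul, add_zero]
  have hgy : lo Q g y = y + BB y z₁ • e := by
    rw [lo_sO, siegelLin_apply, hye, mul_zero, sub_zero, neg_zero, zero_smul, add_zero]
  have k1 := inK_siegel_conj h.hQ hn7 hx hxy hK g hgK
  rw [hgx, hgy, siegel_split3 Q x y e _ _ hx hy hee hxy hxe hye] at k1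
  have heξ : BB e (BB x z₁ • y - BB y z₁ • x) = 0 := by
    rw [map_sub, map_smul, map_smul, hex, hey, smul_zero, smul_zero, sub_zero]
  have k2 := k1.of_mul_left hK (sO Q h.hQ hn7 x y hx hxy) (sO Q h.hQ hn7 e _ hee heξ)
    (lo_sO Q h.hQ hn7 _ _ _ _) (lo_sO Q h.hQ hn7 _ _ _ _)
  exact h.siegel_vec_rat hn hHK t₀ hA e he he0 hee _ heξ k2

end small

end Cfsg.Agent.Lib.Helper61.SubfieldOr
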