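import Mathlib
import Cfsg.Prelude.Def_GeometricClasses
import Cfsg.Agent.Lib.Helper61.SubfieldOrF

/-!
Subfield subgroups of orthogonal groups: rational lines; a line of a Siegel element of the overgroup
which is orthogonal to a rational hyperbolic pair is rational; intersections of rational lines.
-/

set_option autoImplicit false
set_option linter.unusedSectionVars false
set_option linter.unusedVariables false

namespace Cfsg.Agent.Lib.Helper61.SubfieldOr

open Matrix Module Cfsg.Agent.Lib.Helper43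

section lines
variable {F : Type*} [Field F] [Fintype F] {ι : Type} [Fintype ι] [DecidableEq ι]
variable {Q : QuadraticForm F (ι → F)} {F₀ : Subfield F} {P : GL ι F} {r : ℕ}
variable {K : Subgroup ↥(Cfsg.Omega F ⇑Q)}

local notation "BB" => QuadraticMap.polarBilin Q

/-- the line spanned by `x, y` is spanned by rational vectors -/
def LineRat (F₀ : Subfield F) (P : GL ι F) (x y : ι → F) : Prop :=
  ∃ a b, Rt F₀ P a ∧ Rt F₀ P b ∧ Submodule.span F {x, y} = Submodule.span F {a, b}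

/-- a rational vector orthogonal to `e` (with rational partner `f`) and not to `t` -/
theorem RQ.exists_rat_perp_ne1 (h : RQ Q F₀ P r) (e f : ι → F) (he : Rt F₀ P e) (hf : Rt F₀ P f)
    (hef : BB e f = 1) (t : ι → F) (ht : t - BB t f • e ≠ 0) :
    ∃ z, Rt F₀ P z ∧ BB e z = 0 ∧ BB t z ≠ 0 := by
  obtain ⟨y, hy, hty⟩ := h.exists_ne_rat _ ht
  refine ⟨y - BB e y • f, rt_sub hy (rt_smul (h.val2 he hy) hf), ?_, ?_⟩
  · rw [map_sub, map_smul, hef, smul_eq_mul, mul_one, sub_self]
  · intro h0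
    apply hty
    rw [map_sub, LinearMap.sub_apply, map_smul, LinearMap.smul_apply, smul_eq_mul]
    rw [map_sub, map_smul, smul_eq_mul] at h0
    linear_combination h0

/-- a rational vector orthogonal to `a, b` (with rational duals) and not to `t` -/
theorem RQ.exists_rat_perp_ne2 (h : RQ Q F₀ P r) (a b a' b' : ι → F) (ha : Rt F₀ P a)
    (hb : Rt F₀ P b) (ha' : Rt F₀ P a') (hb' : Rt F₀ P b') (haa' : BB a a' = 1)
    (hba' : BB b a' = 0) (hab' : BB a b' = 0) (hbb' : BB b b' = 1) (t : ι → F)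
    (ht : t - BB t a' • a - BB t b' • b ≠ 0) :
    ∃ z, Rt F₀ P z ∧ BB a z = 0 ∧ BB b z = 0 ∧ BB t z ≠ 0 := by
  obtain ⟨y, hy, hty⟩ := h.exists_ne_rat _ ht
  refine ⟨y - BB a y • a' - BB b y • b', rt_sub (rt_sub hy (rt_smul (h.val2 ha hy) ha'))
    (rt_smul (h.val2 hb hy) hb'), ?_, ?_, ?_⟩
  · simp only [map_sub, map_smul, smul_eq_mul, haa', hab', mul_zero, mul_one, sub_zero, sub_self]
  · simp only [map_sub, map_smul, smul_eq_mul, hba', hbb', mul_zero, mul_one, sub_zero, sub_self]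
  · intro h0
    apply hty
    simp only [map_sub, LinearMap.sub_apply, map_smul, LinearMap.smul_apply, smul_eq_mul] at h0 ⊢
    linear_combination h0

/-- rational duals of an independent pair of rational vectors -/
theorem RQ.exists_duals' (h : RQ Q F₀ P r) (a b : ι → F) (ha : Rt F₀ P a) (hb : Rt F₀ P b)
    (ha0 : a ≠ 0) (hb0 : b ≠ 0) (hab : ∀ c ∈ F₀, b ≠ c • a) (hba : ∀ c ∈ F₀, a ≠ c • b) :
    ∃ a' b', Rt F₀ P a' ∧ Rt F₀ P b' ∧ BB a a' = 1 ∧ BB b a' = 0 ∧ BB a b' = 0 ∧ BB b b' = 1 := by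
  obtain ⟨z₁, hz₁, hbz₁, haz₁⟩ := h.exists_perp b a hb ha hb0 hba
  obtain ⟨z₂, hz₂, haz₂, hbz₂⟩ := h.exists_perp a b ha hb ha0 hab
  refine ⟨(BB a z₁)⁻¹ • z₁, (BB b z₂)⁻¹ • z₂, rt_smul (F₀.inv_mem (h.val2 ha hz₁)) hz₁,
    rt_smul (F₀.inv_mem (h.val2 hb hz₂)) hz₂, ?_, ?_, ?_, ?_⟩
  · rw [map_smul, smul_eq_mul, inv_mul_cancel₀ haz₁]
  · rw [map_smul, hbz₁, smul_zero]
  · rw [map_smul, haz₂, smul_zero]
  · rw [map_smul, smul_eq_mul, inv_mul_cancel₀ hbz₂]

/-- rational vectors which are proportional over `F` are proportional over `F₀` -/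
theorem RQ.smul_rat (h : RQ Q F₀ P r) {a b : ι → F} (ha : Rt F₀ P a) (hb : Rt F₀ P b)
    (ha0 : a ≠ 0) {c : F} (hc : b = c • a) : c ∈ F₀ := by
  obtain ⟨z, hz, haz⟩ := h.exists_ne_rat a ha0
  have h1 : BB b z = c * BB a z := by rw [hc, map_smul, LinearMap.smul_apply, smul_eq_mul]
  have h2 : c = BB b z / BB a z := by rw [h1, mul_div_cancel_right₀ _ haz]
  rw [h2]
  exact F₀.div_mem (h.val2 hb hz) (h.val2 ha hz)

/-- independence over `F` of a rational totally singular pair -/
theorem RQ.pair_indep (h : RQ Q F₀ P r) {v w : ι → F} (t : TIP Q F₀ P v w) {α β : F}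
    (h0 : α • v + β • w = 0) : α = 0 ∧ β = 0 := by
  by_cases hβ : β = 0
  · rw [hβ, zero_smul, add_zero] at h0
    rcases smul_eq_zero.mp h0 with h1 | h1
    · exact ⟨h1, hβ⟩
    · exact absurd h1 t.v_ne
  · exfalso
    have hw : w = (-α / β) • v := by
      have : β • w = (-α) • v := by
        rw [neg_smul]
        exact eq_neg_of_add_eq_zero_right h0
      rw [div_eq_inv_mul, mul_smul, ← this, smul_smul, inv_mul_cancel₀ hβ, one_smul]
    exact t.ind1 _ (h.smul_rat t.hv t.hw t.v_ne hw) hw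

/-- a line of a Siegel element of `K` orthogonal to a rational hyperbolic pair is rational -/
theorem RQ.line_in_plane (h : RQ Q F₀ P r) (hn : 13 ≤ Fintype.card ι) (hHK : HQ Q F₀ P ≤ K)
    {v₀ w₀ : ι → F} (t₀ : TIP Q F₀ P v₀ w₀) (hA : ∀ a ∈ AB Q F₀ K v₀ w₀, a ∈ F₀)
    (x y : ι → F) (hx : Q x = 0) (hy : Q y = 0) (hxy : BB x y = 0)
    (hind : ∀ α β : F, α • x + β • y = 0 → α = 0 ∧ β = 0)
    (hK : InK Q K (siegelLin Q x y))
    (e f : ι → F) (he : Rt F₀ P e) (hf : Rt F₀ P f) (hee : Q e = 0) (hef : BB e f = 1)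
    (hxe : BB x e = 0) (hye : BB y e = 0) (hxf : BB x f = 0) (hyf : BB y f = 0) :
    LineRat F₀ P x y := by
  have he0 : e ≠ 0 := by
    intro h0
    rw [h0, LinearMap.map_zero₂] at hef
    exact zero_ne_one hef
  have hx0 : x ≠ 0 := by
    intro h0
    have := (hind 1 0 (by rw [h0]; simp)).1
    exact one_ne_zero this
  -- the point of the line orthogonal to a rational `z₁ ∈ e^⊥` is rational
  have key : ∀ z₁, Rt F₀ P z₁ → BB e z₁ = 0 → Rt F₀ P (BB x z₁ • y - BB y z₁ • x) := by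
    intro z₁ hz₁ hez₁
    obtain ⟨y₀, δ, hy₀, hyδ⟩ := h.plane_rat hn hHK t₀ hA x y hx hy hxy hK e he he0 hee hxe hye z₁
      hz₁ hez₁
    have h1 : BB (BB x z₁ • y - BB y z₁ • x) f = 0 := by
      rw [map_sub, map_smul, map_smul, LinearMap.sub_apply, LinearMap.smul_apply,
        LinearMap.smul_apply, hxf, hyf, smul_zero, smul_zero, sub_zero]
    rw [hyδ, map_add, map_smul, LinearMap.add_apply, LinearMap.smul_apply, hef, smul_eq_mul,
      mul_one] at h1
    have hδ : δ = -BB y₀ f := by linear_combination h1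
    rw [hyδ, hδ]
    exact rt_add hy₀ (rt_smul (F₀.neg_mem (h.val2 hy₀ hf)) he)
  obtain ⟨z₁, hz₁, hez₁, hxz₁⟩ := h.exists_rat_perp_ne1 e f he hf hef x
    (by rw [hxf, zero_smul, sub_zero]; exact hx0)
  obtain ⟨t, ht⟩ : ∃ t : ι → F, t = y - (BB y z₁ / BB x z₁) • x := ⟨_, rfl⟩
  have ht0 : t ≠ 0 := by
    intro h0
    rw [ht, sub_eq_add_neg, ← neg_smul, add_comm] at h0
    have := (hind (-(BB y z₁ / BB x z₁)) 1 (by rw [one_smul]; exact h0)).2
    exact one_ne_zero this
  have htf : BB t f = 0 := by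
    rw [ht, map_sub, map_smul, LinearMap.sub_apply, LinearMap.smul_apply, hxf, hyf, smul_zero,
      sub_zero]
  obtain ⟨z₂, hz₂, hez₂, htz₂⟩ := h.exists_rat_perp_ne1 e f he hf hef t
    (by rw [htf, zero_smul, sub_zero]; exact ht0)
  obtain ⟨D, hD⟩ : ∃ D : F, D = BB x z₁ * BB y z₂ - BB x z₂ * BB y z₁ := ⟨_, rfl⟩
  have hD0 : D ≠ 0 := by
    have : D = BB x z₁ * BB t z₂ := by
      rw [hD, ht, map_sub, map_smul, LinearMap.sub_apply, LinearMap.smul_apply, smul_eq_mul]
      field_simp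
    rw [this]
    exact mul_ne_zero hxz₁ htz₂
  have hxm : x ∈ Submodule.span F {BB x z₁ • y - BB y z₁ • x, BB x z₂ • y - BB y z₂ • x} := by
    apply Submodule.mem_span_pair.mpr
    refine ⟨BB x z₂ / D, -(BB x z₁ / D), ?_⟩
    have : (BB x z₂ / D) • (BB x z₁ • y - BB y z₁ • x) +
        (-(BB x z₁ / D)) • (BB x z₂ • y - BB y z₂ • x) = (D / D) • x := by
      rw [hD]
      module
    rw [this, div_self hD0, one_smul]
  have hym : y ∈ Submodule.span F {BB x z₁ • y - BB y z₁ • x, BB x z₂ • y - BB y z₂ • x} := by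
    apply Submodule.mem_span_pair.mpr
    refine ⟨BB y z₂ / D, -(BB y z₁ / D), ?_⟩
    have : (BB y z₂ / D) • (BB x z₁ • y - BB y z₁ • x) +
        (-(BB y z₁ / D)) • (BB x z₂ • y - BB y z₂ • x) = (D / D) • y := by
      rw [hD]
      module
    rw [this, div_self hD0, one_smul]
  have hxs : x ∈ Submodule.span F {x, y} := Submodule.subset_span (by simp)
  have hys : y ∈ Submodule.span F {x, y} := Submodule.subset_span (by simp)
  refine ⟨_, _, key z₁ hz₁ hez₁, key z₂ hz₂ hez₂, ?_⟩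
  apply le_antisymm
  · rw [Submodule.span_le]
    intro u hu
    rcases hu with hu | hu
    · rw [hu]; exact hxm
    · rw [Set.mem_singleton_iff] at hu
      rw [hu]; exact hym
  · rw [Submodule.span_le]
    intro u hu
    rcases hu with hu | hu
    · rw [hu]
      exact Submodule.sub_mem _ (Submodule.smul_mem _ _ hys) (Submodule.smul_mem _ _ hxs)
    · rw [Set.mem_singleton_iff] at hu
      rw [hu]
      exact Submodule.sub_mem _ (Submodule.smul_mem _ _ hys) (Submodule.smul_mem _ _ hxs)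

/-- (F') a line of a Siegel element of `K` with a point orthogonal to a rational totally singular
line meets the perp of ... : the point of the rational line orthogonal to the line is rational -/
theorem RQ.line_point_rat (h : RQ Q F₀ P r) (hn : 13 ≤ Fintype.card ι) (hHK : HQ Q F₀ P ≤ K)
    {v₀ w₀ : ι → F} (t₀ : TIP Q F₀ P v₀ w₀) (hA : ∀ a ∈ AB Q F₀ K v₀ w₀, a ∈ F₀)
    {v w : ι → F} (t : TIP Q F₀ P v w)
    (x y : ι → F) (hx : Q x = 0) (hy : Q y = 0) (hxy : BB x y = 0)
    (hK : InK Q K (siegelLin Q x y)) (hxv : BB x v = 0) (hxw : BB x w = 0)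
    (z₁ : ι → F) (hz₁ : Rt F₀ P z₁) (hvz₁ : BB v z₁ = 0) (hwz₁ : BB w z₁ = 0)
    (hxz₁ : BB x z₁ ≠ 0) :
    ∃ c : F, c ≠ 0 ∧ c * BB y v ∈ F₀ ∧ c * BB y w ∈ F₀ := by
  have hn7 : 7 ≤ Fintype.card ι := by omega
  obtain ⟨v', w', hv', hw', -, -, hvv', hwv', hvw', hww'⟩ := h.exists_duals (by omega) t
  have hvv : BB v v = 0 := pol_self0 Q t.hvv
  have hww : BB w w = 0 := pol_self0 Q t.hww
  have hwv : BB w v = 0 := t.hwv
  have hg : InK Q K (siegelLin Q v w) := h.rat_siegel hHK t.hv t.hw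
  let g := sO Q h.hQ hn7 v w t.hvv t.hvw
  have hgK : g ∈ K := hg g (lo_sO Q h.hQ hn7 _ _ _ _)
  obtain ⟨ρ, hρ⟩ : ∃ ρ : ι → F, ρ = BB y w • v - BB y v • w := ⟨_, rfl⟩
  have hgx : lo Q g x = x := by
    rw [lo_sO, siegel_apply_ts Q _ _ _ t.hww, hxv, hxw, zero_smul, zero_smul, add_zero, sub_zero]
  have hgy : lo Q g y = y + ρ := by
    rw [lo_sO, siegel_apply_ts Q _ _ _ t.hww, hρ]
    abel
  have k1 := inK_siegel_conj h.hQ hn7 hx hxy hK g hgK
  rw [hgx, hgy] at k1
  have hxρ : BB x ρ = 0 := by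
    rw [hρ, map_sub, map_smul, map_smul, hxv, hxw, smul_zero, smul_zero, sub_zero]
  have k2 := inK_siegel_cancel h.hQ hn7 hx hxy hxρ k1 hK
  have hρρ : Q ρ = 0 := by
    rw [hρ, sub_eq_add_neg, ← neg_smul, Q_add, Q_smul, Q_smul, t.hvv, t.hww, map_smul, map_smul,
      LinearMap.smul_apply, t.hvw]
    simp
  have hρv : BB ρ v = 0 := by
    rw [hρ, map_sub, map_smul, map_smul, LinearMap.sub_apply, LinearMap.smul_apply,
      LinearMap.smul_apply, hvv, hwv, smul_zero, smul_zero, sub_zero]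
  have hρw : BB ρ w = 0 := by
    rw [hρ, map_sub, map_smul, map_smul, LinearMap.sub_apply, LinearMap.smul_apply,
      LinearMap.smul_apply, t.hvw, hww, smul_zero, smul_zero, sub_zero]
  have hρz₁ : BB ρ z₁ = 0 := by
    rw [hρ, map_sub, map_smul, map_smul, LinearMap.sub_apply, LinearMap.smul_apply,
      LinearMap.smul_apply, hvz₁, hwz₁, smul_zero, smul_zero, sub_zero]
  obtain ⟨y₁, δ₁, hy₁, e₁⟩ := h.plane_rat hn hHK t₀ hA x ρ hx hρρ hxρ k2 v t.hv t.v_ne t.hvv hxv
    hρv z₁ hz₁ hvz₁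
  obtain ⟨y₂, δ₂, hy₂, e₂⟩ := h.plane_rat hn hHK t₀ hA x ρ hx hρρ hxρ k2 w t.hw t.w_ne t.hww hxw
    hρw z₁ hz₁ hwz₁
  rw [hρz₁, zero_smul, sub_zero] at e₁ e₂
  refine ⟨BB x z₁, hxz₁, ?_, ?_⟩
  · -- pair `e₁` with `w'`
    have h1 := congrArg (fun u => BB u w') e₁
    simp only [hρ, map_sub, map_add, map_smul, LinearMap.sub_apply, LinearMap.add_apply,
      LinearMap.smul_apply, smul_eq_mul, hvw', hww', mul_zero, mul_one, zero_sub, add_zero] at h1
    have : BB x z₁ * BB y v = -BB y₁ w' := by linear_combination -h1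
    rw [this]
    exact F₀.neg_mem (h.val2 hy₁ hw')
  · have h1 := congrArg (fun u => BB u v') e₂
    simp only [hρ, map_sub, map_add, map_smul, LinearMap.sub_apply, LinearMap.add_apply,
      LinearMap.smul_apply, smul_eq_mul, hvv', hwv', mul_zero, mul_one, sub_zero, add_zero] at h1
    rw [h1]
    exact h.val2 hy₂ hv'

/-- a common point of two distinct rational lines is rational up to a scalar -/
theorem RQ.rat_of_two_lines (h : RQ Q F₀ P r) (x y y' : ι → F) (h1 : LineRat F₀ P x y)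
    (h2 : LineRat F₀ P x y') (hx0 : x ≠ 0)
    (hxy' : ∀ α β : F, α • x + β • y' = 0 → α = 0 ∧ β = 0)
    (hy : y ∉ Submodule.span F {x, y'}) : ∃ c : F, c ≠ 0 ∧ Rt F₀ P (c • x) := by
  obtain ⟨a, b, ha, hb, hab⟩ := h1
  obtain ⟨a', b', ha', hb', hab'⟩ := h2
  -- `a', b'` are independent
  have hxm : x ∈ Submodule.span F {a', b'} := by
    rw [← hab']; exact Submodule.subset_span (by simp)
  have hy'm : y' ∈ Submodule.span F {a', b'} := by
    rw [← hab']; exact Submodule.subset_span (by simp)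
  have ha'm : a' ∈ Submodule.span F {x, y'} := by
    rw [hab']; exact Submodule.subset_span (by simp)
  have hb'm : b' ∈ Submodule.span F {x, y'} := by
    rw [hab']; exact Submodule.subset_span (by simp)
  have hindep' : ∀ α β : F, α • a' + β • b' = 0 → α = 0 ∧ β = 0 := by
    intro α β h0
    obtain ⟨p₁, q₁, e₁⟩ := Submodule.mem_span_pair.mp hxm
    obtain ⟨p₂, q₂, e₂⟩ := Submodule.mem_span_pair.mp hy'm
    obtain ⟨m₁, n₁, f₁⟩ := Submodule.mem_span_pair.mp ha'm
    obtain ⟨m₂, n₂, f₂⟩ := Submodule.mem_span_pair.mp hb'm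
    -- express `x, y'` through `a', b'` and back
    have g1 : (α * m₁ + β * m₂) • x + (α * n₁ + β * n₂) • y' = 0 := by
      rw [← h0, ← f₁, ← f₂]
      module
    obtain ⟨u1, u2⟩ := hxy' _ _ g1
    -- `x = p₁ a' + q₁ b'`, `a' = m₁ x + n₁ y'`
    have g2 : (m₁ * p₁ + n₁ * p₂ - 1) • a' + (m₁ * q₁ + n₁ * q₂) • b' = 0 := by
      have : a' = m₁ • (p₁ • a' + q₁ • b') + n₁ • (p₂ • a' + q₂ • b') := by
        rw [e₁, e₂, f₁]
      have e := sub_eq_zero.mpr this.symm
      rw [← e]
      module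
    have g3 : (m₂ * p₁ + n₂ * p₂) • a' + (m₂ * q₁ + n₂ * q₂ - 1) • b' = 0 := by
      have : b' = m₂ • (p₁ • a' + q₁ • b') + n₂ • (p₂ • a' + q₂ • b') := by
        rw [e₁, e₂, f₂]
      have e := sub_eq_zero.mpr this.symm
      rw [← e]
      module
    by_contra hcon
    -- `a', b'` dependent: all of the plane is spanned by one vector, contradiction
    have hdep : ∃ c : ι → F, ∃ s₁ s₂ : F, a' = s₁ • c ∧ b' = s₂ • c := by
      by_cases hα : α = 0
      · have hβ : β ≠ 0 := fun hβ => hcon ⟨hα, hβ⟩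
        rw [hα, zero_smul, zero_add] at h0
        have : b' = 0 := by
          rcases smul_eq_zero.mp h0 with h1 | h1
          · exact absurd h1 hβ
          · exact h1
        exact ⟨a', 1, 0, by rw [one_smul], by rw [this, zero_smul]⟩
      · refine ⟨b', -β / α, 1, ?_, by rw [one_smul]⟩
        have : α • a' = (-β) • b' := by
          rw [neg_smul]
          exact eq_neg_of_add_eq_zero_left h0
        rw [div_eq_inv_mul, mul_smul, ← this, smul_smul, inv_mul_cancel₀ hα, one_smul]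
    obtain ⟨c, s₁, s₂, hs₁, hs₂⟩ := hdep
    have hx' : x = (p₁ * s₁ + q₁ * s₂) • c := by
      rw [← e₁, hs₁, hs₂]; module
    have hy'' : y' = (p₂ * s₁ + q₂ * s₂) • c := by
      rw [← e₂, hs₁, hs₂]; module
    have g4 : (p₂ * s₁ + q₂ * s₂) • x + (-(p₁ * s₁ + q₁ * s₂)) • y' = 0 := by
      rw [hx', hy'']; module
    obtain ⟨u3, u4⟩ := hxy' _ _ g4
    have : x = 0 := by
      rw [hx']
      have : p₁ * s₁ + q₁ * s₂ = 0 := by linear_combination -u4
      rw [this, zero_smul]
    exact hx0 this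
  have ha'0 : a' ≠ 0 := by
    intro h0
    have := (hindep' 1 0 (by rw [h0]; simp)).1
    exact one_ne_zero this
  have hb'0 : b' ≠ 0 := by
    intro h0
    have := (hindep' 0 1 (by rw [h0]; simp)).2
    exact one_ne_zero this
  obtain ⟨a'', b'', ha'', hb'', d1, d2, d3, d4⟩ := h.exists_duals' a' b' ha' hb' ha'0 hb'0
    (by
      intro c _ he
      have := (hindep' (-c) 1 (by rw [he]; module)).2
      exact one_ne_zero this)
    (by
      intro c _ he
      have := (hindep' 1 (-c) (by rw [he]; module)).1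
      exact one_ne_zero this)
  -- one of `a, b` is not in the second line
  have hex : ∃ t, (t = a ∨ t = b) ∧ t ∉ Submodule.span F {a', b'} := by
    by_contra hcon
    push Not at hcon
    have h1 : a ∈ Submodule.span F {a', b'} := hcon a (Or.inl rfl)
    have h2 : b ∈ Submodule.span F {a', b'} := hcon b (Or.inr rfl)
    have h3 : Submodule.span F {a, b} ≤ Submodule.span F {a', b'} := by
      rw [Submodule.span_le]
      intro u hu
      rcases hu with hu | hu
      · rw [hu]; exact h1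
      · rw [Set.mem_singleton_iff] at hu
        rw [hu]; exact h2
    apply hy
    have h4 : y ∈ Submodule.span F {a, b} := by
      rw [← hab]; exact Submodule.subset_span (by simp)
    have h5 := h3 h4
    rw [← hab'] at h5
    exact h5
  obtain ⟨t, htab, htn⟩ := hex
  have ht' : t - BB t a'' • a' - BB t b'' • b' ≠ 0 := by
    intro h0
    apply htn
    apply Submodule.mem_span_pair.mpr
    refine ⟨BB t a'', BB t b'', ?_⟩
    have h1 := sub_eq_zero.mp h0
    rw [← h1]
    abel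
  obtain ⟨z, hz, haz, hbz, htz⟩ := h.exists_rat_perp_ne2 a' b' a'' b'' ha' hb' ha'' hb'' d1 d2 d3 d4
    t ht'
  have hxz : BB x z = 0 := by
    obtain ⟨p₁, q₁, e₁⟩ := Submodule.mem_span_pair.mp hxm
    rw [← e₁, map_add, map_smul, map_smul, LinearMap.add_apply, LinearMap.smul_apply,
      LinearMap.smul_apply, haz, hbz, smul_zero, smul_zero, add_zero]
  have hxab : x ∈ Submodule.span F {a, b} := by
    rw [← hab]; exact Submodule.subset_span (by simp)
  obtain ⟨α, β, e⟩ := Submodule.mem_span_pair.mp hxab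
  have hrel : α * BB a z + β * BB b z = 0 := by
    rw [← e, map_add, map_smul, map_smul, LinearMap.add_apply, LinearMap.smul_apply,
      LinearMap.smul_apply, smul_eq_mul, smul_eq_mul] at hxz
    exact hxz
  by_cases haz0 : BB a z = 0
  · have hbz0 : BB b z ≠ 0 := by
      rcases htab with rfl | rfl
      · exact absurd haz0 htz
      · exact htz
    rw [haz0, mul_zero, zero_add] at hrel
    have hβ : β = 0 := by
      rcases mul_eq_zero.mp hrel with h1 | h1
      · exact h1
      · exact absurd h1 hbz0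
    rw [hβ, zero_smul, add_zero] at e
    have hα : α ≠ 0 := by
      intro h0
      rw [h0, zero_smul] at e
      exact hx0 e.symm
    refine ⟨α⁻¹, inv_ne_zero hα, ?_⟩
    rw [← e, smul_smul, inv_mul_cancel₀ hα, one_smul]
    exact ha
  · have hα : α = -(β * BB b z / BB a z) := by
      field_simp
      linear_combination hrel
    have hβ : β ≠ 0 := by
      intro h0
      rw [h0] at hα
      rw [hα, h0] at e
      apply hx0
      rw [← e]
      simp
    refine ⟨β⁻¹, inv_ne_zero hβ, ?_⟩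
    have : β⁻¹ • x = b - (BB b z / BB a z) • a := by
      rw [← e, hα, smul_add, smul_smul, smul_smul, inv_mul_cancel₀ hβ, one_smul]
      have : β⁻¹ * -(β * BB b z / BB a z) = -(BB b z / BB a z) := by
        field_simp
      rw [this, neg_smul]
      abel
    rw [this]
    exact rt_sub hb (rt_smul (F₀.div_mem (h.val2 hb hz) (h.val2 ha hz)) ha)

/-- comparing the scalars attached to two independent rational vectors -/
theorem RQ.ratio (h : RQ Q F₀ P r) (g : Module.End F (ι → F)) (hg : Function.Injective g)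
    {v w : ι → F} (hv : Rt F₀ P v) (hw : Rt F₀ P w)
    (hind : ∀ α β : F, α • v + β • w = 0 → α = 0 ∧ β = 0)
    (cv cw cs : F) (hcv : cv ≠ 0) (hcw : cw ≠ 0) (hcs : cs ≠ 0)
    (hrv : Rt F₀ P (cv • g v)) (hrw : Rt F₀ P (cw • g w)) (hrs : Rt F₀ P (cs • g (v + w))) :
    cv / cw ∈ F₀ := by
  obtain ⟨X, hX⟩ : ∃ X : ι → F, X = cv • g v := ⟨_, rfl⟩
  obtain ⟨Y, hY⟩ : ∃ Y : ι → F, Y = cw • g w := ⟨_, rfl⟩
  rw [← hX] at hrv
  rw [← hY] at hrw
  have hg0 : ∀ u, g u = 0 → u = 0 := fun u hu => hg (by rw [hu, map_zero])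
  have hXY : ∀ α β : F, α • X + β • Y = 0 → α = 0 ∧ β = 0 := by
    intro α β h0
    have h1 : g ((α * cv) • v + (β * cw) • w) = 0 := by
      rw [map_add, map_smul, map_smul, ← h0, hX, hY, smul_smul, smul_smul]
    obtain ⟨u1, u2⟩ := hind _ _ (hg0 _ h1)
    constructor
    · rcases mul_eq_zero.mp u1 with h2 | h2
      · exact h2
      · exact absurd h2 hcv
    · rcases mul_eq_zero.mp u2 with h2 | h2
      · exact h2
      · exact absurd h2 hcw
  have hX0 : X ≠ 0 := by
    intro h0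
    have := (hXY 1 0 (by rw [h0]; simp)).1
    exact one_ne_zero this
  have hY0 : Y ≠ 0 := by
    intro h0
    have := (hXY 0 1 (by rw [h0]; simp)).2
    exact one_ne_zero this
  obtain ⟨z₁, hz₁, hYz₁, hXz₁⟩ := h.exists_perp Y X hrw hrv hY0 (by
    intro c _ he
    have := (hXY 1 (-c) (by rw [he]; module)).1
    exact one_ne_zero this)
  obtain ⟨z₂, hz₂, hXz₂, hYz₂⟩ := h.exists_perp X Y hrv hrw hX0 (by
    intro c _ he
    have := (hXY (-c) 1 (by rw [he]; module)).2
    exact one_ne_zero this)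
  have hZ : cs • g (v + w) = (cs / cv) • X + (cs / cw) • Y := by
    rw [hX, hY, smul_smul, smul_smul, div_mul_cancel₀ _ hcv, div_mul_cancel₀ _ hcw, map_add,
      smul_add]
  rw [hZ] at hrs
  have h1 : cs / cv ∈ F₀ := by
    have hm := h.val2 hrs hz₁
    rw [map_add, map_smul, map_smul, LinearMap.add_apply, LinearMap.smul_apply,
      LinearMap.smul_apply, hYz₁, smul_zero, add_zero, smul_eq_mul] at hm
    have : cs / cv = (cs / cv * BB X z₁) / BB X z₁ := by
      rw [mul_div_assoc, div_self hXz₁, mul_one]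
    rw [this]
    exact F₀.div_mem hm (h.val2 hrv hz₁)
  have h2 : cs / cw ∈ F₀ := by
    have hm := h.val2 hrs hz₂
    rw [map_add, map_smul, map_smul, LinearMap.add_apply, LinearMap.smul_apply,
      LinearMap.smul_apply, hXz₂, smul_zero, zero_add, smul_eq_mul] at hm
    have : cs / cw = (cs / cw * BB Y z₂) / BB Y z₂ := by
      rw [mul_div_assoc, div_self hYz₂, mul_one]
    rw [this]
    exact F₀.div_mem hm (h.val2 hrw hz₂)
  have : cv / cw = (cs / cw) / (cs / cv) := by
    field_simp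
  rw [this]
  exact F₀.div_mem h2 h1

end lines

end Cfsg.Agent.Lib.Helper61.SubfieldOr
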