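import Mathlib
import Cfsg.Prelude.Def_GeometricClasses
import Cfsg.Agent.Lib.Helper48.Subfield.FrobAbs

/-!
An abstract Frobenius-complement contradiction: a subgroup `Y₁` of `Y` which, modulo a normal
subgroup `N₀ ≤ Y₁` of `Y`, is a malnormal proper subgroup of exponent `p` and order greater than
`p`, cannot exist.
-/

set_option autoImplicit false
set_option linter.unusedSectionVars false
set_option linter.unusedVariables false

namespace Cfsg.Agent.Lib.Helper61.SubfieldUr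

theorem frob_contra {G : Type*} [Group G] [Finite G] (Y Y1 N0 : Subgroup G) (hY1 : Y1 ≤ Y)
    (hN0 : N0 ≤ Y1) (hnorm : ∀ g ∈ Y, ∀ k ∈ N0, g * k * g⁻¹ ∈ N0)
    (p : ℕ) [hp : Fact p.Prime] (hexp : ∀ x ∈ Y1, x ^ p ∈ N0)
    (τ : G) (hτY : τ ∈ Y) (hτ : τ ∉ Y1)
    (hTI : ∀ g ∈ Y, g ∉ Y1 → ∀ x ∈ Y1, g⁻¹ * x * g ∈ Y1 → x ∈ N0)
    (x₁ x₂ : G) (hx₁ : x₁ ∈ Y1) (hx₂ : x₂ ∈ Y1) (hx₁N : x₁ ∉ N0)
    (hx₂N : ∀ j : ℕ, (x₁ ^ j)⁻¹ * x₂ ∉ N0) : False := by
  classical
  haveI hN : (N0.subgroupOf Y).Normal := by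
    constructor
    intro k hk g
    rw [Subgroup.mem_subgroupOf] at hk ⊢
    simp only [Subgroup.coe_mul, InvMemClass.coe_inv]
    exact hnorm g.1 g.2 k.1 hk
  let π : Y →* Y ⧸ N0.subgroupOf Y := QuotientGroup.mk' (N0.subgroupOf Y)
  let C : Subgroup (Y ⧸ N0.subgroupOf Y) := (Y1.subgroupOf Y).map π
  have hπ : ∀ a b : Y, π a = π b ↔ (a : G)⁻¹ * (b : G) ∈ N0 := by
    intro a b
    show (QuotientGroup.mk a : Y ⧸ N0.subgroupOf Y) = QuotientGroup.mk b ↔ _
    rw [QuotientGroup.eq, Subgroup.mem_subgroupOf]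
    simp
  have hπ1 : ∀ a : Y, π a = 1 ↔ (a : G) ∈ N0 := by
    intro a
    show (QuotientGroup.mk a : Y ⧸ N0.subgroupOf Y) = 1 ↔ _
    rw [QuotientGroup.eq_one_iff, Subgroup.mem_subgroupOf]
  have hmemC : ∀ a : Y, π a ∈ C ↔ (a : G) ∈ Y1 := by
    intro a
    constructor
    · rintro ⟨b, hb0, hab⟩
      have hb : (b : G) ∈ Y1 := Subgroup.mem_subgroupOf.mp hb0
      have h1 := (hπ b a).mp hab
      have h2 : (a : G) = (b : G) * ((b : G)⁻¹ * (a : G)) := by group
      rw [h2]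
      exact Y1.mul_mem hb (hN0 h1)
    · intro ha
      exact ⟨a, Subgroup.mem_subgroupOf.mpr ha, rfl⟩
  have hsurj : ∀ z : Y ⧸ N0.subgroupOf Y, ∃ a : Y, π a = z := fun z =>
    QuotientGroup.mk_surjective z
  -- the Frobenius complement property
  have hFrob : Cfsg.IsFrobeniusComplement C := by
    refine ⟨?_, ?_, ?_⟩
    · intro hbot
      have h1 : π ⟨x₁, hY1 hx₁⟩ ∈ C := (hmemC _).mpr hx₁
      rw [hbot, Subgroup.mem_bot, hπ1] at h1
      exact hx₁N h1
    · intro htop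
      have h1 : π ⟨τ, hτY⟩ ∈ C := by rw [htop]; exact Subgroup.mem_top _
      exact hτ ((hmemC _).mp h1)
    · intro g hg
      obtain ⟨g₀, rfl⟩ := hsurj g
      have hg₀ : (g₀ : G) ∉ Y1 := fun h => hg ((hmemC g₀).mpr h)
      rw [eq_bot_iff]
      intro z hz
      rw [Subgroup.mem_inf] at hz
      obtain ⟨hz1, hz2⟩ := hz
      obtain ⟨x, rfl⟩ := hsurj z
      have hx : (x : G) ∈ Y1 := (hmemC x).mp hz1
      rw [Subgroup.mem_pointwise_smul_iff_inv_smul_mem, MulAut.smul_def,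
        MulAut.conj_inv_apply] at hz2
      have hz3 : π (g₀⁻¹ * x * g₀) ∈ C := by
        rw [map_mul, map_mul, map_inv]
        exact hz2
      have hx' : ((g₀⁻¹ * x * g₀ : Y) : G) ∈ Y1 := (hmemC _).mp hz3
      simp only [Subgroup.coe_mul, InvMemClass.coe_inv] at hx'
      have := hTI g₀.1 g₀.2 hg₀ x.1 hx hx'
      rw [Subgroup.mem_bot, hπ1]
      exact this
  -- exponent `p`
  have hexpC : ∀ c ∈ C, c ^ p = 1 := by
    intro c hc
    obtain ⟨x, rfl⟩ := hsurj c
    have hx : (x : G) ∈ Y1 := (hmemC x).mp hc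
    rw [← map_pow, hπ1]
    simp only [SubmonoidClass.coe_pow]
    exact hexp x.1 hx
  -- more than `p` elements
  have hcard : p < Nat.card C := by
    let c₁ : C := ⟨π ⟨x₁, hY1 hx₁⟩, (hmemC _).mpr hx₁⟩
    let c₂ : C := ⟨π ⟨x₂, hY1 hx₂⟩, (hmemC _).mpr hx₂⟩
    have hc₁1 : c₁ ≠ 1 := by
      intro h1
      have h2 := congrArg Subtype.val h1
      simp only [c₁, Subgroup.coe_one] at h2
      rw [hπ1] at h2
      exact hx₁N h2
    have hc₁p : c₁ ^ p = 1 := by
      apply Subtype.ext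
      rw [Subgroup.coe_pow, Subgroup.coe_one]
      exact hexpC _ c₁.2
    have hord : orderOf c₁ = p := orderOf_eq_prime hc₁p hc₁1
    let fn : Fin p ⊕ Unit → C := fun s => Sum.elim (fun i : Fin p => c₁ ^ (i : ℕ)) (fun _ => c₂) s
    have hne : ∀ j : ℕ, c₁ ^ j ≠ c₂ := by
      intro j he
      have h2 := congrArg Subtype.val he
      simp only [c₁, c₂, Subgroup.coe_pow] at h2
      rw [← map_pow, hπ] at h2
      simp only [SubmonoidClass.coe_pow] at h2
      exact hx₂N j h2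
    have hinj : Function.Injective fn := by
      rintro (i | _) (j | _) hij
      · simp only [fn, Sum.elim_inl] at hij
        have hi : (i : ℕ) < orderOf c₁ := by rw [hord]; exact i.2
        have hj : (j : ℕ) < orderOf c₁ := by rw [hord]; exact j.2
        have := pow_injOn_Iio_orderOf (Set.mem_Iio.mpr hi) (Set.mem_Iio.mpr hj) hij
        rw [Fin.ext this]
      · simp only [fn, Sum.elim_inl, Sum.elim_inr] at hij
        exact absurd hij (hne _)
      · simp only [fn, Sum.elim_inl, Sum.elim_inr] at hij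
        exact absurd hij.symm (hne _)
      · rfl
    have h1 := Nat.card_le_card_of_injective fn hinj
    rw [Nat.card_eq_fintype_card, Fintype.card_sum, Fintype.card_fin, Fintype.card_unit] at h1
    omega
  exact Cfsg.Agent.Lib.Helper48.Subfield.no_elementary_frobenius_complement C hFrob p hexpC hcard

end Cfsg.Agent.Lib.Helper61.SubfieldUr
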