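import Mathlib
import Cfsg.Prelude.Def_GeometricClasses
import Cfsg.Agent.Lib.Helper61.SubfieldOrG
import Cfsg.Agent.Lib.Helper61.SubfieldUrG

/-!
Subfield subgroups of orthogonal groups: the configuration of a rational totally singular plane
and a line of a Siegel element of the overgroup such that the point of the plane orthogonal to
the line is totally irrational; linear algebra of the five-dimensional space they span.
-/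

set_option autoImplicit false
set_option linter.unusedSectionVars false
set_option linter.unusedVariables false

namespace Cfsg.Agent.Lib.Helper61.SubfieldOr

open Matrix Module Cfsg.Agent.Lib.Helper43

section cfg
variable {F : Type*} [Field F] [Fintype F] {ι : Type} [Fintype ι] [DecidableEq ι]
variable {Q : QuadraticForm F (ι → F)} {F₀ : Subfield F} {P : GL ι F} {r : ℕ}
variable {K : Subgroup ↥(Cfsg.Omega F ⇑Q)}

local notation "BB" => QuadraticMap.polarBilin Q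

/-- an element of `F` which multiplies the `F₀`-span of `1, a, b` into itself lies in `F₀`, when
the degree is larger than three -/
theorem RQ.eigen_rat (h : RQ Q F₀ P r) (hr3 : 3 < r) (a b c : F)
    {m₁ m₂ m₃ n₁ n₂ n₃ k₁ k₂ k₃ : F} (hm₁ : m₁ ∈ F₀) (hm₂ : m₂ ∈ F₀) (hm₃ : m₃ ∈ F₀)
    (hn₁ : n₁ ∈ F₀) (hn₂ : n₂ ∈ F₀) (hn₃ : n₃ ∈ F₀) (hk₁ : k₁ ∈ F₀) (hk₂ : k₂ ∈ F₀)
    (hk₃ : k₃ ∈ F₀)
    (e₁ : c * a = m₁ + m₂ * a + m₃ * b) (e₂ : c * b = n₁ + n₂ * a + n₃ * b)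
    (e₃ : c = k₁ + k₂ * a + k₃ * b) : c ∈ F₀ := by
  classical
  let W : Submodule F₀ F := Submodule.span F₀ ((({1, a, b} : Finset F)) : Set F)
  have h1W : (1 : F) ∈ W := Submodule.subset_span (by simp)
  have haW : a ∈ W := Submodule.subset_span (by simp)
  have hbW : b ∈ W := Submodule.subset_span (by simp)
  have hsm : ∀ l : F, l ∈ F₀ → ∀ w ∈ W, l * w ∈ W := by
    intro l hl w hw
    exact W.smul_mem (⟨l, hl⟩ : F₀) hw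
  have hlin : ∀ l₁ l₂ l₃ : F, l₁ ∈ F₀ → l₂ ∈ F₀ → l₃ ∈ F₀ → l₁ + l₂ * a + l₃ * b ∈ W := by
    intro l₁ l₂ l₃ h1 h2 h3
    have := hsm l₁ h1 1 h1W
    rw [mul_one] at this
    exact W.add_mem (W.add_mem this (hsm l₂ h2 a haW)) (hsm l₃ h3 b hbW)
  let A : Subalgebra F₀ F :=
    { carrier := {μ | ∀ w ∈ W, μ * w ∈ W}
      mul_mem' := by
        intro x y hx hy w hw
        rw [mul_assoc]
        exact hx _ (hy w hw)
      add_mem' := by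
        intro x y hx hy w hw
        rw [add_mul]
        exact W.add_mem (hx w hw) (hy w hw)
      algebraMap_mem' := by
        intro x w hw
        exact W.smul_mem x hw }
  have hcA : c ∈ A := by
    intro w hw
    induction hw using Submodule.span_induction with
    | mem x hx =>
      simp only [Finset.coe_insert, Finset.coe_singleton, Set.mem_insert_iff,
        Set.mem_singleton_iff] at hx
      rcases hx with rfl | rfl | rfl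
      · rw [mul_one, e₃]
        exact hlin _ _ _ hk₁ hk₂ hk₃
      · rw [e₁]
        exact hlin _ _ _ hm₁ hm₂ hm₃
      · rw [e₂]
        exact hlin _ _ _ hn₁ hn₂ hn₃
    | zero => rw [mul_zero]; exact W.zero_mem
    | add x y _ _ hx hy => rw [mul_add]; exact W.add_mem hx hy
    | smul t x _ hx => rw [mul_smul_comm]; exact W.smul_mem t hx
  rcases h.subalgebra_dichotomy A with h1 | h1
  · exact h1 c hcA
  · exfalso
    have hW : W = ⊤ := by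
      rw [eq_top_iff]
      intro μ _
      have := h1 μ 1 h1W
      rwa [mul_one] at this
    have h3 : Module.finrank F₀ W ≤ 3 :=
      le_trans (finrank_span_finset_le_card _) Finset.card_le_three
    rw [hW, finrank_top, h.finrank] at h3
    omega

/-- the point of the plane orthogonal to the line -/
def rhoV (Q : QuadraticForm F (ι → F)) (p₁ p₂ p₃ x y : ι → F) : ι → F :=
  p₃ - QuadraticMap.polarBilin Q p₃ x • p₁ - QuadraticMap.polarBilin Q p₃ y • p₂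

/-- the plane -/
def PI (p₁ p₂ p₃ : ι → F) : Submodule F (ι → F) := Submodule.span F {p₁, p₂, p₃}

/-- the five-dimensional space -/
def PP5 (p₁ p₂ p₃ x y : ι → F) : Submodule F (ι → F) := Submodule.span F {p₁, p₂, p₃, x, y}

/-- the auxiliary totally singular plane -/
def KK3 (Q : QuadraticForm F (ι → F)) (p₁ p₂ p₃ x y : ι → F) : Submodule F (ι → F) :=
  Submodule.span F {rhoV Q p₁ p₂ p₃ x y, p₂, x}

theorem mem_PP5 {p₁ p₂ p₃ x y v : ι → F} : v ∈ PP5 p₁ p₂ p₃ x y ↔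
    ∃ c₁ c₂ c₃ c₄ c₅ : F, v = c₁ • p₁ + c₂ • p₂ + c₃ • p₃ + c₄ • x + c₅ • y := by
  unfold PP5
  constructor
  · intro hv
    obtain ⟨c₁, z₁, hz₁, rfl⟩ := Submodule.mem_span_insert.mp hv
    obtain ⟨c₂, z₂, hz₂, rfl⟩ := Submodule.mem_span_insert.mp hz₁
    obtain ⟨c₃, z₃, hz₃, rfl⟩ := Submodule.mem_span_insert.mp hz₂
    obtain ⟨c₄, c₅, rfl⟩ := Submodule.mem_span_pair.mp hz₃
    exact ⟨c₁, c₂, c₃, c₄, c₅, by abel⟩
  · rintro ⟨c₁, c₂, c₃, c₄, c₅, rfl⟩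
    have m1 : p₁ ∈ Submodule.span F {p₁, p₂, p₃, x, y} := Submodule.subset_span (by simp)
    have m2 : p₂ ∈ Submodule.span F {p₁, p₂, p₃, x, y} := Submodule.subset_span (by simp)
    have m3 : p₃ ∈ Submodule.span F {p₁, p₂, p₃, x, y} := Submodule.subset_span (by simp)
    have m4 : x ∈ Submodule.span F {p₁, p₂, p₃, x, y} := Submodule.subset_span (by simp)
    have m5 : y ∈ Submodule.span F {p₁, p₂, p₃, x, y} := Submodule.subset_span (by simp)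
    exact Submodule.add_mem _ (Submodule.add_mem _ (Submodule.add_mem _ (Submodule.add_mem _
      (Submodule.smul_mem _ _ m1) (Submodule.smul_mem _ _ m2)) (Submodule.smul_mem _ _ m3))
      (Submodule.smul_mem _ _ m4)) (Submodule.smul_mem _ _ m5)

theorem mem_PI {p₁ p₂ p₃ v : ι → F} : v ∈ PI p₁ p₂ p₃ ↔
    ∃ c₁ c₂ c₃ : F, v = c₁ • p₁ + c₂ • p₂ + c₃ • p₃ := by
  unfold PI
  rw [Submodule.mem_span_triple]
  constructor
  · rintro ⟨a, b, c, rfl⟩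
    exact ⟨a, b, c, rfl⟩
  · rintro ⟨a, b, c, rfl⟩
    exact ⟨a, b, c, rfl⟩

theorem mem_KK3 {p₁ p₂ p₃ x y v : ι → F} : v ∈ KK3 Q p₁ p₂ p₃ x y ↔
    ∃ c₁ c₂ c₃ : F, v = c₁ • rhoV Q p₁ p₂ p₃ x y + c₂ • p₂ + c₃ • x := by
  unfold KK3
  rw [Submodule.mem_span_triple]
  constructor
  · rintro ⟨a, b, c, rfl⟩
    exact ⟨a, b, c, rfl⟩
  · rintro ⟨a, b, c, rfl⟩
    exact ⟨a, b, c, rfl⟩

/-- the configuration -/
structure Cfg (Q : QuadraticForm F (ι → F)) (F₀ : Subfield F) (P : GL ι F)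
    (K : Subgroup ↥(Cfsg.Omega F ⇑Q)) (p₁ p₂ p₃ x y : ι → F) (d : F) : Prop where
  r₁ : Rt F₀ P p₁
  r₂ : Rt F₀ P p₂
  r₃ : Rt F₀ P p₃
  q₁ : Q p₁ = 0
  q₂ : Q p₂ = 0
  q₃ : Q p₃ = 0
  b₁₂ : QuadraticMap.polarBilin Q p₁ p₂ = 0
  b₁₃ : QuadraticMap.polarBilin Q p₁ p₃ = 0
  b₂₃ : QuadraticMap.polarBilin Q p₂ p₃ = 0
  duals : ∃ p₁' p₂' p₃' : ι → F, Rt F₀ P p₁' ∧ Rt F₀ P p₂' ∧ Rt F₀ P p₃' ∧
    QuadraticMap.polarBilin Q p₁ p₁' = 1 ∧ QuadraticMap.polarBilin Q p₂ p₁' = 0 ∧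
    QuadraticMap.polarBilin Q p₃ p₁' = 0 ∧ QuadraticMap.polarBilin Q p₁ p₂' = 0 ∧
    QuadraticMap.polarBilin Q p₂ p₂' = 1 ∧ QuadraticMap.polarBilin Q p₃ p₂' = 0 ∧
    QuadraticMap.polarBilin Q p₁ p₃' = 0 ∧ QuadraticMap.polarBilin Q p₂ p₃' = 0 ∧
    QuadraticMap.polarBilin Q p₃ p₃' = 1
  qx : Q x = 0
  qy : Q y = 0
  bxy : QuadraticMap.polarBilin Q x y = 0
  n₁₁ : QuadraticMap.polarBilin Q p₁ x = 1
  n₂₁ : QuadraticMap.polarBilin Q p₂ x = 0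
  n₁₂ : QuadraticMap.polarBilin Q p₁ y = 0
  n₂₂ : QuadraticMap.polarBilin Q p₂ y = 1
  hd : d ≠ 0
  hK : InK Q K (siegelLin Q x (d • y))
  hind : ∀ l₀ l₁ l₂ : F, l₀ ∈ F₀ → l₁ ∈ F₀ → l₂ ∈ F₀ →
    l₀ + l₁ * QuadraticMap.polarBilin Q p₃ x + l₂ * QuadraticMap.polarBilin Q p₃ y = 0 →
    l₀ = 0 ∧ l₁ = 0 ∧ l₂ = 0

variable {p₁ p₂ p₃ x y : ι → F} {d : F}

namespace Cfg

variable (C : Cfg Q F₀ P K p₁ p₂ p₃ x y d)
include C

theorem s₁₁ : BB p₁ p₁ = 0 := pol_self0 Q C.q₁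
theorem s₂₂ : BB p₂ p₂ = 0 := pol_self0 Q C.q₂
theorem s₃₃ : BB p₃ p₃ = 0 := pol_self0 Q C.q₃
theorem s₂₁ : BB p₂ p₁ = 0 := pol_symm0 Q C.b₁₂
theorem s₃₁ : BB p₃ p₁ = 0 := pol_symm0 Q C.b₁₃
theorem s₃₂ : BB p₃ p₂ = 0 := pol_symm0 Q C.b₂₃
theorem sxx : BB x x = 0 := pol_self0 Q C.qx
theorem syy : BB y y = 0 := pol_self0 Q C.qy
theorem syx : BB y x = 0 := pol_symm0 Q C.bxy
theorem sx₁ : BB x p₁ = 1 := by rw [polar_symm, C.n₁₁]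
theorem sx₂ : BB x p₂ = 0 := by rw [polar_symm, C.n₂₁]
theorem sy₁ : BB y p₁ = 0 := by rw [polar_symm, C.n₁₂]
theorem sy₂ : BB y p₂ = 1 := by rw [polar_symm, C.n₂₂]
theorem sx₃ : BB x p₃ = BB p₃ x := polar_symm Q x p₃
theorem sy₃ : BB y p₃ = BB p₃ y := polar_symm Q y p₃

/-- pairings of a vector of the five-dimensional space given by its coordinates -/
theorem coords (c₁ c₂ c₃ c₄ c₅ : F) :
    BB (c₁ • p₁ + c₂ • p₂ + c₃ • p₃ + c₄ • x + c₅ • y) x = c₁ + c₃ * BB p₃ x ∧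
    BB (c₁ • p₁ + c₂ • p₂ + c₃ • p₃ + c₄ • x + c₅ • y) y = c₂ + c₃ * BB p₃ y ∧
    BB (c₁ • p₁ + c₂ • p₂ + c₃ • p₃ + c₄ • x + c₅ • y) p₁ = c₄ ∧
    BB (c₁ • p₁ + c₂ • p₂ + c₃ • p₃ + c₄ • x + c₅ • y) p₂ = c₅ ∧
    Q (c₁ • p₁ + c₂ • p₂ + c₃ • p₃ + c₄ • x + c₅ • y) =
      (c₁ + c₃ * BB p₃ x) * c₄ + (c₂ + c₃ * BB p₃ y) * c₅ := by
  refine ⟨?_, ?_, ?_, ?_, ?_⟩
  · simp only [map_add, map_smul, LinearMap.add_apply, LinearMap.smul_apply, smul_eq_mul, C.n₁₁,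
      C.n₂₁, C.sxx, C.syx]
    ring
  · simp only [map_add, map_smul, LinearMap.add_apply, LinearMap.smul_apply, smul_eq_mul, C.n₁₂,
      C.n₂₂, C.bxy, C.syy]
    ring
  · simp only [map_add, map_smul, LinearMap.add_apply, LinearMap.smul_apply, smul_eq_mul, C.s₁₁,
      C.s₂₁, C.s₃₁, C.sx₁, C.sy₁]
    ring
  · simp only [map_add, map_smul, LinearMap.add_apply, LinearMap.smul_apply, smul_eq_mul, C.b₁₂,
      C.s₂₂, C.s₃₂, C.sx₂, C.sy₂]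
    ring
  · simp only [Q_add, Q_smul, C.q₁, C.q₂, C.q₃, C.qx, C.qy, map_add, map_smul,
      LinearMap.add_apply, LinearMap.smul_apply, smul_eq_mul, C.b₁₂, C.b₁₃, C.b₂₃, C.n₁₁, C.n₂₁,
      C.n₁₂, C.n₂₂, C.bxy]
    ring

/-- the quadratic form on the five-dimensional space -/
theorem Q_PP {v : ι → F} (hv : v ∈ PP5 p₁ p₂ p₃ x y) :
    Q v = BB v x * BB v p₁ + BB v y * BB v p₂ := by
  obtain ⟨c₁, c₂, c₃, c₄, c₅, rfl⟩ := mem_PP5.mp hv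
  obtain ⟨h1, h2, h3, h4, h5⟩ := C.coords c₁ c₂ c₃ c₄ c₅
  rw [h1, h2, h3, h4, h5]

theorem mem_PI_of {v : ι → F} (hv : v ∈ PP5 p₁ p₂ p₃ x y) (h1 : BB v p₁ = 0)
    (h2 : BB v p₂ = 0) : v ∈ PI p₁ p₂ p₃ := by
  obtain ⟨c₁, c₂, c₃, c₄, c₅, rfl⟩ := mem_PP5.mp hv
  obtain ⟨-, -, h3, h4, -⟩ := C.coords c₁ c₂ c₃ c₄ c₅
  rw [h3] at h1
  rw [h4] at h2
  rw [h1, h2, zero_smul, zero_smul, add_zero, add_zero]
  exact mem_PI.mpr ⟨c₁, c₂, c₃, rfl⟩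

theorem PI_le_PP : PI p₁ p₂ p₃ ≤ PP5 p₁ p₂ p₃ x y := by
  intro v hv
  obtain ⟨c₁, c₂, c₃, rfl⟩ := mem_PI.mp hv
  exact mem_PP5.mpr ⟨c₁, c₂, c₃, 0, 0, by simp⟩

theorem PI_perp {v : ι → F} (hv : v ∈ PI p₁ p₂ p₃) : BB v p₁ = 0 ∧ BB v p₂ = 0 ∧ BB v p₃ = 0 := by
  obtain ⟨c₁, c₂, c₃, rfl⟩ := mem_PI.mp hv
  refine ⟨?_, ?_, ?_⟩
  · simp only [map_add, map_smul, LinearMap.add_apply, LinearMap.smul_apply, smul_eq_mul, C.s₁₁,
      C.s₂₁, C.s₃₁, mul_zero, add_zero]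
  · simp only [map_add, map_smul, LinearMap.add_apply, LinearMap.smul_apply, smul_eq_mul, C.b₁₂,
      C.s₂₂, C.s₃₂, mul_zero, add_zero]
  · simp only [map_add, map_smul, LinearMap.add_apply, LinearMap.smul_apply, smul_eq_mul, C.b₁₃,
      C.b₂₃, C.s₃₃, mul_zero, add_zero]

theorem rho_x : BB (rhoV Q p₁ p₂ p₃ x y) x = 0 := by
  unfold rhoV
  simp only [map_sub, map_smul, LinearMap.sub_apply, LinearMap.smul_apply, smul_eq_mul, C.n₁₁,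
    C.n₂₁]
  ring

theorem rho_y : BB (rhoV Q p₁ p₂ p₃ x y) y = 0 := by
  unfold rhoV
  simp only [map_sub, map_smul, LinearMap.sub_apply, LinearMap.smul_apply, smul_eq_mul, C.n₁₂,
    C.n₂₂]
  ring

theorem rho_mem_PI : rhoV Q p₁ p₂ p₃ x y ∈ PI p₁ p₂ p₃ :=
  mem_PI.mpr ⟨-BB p₃ x, -BB p₃ y, 1, by unfold rhoV; module⟩

theorem KK3_le_PP : KK3 Q p₁ p₂ p₃ x y ≤ PP5 p₁ p₂ p₃ x y := by
  intro v hv
  obtain ⟨c₁, c₂, c₃, rfl⟩ := mem_KK3.mp hv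
  exact mem_PP5.mpr ⟨-(c₁ * BB p₃ x), c₂ - c₁ * BB p₃ y, c₁, c₃, 0, by unfold rhoV; module⟩

theorem KK3_perp {v : ι → F} (hv : v ∈ KK3 Q p₁ p₂ p₃ x y) : BB v x = 0 ∧ BB v p₂ = 0 := by
  obtain ⟨c₁, c₂, c₃, rfl⟩ := mem_KK3.mp hv
  have h1 := (C.PI_perp C.rho_mem_PI).2.1
  refine ⟨?_, ?_⟩
  · simp only [map_add, map_smul, LinearMap.add_apply, LinearMap.smul_apply, smul_eq_mul, C.rho_x,
      C.n₂₁, C.sxx, mul_zero, add_zero]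
  · simp only [map_add, map_smul, LinearMap.add_apply, LinearMap.smul_apply, smul_eq_mul, h1,
      C.s₂₂, C.sx₂, mul_zero, add_zero]

theorem mem_KK3_of {v : ι → F} (hv : v ∈ PP5 p₁ p₂ p₃ x y) (h1 : BB v x = 0)
    (h2 : BB v p₂ = 0) : v ∈ KK3 Q p₁ p₂ p₃ x y := by
  obtain ⟨c₁, c₂, c₃, c₄, c₅, rfl⟩ := mem_PP5.mp hv
  obtain ⟨h3, -, -, h4, -⟩ := C.coords c₁ c₂ c₃ c₄ c₅
  rw [h3] at h1
  rw [h4] at h2
  refine mem_KK3.mpr ⟨c₃, c₂ + c₃ * BB p₃ y, c₄, ?_⟩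
  have : c₁ = -(c₃ * BB p₃ x) := by linear_combination h1
  rw [h2, this]
  unfold rhoV
  module

theorem x_mem_KK3 : x ∈ KK3 Q p₁ p₂ p₃ x y := mem_KK3.mpr ⟨0, 0, 1, by simp⟩

theorem p₂_mem_KK3 : p₂ ∈ KK3 Q p₁ p₂ p₃ x y := mem_KK3.mpr ⟨0, 1, 0, by simp⟩

theorem rho_mem_KK3 : rhoV Q p₁ p₂ p₃ x y ∈ KK3 Q p₁ p₂ p₃ x y := mem_KK3.mpr ⟨1, 0, 0, by simp⟩

theorem y_mem_PP : y ∈ PP5 p₁ p₂ p₃ x y := mem_PP5.mpr ⟨0, 0, 0, 0, 1, by simp⟩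

theorem x_mem_PP : x ∈ PP5 p₁ p₂ p₃ x y := mem_PP5.mpr ⟨0, 0, 0, 1, 0, by simp⟩

theorem p₁_mem_PI : p₁ ∈ PI p₁ p₂ p₃ := mem_PI.mpr ⟨1, 0, 0, by simp⟩

theorem p₂_mem_PI : p₂ ∈ PI p₁ p₂ p₃ := mem_PI.mpr ⟨0, 1, 0, by simp⟩

theorem p₃_mem_PI : p₃ ∈ PI p₁ p₂ p₃ := mem_PI.mpr ⟨0, 0, 1, by simp⟩

/-- a linear map fixing the plane pointwise moves a vector of the five-dimensional space by a
combination of its displacements of `x` and `y` -/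
theorem displacement (g : Module.End F (ι → F)) (hg : ∀ v ∈ PI p₁ p₂ p₃, g v = v) {v : ι → F}
    (hv : v ∈ PP5 p₁ p₂ p₃ x y) : g v - v = BB v p₁ • (g x - x) + BB v p₂ • (g y - y) := by
  obtain ⟨c₁, c₂, c₃, c₄, c₅, rfl⟩ := mem_PP5.mp hv
  obtain ⟨-, -, h3, h4, -⟩ := C.coords c₁ c₂ c₃ c₄ c₅
  rw [h3, h4]
  simp only [map_add, map_smul, hg p₁ C.p₁_mem_PI, hg p₂ C.p₂_mem_PI, hg p₃ C.p₃_mem_PI]
  module

end Cfg

end cfg

end Cfsg.Agent.Lib.Helper61.SubfieldOr
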