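import Mathlib
import Cfsg.Prelude.Def_GeometricClasses
import Cfsg.Agent.Lib.Helper61.SubfieldOrH

/-!
Subfield subgroups of orthogonal groups: the groups `Y ≥ Y₁ ≥ N₀` attached to the configuration
and the hypotheses of the Frobenius contradiction.
-/

set_option autoImplicit false
set_option linter.unusedSectionVars false
set_option linter.unusedVariables false

namespace Cfsg.Agent.Lib.Helper61.SubfieldOr

open Matrix Module Cfsg.Agent.Lib.Helper43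

section grp
variable {F : Type*} [Field F] [Fintype F] {ι : Type} [Fintype ι] [DecidableEq ι]
variable {Q : QuadraticForm F (ι → F)} {F₀ : Subfield F} {P : GL ι F} {r : ℕ}
variable {K : Subgroup ↥(Cfsg.Omega F ⇑Q)}

local notation "BB" => QuadraticMap.polarBilin Q

/-- the subgroup of `Ω` fixing a vector -/
def fixO (Q : QuadraticForm F (ι → F)) (ρ : ι → F) : Subgroup ↥(Cfsg.Omega F ⇑Q) where
  carrier := {g | lo Q g ρ = ρ}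
  mul_mem' := by
    intro a b ha hb
    show lo Q (a * b) ρ = ρ
    have ha' : lo Q a ρ = ρ := ha
    have hb' : lo Q b ρ = ρ := hb
    rw [lo_mul_apply, hb', ha']
  one_mem' := lo_one_apply Q ρ
  inv_mem' := by
    intro a ha
    show lo Q a⁻¹ ρ = ρ
    have ha' : lo Q a ρ = ρ := ha
    have := lo_inv_apply Q a ρ
    rwa [ha'] at this

theorem mem_fixO (ρ : ι → F) (g : ↥(Cfsg.Omega F ⇑Q)) : g ∈ fixO Q ρ ↔ lo Q g ρ = ρ := Iff.rfl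

theorem stab_maps {W : Submodule F (ι → F)} {g : ↥(Cfsg.Omega F ⇑Q)} (hg : g ∈ subStab Q W)
    {v : ι → F} (hv : v ∈ W) : lo Q g v ∈ W := ((mem_subStab Q W g).mp hg v).mp hv

theorem stab_maps_inv {W : Submodule F (ι → F)} {g : ↥(Cfsg.Omega F ⇑Q)} (hg : g ∈ subStab Q W)
    {v : ι → F} (hv : v ∈ W) : lo Q g⁻¹ v ∈ W := stab_maps ((subStab Q W).inv_mem hg) hv

theorem lo_sub (g : ↥(Cfsg.Omega F ⇑Q)) (u v : ι → F) : lo Q g (u - v) = lo Q g u - lo Q g v :=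
  map_sub _ _ _

variable (p₁ p₂ p₃ x y : ι → F)

/-- the group `Y` -/
def YY (K : Subgroup ↥(Cfsg.Omega F ⇑Q)) : Subgroup ↥(Cfsg.Omega F ⇑Q) :=
  K ⊓ subStab Q (PP5 p₁ p₂ p₃ x y) ⊓ subStab Q (KK3 Q p₁ p₂ p₃ x y) ⊓
    fixO Q (rhoV Q p₁ p₂ p₃ x y)

/-- the stabiliser of the plane in `Y` -/
def Y1 (K : Subgroup ↥(Cfsg.Omega F ⇑Q)) : Subgroup ↥(Cfsg.Omega F ⇑Q) :=
  YY p₁ p₂ p₃ x y K ⊓ subStab Q (PI p₁ p₂ p₃)

variable {p₁ p₂ p₃ x y}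

theorem mem_YY {g : ↥(Cfsg.Omega F ⇑Q)} : g ∈ YY p₁ p₂ p₃ x y K ↔
    g ∈ K ∧ g ∈ subStab Q (PP5 p₁ p₂ p₃ x y) ∧ g ∈ subStab Q (KK3 Q p₁ p₂ p₃ x y) ∧
      lo Q g (rhoV Q p₁ p₂ p₃ x y) = rhoV Q p₁ p₂ p₃ x y := by
  unfold YY
  rw [Subgroup.mem_inf, Subgroup.mem_inf, Subgroup.mem_inf, mem_fixO, and_assoc, and_assoc]

theorem mem_Y1 {g : ↥(Cfsg.Omega F ⇑Q)} : g ∈ Y1 p₁ p₂ p₃ x y K ↔
    g ∈ YY p₁ p₂ p₃ x y K ∧ g ∈ subStab Q (PI p₁ p₂ p₃) := Subgroup.mem_inf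

variable (p₁ p₂ p₃ x y)

/-- the kernel of the action on the quotient by the auxiliary plane -/
def N0 (K : Subgroup ↥(Cfsg.Omega F ⇑Q)) : Subgroup ↥(Cfsg.Omega F ⇑Q) where
  carrier := {g | g ∈ YY p₁ p₂ p₃ x y K ∧
    ∀ v ∈ PP5 p₁ p₂ p₃ x y, lo Q g v - v ∈ KK3 Q p₁ p₂ p₃ x y}
  mul_mem' := by
    rintro a b ⟨ha, ha'⟩ ⟨hb, hb'⟩
    refine ⟨(YY p₁ p₂ p₃ x y K).mul_mem ha hb, ?_⟩
    intro v hv
    have hbv : lo Q b v ∈ PP5 p₁ p₂ p₃ x y := stab_maps (mem_YY.mp hb).2.1 hv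
    have h1 := ha' _ hbv
    have h2 := hb' v hv
    have : lo Q (a * b) v - v = (lo Q a (lo Q b v) - lo Q b v) + (lo Q b v - v) := by
      rw [lo_mul_apply]; abel
    rw [this]
    exact Submodule.add_mem _ h1 h2
  one_mem' := by
    refine ⟨(YY p₁ p₂ p₃ x y K).one_mem, ?_⟩
    intro v hv
    rw [lo_one_apply, sub_self]
    exact Submodule.zero_mem _
  inv_mem' := by
    rintro a ⟨ha, ha'⟩
    refine ⟨(YY p₁ p₂ p₃ x y K).inv_mem ha, ?_⟩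
    intro v hv
    have hv' : lo Q a⁻¹ v ∈ PP5 p₁ p₂ p₃ x y := stab_maps_inv (mem_YY.mp ha).2.1 hv
    have h1 := ha' _ hv'
    rw [lo_apply_inv] at h1
    have : lo Q a⁻¹ v - v = -(v - lo Q a⁻¹ v) := by abel
    rw [this]
    exact Submodule.neg_mem _ h1

variable {p₁ p₂ p₃ x y}

theorem mem_N0 {g : ↥(Cfsg.Omega F ⇑Q)} : g ∈ N0 p₁ p₂ p₃ x y K ↔
    g ∈ YY p₁ p₂ p₃ x y K ∧
      ∀ v ∈ PP5 p₁ p₂ p₃ x y, lo Q g v - v ∈ KK3 Q p₁ p₂ p₃ x y := Iff.rfl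

/-- `N₀` is normalised by `Y` -/
theorem N0_normal {g k : ↥(Cfsg.Omega F ⇑Q)} (hg : g ∈ YY p₁ p₂ p₃ x y K)
    (hk : k ∈ N0 p₁ p₂ p₃ x y K) : g * k * g⁻¹ ∈ N0 p₁ p₂ p₃ x y K := by
  obtain ⟨hkY, hk'⟩ := mem_N0.mp hk
  refine mem_N0.mpr ⟨(YY p₁ p₂ p₃ x y K).mul_mem ((YY p₁ p₂ p₃ x y K).mul_mem hg hkY)
    ((YY p₁ p₂ p₃ x y K).inv_mem hg), ?_⟩
  intro v hv
  have hw : lo Q g⁻¹ v ∈ PP5 p₁ p₂ p₃ x y := stab_maps_inv (mem_YY.mp hg).2.1 hv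
  have h1 := hk' _ hw
  have h2 : lo Q g (lo Q k (lo Q g⁻¹ v) - lo Q g⁻¹ v) ∈ KK3 Q p₁ p₂ p₃ x y :=
    stab_maps (mem_YY.mp hg).2.2.1 h1
  rw [lo_sub, lo_apply_inv] at h2
  rw [lo_mul_apply, lo_mul_apply]
  exact h2

/-- the transvection parameter -/
noncomputable def tauF (Q : QuadraticForm F (ι → F)) (x y : ι → F) (g : ↥(Cfsg.Omega F ⇑Q)) : F :=
  QuadraticMap.polarBilin Q (lo Q g y - y) x

namespace Cfg

variable {d : F} (C : Cfg Q F₀ P K p₁ p₂ p₃ x y d)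
include C

/-- vectors of the plane are singular -/
theorem Q_PI {v : ι → F} (hv : v ∈ PI p₁ p₂ p₃) : Q v = 0 := by
  rw [C.Q_PP (C.PI_le_PP hv), (C.PI_perp hv).1, (C.PI_perp hv).2.1, mul_zero, mul_zero, add_zero]

/-- (B*) an element of `Y` mapping the plane into the perp of `p₂` stabilises the plane -/
theorem stab_PI_of_perp {g : ↥(Cfsg.Omega F ⇑Q)} (hg : g ∈ YY p₁ p₂ p₃ x y K)
    (hp₂ : ∀ v ∈ PI p₁ p₂ p₃, BB (lo Q g v) p₂ = 0) : g ∈ subStab Q (PI p₁ p₂ p₃) := by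
  obtain ⟨hgK, hgP, hgK3, hgρ⟩ := mem_YY.mp hg
  have hgv : ∀ v ∈ PI p₁ p₂ p₃, lo Q g v ∈ PP5 p₁ p₂ p₃ x y :=
    fun v hv => stab_maps hgP (C.PI_le_PP hv)
  have hprod : ∀ v ∈ PI p₁ p₂ p₃, BB (lo Q g v) x * BB (lo Q g v) p₁ = 0 := by
    intro v hv
    have h1 := C.Q_PP (hgv v hv)
    rw [lo_isometry, C.Q_PI hv, hp₂ v hv, mul_zero, add_zero] at h1
    exact h1.symm
  apply mem_subStab_of_map_le
  by_contra hcon
  push Not at hcon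
  obtain ⟨v₀, hv₀, hv₀n⟩ := hcon
  have hΓ : BB (lo Q g v₀) p₁ ≠ 0 := by
    intro h0
    exact hv₀n (C.mem_PI_of (hgv v₀ hv₀) h0 (hp₂ v₀ hv₀))
  have hA0 : BB (lo Q g v₀) x = 0 := by
    rcases mul_eq_zero.mp (hprod v₀ hv₀) with h1 | h1
    · exact h1
    · exact absurd h1 hΓ
  have hAll : ∀ w ∈ PI p₁ p₂ p₃, BB (lo Q g w) x = 0 := by
    intro w hw
    by_contra hne
    have hΓw : BB (lo Q g w) p₁ = 0 := by
      rcases mul_eq_zero.mp (hprod w hw) with h1 | h1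
      · exact absurd h1 hne
      · exact h1
    have h2 := hprod (v₀ + w) (Submodule.add_mem _ hv₀ hw)
    simp only [map_add, LinearMap.add_apply, hA0, hΓw, zero_add, add_zero] at h2
    rcases mul_eq_zero.mp h2 with h1 | h1
    · exact hne h1
    · exact hΓ h1
  have h3 : lo Q g p₁ ∈ KK3 Q p₁ p₂ p₃ x y :=
    C.mem_KK3_of (hgv p₁ C.p₁_mem_PI) (hAll p₁ C.p₁_mem_PI) (hp₂ p₁ C.p₁_mem_PI)
  have h4 := stab_maps_inv hgK3 h3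
  rw [lo_inv_apply] at h4
  have h5 := (C.KK3_perp h4).1
  rw [C.n₁₁] at h5
  exact one_ne_zero h5

/-- `N₀ ≤ Y₁` -/
theorem N0_le_Y1 : N0 p₁ p₂ p₃ x y K ≤ Y1 p₁ p₂ p₃ x y K := by
  intro g hg
  obtain ⟨hgY, hg'⟩ := mem_N0.mp hg
  refine mem_Y1.mpr ⟨hgY, C.stab_PI_of_perp hgY ?_⟩
  intro v hv
  have h1 := (C.KK3_perp (hg' v (C.PI_le_PP hv))).2
  rw [map_sub, LinearMap.sub_apply, (C.PI_perp hv).2.1, sub_zero] at h1
  exact h1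

section fixing
variable (hfix : ∀ g ∈ Y1 p₁ p₂ p₃ x y K, ∀ v ∈ PI p₁ p₂ p₃, lo Q g v = v)
include hfix

theorem disp_x {g : ↥(Cfsg.Omega F ⇑Q)} (hg : g ∈ Y1 p₁ p₂ p₃ x y K) {v : ι → F}
    (hv : v ∈ PP5 p₁ p₂ p₃ x y) : BB (lo Q g v - v) x = BB v p₂ * tauF Q x y g := by
  have hgY := (mem_Y1.mp hg).1
  obtain ⟨hgK, hgP, hgK3, hgρ⟩ := mem_YY.mp hgY
  have h1 := C.displacement (lo Q g) (hfix g hg) hv
  have h2 : BB (lo Q g x) x = 0 := (C.KK3_perp (stab_maps hgK3 C.x_mem_KK3)).1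
  rw [h1]
  unfold tauF
  simp only [map_add, map_sub, map_smul, LinearMap.add_apply, LinearMap.sub_apply,
    LinearMap.smul_apply, smul_eq_mul, h2, C.sxx]
  ring

theorem disp_p₂ {g : ↥(Cfsg.Omega F ⇑Q)} (hg : g ∈ Y1 p₁ p₂ p₃ x y K) (v : ι → F) :
    BB (lo Q g v - v) p₂ = 0 := by
  have h1 : BB (lo Q g v) (lo Q g p₂) = BB v p₂ := lo_polar Q g v p₂
  rw [hfix g hg p₂ C.p₂_mem_PI] at h1
  rw [map_sub, LinearMap.sub_apply, h1, sub_self]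

theorem tau_mul {g k : ↥(Cfsg.Omega F ⇑Q)} (hg : g ∈ Y1 p₁ p₂ p₃ x y K)
    (hk : k ∈ Y1 p₁ p₂ p₃ x y K) : tauF Q x y (g * k) = tauF Q x y g + tauF Q x y k := by
  have hkY := (mem_Y1.mp hk).1
  have hky : lo Q k y ∈ PP5 p₁ p₂ p₃ x y := stab_maps (mem_YY.mp hkY).2.1 C.y_mem_PP
  have h1 := C.disp_x hfix hg hky
  have h2 : BB (lo Q k y) p₂ = 1 := by
    have := C.disp_p₂ hfix hk y
    rw [map_sub, LinearMap.sub_apply, C.sy₂] at this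
    linear_combination this
  rw [h2, one_mul] at h1
  unfold tauF at h1 ⊢
  rw [lo_mul_apply]
  have : lo Q g (lo Q k y) - y = (lo Q g (lo Q k y) - lo Q k y) + (lo Q k y - y) := by abel
  rw [this, map_add, LinearMap.add_apply, h1]

theorem tau_one : tauF Q x y (1 : ↥(Cfsg.Omega F ⇑Q)) = 0 := by
  unfold tauF
  rw [lo_one_apply, sub_self, LinearMap.map_zero₂]

theorem tau_pow {g : ↥(Cfsg.Omega F ⇑Q)} (hg : g ∈ Y1 p₁ p₂ p₃ x y K) (j : ℕ) :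
    tauF Q x y (g ^ j) = (j : F) * tauF Q x y g := by
  induction j with
  | zero => rw [pow_zero, C.tau_one hfix, Nat.cast_zero, zero_mul]
  | succ j ih =>
    rw [pow_succ, C.tau_mul hfix ((Y1 p₁ p₂ p₃ x y K).pow_mem hg j) hg, ih, Nat.cast_succ]
    ring

theorem tau_inv {g : ↥(Cfsg.Omega F ⇑Q)} (hg : g ∈ Y1 p₁ p₂ p₃ x y K) :
    tauF Q x y g⁻¹ = -tauF Q x y g := by
  have h1 := C.tau_mul hfix hg ((Y1 p₁ p₂ p₃ x y K).inv_mem hg)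
  rw [mul_inv_cancel, C.tau_one hfix] at h1
  linear_combination -h1

theorem mem_N0_iff_tau {g : ↥(Cfsg.Omega F ⇑Q)} (hg : g ∈ Y1 p₁ p₂ p₃ x y K) :
    g ∈ N0 p₁ p₂ p₃ x y K ↔ tauF Q x y g = 0 := by
  have hgY := (mem_Y1.mp hg).1
  constructor
  · intro hN
    have h1 := (C.KK3_perp ((mem_N0.mp hN).2 y C.y_mem_PP)).1
    exact h1
  · intro hτ
    refine mem_N0.mpr ⟨hgY, fun v hv => ?_⟩
    have hgv : lo Q g v ∈ PP5 p₁ p₂ p₃ x y := stab_maps (mem_YY.mp hgY).2.1 hv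
    apply C.mem_KK3_of (Submodule.sub_mem _ hgv hv)
    · rw [C.disp_x hfix hg hv, hτ, mul_zero]
    · exact C.disp_p₂ hfix hg v

/-- the exponent of `Y₁ / N₀` -/
theorem pow_mem_N0 (p : ℕ) [CharP F p] {g : ↥(Cfsg.Omega F ⇑Q)}
    (hg : g ∈ Y1 p₁ p₂ p₃ x y K) : g ^ p ∈ N0 p₁ p₂ p₃ x y K := by
  rw [C.mem_N0_iff_tau hfix ((Y1 p₁ p₂ p₃ x y K).pow_mem hg p), C.tau_pow hfix hg,
    CharP.cast_eq_zero, zero_mul]

/-- malnormality of `Y₁ / N₀` -/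
theorem malnormal {g k : ↥(Cfsg.Omega F ⇑Q)} (hg : g ∈ YY p₁ p₂ p₃ x y K)
    (hgn : g ∉ Y1 p₁ p₂ p₃ x y K) (hk : k ∈ Y1 p₁ p₂ p₃ x y K)
    (hconj : g⁻¹ * k * g ∈ Y1 p₁ p₂ p₃ x y K) : k ∈ N0 p₁ p₂ p₃ x y K := by
  rw [C.mem_N0_iff_tau hfix hk]
  by_contra hτ
  apply hgn
  refine mem_Y1.mpr ⟨hg, C.stab_PI_of_perp hg ?_⟩
  intro v hv
  have h1 := hfix _ hconj v hv
  rw [lo_mul_apply, lo_mul_apply] at h1
  have h2 : lo Q k (lo Q g v) = lo Q g v := by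
    have := congrArg (lo Q g) h1
    rwa [lo_apply_inv] at this
  have hgv : lo Q g v ∈ PP5 p₁ p₂ p₃ x y := stab_maps (mem_YY.mp hg).2.1 (C.PI_le_PP hv)
  have h3 := C.disp_x hfix hk hgv
  rw [h2, sub_self, LinearMap.map_zero₂] at h3
  rcases mul_eq_zero.mp h3.symm with h4 | h4
  · exact h4
  · exact absurd h4 hτ

end fixing

end Cfg

end grp

end Cfsg.Agent.Lib.Helper61.SubfieldOr
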