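import Mathlib
import Cfsg.Prelude.Def_GeometricClasses
import Cfsg.Agent.Lib.Helper61.SubfieldOrI

/-!
Subfield subgroups of orthogonal groups: in the configuration, the elements of `Y₁` fix the
rational plane pointwise; the three Siegel elements of the configuration.
-/

set_option autoImplicit false
set_option linter.unusedSectionVars false
set_option linter.unusedVariables false

namespace Cfsg.Agent.Lib.Helper61.SubfieldOr

open Matrix Module Cfsg.Agent.Lib.Helper43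

section fixpi
variable {F : Type*} [Field F] [Fintype F] {ι : Type} [Fintype ι] [DecidableEq ι]
variable {Q : QuadraticForm F (ι → F)} {F₀ : Subfield F} {P : GL ι F} {r : ℕ}
variable {K : Subgroup ↥(Cfsg.Omega F ⇑Q)}
variable {p₁ p₂ p₃ x y : ι → F} {d : F}

local notation "BB" => QuadraticMap.polarBilin Q

namespace Cfg

variable (C : Cfg Q F₀ P K p₁ p₂ p₃ x y d)
include C

theorem B_PI {v w : ι → F} (hv : v ∈ PI p₁ p₂ p₃) (hw : w ∈ PI p₁ p₂ p₃) : BB v w = 0 := by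
  obtain ⟨c₁, c₂, c₃, rfl⟩ := mem_PI.mp hw
  obtain ⟨h1, h2, h3⟩ := C.PI_perp hv
  rw [map_add, map_add, map_smul, map_smul, map_smul, h1, h2, h3, smul_zero, smul_zero, smul_zero,
    add_zero, add_zero]

theorem indep3 {α β γ : F} (h0 : α • p₁ + β • p₂ + γ • p₃ = 0) : α = 0 ∧ β = 0 ∧ γ = 0 := by
  obtain ⟨p₁', p₂', p₃', -, -, -, d11, d21, d31, d12, d22, d32, d13, d23, d33⟩ := C.duals
  refine ⟨?_, ?_, ?_⟩
  · have := congrArg (fun u => BB u p₁') h0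
    simp only [map_add, map_smul, LinearMap.add_apply, LinearMap.smul_apply, smul_eq_mul, d11, d21,
      d31, LinearMap.map_zero₂] at this
    linear_combination this
  · have := congrArg (fun u => BB u p₂') h0
    simp only [map_add, map_smul, LinearMap.add_apply, LinearMap.smul_apply, smul_eq_mul, d12, d22,
      d32, LinearMap.map_zero₂] at this
    linear_combination this
  · have := congrArg (fun u => BB u p₃') h0
    simp only [map_add, map_smul, LinearMap.add_apply, LinearMap.smul_apply, smul_eq_mul, d13, d23,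
      d33, LinearMap.map_zero₂] at this
    linear_combination this

variable (h : RQ Q F₀ P r) (hn : 13 ≤ Fintype.card ι) (hHK : HQ Q F₀ P ≤ K)
  {v₀ w₀ : ι → F} (t₀ : TIP Q F₀ P v₀ w₀) (hA : ∀ a ∈ AB Q F₀ K v₀ w₀, a ∈ F₀)
include h hn hHK t₀ hA

/-- the image under an element of `Y₁` of a rational line of the plane is a rational line -/
theorem lineK {g : ↥(Cfsg.Omega F ⇑Q)} (hg : g ∈ Y1 p₁ p₂ p₃ x y K) {v w : ι → F}
    (hv : Rt F₀ P v) (hw : Rt F₀ P w) (hvP : v ∈ PI p₁ p₂ p₃) (hwP : w ∈ PI p₁ p₂ p₃)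
    (hind : ∀ α β : F, α • v + β • w = 0 → α = 0 ∧ β = 0) :
    LineRat F₀ P (lo Q g v) (lo Q g w) := by
  classical
  have hn7 : 7 ≤ Fintype.card ι := by omega
  obtain ⟨hgY, hgPI⟩ := mem_Y1.mp hg
  have hgK : g ∈ K := (mem_YY.mp hgY).1
  obtain ⟨e, f, he, hf, hee, hff, hef, hes, hfs⟩ := h.exists_hyp_perp ![p₁, p₂, p₃]
    (by
      intro i
      fin_cases i
      · exact C.r₁
      · exact C.r₂
      · exact C.r₃) (by simp; omega)
  have hperp : ∀ u ∈ PI p₁ p₂ p₃, BB u e = 0 ∧ BB u f = 0 := by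
    intro u hu
    obtain ⟨c₁, c₂, c₃, rfl⟩ := mem_PI.mp hu
    have e1 : BB p₁ e = 0 := hes 0
    have e2 : BB p₂ e = 0 := hes 1
    have e3 : BB p₃ e = 0 := hes 2
    have f1 : BB p₁ f = 0 := hfs 0
    have f2 : BB p₂ f = 0 := hfs 1
    have f3 : BB p₃ f = 0 := hfs 2
    constructor
    · simp only [map_add, map_smul, LinearMap.add_apply, LinearMap.smul_apply, smul_eq_mul, e1, e2,
        e3, mul_zero, add_zero]
    · simp only [map_add, map_smul, LinearMap.add_apply, LinearMap.smul_apply, smul_eq_mul, f1, f2,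
        f3, mul_zero, add_zero]
  have hvw : BB v w = 0 := C.B_PI hvP hwP
  have hK0 : InK Q K (siegelLin Q v w) := h.rat_siegel hHK hv hw
  have hK1 := inK_siegel_conj h.hQ hn7 (C.Q_PI hvP) hvw hK0 g hgK
  have hgv : lo Q g v ∈ PI p₁ p₂ p₃ := stab_maps hgPI hvP
  have hgw : lo Q g w ∈ PI p₁ p₂ p₃ := stab_maps hgPI hwP
  apply h.line_in_plane hn hHK t₀ hA _ _ (C.Q_PI hgv) (C.Q_PI hgw) (C.B_PI hgv hgw) _ hK1 e f he hf
    hee hef (hperp _ hgv).1 (hperp _ hgw).1 (hperp _ hgv).2 (hperp _ hgw).2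
  intro α β h0
  apply hind
  apply lo_injective_apply Q g
  rw [map_add, map_smul, map_smul, h0, map_zero]

/-- the image under an element of `Y₁` of a rational point of the plane is a rational point -/
theorem ptK {g : ↥(Cfsg.Omega F ⇑Q)} (hg : g ∈ Y1 p₁ p₂ p₃ x y K) {v w w' : ι → F}
    (hv : Rt F₀ P v) (hw : Rt F₀ P w) (hw' : Rt F₀ P w') (hvP : v ∈ PI p₁ p₂ p₃)
    (hwP : w ∈ PI p₁ p₂ p₃) (hw'P : w' ∈ PI p₁ p₂ p₃)
    (hind : ∀ α β γ : F, α • v + β • w + γ • w' = 0 → α = 0 ∧ β = 0 ∧ γ = 0) :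
    ∃ c : F, c ≠ 0 ∧ Rt F₀ P (c • lo Q g v) := by
  have hinj := lo_injective_apply Q g
  have l1 := C.lineK h hn hHK t₀ hA hg hv hw hvP hwP (by
    intro α β h0
    have := hind α β 0 (by rw [zero_smul, add_zero]; exact h0)
    exact ⟨this.1, this.2.1⟩)
  have l2 := C.lineK h hn hHK t₀ hA hg hv hw' hvP hw'P (by
    intro α β h0
    have := hind α 0 β (by rw [zero_smul, add_zero]; exact h0)
    exact ⟨this.1, this.2.2⟩)
  apply h.rat_of_two_lines _ _ _ l1 l2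
  · intro h0
    have hv0 : v = 0 := hinj (by rw [h0, map_zero])
    have := (hind 1 0 0 (by rw [hv0]; simp)).1
    exact one_ne_zero this
  · intro α β h0
    have h1 : α • v + (0 : F) • w + β • w' = 0 := by
      apply hinj
      rw [zero_smul, add_zero, map_add, map_smul, map_smul, h0, map_zero]
    have := hind α 0 β h1
    exact ⟨this.1, this.2.2⟩
  · intro hmem
    obtain ⟨α, β, e⟩ := Submodule.mem_span_pair.mp hmem
    have h1 : α • v + (-1 : F) • w + β • w' = 0 := by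
      apply hinj
      rw [map_add, map_add, map_smul, map_smul, map_smul, map_zero]
      rw [← e]
      module
    have := (hind α (-1) β h1).2.1
    exact one_ne_zero (neg_eq_zero.mp this)

/-- (L6') the elements of `Y₁` fix the plane pointwise -/
theorem fix_PI (hr3 : 3 < r) {g : ↥(Cfsg.Omega F ⇑Q)} (hg : g ∈ Y1 p₁ p₂ p₃ x y K) :
    ∀ v ∈ PI p₁ p₂ p₃, lo Q g v = v := by
  classical
  obtain ⟨hgY, hgPI⟩ := mem_Y1.mp hg
  have hgρ := (mem_YY.mp hgY).2.2.2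
  obtain ⟨p₁', p₂', p₃', hp₁', hp₂', hp₃', d11, d21, d31, d12, d22, d32, d13, d23, d33⟩ :=
    C.duals
  have hinj := lo_injective_apply Q g
  have I3 := fun α β γ => C.indep3 (α := α) (β := β) (γ := γ)
  have m1 := C.p₁_mem_PI
  have m2 := C.p₂_mem_PI
  have m3 := C.p₃_mem_PI
  -- scalars for the three base points and two sums
  obtain ⟨c₁, hc₁, hr₁⟩ := C.ptK h hn hHK t₀ hA hg C.r₁ C.r₂ C.r₃ m1 m2 m3 (fun α β γ h0 => I3 α β γ h0)
  obtain ⟨c₂, hc₂, hr₂⟩ := C.ptK h hn hHK t₀ hA hg C.r₂ C.r₁ C.r₃ m2 m1 m3 (by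
    intro α β γ h0
    have := I3 β α γ (by rw [← h0]; module)
    exact ⟨this.2.1, this.1, this.2.2⟩)
  obtain ⟨c₃, hc₃, hr₃⟩ := C.ptK h hn hHK t₀ hA hg C.r₃ C.r₁ C.r₂ m3 m1 m2 (by
    intro α β γ h0
    have := I3 β γ α (by rw [← h0]; module)
    exact ⟨this.2.2, this.1, this.2.1⟩)
  obtain ⟨c₁₂, hc₁₂, hr₁₂⟩ := C.ptK h hn hHK t₀ hA hg (rt_add C.r₁ C.r₂) C.r₁ C.r₃
    (Submodule.add_mem _ m1 m2) m1 m3 (by
    intro α β γ h0
    have := I3 (α + β) α γ (by rw [← h0]; module)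
    have hα : α = 0 := this.2.1
    refine ⟨hα, ?_, this.2.2⟩
    have := this.1
    rw [hα, zero_add] at this
    exact this)
  obtain ⟨c₁₃, hc₁₃, hr₁₃⟩ := C.ptK h hn hHK t₀ hA hg (rt_add C.r₁ C.r₃) C.r₁ C.r₂
    (Submodule.add_mem _ m1 m3) m1 m2 (by
    intro α β γ h0
    have := I3 (α + β) γ α (by rw [← h0]; module)
    have hα : α = 0 := this.2.2
    refine ⟨hα, ?_, this.2.1⟩
    have := this.1
    rw [hα, zero_add] at this
    exact this)
  have q12 : c₁ / c₂ ∈ F₀ := h.ratio (lo Q g) hinj C.r₁ C.r₂ (by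
    intro α β h0
    have := I3 α β 0 (by rw [zero_smul, add_zero]; exact h0)
    exact ⟨this.1, this.2.1⟩) c₁ c₂ c₁₂ hc₁ hc₂ hc₁₂ hr₁ hr₂ hr₁₂
  have q13 : c₁ / c₃ ∈ F₀ := h.ratio (lo Q g) hinj C.r₁ C.r₃ (by
    intro α β h0
    have := I3 α 0 β (by rw [zero_smul, add_zero]; exact h0)
    exact ⟨this.1, this.2.2⟩) c₁ c₃ c₁₃ hc₁ hc₃ hc₁₃ hr₁ hr₃ hr₁₃
  -- the vectors `u j = c₁ • g p_j`
  obtain ⟨u₁, hu₁⟩ : ∃ u₁ : ι → F, u₁ = c₁ • lo Q g p₁ := ⟨_, rfl⟩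
  obtain ⟨u₂, hu₂⟩ : ∃ u₂ : ι → F, u₂ = c₁ • lo Q g p₂ := ⟨_, rfl⟩
  obtain ⟨u₃, hu₃⟩ : ∃ u₃ : ι → F, u₃ = c₁ • lo Q g p₃ := ⟨_, rfl⟩
  have ru₁ : Rt F₀ P u₁ := by rw [hu₁]; exact hr₁
  have ru₂ : Rt F₀ P u₂ := by
    have : u₂ = (c₁ / c₂) • (c₂ • lo Q g p₂) := by
      rw [hu₂, smul_smul, div_mul_cancel₀ _ hc₂]
    rw [this]
    exact rt_smul q12 hr₂
  have ru₃ : Rt F₀ P u₃ := by
    have : u₃ = (c₁ / c₃) • (c₃ • lo Q g p₃) := by
      rw [hu₃, smul_smul, div_mul_cancel₀ _ hc₃]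
    rw [this]
    exact rt_smul q13 hr₃
  have pu₁ : u₁ ∈ PI p₁ p₂ p₃ := by rw [hu₁]; exact Submodule.smul_mem _ _ (stab_maps hgPI m1)
  have pu₂ : u₂ ∈ PI p₁ p₂ p₃ := by rw [hu₂]; exact Submodule.smul_mem _ _ (stab_maps hgPI m2)
  have pu₃ : u₃ ∈ PI p₁ p₂ p₃ := by rw [hu₃]; exact Submodule.smul_mem _ _ (stab_maps hgPI m3)
  -- decomposition in the plane
  have dec : ∀ u ∈ PI p₁ p₂ p₃, u = BB u p₁' • p₁ + BB u p₂' • p₂ + BB u p₃' • p₃ := by
    intro u hu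
    obtain ⟨a₁, a₂, a₃, rfl⟩ := mem_PI.mp hu
    simp only [map_add, map_smul, LinearMap.add_apply, LinearMap.smul_apply, smul_eq_mul, d11, d21,
      d31, d12, d22, d32, d13, d23, d33, mul_zero, mul_one, add_zero, zero_add]
  -- the eigenvector equation
  obtain ⟨X₃, hX₃⟩ : ∃ X₃ : F, X₃ = BB p₃ x := ⟨_, rfl⟩
  obtain ⟨Y₃, hY₃⟩ : ∃ Y₃ : F, Y₃ = BB p₃ y := ⟨_, rfl⟩
  have hρ : rhoV Q p₁ p₂ p₃ x y = p₃ - X₃ • p₁ - Y₃ • p₂ := by rw [hX₃, hY₃]; rfl
  have heq : c₁ • (p₃ - X₃ • p₁ - Y₃ • p₂) = u₃ - X₃ • u₁ - Y₃ • u₂ := by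
    have h1 : lo Q g (p₃ - X₃ • p₁ - Y₃ • p₂) = p₃ - X₃ • p₁ - Y₃ • p₂ := by
      rw [← hρ]; exact hgρ
    rw [hu₁, hu₂, hu₃]
    conv_lhs => rw [← h1]
    rw [map_sub, map_sub, map_smul, map_smul]
    module
  have E1 := congrArg (fun u => BB u p₁') heq
  have E2 := congrArg (fun u => BB u p₂') heq
  have E3 := congrArg (fun u => BB u p₃') heq
  simp only [map_sub, map_smul, LinearMap.sub_apply, LinearMap.smul_apply, smul_eq_mul, d11, d21,
    d31, d12, d22, d32, d13, d23, d33, mul_zero, mul_one, sub_zero, zero_sub] at E1 E2 E3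
  have M11 := h.val2 ru₁ hp₁'
  have M21 := h.val2 ru₁ hp₂'
  have M31 := h.val2 ru₁ hp₃'
  have M12 := h.val2 ru₂ hp₁'
  have M22 := h.val2 ru₂ hp₂'
  have M32 := h.val2 ru₂ hp₃'
  have M13 := h.val2 ru₃ hp₁'
  have M23 := h.val2 ru₃ hp₂'
  have M33 := h.val2 ru₃ hp₃'
  have hcm : c₁ ∈ F₀ := h.eigen_rat hr3 X₃ Y₃ c₁ (F₀.neg_mem M13) M11 M12 (F₀.neg_mem M23) M21 M22
    M33 (F₀.neg_mem M31) (F₀.neg_mem M32)
    (by linear_combination -E1) (by linear_combination -E2) (by linear_combination E3)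
  have R3 := C.hind (BB u₃ p₃' - c₁) (-BB u₁ p₃') (-BB u₂ p₃') (F₀.sub_mem M33 hcm)
    (F₀.neg_mem M31) (F₀.neg_mem M32) (by rw [← hX₃, ← hY₃]; linear_combination -E3)
  have R1 := C.hind (-BB u₃ p₁') (BB u₁ p₁' - c₁) (BB u₂ p₁') (F₀.neg_mem M13)
    (F₀.sub_mem M11 hcm) M12 (by rw [← hX₃, ← hY₃]; linear_combination E1)
  have R2 := C.hind (-BB u₃ p₂') (BB u₁ p₂') (BB u₂ p₂' - c₁) (F₀.neg_mem M23) M21
    (F₀.sub_mem M22 hcm) (by rw [← hX₃, ← hY₃]; linear_combination E2)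
  have g1 : lo Q g p₁ = p₁ := by
    have h1 := dec u₁ pu₁
    have a1 : BB u₁ p₁' = c₁ := by linear_combination R1.2.1
    have a2 : BB u₁ p₂' = 0 := R2.2.1
    have a3 : BB u₁ p₃' = 0 := by linear_combination -R3.2.1
    rw [a1, a2, a3, zero_smul, zero_smul, add_zero, add_zero, hu₁] at h1
    exact smul_right_injective _ hc₁ h1
  have g2 : lo Q g p₂ = p₂ := by
    have h1 := dec u₂ pu₂
    have a1 : BB u₂ p₁' = 0 := R1.2.2
    have a2 : BB u₂ p₂' = c₁ := by linear_combination R2.2.2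
    have a3 : BB u₂ p₃' = 0 := by linear_combination -R3.2.2
    rw [a1, a2, a3, zero_smul, zero_smul, add_zero, zero_add, hu₂] at h1
    exact smul_right_injective _ hc₁ h1
  have g3 : lo Q g p₃ = p₃ := by
    have h1 := dec u₃ pu₃
    have a1 : BB u₃ p₁' = 0 := by linear_combination -R1.1
    have a2 : BB u₃ p₂' = 0 := by linear_combination -R2.1
    have a3 : BB u₃ p₃' = c₁ := by linear_combination R3.1
    rw [a1, a2, a3, zero_smul, zero_smul, zero_add, zero_add, hu₃] at h1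
    exact smul_right_injective _ hc₁ h1
  intro v hv
  obtain ⟨a₁, a₂, a₃, rfl⟩ := mem_PI.mp hv
  rw [map_add, map_add, map_smul, map_smul, map_smul, g1, g2, g3]

end Cfg

end fixpi

end Cfsg.Agent.Lib.Helper61.SubfieldOr
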