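import Mathlib
import Cfsg.Prelude.Def_GeometricClasses
import Cfsg.Agent.Lib.Helper61.SubfieldOrJ

/-!
Subfield subgroups of orthogonal groups: the configuration is impossible (Frobenius argument).
-/

set_option autoImplicit false
set_option linter.unusedSectionVars false
set_option linter.unusedVariables false

namespace Cfsg.Agent.Lib.Helper61.SubfieldOr

open Matrix Module Cfsg.Agent.Lib.Helper43

section frob
variable {F : Type*} [Field F] [Fintype F] {ι : Type} [Fintype ι] [DecidableEq ι]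
variable {Q : QuadraticForm F (ι → F)} {F₀ : Subfield F} {P : GL ι F} {r : ℕ}
variable {K : Subgroup ↥(Cfsg.Omega F ⇑Q)}
variable {p₁ p₂ p₃ x y : ι → F} {d : F}

local notation "BB" => QuadraticMap.polarBilin Q

/-- a Siegel element with both vectors in `W` stabilises `W` -/
theorem siegel_mem_subStab (hQ : (QuadraticMap.polarBilin Q).Nondegenerate)
    (hn : 7 ≤ Fintype.card ι) (W : Submodule F (ι → F)) (u z : ι → F) (hu : Q u = 0)
    (huz : BB u z = 0) (hz : Q z = 0) (huW : u ∈ W) (hzW : z ∈ W) :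
    sO Q hQ hn u z hu huz ∈ subStab Q W := by
  apply mem_subStab_of_map_le
  intro v hv
  rw [lo_sO, siegel_apply_ts Q _ _ _ hz]
  exact Submodule.sub_mem _ (Submodule.add_mem _ hv (Submodule.smul_mem _ _ huW))
    (Submodule.smul_mem _ _ hzW)

namespace Cfg

variable (C : Cfg Q F₀ P K p₁ p₂ p₃ x y d)
include C

theorem p₁_mem_PP : p₁ ∈ PP5 p₁ p₂ p₃ x y := C.PI_le_PP C.p₁_mem_PI
theorem p₂_mem_PP : p₂ ∈ PP5 p₁ p₂ p₃ x y := C.PI_le_PP C.p₂_mem_PI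
theorem p₃_mem_PP : p₃ ∈ PP5 p₁ p₂ p₃ x y := C.PI_le_PP C.p₃_mem_PI

theorem hxdy : BB x (d • y) = 0 := by rw [map_smul, C.bxy, smul_zero]

theorem qdy : Q (d • y) = 0 := by rw [Q_smul, C.qy, mul_zero]

variable (h : RQ Q F₀ P r) (hn : 13 ≤ Fintype.card ι) (hHK : HQ Q F₀ P ≤ K)
include h hn hHK

/-- the Siegel element of the overgroup lies in `Y` -/
theorem t0_mem_YY : sO Q h.hQ (by omega) x (d • y) C.qx C.hxdy ∈ YY p₁ p₂ p₃ x y K := by
  have hn7 : 7 ≤ Fintype.card ι := by omega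
  refine mem_YY.mpr ⟨C.hK _ (lo_sO Q h.hQ hn7 _ _ _ _), ?_, ?_, ?_⟩
  · exact siegel_mem_subStab h.hQ hn7 _ _ _ _ _ C.qdy C.x_mem_PP
      (Submodule.smul_mem _ _ C.y_mem_PP)
  · apply mem_subStab_of_map_le
    intro v hv
    rw [lo_sO, siegel_apply_ts Q _ _ _ C.qdy, (C.KK3_perp hv).1, zero_smul, sub_zero]
    exact Submodule.add_mem _ hv (Submodule.smul_mem _ _ C.x_mem_KK3)
  · rw [lo_sO, siegel_apply_ts Q _ _ _ C.qdy, map_smul, C.rho_x, C.rho_y, smul_zero, zero_smul,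
      zero_smul, add_zero, sub_zero]

theorem t0_not_mem_Y1 : sO Q h.hQ (by omega) x (d • y) C.qx C.hxdy ∉ Y1 p₁ p₂ p₃ x y K := by
  intro hmem
  have h1 := stab_maps (mem_Y1.mp hmem).2 C.p₁_mem_PI
  rw [lo_sO, siegel_apply_ts Q _ _ _ C.qdy, map_smul, C.n₁₂, C.n₁₁, smul_zero, zero_smul,
    add_zero, one_smul] at h1
  have h2 := (C.PI_perp h1).2.1
  rw [map_sub, map_smul, LinearMap.sub_apply, LinearMap.smul_apply, C.b₁₂, C.sy₂, smul_eq_mul,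
    mul_one, zero_sub, neg_eq_zero] at h2
  exact C.hd h2

/-- the first rational Siegel element -/
theorem x1_mem_Y1 : sO Q h.hQ (by omega) p₁ p₂ C.q₁ C.b₁₂ ∈ Y1 p₁ p₂ p₃ x y K := by
  have hn7 : 7 ≤ Fintype.card ι := by omega
  have hρ := C.PI_perp C.rho_mem_PI
  refine mem_Y1.mpr ⟨mem_YY.mpr ⟨h.rat_siegel hHK C.r₁ C.r₂ _ (lo_sO Q h.hQ hn7 _ _ _ _), ?_, ?_,
    ?_⟩, ?_⟩
  · exact siegel_mem_subStab h.hQ hn7 _ _ _ _ _ C.q₂ C.p₁_mem_PP C.p₂_mem_PP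
  · apply mem_subStab_of_map_le
    intro v hv
    rw [lo_sO, siegel_apply_ts Q _ _ _ C.q₂, (C.KK3_perp hv).2, zero_smul, add_zero]
    exact Submodule.sub_mem _ hv (Submodule.smul_mem _ _ C.p₂_mem_KK3)
  · rw [lo_sO, siegel_apply_ts Q _ _ _ C.q₂, hρ.1, hρ.2.1, zero_smul, zero_smul, add_zero,
      sub_zero]
  · apply mem_subStab_of_map_le
    intro v hv
    have hv' := C.PI_perp hv
    rw [lo_sO, siegel_apply_ts Q _ _ _ C.q₂, hv'.1, hv'.2.1, zero_smul, zero_smul, add_zero,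
      sub_zero]
    exact hv

theorem tau_x1 : tauF Q x y (sO Q h.hQ (by omega) p₁ p₂ C.q₁ C.b₁₂) = 1 := by
  unfold tauF
  rw [lo_sO, siegel_apply_ts Q _ _ _ C.q₂, C.sy₁, C.sy₂]
  simp only [one_smul, zero_smul, sub_zero, add_sub_cancel_left, C.n₁₁]

/-- the second rational Siegel element -/
theorem x2_mem_Y1 : sO Q h.hQ (by omega) p₁ p₃ C.q₁ C.b₁₃ ∈ Y1 p₁ p₂ p₃ x y K := by
  have hn7 : 7 ≤ Fintype.card ι := by omega
  have hρ := C.PI_perp C.rho_mem_PI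
  refine mem_Y1.mpr ⟨mem_YY.mpr ⟨h.rat_siegel hHK C.r₁ C.r₃ _ (lo_sO Q h.hQ hn7 _ _ _ _), ?_, ?_,
    ?_⟩, ?_⟩
  · exact siegel_mem_subStab h.hQ hn7 _ _ _ _ _ C.q₃ C.p₁_mem_PP C.p₃_mem_PP
  · apply mem_subStab_of_map_le
    intro v hv
    rw [lo_sO, siegel_apply_ts Q _ _ _ C.q₃]
    have hvP := C.KK3_le_PP hv
    have h1 : BB v p₃ • p₁ - BB v p₁ • p₃ ∈ KK3 Q p₁ p₂ p₃ x y := by
      obtain ⟨c₁, c₂, c₃, rfl⟩ := mem_KK3.mp hv
      have e1 : BB (c₁ • rhoV Q p₁ p₂ p₃ x y + c₂ • p₂ + c₃ • x) p₃ = c₃ * BB p₃ x := by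
        simp only [map_add, map_smul, LinearMap.add_apply, LinearMap.smul_apply, smul_eq_mul,
          hρ.2.2, C.b₂₃, C.sx₃, mul_zero, zero_add]
      have e2 : BB (c₁ • rhoV Q p₁ p₂ p₃ x y + c₂ • p₂ + c₃ • x) p₁ = c₃ := by
        simp only [map_add, map_smul, LinearMap.add_apply, LinearMap.smul_apply, smul_eq_mul,
          hρ.1, C.s₂₁, C.sx₁, mul_zero, zero_add, mul_one]
      rw [e1, e2]
      apply C.mem_KK3_of
      · exact Submodule.sub_mem _ (Submodule.smul_mem _ _ C.p₁_mem_PP)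
          (Submodule.smul_mem _ _ C.p₃_mem_PP)
      · simp only [map_sub, map_smul, LinearMap.sub_apply, LinearMap.smul_apply, smul_eq_mul,
          C.n₁₁]
        ring
      · simp only [map_sub, map_smul, LinearMap.sub_apply, LinearMap.smul_apply, smul_eq_mul,
          C.b₁₂, C.s₃₂, mul_zero, sub_zero]
    rw [add_sub_assoc]
    exact Submodule.add_mem _ hv h1
  · rw [lo_sO, siegel_apply_ts Q _ _ _ C.q₃, hρ.1, hρ.2.2, zero_smul, zero_smul, add_zero,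
      sub_zero]
  · apply mem_subStab_of_map_le
    intro v hv
    have hv' := C.PI_perp hv
    rw [lo_sO, siegel_apply_ts Q _ _ _ C.q₃, hv'.1, hv'.2.2, zero_smul, zero_smul, add_zero,
      sub_zero]
    exact hv

theorem tau_x2 : tauF Q x y (sO Q h.hQ (by omega) p₁ p₃ C.q₁ C.b₁₃) = BB p₃ y := by
  unfold tauF
  rw [lo_sO, siegel_apply_ts Q _ _ _ C.q₃, C.sy₁, C.sy₃]
  simp only [zero_smul, sub_zero, add_sub_cancel_left, map_smul, LinearMap.smul_apply, C.n₁₁,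
    smul_eq_mul, mul_one]

variable {v₀ w₀ : ι → F} (t₀ : TIP Q F₀ P v₀ w₀) (hA : ∀ a ∈ AB Q F₀ K v₀ w₀, a ∈ F₀)
include t₀ hA

/-- the configuration is impossible -/
theorem false (hr3 : 3 < r) : False := by
  classical
  have hn7 : 7 ≤ Fintype.card ι := by omega
  have hfix : ∀ g ∈ Y1 p₁ p₂ p₃ x y K, ∀ v ∈ PI p₁ p₂ p₃, lo Q g v = v :=
    fun g hg => C.fix_PI h hn hHK t₀ hA hr3 hg
  obtain ⟨p, hp⟩ := CharP.exists F
  haveI : Fact p.Prime := ⟨CharP.char_is_prime F p⟩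
  haveI : Finite ↥(Cfsg.Omega F ⇑Q) := inferInstance
  have hx1 := C.x1_mem_Y1 h hn hHK
  have hx2 := C.x2_mem_Y1 h hn hHK
  apply Cfsg.Agent.Lib.Helper61.SubfieldUr.frob_contra (YY p₁ p₂ p₃ x y K) (Y1 p₁ p₂ p₃ x y K) (N0 p₁ p₂ p₃ x y K)
    (fun g hg => (mem_Y1.mp hg).1) C.N0_le_Y1 (fun g hg k hk => N0_normal hg hk) p
    (fun g hg => C.pow_mem_N0 hfix p hg)
    (sO Q h.hQ hn7 x (d • y) C.qx C.hxdy) (C.t0_mem_YY h hn hHK) (C.t0_not_mem_Y1 h hn hHK)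
    (fun g hg hgn k hk hconj => C.malnormal hfix hg hgn hk hconj)
    (sO Q h.hQ hn7 p₁ p₂ C.q₁ C.b₁₂) (sO Q h.hQ hn7 p₁ p₃ C.q₁ C.b₁₃) hx1 hx2
  · intro hN
    rw [C.mem_N0_iff_tau hfix hx1, C.tau_x1 h hn hHK] at hN
    exact one_ne_zero hN
  · intro j hN
    have hpow := (Y1 p₁ p₂ p₃ x y K).pow_mem hx1 j
    have hinv := (Y1 p₁ p₂ p₃ x y K).inv_mem hpow
    rw [C.mem_N0_iff_tau hfix ((Y1 p₁ p₂ p₃ x y K).mul_mem hinv hx2), C.tau_mul hfix hinv hx2,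
      C.tau_inv hfix hpow, C.tau_pow hfix hx1, C.tau_x1 h hn hHK, C.tau_x2 h hn hHK, mul_one] at hN
    have := C.hind (-(j : F)) 0 1 (F₀.neg_mem (natCast_mem F₀ j)) F₀.zero_mem F₀.one_mem
      (by rw [zero_mul, one_mul, add_zero]; exact hN)
    exact one_ne_zero this.2.2

end Cfg

end frob

end Cfsg.Agent.Lib.Helper61.SubfieldOr
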