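import Mathlib
import Cfsg.Prelude.Def_GeometricClasses
import Cfsg.Agent.Lib.Helper61.SubfieldOrK

/-!
Subfield subgroups of orthogonal groups: a rational singular point orthogonal to the line of a
Siegel element of the overgroup (small degree: dimension count).
-/

set_option autoImplicit false
set_option linter.unusedSectionVars false
set_option linter.unusedVariables false

namespace Cfsg.Agent.Lib.Helper61.SubfieldOr

open Matrix Module Cfsg.Agent.Lib.Helper43

section count
variable {F : Type*} [Field F] [Fintype F] {ι : Type} [Fintype ι] [DecidableEq ι]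
variable {Q : QuadraticForm F (ι → F)} {F₀ : Subfield F} {P : GL ι F} {r : ℕ}
variable {K : Subgroup ↥(Cfsg.Omega F ⇑Q)}

local notation "BB" => QuadraticMap.polarBilin Q

/-- a rational singular point orthogonal to two given vectors, when the degree is small -/
theorem RQ.exists_sing_perp_small (h : RQ Q F₀ P r) (hr : 2 * r + 3 ≤ Fintype.card ι)
    (x y : ι → F) : ∃ ρ, Rt F₀ P ρ ∧ ρ ≠ 0 ∧ Q ρ = 0 ∧ BB ρ x = 0 ∧ BB ρ y = 0 := by
  classical
  haveI : Fintype F₀ := Fintype.ofFinite F₀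
  let φ : (ι → F₀) →ₗ[F₀] F × F :=
    { toFun := fun u => (BB (toV P u) x, BB (toV P u) y)
      map_add' := by
        intro u v
        rw [toV_add, map_add, LinearMap.add_apply, LinearMap.add_apply]
        rfl
      map_smul' := by
        intro a u
        rw [toV_smul, map_smul, LinearMap.smul_apply, LinearMap.smul_apply]
        rfl }
  have h1 := LinearMap.finrank_range_add_finrank_ker φ
  have h2 : Module.finrank F₀ (LinearMap.range φ) ≤ Module.finrank F₀ (F × F) := Submodule.finrank_le _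
  have h3 : Module.finrank F₀ (F × F) = 2 * r := by
    rw [Module.finrank_prod, h.finrank]; ring
  rw [Module.finrank_fintype_fun_eq_card] at h1
  have h4 : Module.finrank F₀ (⊥ : Submodule F₀ (ι → F₀)) + 3 ≤ Module.finrank F₀ (LinearMap.ker φ) := by
    rw [finrank_bot]
    omega
  obtain ⟨s, hsW, hs0, hss⟩ := exists_singular_mem_notMem (Q0 h) (LinearMap.ker φ) ⊥ h4
  have hs : φ s = 0 := LinearMap.mem_ker.mp hsW
  have hs1 : BB (toV P s) x = 0 := congrArg Prod.fst hs
  have hs2 : BB (toV P s) y = 0 := congrArg Prod.snd hs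
  refine ⟨toV P s, rt_toV s, ?_, ?_, hs1, hs2⟩
  · intro h0
    apply hs0
    rw [Submodule.mem_bot]
    exact toV_eq_zero h0
  · rw [← Q0_coe h, hss]
    rfl

/-- the kernel of a singular two by two matrix -/
theorem ker2 (a₁ b₁ a₂ b₂ c₁ c₂ : F) (hc : c₁ ≠ 0 ∨ c₂ ≠ 0) (e₁ : c₁ * a₁ + c₂ * a₂ = 0)
    (e₂ : c₁ * b₁ + c₂ * b₂ = 0) :
    ∃ μ ν : F, (μ ≠ 0 ∨ ν ≠ 0) ∧ μ * a₁ + ν * b₁ = 0 ∧ μ * a₂ + ν * b₂ = 0 := by
  have hdet : a₁ * b₂ - a₂ * b₁ = 0 := by
    rcases hc with hc | hc
    · have : c₁ * (a₁ * b₂ - a₂ * b₁) = 0 := by linear_combination b₂ * e₁ - a₂ * e₂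
      rcases mul_eq_zero.mp this with h1 | h1
      · exact absurd h1 hc
      · exact h1
    · have : c₂ * (a₁ * b₂ - a₂ * b₁) = 0 := by linear_combination a₁ * e₂ - b₁ * e₁
      rcases mul_eq_zero.mp this with h1 | h1
      · exact absurd h1 hc
      · exact h1
  by_cases h1 : b₁ ≠ 0 ∨ a₁ ≠ 0
  · refine ⟨b₁, -a₁, ?_, by ring, by linear_combination -hdet⟩
    rcases h1 with h1 | h1
    · exact Or.inl h1
    · exact Or.inr (neg_ne_zero.mpr h1)
  · push Not at h1
    by_cases h2 : b₂ ≠ 0 ∨ a₂ ≠ 0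
    · refine ⟨b₂, -a₂, ?_, by rw [h1.1, h1.2]; ring, by ring⟩
      rcases h2 with h2 | h2
      · exact Or.inl h2
      · exact Or.inr (neg_ne_zero.mpr h2)
    · push Not at h2
      exact ⟨1, 0, Or.inl one_ne_zero, by rw [h1.1, h1.2]; ring, by rw [h2.1, h2.2]; ring⟩

end count

end Cfsg.Agent.Lib.Helper61.SubfieldOr
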