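import Mathlib
import Cfsg.Prelude.Def_GeometricClasses
import Cfsg.Agent.Lib.Helper61.SubfieldOrL

/-!
Subfield subgroups of orthogonal groups: a rational singular point orthogonal to the line of a
Siegel element of the overgroup (general case).
-/

set_option autoImplicit false
set_option linter.unusedSectionVars false
set_option linter.unusedVariables false
set_option maxHeartbeats 1000000

namespace Cfsg.Agent.Lib.Helper61.SubfieldOr

open Matrix Module Cfsg.Agent.Lib.Helper43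

section perp
variable {F : Type*} [Field F] [Fintype F] {ι : Type} [Fintype ι] [DecidableEq ι]
variable {Q : QuadraticForm F (ι → F)} {F₀ : Subfield F} {P : GL ι F} {r : ℕ}
variable {K : Subgroup ↥(Cfsg.Omega F ⇑Q)}

local notation "BB" => QuadraticMap.polarBilin Q

/-- a rational singular vector not orthogonal to `t` -/
theorem RQ.exists_sing_ne (h : RQ Q F₀ P r) (hn : 9 ≤ Fintype.card ι) (t : ι → F) (ht : t ≠ 0) :
    ∃ z, Rt F₀ P z ∧ Q z = 0 ∧ BB t z ≠ 0 := by
  classical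
  obtain ⟨z, hz, htz⟩ := h.exists_ne_rat t ht
  obtain ⟨e, f, he, hf, hee, hff, hef, hes, hfs⟩ := h.exists_hyp_perp ![z]
    (by
      intro i
      fin_cases i
      exact hz) (by simp; omega)
  have hze : BB z e = 0 := hes 0
  have hzf : BB z f = 0 := hfs 0
  by_cases c1 : BB t e = 0
  · by_cases c2 : BB t f = 0
    · refine ⟨z + (-Q z) • e + f, rt_add (rt_add hz (rt_smul (F₀.neg_mem (h.val _ hz)) he)) hf,
        ?_, ?_⟩
      · rw [Q_add, Q_add, Q_smul, hee, hff]
        simp only [map_add, map_smul, LinearMap.add_apply, LinearMap.smul_apply, smul_eq_mul, hze,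
          hzf, hef]
        ring
      · rw [map_add, map_add, map_smul, c1, c2, smul_zero, add_zero, add_zero]
        exact htz
    · exact ⟨f, hf, hff, c2⟩
  · exact ⟨e, he, hee, c1⟩

/-- a rational singular vector orthogonal to `e` (with rational partner `f`) and not to `t` -/
theorem RQ.exists_sing_perp_ne1 (h : RQ Q F₀ P r) (hn : 11 ≤ Fintype.card ι) (e f : ι → F)
    (he : Rt F₀ P e) (hf : Rt F₀ P f) (hef : BB e f = 1) (t : ι → F)
    (ht : t - BB t f • e ≠ 0) : ∃ z, Rt F₀ P z ∧ Q z = 0 ∧ BB e z = 0 ∧ BB t z ≠ 0 := by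
  classical
  obtain ⟨z, hz, hez, htz⟩ := h.exists_rat_perp_ne1 e f he hf hef t ht
  obtain ⟨e', f', he', hf', hee', hff', hef', hes, hfs⟩ := h.exists_hyp_perp ![z, e]
    (by
      intro i
      fin_cases i
      · exact hz
      · exact he) (by simp; omega)
  have hze : BB z e' = 0 := hes 0
  have hzf : BB z f' = 0 := hfs 0
  have hee'' : BB e e' = 0 := hes 1
  have hef'' : BB e f' = 0 := hfs 1
  by_cases c1 : BB t e' = 0
  · by_cases c2 : BB t f' = 0
    · refine ⟨z + (-Q z) • e' + f', rt_add (rt_add hz (rt_smul (F₀.neg_mem (h.val _ hz)) he')) hf',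
        ?_, ?_, ?_⟩
      · rw [Q_add, Q_add, Q_smul, hee', hff']
        simp only [map_add, map_smul, LinearMap.add_apply, LinearMap.smul_apply, smul_eq_mul, hze,
          hzf, hef']
        ring
      · rw [map_add, map_add, map_smul, hez, hee'', hef'', smul_zero, add_zero, add_zero]
      · rw [map_add, map_add, map_smul, c1, c2, smul_zero, add_zero, add_zero]
        exact htz
    · exact ⟨f', hf', hff', hef'', c2⟩
  · exact ⟨e', he', hee', hee'', c1⟩

/-- (T2) if a point of a rational totally singular line is orthogonal to the line of a Siegel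
element of `K`, some rational point is -/
theorem RQ.rat_point_on_line (h : RQ Q F₀ P r) (hn : 13 ≤ Fintype.card ι) (hHK : HQ Q F₀ P ≤ K)
    {v₀ w₀ : ι → F} (t₀ : TIP Q F₀ P v₀ w₀) (hA : ∀ a ∈ AB Q F₀ K v₀ w₀, a ∈ F₀)
    {v w : ι → F} (t : TIP Q F₀ P v w)
    (x y : ι → F) (hx : Q x = 0) (hy : Q y = 0) (hxy : BB x y = 0)
    (hK : InK Q K (siegelLin Q x y))
    (q₁ q₂ : ι → F) (n11 : BB q₁ x = 1) (n21 : BB q₂ x = 0) (n12 : BB q₁ y = 0)
    (n22 : BB q₂ y = 1) (hvq₁ : BB v q₁ = 0) (hvq₂ : BB v q₂ = 0) (hwq₁ : BB w q₁ = 0)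
    (hwq₂ : BB w q₂ = 0)
    (c₁ c₂ : F) (hc : c₁ ≠ 0 ∨ c₂ ≠ 0) (hρx : BB (c₁ • v + c₂ • w) x = 0)
    (hρy : BB (c₁ • v + c₂ • w) y = 0) :
    ∃ ρ, Rt F₀ P ρ ∧ ρ ≠ 0 ∧ Q ρ = 0 ∧ BB ρ x = 0 ∧ BB ρ y = 0 := by
  have hyx : BB y x = 0 := pol_symm0 Q hxy
  have hxx : BB x x = 0 := pol_self0 Q hx
  have hyy : BB y y = 0 := pol_self0 Q hy
  have e₁ : c₁ * BB v x + c₂ * BB w x = 0 := by
    rw [map_add, map_smul, map_smul, LinearMap.add_apply, LinearMap.smul_apply,
      LinearMap.smul_apply, smul_eq_mul, smul_eq_mul] at hρx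
    exact hρx
  have e₂ : c₁ * BB v y + c₂ * BB w y = 0 := by
    rw [map_add, map_smul, map_smul, LinearMap.add_apply, LinearMap.smul_apply,
      LinearMap.smul_apply, smul_eq_mul, smul_eq_mul] at hρy
    exact hρy
  obtain ⟨μ, ν, hμν, k₁, k₂⟩ := ker2 _ _ _ _ c₁ c₂ hc e₁ e₂
  obtain ⟨γ, δ, hγδ⟩ : ∃ γ δ : F, μ * δ - ν * γ = 1 := by
    by_cases hμ : μ = 0
    · have hν : ν ≠ 0 := by
        rcases hμν with h1 | h1
        · exact absurd hμ h1
        · exact h1
      exact ⟨-ν⁻¹, 0, by rw [hμ, mul_neg, mul_inv_cancel₀ hν]; ring⟩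
    · exact ⟨0, μ⁻¹, by rw [mul_inv_cancel₀ hμ]; ring⟩
  obtain ⟨x', hx'⟩ : ∃ x' : ι → F, x' = μ • x + ν • y := ⟨_, rfl⟩
  obtain ⟨y', hy'⟩ : ∃ y' : ι → F, y' = γ • x + δ • y := ⟨_, rfl⟩
  have hxe : x = δ • x' - ν • y' := by
    rw [hx', hy']
    have : δ • (μ • x + ν • y) - ν • (γ • x + δ • y) = (μ * δ - ν * γ) • x := by module
    rw [this, hγδ, one_smul]
  have hye : y = (-γ) • x' + μ • y' := by
    rw [hx', hy']
    have : (-γ) • (μ • x + ν • y) + μ • (γ • x + δ • y) = (μ * δ - ν * γ) • y := by module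
    rw [this, hγδ, one_smul]
  have hQ' : ∀ α β : F, Q (α • x + β • y) = 0 := by
    intro α β
    rw [Q_add, Q_smul, Q_smul, hx, hy, map_smul, map_smul, LinearMap.smul_apply, hxy]
    simp
  have hB' : ∀ α β α' β' : F, BB (α • x + β • y) (α' • x + β' • y) = 0 := by
    intro α β α' β'
    simp only [map_add, map_smul, LinearMap.add_apply, LinearMap.smul_apply, smul_eq_mul, hxx, hyy,
      hxy, hyx, mul_zero, add_zero]
  have hx'x' : Q x' = 0 := by rw [hx']; exact hQ' _ _
  have hy'y' : Q y' = 0 := by rw [hy']; exact hQ' _ _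
  have hx'y' : BB x' y' = 0 := by rw [hx', hy']; exact hB' _ _ _ _
  have hK' : InK Q K (siegelLin Q x' y') := by
    rw [hx', hy', siegel_basis Q x y μ ν γ δ hx hy hxy, hγδ, one_smul]
    exact hK
  have hx'v : BB x' v = 0 := by
    rw [hx', map_add, map_smul, map_smul, LinearMap.add_apply, LinearMap.smul_apply,
      LinearMap.smul_apply, smul_eq_mul, smul_eq_mul, polar_symm Q x v, polar_symm Q y v]
    exact k₁
  have hx'w : BB x' w = 0 := by
    rw [hx', map_add, map_smul, map_smul, LinearMap.add_apply, LinearMap.smul_apply,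
      LinearMap.smul_apply, smul_eq_mul, smul_eq_mul, polar_symm Q x w, polar_symm Q y w]
    exact k₂
  obtain ⟨v', w', hv', hw', -, -, hvv', hwv', hvw', hww'⟩ := h.exists_duals (by omega) t
  have hx'q₁ : BB x' q₁ = μ := by
    rw [hx', map_add, map_smul, map_smul, LinearMap.add_apply, LinearMap.smul_apply,
      LinearMap.smul_apply, polar_symm Q x q₁, polar_symm Q y q₁, n11, n12]
    simp
  have hx'q₂ : BB x' q₂ = ν := by
    rw [hx', map_add, map_smul, map_smul, LinearMap.add_apply, LinearMap.smul_apply,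
      LinearMap.smul_apply, polar_symm Q x q₂, polar_symm Q y q₂, n21, n22]
    simp
  have hne : x' - BB x' v' • v - BB x' w' • w ≠ 0 := by
    intro h0
    have h1 := congrArg (fun u => BB u q₁) h0
    have h2 := congrArg (fun u => BB u q₂) h0
    simp only [map_sub, map_smul, LinearMap.sub_apply, LinearMap.smul_apply, smul_eq_mul, hvq₁,
      hwq₁, hvq₂, hwq₂, mul_zero, sub_zero, hx'q₁, hx'q₂, LinearMap.map_zero₂] at h1 h2
    rcases hμν with h3 | h3
    · exact h3 h1
    · exact h3 h2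
  obtain ⟨z₁, hz₁, hvz₁, hwz₁, hx'z₁⟩ := h.exists_rat_perp_ne2 v w v' w' t.hv t.hw hv' hw' hvv' hwv'
    hvw' hww' x' hne
  obtain ⟨c, hc0, hcv, hcw⟩ := h.line_point_rat hn hHK t₀ hA t x' y' hx'x' hy'y' hx'y' hK' hx'v
    hx'w z₁ hz₁ hvz₁ hwz₁ hx'z₁
  -- reduce to a rational singular vector orthogonal to `x', y'`
  suffices hs : ∃ ρ, Rt F₀ P ρ ∧ ρ ≠ 0 ∧ Q ρ = 0 ∧ BB ρ x' = 0 ∧ BB ρ y' = 0 by
    obtain ⟨ρ, hρ, hρ0, hρρ, h1, h2⟩ := hs
    refine ⟨ρ, hρ, hρ0, hρρ, ?_, ?_⟩
    · rw [hxe, map_sub, map_smul, map_smul, h1, h2, smul_zero, smul_zero, sub_zero]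
    · rw [hye, map_add, map_smul, map_smul, h1, h2, smul_zero, smul_zero, add_zero]
  by_cases hz : BB y' v = 0 ∧ BB y' w = 0
  · exact ⟨v, t.hv, t.v_ne, t.hvv, pol_symm0 Q hx'v, pol_symm0 Q hz.1⟩
  · refine ⟨(c * BB y' w) • v - (c * BB y' v) • w, rt_sub (rt_smul hcw t.hv) (rt_smul hcv t.hw),
      ?_, ?_, ?_, ?_⟩
    · intro h0
      rw [sub_eq_add_neg, ← neg_smul] at h0
      obtain ⟨u1, u2⟩ := h.pair_indep t h0
      apply hz
      constructor
      · rcases mul_eq_zero.mp (neg_eq_zero.mp u2) with h1 | h1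
        · exact absurd h1 hc0
        · exact h1
      · rcases mul_eq_zero.mp u1 with h1 | h1
        · exact absurd h1 hc0
        · exact h1
    · rw [sub_eq_add_neg, ← neg_smul, Q_add, Q_smul, Q_smul, t.hvv, t.hww, map_smul, map_smul,
        LinearMap.smul_apply, t.hvw]
      simp
    · rw [map_sub, map_smul, map_smul, LinearMap.sub_apply, LinearMap.smul_apply,
        LinearMap.smul_apply, polar_symm Q v x', polar_symm Q w x', hx'v, hx'w, smul_zero,
        smul_zero, sub_zero]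
    · rw [map_sub, map_smul, map_smul, LinearMap.sub_apply, LinearMap.smul_apply,
        LinearMap.smul_apply, polar_symm Q v y', polar_symm Q w y', smul_eq_mul, smul_eq_mul]
      ring

end perp

end Cfsg.Agent.Lib.Helper61.SubfieldOr
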