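import Mathlib
import Cfsg.Prelude.Def_GeometricClasses
import Cfsg.Agent.Lib.Helper61.SubfieldOrM

/-!
Subfield subgroups of orthogonal groups: the line of a Siegel element of a small overgroup is
orthogonal to a rational singular point.
-/

set_option autoImplicit false
set_option linter.unusedSectionVars false
set_option linter.unusedVariables false
set_option maxHeartbeats 1000000

namespace Cfsg.Agent.Lib.Helper61.SubfieldOr

open Matrix Module Cfsg.Agent.Lib.Helper43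

section stepA
variable {F : Type*} [Field F] [Fintype F] {ι : Type} [Fintype ι] [DecidableEq ι]
variable {Q : QuadraticForm F (ι → F)} {F₀ : Subfield F} {P : GL ι F} {r : ℕ}
variable {K : Subgroup ↥(Cfsg.Omega F ⇑Q)}

local notation "BB" => QuadraticMap.polarBilin Q

/-- (Step A) a rational singular point orthogonal to the line of a Siegel element of `K` -/
theorem RQ.exists_rat_perp (h : RQ Q F₀ P r) (hn : 13 ≤ Fintype.card ι) (hHK : HQ Q F₀ P ≤ K)
    {v₀ w₀ : ι → F} (t₀ : TIP Q F₀ P v₀ w₀) (hA : ∀ a ∈ AB Q F₀ K v₀ w₀, a ∈ F₀)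
    (x y : ι → F) (hx : Q x = 0) (hy : Q y = 0) (hxy : BB x y = 0)
    (hind : ∀ α β : F, α • x + β • y = 0 → α = 0 ∧ β = 0)
    (hK : InK Q K (siegelLin Q x y)) :
    ∃ ρ, Rt F₀ P ρ ∧ ρ ≠ 0 ∧ Q ρ = 0 ∧ BB ρ x = 0 ∧ BB ρ y = 0 := by
  classical
  by_cases hr3 : r ≤ 3
  · exact h.exists_sing_perp_small (by omega) x y
  push Not at hr3
  have hyx : BB y x = 0 := pol_symm0 Q hxy
  have hxx : BB x x = 0 := pol_self0 Q hx
  have hyy : BB y y = 0 := pol_self0 Q hy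
  have hx0 : x ≠ 0 := by
    intro h0
    have := (hind 1 0 (by rw [h0]; simp)).1
    exact one_ne_zero this
  -- the first point
  obtain ⟨p₁, r₁, q₁, hxp₁⟩ := h.exists_sing_ne (by omega) x hx0
  have hp₁0 : p₁ ≠ 0 := by
    intro h0
    rw [h0, map_zero] at hxp₁
    exact hxp₁ rfl
  obtain ⟨f₁, hf₁, -, hp₁f₁⟩ := h.exists_partner (by omega) p₁ r₁ hp₁0
  obtain ⟨X₁, hX₁⟩ : ∃ X₁ : F, X₁ = BB p₁ x := ⟨_, rfl⟩
  obtain ⟨Y₁, hY₁⟩ : ∃ Y₁ : F, Y₁ = BB p₁ y := ⟨_, rfl⟩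
  have hX₁0 : X₁ ≠ 0 := by rw [hX₁, polar_symm]; exact hxp₁
  obtain ⟨ξ, hξ⟩ : ∃ ξ : ι → F, ξ = X₁ • y - Y₁ • x := ⟨_, rfl⟩
  have hξ0 : ξ ≠ 0 := by
    intro h0
    rw [hξ, sub_eq_add_neg, ← neg_smul, add_comm] at h0
    exact hX₁0 (hind _ _ h0).2
  have hξx : BB ξ x = 0 := by
    rw [hξ, map_sub, map_smul, map_smul, LinearMap.sub_apply, LinearMap.smul_apply,
      LinearMap.smul_apply, hyx, hxx, smul_zero, smul_zero, sub_zero]
  have hp₁ξ : BB p₁ ξ = 0 := by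
    rw [hξ, map_sub, map_smul, map_smul, ← hX₁, ← hY₁, smul_eq_mul, smul_eq_mul]
    ring
  have hξne : ξ - BB ξ f₁ • p₁ ≠ 0 := by
    intro h0
    have h1 : ξ = BB ξ f₁ • p₁ := sub_eq_zero.mp h0
    have h2 : BB ξ f₁ * X₁ = 0 := by
      have := hξx
      rw [h1, map_smul, LinearMap.smul_apply, smul_eq_mul, ← hX₁] at this
      exact this
    rcases mul_eq_zero.mp h2 with h3 | h3
    · rw [h3, zero_smul] at h1
      exact hξ0 h1
    · exact hX₁0 h3
  -- the second point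
  obtain ⟨p₂, r₂, q₂, hp₁p₂, hξp₂⟩ := h.exists_sing_perp_ne1 (by omega) p₁ f₁ r₁ hf₁ hp₁f₁ ξ hξne
  obtain ⟨X₂, hX₂⟩ : ∃ X₂ : F, X₂ = BB p₂ x := ⟨_, rfl⟩
  obtain ⟨Y₂, hY₂⟩ : ∃ Y₂ : F, Y₂ = BB p₂ y := ⟨_, rfl⟩
  obtain ⟨Δ, hΔ⟩ : ∃ Δ : F, Δ = X₁ * Y₂ - Y₁ * X₂ := ⟨_, rfl⟩
  have hΔ0 : Δ ≠ 0 := by
    have : BB ξ p₂ = Δ := by
      rw [hξ, map_sub, map_smul, map_smul, LinearMap.sub_apply, LinearMap.smul_apply,
        LinearMap.smul_apply, polar_symm Q y p₂, polar_symm Q x p₂, ← hX₂, ← hY₂, hΔ, smul_eq_mul,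
        smul_eq_mul]
    rw [← this]
    exact hξp₂
  have hp₂ξ : BB p₂ ξ ≠ 0 := by rw [polar_symm]; exact hξp₂
  have t12 : TIP Q F₀ P p₁ p₂ := TIP.of_witness r₁ r₂ q₁ q₂ hp₁p₂ hp₁0 hp₁ξ hp₂ξ
  obtain ⟨p₁', p₂', r₁', r₂', -, -, d11, d21, d12, d22⟩ := h.exists_duals (by omega) t12
  -- the third point
  obtain ⟨p₃, z₃, r₃, hz₃, q₃, hp₃s, hz₃s, hp₃z₃⟩ := h.exists_iso_perp ![p₁, p₂, p₁', p₂']
    (by
      intro i
      fin_cases i
      · exact r₁
      · exact r₂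
      · exact r₁'
      · exact r₂') (by simp; omega)
  have b13 : BB p₁ p₃ = 0 := hp₃s 0
  have b23 : BB p₂ p₃ = 0 := hp₃s 1
  have d31 : BB p₃ p₁' = 0 := pol_symm0 Q (hp₃s 2)
  have d32 : BB p₃ p₂' = 0 := pol_symm0 Q (hp₃s 3)
  obtain ⟨p₃', hp₃'⟩ : ∃ p₃' : ι → F, p₃' = (BB p₃ z₃)⁻¹ • z₃ := ⟨_, rfl⟩
  have r₃' : Rt F₀ P p₃' := by rw [hp₃']; exact rt_smul (F₀.inv_mem (h.val2 r₃ hz₃)) hz₃
  have d13 : BB p₁ p₃' = 0 := by
    have : BB p₁ z₃ = 0 := hz₃s 0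
    rw [hp₃', map_smul, this, smul_zero]
  have d23 : BB p₂ p₃' = 0 := by
    have : BB p₂ z₃ = 0 := hz₃s 1
    rw [hp₃', map_smul, this, smul_zero]
  have d33 : BB p₃ p₃' = 1 := by
    rw [hp₃', map_smul, smul_eq_mul, inv_mul_cancel₀ hp₃z₃]
  -- the normalised basis of the line
  obtain ⟨x', hx'⟩ : ∃ x' : ι → F, x' = (Y₂ / Δ) • x + (-X₂ / Δ) • y := ⟨_, rfl⟩
  obtain ⟨y', hy'⟩ : ∃ y' : ι → F, y' = (-Y₁ / Δ) • x + (X₁ / Δ) • y := ⟨_, rfl⟩
  have hQ' : ∀ α β : F, Q (α • x + β • y) = 0 := by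
    intro α β
    rw [Q_add, Q_smul, Q_smul, hx, hy, map_smul, map_smul, LinearMap.smul_apply, hxy]
    simp
  have hB' : ∀ α β α' β' : F, BB (α • x + β • y) (α' • x + β' • y) = 0 := by
    intro α β α' β'
    simp only [map_add, map_smul, LinearMap.add_apply, LinearMap.smul_apply, smul_eq_mul, hxx, hyy,
      hxy, hyx, mul_zero, add_zero]
  have qx' : Q x' = 0 := by rw [hx']; exact hQ' _ _
  have qy' : Q y' = 0 := by rw [hy']; exact hQ' _ _
  have bx'y' : BB x' y' = 0 := by rw [hx', hy']; exact hB' _ _ _ _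
  have n11 : BB p₁ x' = 1 := by
    rw [hx', map_add, map_smul, map_smul, ← hX₁, ← hY₁, smul_eq_mul, smul_eq_mul]
    have : Y₂ / Δ * X₁ + -X₂ / Δ * Y₁ = (X₁ * Y₂ - Y₁ * X₂) / Δ := by ring
    rw [this, ← hΔ, div_self hΔ0]
  have n21 : BB p₂ x' = 0 := by
    rw [hx', map_add, map_smul, map_smul, ← hX₂, ← hY₂, smul_eq_mul, smul_eq_mul]
    ring
  have n12 : BB p₁ y' = 0 := by
    rw [hy', map_add, map_smul, map_smul, ← hX₁, ← hY₁, smul_eq_mul, smul_eq_mul]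
    ring
  have n22 : BB p₂ y' = 1 := by
    rw [hy', map_add, map_smul, map_smul, ← hX₂, ← hY₂, smul_eq_mul, smul_eq_mul]
    have : -Y₁ / Δ * X₂ + X₁ / Δ * Y₂ = (X₁ * Y₂ - Y₁ * X₂) / Δ := by ring
    rw [this, ← hΔ, div_self hΔ0]
  have hxe : x = X₁ • x' + X₂ • y' := by
    rw [hx', hy']
    have : X₁ • ((Y₂ / Δ) • x + (-X₂ / Δ) • y) + X₂ • ((-Y₁ / Δ) • x + (X₁ / Δ) • y) =
        ((X₁ * Y₂ - Y₁ * X₂) / Δ) • x := by
      match_scalars <;> field_simp <;> ring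
    rw [this, ← hΔ, div_self hΔ0, one_smul]
  have hye : y = Y₁ • x' + Y₂ • y' := by
    rw [hx', hy']
    have : Y₁ • ((Y₂ / Δ) • x + (-X₂ / Δ) • y) + Y₂ • ((-Y₁ / Δ) • x + (X₁ / Δ) • y) =
        ((X₁ * Y₂ - Y₁ * X₂) / Δ) • y := by
      match_scalars <;> field_simp <;> ring
    rw [this, ← hΔ, div_self hΔ0, one_smul]
  have hK' : InK Q K (siegelLin Q x' (Δ • y')) := by
    have e1 : Δ • y' = (-Y₁) • x + X₁ • y := by
      rw [hy', smul_add, smul_smul, smul_smul, mul_div_cancel₀ _ hΔ0, mul_div_cancel₀ _ hΔ0]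
    rw [e1, hx', siegel_basis Q x y _ _ _ _ hx hy hxy]
    have : Y₂ / Δ * X₁ - -X₂ / Δ * -Y₁ = 1 := by
      have e2 : Y₂ / Δ * X₁ - -X₂ / Δ * -Y₁ = (X₁ * Y₂ - Y₁ * X₂) / Δ := by ring
      rw [e2, ← hΔ, div_self hΔ0]
    rw [this, one_smul]
    exact hK
  -- reduce to a rational singular vector orthogonal to `x', y'`
  suffices hs : ∃ ρ, Rt F₀ P ρ ∧ ρ ≠ 0 ∧ Q ρ = 0 ∧ BB ρ x' = 0 ∧ BB ρ y' = 0 by
    obtain ⟨ρ, hρ, hρ0, hρρ, h1, h2⟩ := hs
    refine ⟨ρ, hρ, hρ0, hρρ, ?_, ?_⟩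
    · rw [hxe, map_add, map_smul, map_smul, h1, h2, smul_zero, smul_zero, add_zero]
    · rw [hye, map_add, map_smul, map_smul, h1, h2, smul_zero, smul_zero, add_zero]
  obtain ⟨X₃, hX₃⟩ : ∃ X₃ : F, X₃ = BB p₃ x' := ⟨_, rfl⟩
  obtain ⟨Y₃, hY₃⟩ : ∃ Y₃ : F, Y₃ = BB p₃ y' := ⟨_, rfl⟩
  by_cases hdep : ∀ l₀ l₁ l₂ : F, l₀ ∈ F₀ → l₁ ∈ F₀ → l₂ ∈ F₀ →
      l₀ + l₁ * BB p₃ x' + l₂ * BB p₃ y' = 0 → l₀ = 0 ∧ l₁ = 0 ∧ l₂ = 0
  · exfalso
    have C : Cfg Q F₀ P K p₁ p₂ p₃ x' y' Δ :=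
      { r₁ := r₁, r₂ := r₂, r₃ := r₃, q₁ := q₁, q₂ := q₂, q₃ := q₃, b₁₂ := hp₁p₂, b₁₃ := b13,
        b₂₃ := b23,
        duals := ⟨p₁', p₂', p₃', r₁', r₂', r₃', d11, d21, d31, d12, d22, d32, d13, d23, d33⟩,
        qx := qx', qy := qy', bxy := bx'y', n₁₁ := n11, n₂₁ := n21, n₁₂ := n12, n₂₂ := n22,
        hd := hΔ0, hK := hK', hind := hdep }
    exact C.false h hn hHK t₀ hA hr3
  push Not at hdep
  obtain ⟨l₀, l₁, l₂, hl₀, hl₁, hl₂, hrel, hne⟩ := hdep
  rw [← hX₃, ← hY₃] at hrel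
  have s11 : BB p₁ p₁ = 0 := pol_self0 Q q₁
  have s22 : BB p₂ p₂ = 0 := pol_self0 Q q₂
  have s33 : BB p₃ p₃ = 0 := pol_self0 Q q₃
  have s21 : BB p₂ p₁ = 0 := pol_symm0 Q hp₁p₂
  have s31 : BB p₃ p₁ = 0 := pol_symm0 Q b13
  have s32 : BB p₃ p₂ = 0 := pol_symm0 Q b23
  -- the data for (T2): a rational line `v, w` of the plane and coefficients
  obtain ⟨v, w, c₁, c₂, tvw, hvp₁, hvp₂, hwp₁, hwp₂, hc, hcx, hcy⟩ : ∃ v w : ι → F, ∃ c₁ c₂ : F,
      TIP Q F₀ P v w ∧ BB v p₁ = 0 ∧ BB v p₂ = 0 ∧ BB w p₁ = 0 ∧ BB w p₂ = 0 ∧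
      (c₁ ≠ 0 ∨ c₂ ≠ 0) ∧ BB (c₁ • v + c₂ • w) x' = 0 ∧ BB (c₁ • v + c₂ • w) y' = 0 := by
    by_cases h0 : l₀ = 0
    · by_cases h1 : l₁ = 0
      · -- `Y₃ = 0`
        have h2 : l₂ ≠ 0 := hne h0 h1
        have hY0 : Y₃ = 0 := by
          rw [h0, h1, zero_mul, zero_add, zero_add] at hrel
          rcases mul_eq_zero.mp hrel with h3 | h3
          · exact absurd h3 h2
          · exact h3
        refine ⟨p₃, p₁, 1, -X₃, ?_, s31, s32, s11, hp₁p₂, Or.inl one_ne_zero, ?_, ?_⟩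
        · exact TIP.of_witness r₃ r₁ q₃ q₁ s31 (by
            intro h3
            rw [h3, LinearMap.map_zero₂] at d33
            exact zero_ne_one d33) d31 (by rw [d11]; exact one_ne_zero)
        · simp only [map_add, map_smul, LinearMap.add_apply, LinearMap.smul_apply, smul_eq_mul,
            ← hX₃, n11]
          ring
        · simp only [map_add, map_smul, LinearMap.add_apply, LinearMap.smul_apply, smul_eq_mul,
            ← hY₃, n12, hY0]
          ring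
      · -- `X₃ = -(l₂ / l₁) Y₃`
        obtain ⟨b, hb⟩ : ∃ b : F, b = l₂ / l₁ := ⟨_, rfl⟩
        have hbm : b ∈ F₀ := by rw [hb]; exact F₀.div_mem hl₂ hl₁
        have hXY : X₃ = -(b * Y₃) := by
          rw [h0, zero_add] at hrel
          rw [hb]
          field_simp
          linear_combination hrel
        refine ⟨p₃, p₂ - b • p₁, 1, -Y₃, ?_, s31, s32, ?_, ?_, Or.inl one_ne_zero, ?_, ?_⟩
        · refine TIP.of_witness r₃ (rt_sub r₂ (rt_smul hbm r₁)) q₃ ?_ ?_ (by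
            intro h3
            rw [h3, LinearMap.map_zero₂] at d33
            exact zero_ne_one d33) d32 ?_
          · rw [sub_eq_add_neg, ← neg_smul, Q_add, Q_smul, q₁, q₂, map_smul, s21]
            simp
          · rw [map_sub, map_smul, s31, s32, smul_zero, sub_zero]
          · rw [map_sub, map_smul, LinearMap.sub_apply, LinearMap.smul_apply, d22, d12, smul_zero,
              sub_zero]
            exact one_ne_zero
        · rw [map_sub, map_smul, LinearMap.sub_apply, LinearMap.smul_apply, s21, s11, smul_zero,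
            sub_zero]
        · rw [map_sub, map_smul, LinearMap.sub_apply, LinearMap.smul_apply, s22, hp₁p₂, smul_zero,
            sub_zero]
        · simp only [map_add, map_sub, map_smul, LinearMap.add_apply, LinearMap.sub_apply,
            LinearMap.smul_apply, smul_eq_mul, ← hX₃, n11, n21]
          rw [hXY]
          ring
        · simp only [map_add, map_sub, map_smul, LinearMap.add_apply, LinearMap.sub_apply,
            LinearMap.smul_apply, smul_eq_mul, ← hY₃, n12, n22]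
          ring
    · -- `1 + a X₃ + b Y₃ = 0`
      obtain ⟨a, ha⟩ : ∃ a : F, a = l₁ / l₀ := ⟨_, rfl⟩
      obtain ⟨b, hb⟩ : ∃ b : F, b = l₂ / l₀ := ⟨_, rfl⟩
      have ham : a ∈ F₀ := by rw [ha]; exact F₀.div_mem hl₁ hl₀
      have hbm : b ∈ F₀ := by rw [hb]; exact F₀.div_mem hl₂ hl₀
      have hone : 1 + a * X₃ + b * Y₃ = 0 := by
        rw [ha, hb]
        field_simp
        linear_combination hrel
      refine ⟨p₁ + a • p₃, p₂ + b • p₃, -X₃, -Y₃, ?_, ?_, ?_, ?_, ?_, ?_, ?_, ?_⟩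
      · refine TIP.of_witness (rt_add r₁ (rt_smul ham r₃)) (rt_add r₂ (rt_smul hbm r₃)) ?_ ?_ ?_
          (by
            intro h3
            have := congrArg (fun u => BB u p₁') h3
            simp only [map_add, map_smul, LinearMap.add_apply, LinearMap.smul_apply, d11, d31,
              smul_zero, add_zero, LinearMap.map_zero₂] at this
            exact one_ne_zero this) (z := p₂') ?_ ?_
        · rw [Q_add, Q_smul, q₁, q₃, map_smul, b13]
          simp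
        · rw [Q_add, Q_smul, q₂, q₃, map_smul, b23]
          simp
        · simp only [map_add, map_smul, LinearMap.add_apply, LinearMap.smul_apply, smul_eq_mul,
            hp₁p₂, b13, s32, s33, mul_zero, add_zero]
        · rw [map_add, map_smul, LinearMap.add_apply, LinearMap.smul_apply, d12, d32, smul_zero,
            add_zero]
        · rw [map_add, map_smul, LinearMap.add_apply, LinearMap.smul_apply, d22, d32, smul_zero,
            add_zero]
          exact one_ne_zero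
      · rw [map_add, map_smul, LinearMap.add_apply, LinearMap.smul_apply, s11, s31, smul_zero,
          add_zero]
      · rw [map_add, map_smul, LinearMap.add_apply, LinearMap.smul_apply, hp₁p₂, s32, smul_zero,
          add_zero]
      · rw [map_add, map_smul, LinearMap.add_apply, LinearMap.smul_apply, s21, s31, smul_zero,
          add_zero]
      · rw [map_add, map_smul, LinearMap.add_apply, LinearMap.smul_apply, s22, s32, smul_zero,
          add_zero]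
      · by_contra hcon
        push Not at hcon
        have hX0 : X₃ = 0 := neg_eq_zero.mp hcon.1
        have hY0 : Y₃ = 0 := neg_eq_zero.mp hcon.2
        rw [hX0, hY0, mul_zero, mul_zero, add_zero, add_zero] at hone
        exact one_ne_zero hone
      · simp only [map_add, map_smul, LinearMap.add_apply, LinearMap.smul_apply, smul_eq_mul,
          ← hX₃, n11, n21]
        linear_combination (-X₃) * hone
      · simp only [map_add, map_smul, LinearMap.add_apply, LinearMap.smul_apply, smul_eq_mul,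
          ← hY₃, n12, n22]
        linear_combination (-Y₃) * hone
  -- apply (T2) to the pair `x', Δ • y'`
  have hxdy : BB x' (Δ • y') = 0 := by rw [map_smul, bx'y', smul_zero]
  have hρy' : BB (c₁ • v + c₂ • w) (Δ • y') = 0 := by rw [map_smul, hcy, smul_zero]
  obtain ⟨ρ, hρ, hρ0, hρρ, h1, h2⟩ := h.rat_point_on_line hn hHK t₀ hA tvw x' (Δ • y') qx'
    (by rw [Q_smul, qy', mul_zero]) hxdy hK' p₁ (Δ⁻¹ • p₂) n11
    (by rw [map_smul, LinearMap.smul_apply, n21, smul_zero])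
    (by rw [map_smul, n12, smul_zero])
    (by rw [map_smul, map_smul, LinearMap.smul_apply, n22, smul_eq_mul, smul_eq_mul, mul_one,
      mul_inv_cancel₀ hΔ0])
    hvp₁ (by rw [map_smul, hvp₂, smul_zero]) hwp₁ (by rw [map_smul, hwp₂, smul_zero]) c₁ c₂ hc hcx
    hρy'
  refine ⟨ρ, hρ, hρ0, hρρ, h1, ?_⟩
  rw [map_smul, smul_eq_mul] at h2
  rcases mul_eq_zero.mp h2 with h3 | h3
  · exact absurd h3 hΔ0
  · exact h3

end stepA

end Cfsg.Agent.Lib.Helper61.SubfieldOr
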