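import Mathlib
import Cfsg.Prelude.Def_GeometricClasses
import Cfsg.Agent.Lib.Helper61.SubfieldOrN

/-!
Subfield subgroups of orthogonal groups: the line of a Siegel element of a small overgroup is
rational.
-/

set_option autoImplicit false
set_option linter.unusedSectionVars false
set_option linter.unusedVariables false
set_option maxHeartbeats 1000000

namespace Cfsg.Agent.Lib.Helper61.SubfieldOr

open Matrix Module Cfsg.Agent.Lib.Helper43

section stepC
variable {F : Type*} [Field F] [Fintype F] {ι : Type} [Fintype ι] [DecidableEq ι]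
variable {Q : QuadraticForm F (ι → F)} {F₀ : Subfield F} {P : GL ι F} {r : ℕ}
variable {K : Subgroup ↥(Cfsg.Omega F ⇑Q)}

local notation "BB" => QuadraticMap.polarBilin Q

/-- (C') the line of a Siegel element of a small overgroup is rational -/
theorem RQ.line_rat (h : RQ Q F₀ P r) (hn : 13 ≤ Fintype.card ι) (hHK : HQ Q F₀ P ≤ K)
    {v₀ w₀ : ι → F} (t₀ : TIP Q F₀ P v₀ w₀) (hA : ∀ a ∈ AB Q F₀ K v₀ w₀, a ∈ F₀)
    (x y : ι → F) (hx : Q x = 0) (hy : Q y = 0) (hxy : BB x y = 0)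
    (hind : ∀ α β : F, α • x + β • y = 0 → α = 0 ∧ β = 0)
    (hK : InK Q K (siegelLin Q x y)) : LineRat F₀ P x y := by
  classical
  obtain ⟨ρ, hρ, hρ0, hρρ, hρx, hρy⟩ := h.exists_rat_perp hn hHK t₀ hA x y hx hy hxy hind hK
  have hyx : BB y x = 0 := pol_symm0 Q hxy
  have hxρ : BB x ρ = 0 := pol_symm0 Q hρx
  have hyρ : BB y ρ = 0 := pol_symm0 Q hρy
  have hx0 : x ≠ 0 := by
    intro h0
    have := (hind 1 0 (by rw [h0]; simp)).1
    exact one_ne_zero this
  have hxs : x ∈ Submodule.span F {x, y} := Submodule.subset_span (by simp)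
  have hys : y ∈ Submodule.span F {x, y} := Submodule.subset_span (by simp)
  by_cases hmem : ρ ∈ Submodule.span F {x, y}
  · -- the rational point is on the line
    obtain ⟨α, β, hαβ⟩ := Submodule.mem_span_pair.mp hmem
    obtain ⟨γ, δ', hdet⟩ : ∃ γ δ' : F, α * δ' - β * γ = 1 := by
      by_cases hα : α = 0
      · have hβ : β ≠ 0 := by
          intro hβ
          rw [hα, hβ, zero_smul, zero_smul, zero_add] at hαβ
          exact hρ0 hαβ.symm
        refine ⟨-β⁻¹, 0, ?_⟩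
        rw [mul_zero, zero_sub, mul_neg, neg_neg, mul_inv_cancel₀ hβ]
      · refine ⟨0, α⁻¹, ?_⟩
        rw [mul_zero, sub_zero, mul_inv_cancel₀ hα]
    obtain ⟨y'', hy''⟩ : ∃ y'' : ι → F, y'' = γ • x + δ' • y := ⟨_, rfl⟩
    have hK' : InK Q K (siegelLin Q ρ y'') := by
      rw [← hαβ, hy'', siegel_basis Q x y _ _ _ _ hx hy hxy, hdet, one_smul]
      exact hK
    have hρy'' : BB ρ y'' = 0 := by
      rw [hy'', map_add, map_smul, map_smul, hρx, hρy, smul_zero, smul_zero, add_zero]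
    obtain ⟨y₀, δ, hy₀, hyδ⟩ := h.siegel_vec_rat hn hHK t₀ hA ρ hρ hρ0 hρρ y'' hρy'' hK'
    have ex : x = (δ' - β * δ) • ρ + (-β) • y₀ := by
      have hy₀e : y₀ = y'' - δ • ρ := by rw [hyδ]; abel
      have e1 : x = (α * δ' - β * γ) • x := by rw [hdet, one_smul]
      rw [hy₀e, hy'', ← hαβ]
      nth_rewrite 1 [e1]
      module
    have ey : y = (-γ + α * δ) • ρ + α • y₀ := by
      have hy₀e : y₀ = y'' - δ • ρ := by rw [hyδ]; abel
      have e1 : y = (α * δ' - β * γ) • y := by rw [hdet, one_smul]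
      rw [hy₀e, hy'', ← hαβ]
      nth_rewrite 1 [e1]
      module
    refine ⟨ρ, y₀, hρ, hy₀, ?_⟩
    apply le_antisymm
    · rw [Submodule.span_le]
      intro u hu
      rcases hu with hu | hu
      · rw [hu]
        exact Submodule.mem_span_pair.mpr ⟨_, _, ex.symm⟩
      · rw [Set.mem_singleton_iff] at hu
        rw [hu]
        exact Submodule.mem_span_pair.mpr ⟨_, _, ey.symm⟩
    · rw [Submodule.span_le]
      intro u hu
      rcases hu with hu | hu
      · rw [hu]; exact hmem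
      · rw [Set.mem_singleton_iff] at hu
        rw [hu]
        have hy₀e : y₀ = y'' - δ • ρ := by rw [hyδ]; abel
        rw [hy₀e, hy'']
        exact Submodule.sub_mem _ (Submodule.add_mem _ (Submodule.smul_mem _ _ hxs)
          (Submodule.smul_mem _ _ hys)) (Submodule.smul_mem _ _ hmem)
  · -- the rational point is off the line
    obtain ⟨f, hf, hff, hρf⟩ := h.exists_partner (by omega) ρ hρ hρ0
    have hoff : ∀ t ∈ Submodule.span F {x, y}, t ≠ 0 → ∀ c : F, t - c • ρ ≠ 0 := by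
      intro t ht ht0 c h0
      have h1 : t = c • ρ := sub_eq_zero.mp h0
      have hc : c ≠ 0 := by
        intro hc
        rw [hc, zero_smul] at h1
        exact ht0 h1
      apply hmem
      have : ρ = c⁻¹ • t := by rw [h1, smul_smul, inv_mul_cancel₀ hc, one_smul]
      rw [this]
      exact Submodule.smul_mem _ _ ht
    have key : ∀ z₁, Rt F₀ P z₁ → BB ρ z₁ = 0 → ∃ (q : ι → F) (δ : F), Rt F₀ P q ∧
        BB x z₁ • y - BB y z₁ • x = q + δ • ρ := by
      intro z₁ hz₁ hez₁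
      exact h.plane_rat hn hHK t₀ hA x y hx hy hxy hK ρ hρ hρ0 hρρ hxρ hyρ z₁ hz₁ hez₁
    obtain ⟨z₁, hz₁, hez₁, hxz₁⟩ := h.exists_rat_perp_ne1 ρ f hρ hf hρf x (hoff x hxs hx0 _)
    obtain ⟨t, ht⟩ : ∃ t : ι → F, t = y - (BB y z₁ / BB x z₁) • x := ⟨_, rfl⟩
    have ht0 : t ≠ 0 := by
      intro h0
      rw [ht, sub_eq_add_neg, ← neg_smul, add_comm] at h0
      have := (hind (-(BB y z₁ / BB x z₁)) 1 (by rw [one_smul]; exact h0)).2
      exact one_ne_zero this
    have hts : t ∈ Submodule.span F {x, y} := by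
      rw [ht]
      exact Submodule.sub_mem _ hys (Submodule.smul_mem _ _ hxs)
    obtain ⟨z₂, hz₂, hez₂, htz₂⟩ := h.exists_rat_perp_ne1 ρ f hρ hf hρf t (hoff t hts ht0 _)
    obtain ⟨D, hD⟩ : ∃ D : F, D = BB x z₁ * BB y z₂ - BB x z₂ * BB y z₁ := ⟨_, rfl⟩
    have hD0 : D ≠ 0 := by
      have : D = BB x z₁ * BB t z₂ := by
        rw [hD, ht, map_sub, map_smul, LinearMap.sub_apply, LinearMap.smul_apply, smul_eq_mul]
        field_simp
      rw [this]
      exact mul_ne_zero hxz₁ htz₂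
    obtain ⟨q₁, δ₁, hq₁, hφ₁⟩ := key z₁ hz₁ hez₁
    obtain ⟨q₂, δ₂, hq₂, hφ₂⟩ := key z₂ hz₂ hez₂
    have hxe : x = (BB x z₂ / D) • (q₁ + δ₁ • ρ) + (-(BB x z₁ / D)) • (q₂ + δ₂ • ρ) := by
      rw [← hφ₁, ← hφ₂]
      have : (BB x z₂ / D) • (BB x z₁ • y - BB y z₁ • x) +
          (-(BB x z₁ / D)) • (BB x z₂ • y - BB y z₂ • x) = (D / D) • x := by
        rw [hD]
        module
      rw [this, div_self hD0, one_smul]
    have hye : y = (BB y z₂ / D) • (q₁ + δ₁ • ρ) + (-(BB y z₁ / D)) • (q₂ + δ₂ • ρ) := by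
      rw [← hφ₁, ← hφ₂]
      have : (BB y z₂ / D) • (BB x z₁ • y - BB y z₁ • x) +
          (-(BB y z₁ / D)) • (BB x z₂ • y - BB y z₂ • x) = (D / D) • y := by
        rw [hD]
        module
      rw [this, div_self hD0, one_smul]
    obtain ⟨e, f', he, hf', hee, hff', hef', hse, hsf⟩ := h.exists_hyp_perp ![q₁, q₂, ρ]
      (by
        intro i
        fin_cases i
        · exact hq₁
        · exact hq₂
        · exact hρ) (by simp; omega)
    have a1 : BB q₁ e = 0 := hse 0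
    have a2 : BB q₂ e = 0 := hse 1
    have a3 : BB ρ e = 0 := hse 2
    have b1 : BB q₁ f' = 0 := hsf 0
    have b2 : BB q₂ f' = 0 := hsf 1
    have b3 : BB ρ f' = 0 := hsf 2
    have hperp : ∀ (c₁ c₂ : F) (u : ι → F), BB q₁ u = 0 → BB q₂ u = 0 → BB ρ u = 0 →
        BB (c₁ • (q₁ + δ₁ • ρ) + c₂ • (q₂ + δ₂ • ρ)) u = 0 := by
      intro c₁ c₂ u h1 h2 h3
      simp only [map_add, map_smul, LinearMap.add_apply, LinearMap.smul_apply, h1, h2, h3,
        smul_zero, add_zero]
    have hxe' : BB x e = 0 := by rw [hxe]; exact hperp _ _ _ a1 a2 a3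
    have hye' : BB y e = 0 := by rw [hye]; exact hperp _ _ _ a1 a2 a3
    have hxf' : BB x f' = 0 := by rw [hxe]; exact hperp _ _ _ b1 b2 b3
    have hyf' : BB y f' = 0 := by rw [hye]; exact hperp _ _ _ b1 b2 b3
    exact h.line_in_plane hn hHK t₀ hA x y hx hy hxy hind hK e f' he hf' hee hef' hxe' hye' hxf'
      hyf'

end stepC

end Cfsg.Agent.Lib.Helper61.SubfieldOr
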