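import Mathlib
import Cfsg.Prelude.Def_GeometricClasses
import Cfsg.Agent.Lib.Helper61.SubfieldOrO

/-!
Subfield subgroups of orthogonal groups: maximality of `Ω(V₀)` in `Ω(V)` for a prime degree
extension, in dimension at least 13.
-/

set_option autoImplicit false
set_option linter.unusedSectionVars false
set_option linter.unusedVariables false
set_option maxHeartbeats 1000000

namespace Cfsg.Agent.Lib.Helper61.SubfieldOr

open Matrix Module Cfsg.Agent.Lib.Helper43

section final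
variable {F : Type*} [Field F] [Fintype F] {ι : Type} [Fintype ι] [DecidableEq ι]
variable {Q : QuadraticForm F (ι → F)} {F₀ : Subfield F} {P : GL ι F} {r : ℕ}
variable {K : Subgroup ↥(Cfsg.Omega F ⇑Q)}

local notation "BB" => QuadraticMap.polarBilin Q

/-- the elements of a small overgroup map rational singular points to rational points -/
theorem RQ.point_rat (h : RQ Q F₀ P r) (hn : 13 ≤ Fintype.card ι) (hHK : HQ Q F₀ P ≤ K)
    {v₀ w₀ : ι → F} (t₀ : TIP Q F₀ P v₀ w₀) (hA : ∀ a ∈ AB Q F₀ K v₀ w₀, a ∈ F₀)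
    (g : ↥(Cfsg.Omega F ⇑Q)) (hg : g ∈ K) (v : ι → F) (hv : Rt F₀ P v) (hv0 : v ≠ 0)
    (hvv : Q v = 0) : ∃ c : F, c ≠ 0 ∧ Rt F₀ P (c • lo Q g v) := by
  classical
  have hn7 : 7 ≤ Fintype.card ι := by omega
  obtain ⟨w, z, hw, hz, hww, hws, hzs, hwz⟩ := h.exists_iso_perp ![v]
    (by
      intro i
      fin_cases i
      exact hv) (by simp; omega)
  have hvw : BB v w = 0 := hws 0
  have hvz : BB v z = 0 := hzs 0
  have t1 : TIP Q F₀ P v w := TIP.of_witness hv hw hvv hww hvw hv0 hvz hwz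
  obtain ⟨w', z', hw', hz', hww', hws', hzs', hwz'⟩ := h.exists_iso_perp ![v, w]
    (by
      intro i
      fin_cases i
      · exact hv
      · exact hw) (by simp; omega)
  have hvw' : BB v w' = 0 := hws' 0
  have hww'0 : BB w w' = 0 := hws' 1
  have hvz' : BB v z' = 0 := hzs' 0
  have hwz'0 : BB w z' = 0 := hzs' 1
  have t2 : TIP Q F₀ P v w' := TIP.of_witness hv hw' hvv hww' hvw' hv0 hvz' hwz'
  have hinj := lo_injective_apply Q g
  have line : ∀ w₁, TIP Q F₀ P v w₁ → LineRat F₀ P (lo Q g v) (lo Q g w₁) := by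
    intro w₁ t
    apply h.line_rat hn hHK t₀ hA
    · rw [lo_isometry]; exact t.hvv
    · rw [lo_isometry]; exact t.hww
    · rw [lo_polar]; exact t.hvw
    · intro α β h0
      have h1 : lo Q g (α • v + β • w₁) = 0 := by rw [map_add, map_smul, map_smul, h0]
      have h2 : α • v + β • w₁ = 0 := hinj (by rw [h1, map_zero])
      exact h.pair_indep t h2
    · exact inK_siegel_conj h.hQ hn7 t.hvv t.hvw (h.rat_siegel hHK t.hv t.hw) g hg
  apply h.rat_of_two_lines (lo Q g v) (lo Q g w) (lo Q g w') (line w t1) (line w' t2)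
    (lo_ne_zero Q g v hv0)
  · intro α β h0
    have h1 : lo Q g (α • v + β • w') = 0 := by rw [map_add, map_smul, map_smul, h0]
    have h2 : α • v + β • w' = 0 := hinj (by rw [h1, map_zero])
    exact h.pair_indep t2 h2
  · intro hmem
    obtain ⟨α, β, hαβ⟩ := Submodule.mem_span_pair.mp hmem
    have h1 : lo Q g (α • v + β • w') = lo Q g w := by rw [map_add, map_smul, map_smul, hαβ]
    have h2 : α • v + β • w' = w := hinj h1
    have h3 := congrArg (fun u => BB u z') h2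
    simp only [map_add, map_smul, LinearMap.add_apply, LinearMap.smul_apply, hvz', hwz'0,
      smul_zero, zero_add, smul_eq_mul, mul_zero] at h3
    have hβ : β = 0 := by
      rcases mul_eq_zero.mp h3 with h4 | h4
      · exact h4
      · exact absurd h4 hwz'
    rw [hβ, zero_smul, add_zero] at h2
    apply hwz
    rw [← h2, map_smul, LinearMap.smul_apply, hvz, smul_zero]

/-- comparing the scalars attached to a rational totally singular pair -/
theorem RQ.ratio_TI (h : RQ Q F₀ P r) (g : ↥(Cfsg.Omega F ⇑Q))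
    (hgr : ∀ a, Rt F₀ P a → a ≠ 0 → Q a = 0 → ∃ c : F, c ≠ 0 ∧ Rt F₀ P (c • lo Q g a))
    {x y : ι → F} (t : TIP Q F₀ P x y) (cx cy : F) (hcx : cx ≠ 0) (hcy : cy ≠ 0)
    (hrx : Rt F₀ P (cx • lo Q g x)) (hry : Rt F₀ P (cy • lo Q g y)) : cx / cy ∈ F₀ := by
  have hs : Q (x + y) = 0 := by
    rw [Q_add, t.hvv, t.hww, t.hvw]
    simp
  have hs0 : x + y ≠ 0 := by
    intro h0
    have := (h.pair_indep t (α := 1) (β := 1) (by rw [one_smul, one_smul]; exact h0)).1
    exact one_ne_zero this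
  obtain ⟨cs, hcs, hrs⟩ := hgr (x + y) (rt_add t.hv t.hw) hs0 hs
  exact h.ratio (lo Q g) (lo_injective_apply Q g) t.hv t.hw (fun α β h0 => h.pair_indep t h0)
    cx cy cs hcx hcy hcs hrx hry hrs

/-- an element of `Ω` mapping rational singular points to rational points preserves the rational
structure up to a scalar -/
theorem RQ.uniform (h : RQ Q F₀ P r) (hn : 9 ≤ Fintype.card ι) (g : ↥(Cfsg.Omega F ⇑Q))
    (hgr : ∀ a, Rt F₀ P a → a ≠ 0 → Q a = 0 → ∃ c : F, c ≠ 0 ∧ Rt F₀ P (c • lo Q g a)) :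
    ∃ c : F, c ≠ 0 ∧ ∀ x, Rt F₀ P x → Rt F₀ P (c • lo Q g x) := by
  classical
  obtain ⟨a₀, z₀, ha₀, hz₀, haa, -, -, haz₀⟩ := h.exists_iso_perp (fun i : Fin 0 => 0)
    (fun i => i.elim0) (by simp; omega)
  have ha₀0 : a₀ ≠ 0 := by
    intro h0
    rw [h0, LinearMap.map_zero₂] at haz₀
    exact haz₀ rfl
  obtain ⟨c, hc, hca⟩ := hgr a₀ ha₀ ha₀0 haa
  refine ⟨c, hc, ?_⟩
  have key : ∀ y, Rt F₀ P y → Q y = 0 → Rt F₀ P (c • lo Q g y) := by
    intro y hy hyy
    by_cases hy0 : y = 0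
    · rw [hy0, map_zero, smul_zero]
      exact rt_zero
    obtain ⟨cy, hcy, hcyr⟩ := hgr y hy hy0 hyy
    obtain ⟨e, z', he, hz', hee, hes, hz's, hez'⟩ := h.exists_iso_perp ![a₀, y]
      (by
        intro i
        fin_cases i
        · exact ha₀
        · exact hy) (by simp; omega)
    have hae : BB a₀ e = 0 := hes 0
    have hye : BB y e = 0 := hes 1
    have haz' : BB a₀ z' = 0 := hz's 0
    have hyz' : BB y z' = 0 := hz's 1
    have he0 : e ≠ 0 := by
      intro h0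
      rw [h0, LinearMap.map_zero₂] at hez'
      exact hez' rfl
    have t1 : TIP Q F₀ P a₀ e := TIP.of_witness ha₀ he haa hee hae ha₀0 haz' hez'
    have t2 : TIP Q F₀ P y e := TIP.of_witness hy he hyy hee hye hy0 hyz' hez'
    obtain ⟨ce, hce, hcer⟩ := hgr e he he0 hee
    have r1 := h.ratio_TI g hgr t1 c ce hc hce hca hcer
    have r2 := h.ratio_TI g hgr t2 cy ce hcy hce hcyr hcer
    have e1 : c • lo Q g y = ((c / ce) / (cy / ce)) • (cy • lo Q g y) := by
      rw [smul_smul]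
      congr 1
      field_simp
    rw [e1]
    exact rt_smul (F₀.div_mem r1 r2) hcyr
  intro x hx
  obtain ⟨e, f, he, hf, hee, hff, hef, hse, hsf⟩ := h.exists_hyp_perp ![x]
    (by
      intro i
      fin_cases i
      exact hx) (by simp; omega)
  have hxe : BB x e = 0 := hse 0
  have hxf : BB x f = 0 := hsf 0
  obtain ⟨s, hs⟩ : ∃ s : ι → F, s = x + (-(Q x)) • e + f := ⟨_, rfl⟩
  have hsr : Rt F₀ P s := by
    rw [hs]
    exact rt_add (rt_add hx (rt_smul (F₀.neg_mem (h.val x hx)) he)) hf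
  have hss : Q s = 0 := by
    rw [hs, Q_add, Q_add, Q_smul, hee, hff]
    simp only [map_add, map_smul, LinearMap.add_apply, LinearMap.smul_apply, smul_eq_mul, hxe, hxf,
      hef]
    ring
  have hxs : x = s + (Q x) • e + (-1 : F) • f := by
    rw [hs]
    module
  have hm1 : (-1 : F) ∈ F₀ := F₀.neg_mem F₀.one_mem
  have : c • lo Q g x = c • lo Q g s + (Q x) • (c • lo Q g e) + (-1 : F) • (c • lo Q g f) := by
    nth_rewrite 1 [hxs]
    rw [map_add, map_add, map_smul, map_smul, smul_add, smul_add, smul_comm c (Q x),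
      smul_comm c (-1 : F)]
  rw [this]
  exact rt_add (rt_add (key s hsr hss) (rt_smul (h.val x hx) (key e he hee)))
    (rt_smul hm1 (key f hf hff))

/-- small overgroups are contained in the subfield subgroup -/
theorem RQ.le_H_of_small (h : RQ Q F₀ P r) (hn : 13 ≤ Fintype.card ι) (hHK : HQ Q F₀ P ≤ K)
    {v₀ w₀ : ι → F} (t₀ : TIP Q F₀ P v₀ w₀) (hA : ∀ a ∈ AB Q F₀ K v₀ w₀, a ∈ F₀) :
    K ≤ HQ Q F₀ P := by
  intro g hg
  obtain ⟨c, hc, hall⟩ := h.uniform (by omega) g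
    (fun a ha ha0 haa => h.point_rat hn hHK t₀ hA g hg a ha ha0 haa)
  show omEmb Q g ∈ Cfsg.Geo.subfieldSubgroup F₀ P
  apply mem_subfield_of_rt _ c hc
  intro x hx
  rw [omEmb_act]
  exact hall x hx

/-- an element outside the subfield -/
theorem RQ.exists_not_mem (h : RQ Q F₀ P r) : ∃ θ : F, θ ∉ F₀ := by
  classical
  by_contra hcon
  push Not at hcon
  have h2 := h.hr.two_le
  have e : Nat.card F₀ = Fintype.card F := by
    rw [← Nat.card_eq_fintype_card]
    exact Nat.card_congr (Equiv.subtypeUnivEquiv hcon)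
  have hc := h.hcard
  rw [← e] at hc
  have h1 : 1 < Nat.card F₀ := by
    rw [e]
    exact Fintype.one_lt_card
  have : Nat.card F₀ ^ 1 < Nat.card F₀ ^ r := Nat.pow_lt_pow_right h1 (by omega)
  rw [pow_one] at this
  omega

/-- the subfield subgroup is proper -/
theorem RQ.exists_not_mem_H (h : RQ Q F₀ P r) (hn : 13 ≤ Fintype.card ι) :
    ∃ g : ↥(Cfsg.Omega F ⇑Q), omEmb Q g ∉ Cfsg.Geo.subfieldSubgroup F₀ P := by
  classical
  have hn7 : 7 ≤ Fintype.card ι := by omega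
  obtain ⟨θ, hθ⟩ := h.exists_not_mem
  obtain ⟨e₁, f₁, he₁, hf₁, h11, hf11, hef₁, -, -⟩ := h.exists_hyp_perp (fun i : Fin 0 => 0)
    (fun i => i.elim0) (by simp; omega)
  obtain ⟨e₂, f₂, he₂, hf₂, h22, hf22, hef₂, hes, hfs⟩ := h.exists_hyp_perp ![e₁, f₁]
    (by
      intro i
      fin_cases i
      · exact he₁
      · exact hf₁) (by simp; omega)
  have h12 : BB e₁ e₂ = 0 := hes 0
  have hf1e2 : BB f₁ e₂ = 0 := hes 1
  have he1f2 : BB e₁ f₂ = 0 := hfs 0
  have hf1f2 : BB f₁ f₂ = 0 := hfs 1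
  have hfe₁ : BB f₁ e₁ = 1 := by rw [polar_symm, hef₁]
  have huz : BB e₁ (θ • e₂) = 0 := by rw [map_smul, h12, smul_zero]
  refine ⟨sO Q h.hQ hn7 e₁ (θ • e₂) h11 huz, ?_⟩
  intro hmem
  obtain ⟨c, hc, hr⟩ := rt_of_mem_subfield _ hmem f₁ hf₁
  rw [omEmb_act, lo_sO, siegel_apply_ts Q _ _ _ (by rw [Q_smul, h22, mul_zero])] at hr
  rw [map_smul, hf1e2, smul_zero, zero_smul, add_zero, hfe₁, one_smul] at hr
  have m1 := h.val2 hr he₁
  have m2 := h.val2 hr hf₂
  simp only [map_sub, map_smul, LinearMap.sub_apply, LinearMap.smul_apply, smul_eq_mul, hfe₁,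
    hf1f2, hef₂, pol_symm0 Q h12, mul_zero, mul_one, sub_zero, zero_sub] at m1 m2
  apply hθ
  have : θ = -(c⁻¹ * (c * -θ)) := by
    rw [← mul_assoc, inv_mul_cancel₀ hc, one_mul, neg_neg]
  rw [this]
  exact F₀.neg_mem (F₀.mul_mem (F₀.inv_mem m1) m2)

/-- **Maximality of the subfield subgroup `Ω(V₀)` of `Ω(V)`, for `|F| = |F₀|^r`, `r` prime, in
dimension at least 13** -/
theorem RQ.isMaximalIn (h : RQ Q F₀ P r) (hn : 13 ≤ Fintype.card ι) :
    Cfsg.Geo.IsMaximalIn (Cfsg.Geo.omegaGL ⇑Q)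
      (Cfsg.Geo.subfieldSubgroup F₀ P ⊓ Cfsg.Geo.omegaGL ⇑Q) := by
  classical
  apply isMaximalIn_of_comap
  · exact h.exists_not_mem_H hn
  · intro K hHK
    obtain ⟨e₁, f₁, he₁, hf₁, h11, hf11, hef₁, -, -⟩ :=
      h.exists_hyp_perp (fun i : Fin 0 => 0) (fun i => i.elim0) (by simp; omega)
    obtain ⟨e₂, f₂, he₂, hf₂, h22, hf22, hef₂, hes, hfs⟩ := h.exists_hyp_perp ![e₁, f₁]
      (by
        intro i
        fin_cases i
        · exact he₁
        · exact hf₁) (by simp; omega)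
    have h12 : BB e₁ e₂ = 0 := hes 0
    have he1f2 : BB e₁ f₂ = 0 := hfs 0
    have he₁0 : e₁ ≠ 0 := by
      intro h0
      rw [h0, LinearMap.map_zero₂] at hef₁
      exact zero_ne_one hef₁
    have t₀ : TIP Q F₀ P e₁ e₂ :=
      TIP.of_witness he₁ he₂ h11 h22 h12 he₁0 he1f2 (by rw [hef₂]; exact one_ne_zero)
    have hHK' : HQ Q F₀ P ≤ K := hHK
    rcases h.AB_dichotomy (by omega) hHK' t₀ with hA | hall
    · left
      exact le_antisymm (h.le_H_of_small hn hHK' t₀ hA) hHK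
    · right
      exact h.eq_top_of_univ (by omega) hHK' t₀ hall

end final

end Cfsg.Agent.Lib.Helper61.SubfieldOr
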