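import Mathlib
import Cfsg.Prelude.Def_GeometricClasses
import Cfsg.Agent.Lib.Helper61.SubfieldOrP

/-!
Subfield subgroups of orthogonal groups: the maximality theorem in the vocabulary of `Cfsg.Geo`,
for a quadratic form given as a function and a rational structure for a scalar multiple of it.
-/

set_option autoImplicit false
set_option linter.unusedSectionVars false
set_option linter.unusedVariables false
set_option maxHeartbeats 1000000

namespace Cfsg.Agent.Lib.Helper61.SubfieldOr

open Matrix Module Cfsg.Agent.Lib.Helper43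

section geo
variable {F : Type*} [Field F] {ι : Type} [Fintype ι] [DecidableEq ι]

/-- a non-zero multiple of a non-degenerate quadratic form is one -/
theorem scaled_nondeg (Q : (ι → F) → F) (hQ : Cfsg.Geo.IsNondegenerateQuadraticForm Q) (ζ : F)
    (hζ : ζ ≠ 0) : Cfsg.Geo.IsNondegenerateQuadraticForm (fun v : ι → F => ζ * Q v) := by
  have hpol : ∀ x y, QuadraticMap.polar (fun v : ι → F => ζ * Q v) x y =
      ζ * QuadraticMap.polar Q x y := by
    intro x y
    unfold QuadraticMap.polar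
    ring
  refine ⟨?_, ⟨?_, ?_, ?_, ?_⟩, ?_⟩
  · intro c v
    show ζ * Q (c • v) = c ^ 2 * (ζ * Q v)
    rw [hQ.smul]
    ring
  · intro x y v
    rw [hpol, hpol, hpol, hQ.polar_bilinear.add_left]
    ring
  · intro c x v
    rw [hpol, hpol, hQ.polar_bilinear.smul_left]
    ring
  · intro v x y
    rw [hpol, hpol, hpol, hQ.polar_bilinear.add_right]
    ring
  · intro c v x
    rw [hpol, hpol, hQ.polar_bilinear.smul_right]
    ring
  · intro v hv
    obtain ⟨⟨x, hx⟩, ⟨y, hy⟩⟩ := hQ.nondegenerate v hv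
    refine ⟨⟨x, ?_⟩, ⟨y, ?_⟩⟩
    · rw [hpol]
      exact mul_ne_zero hζ hx
    · rw [hpol]
      exact mul_ne_zero hζ hy

/-- the isometry group of a non-zero multiple of `Q` is that of `Q` -/
theorem isometryGroup_scaled (Q : (ι → F) → F) (ζ : F) (hζ : ζ ≠ 0) :
    Cfsg.isometryGroup F (fun v : ι → F => ζ * Q v) = Cfsg.isometryGroup F Q := by
  ext g
  constructor
  · intro hg u v
    have : ζ * Q (Units.coeHom (Matrix ι ι F) g *ᵥ u) = ζ * Q u := hg u v
    exact mul_left_cancel₀ hζ this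
  · intro hg u v
    have : Q (Units.coeHom (Matrix ι ι F) g *ᵥ u) = Q u := hg u v
    show ζ * Q _ = ζ * Q _
    rw [this]

/-- `Ω` of a non-zero multiple of `Q` is that of `Q` -/
theorem omegaGL_scaled (Q : (ι → F) → F) (ζ : F) (hζ : ζ ≠ 0) :
    Cfsg.Geo.omegaGL (fun v : ι → F => ζ * Q v) = Cfsg.Geo.omegaGL Q := by
  unfold Cfsg.Geo.omegaGL Cfsg.Omega
  rw [Subgroup.map_subtype_commutator, Subgroup.map_subtype_commutator, isometryGroup_scaled Q ζ hζ]

/-- **Maximality of the subfield subgroups of `Ω(Q)`** for a non-degenerate quadratic form `Q` in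
dimension at least 13, `|F| = |F₀|^r` with `r` prime, where a non-zero multiple of `Q` takes
values in `F₀` on the `F₀`-span of the columns of `P` -/
theorem subfield_omega_isMaximalIn [Fintype F] (hn : 13 ≤ Fintype.card ι) (Q : (ι → F) → F)
    (hQ : Cfsg.Geo.IsNondegenerateQuadraticForm Q) (F₀ : Subfield F) (r : ℕ) (hr : r.Prime)
    (hcard : Fintype.card F = Nat.card F₀ ^ r) (P : GL ι F) (ζ : F) (hζ : ζ ≠ 0)
    (hP : Cfsg.Geo.IsQuadFormRationalStructure (fun v : ι → F => ζ * Q v) F₀ P) :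
    Cfsg.Geo.IsMaximalIn (Cfsg.Geo.omegaGL Q)
      (Cfsg.Geo.subfieldSubgroup F₀ P ⊓ Cfsg.Geo.omegaGL Q) := by
  have hQ' := scaled_nondeg Q hQ ζ hζ
  have h : RQ (geoQF _ hQ') F₀ P r := by
    refine ⟨geoQF_nondegenerate _ hQ', hr, hcard, ?_⟩
    rintro x ⟨u, hu, rfl⟩
    exact hP u hu
  have := h.isMaximalIn hn
  rw [geoQF_coe, omegaGL_scaled Q ζ hζ] at this
  exact this

end geo

end Cfsg.Agent.Lib.Helper61.SubfieldOr
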