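import Mathlib
import Cfsg.Prelude.Def_GeometricClasses
import Cfsg.Agent.Lib.Helper51.SUMax1
import Cfsg.Agent.Lib.Helper61.SubfieldSUB

/-!
Subfield subgroups of `SU_n(q)` of symplectic type: the alternating form on the rational
structure, rational transvections and their transitivity properties.
-/

set_option autoImplicit false
set_option linter.unusedSectionVars false
set_option linter.unusedVariables false

namespace Cfsg.Agent.Lib.Helper61.SubfieldSU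

open Matrix Cfsg.Agent.Lib.Helper08 Cfsg.Agent.Lib.Helper51

section form
variable {F : Type*} [Field F] [Fintype F] {q n : ℕ}

local notation "GLn" => Matrix.GeneralLinearGroup (Fin n) F
local notation "hh" => hform (Fin n) F q

/-- the data of a symplectic-type rational structure for the hermitian form -/
structure RS (F₀ : Subfield F) (P : Matrix.GeneralLinearGroup (Fin n) F) (ζ : F) (q : ℕ) :
    Prop where
  hF : Fintype.card F = q ^ 2
  hq : Nat.card F₀ = q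
  hζ0 : ζ ≠ 0
  hζ : ζ + ζ ^ q = 0
  val : ∀ x y, Rat F₀ P x → Rat F₀ P y → ζ * hform (Fin n) F q x y ∈ F₀
  alt : ∀ x, Rat F₀ P x → hform (Fin n) F q x x = 0

variable {F₀ : Subfield F} {P : Matrix.GeneralLinearGroup (Fin n) F} {ζ : F}

theorem RS.fix (h : RS F₀ P ζ q) {a : F} (ha : a ∈ F₀) : a ^ q = a := pow_q_of_mem F₀ h.hq ha

theorem RS.skew (h : RS F₀ P ζ q) {x y : Fin n → F} (hx : Rat F₀ P x) (hy : Rat F₀ P y) :
    hh y x = - hh x y := by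
  have := h.alt _ (rat_add hx hy)
  rw [hform_add_left, hform_add_right h.hF, hform_add_right h.hF, h.alt x hx, h.alt y hy] at this
  linear_combination this

theorem RS.smul_right (h : RS F₀ P ζ q) {a : F} (ha : a ∈ F₀) (x y : Fin n → F) :
    hh x (a • y) = a * hh x y := by
  rw [hform_smul_right, h.fix ha]

theorem hh_ne_symm (hF : Fintype.card F = q ^ 2) {x y : Fin n → F} (hxy : hh x y ≠ 0) :
    hh y x ≠ 0 := by
  rw [← hform_conj hF]
  exact pow_ne_zero _ hxy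

theorem hh_zero_symm (hF : Fintype.card F = q ^ 2) {x y : Fin n → F} (hxy : hh x y = 0) :
    hh y x = 0 := by
  rw [← hform_conj hF, hxy, zero_pow (q_ne_zero' hF)]

theorem hh_zero_right (hF : Fintype.card F = q ^ 2) (x : Fin n → F) : hh x 0 = 0 :=
  hh_zero_symm hF (hform_zero_left x)

theorem RS.nondeg_left (h : RS F₀ P ζ q) (x : Fin n → F)
    (hx : ∀ y, Rat F₀ P y → hh y x = 0) : x = 0 := by
  classical
  let w : Fin n → F := fun i => x i ^ q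
  have h1 : ∀ y : Fin n → F, hh y x = y ⬝ᵥ w := fun y => rfl
  have h2 : w ᵥ* P.1 = 0 := by
    funext j
    have h3 := hx _ (rat_col (F₀ := F₀) (P := P) j)
    rw [h1, dotProduct_comm, Matrix.dotProduct_mulVec, dotProduct_single, mul_one] at h3
    exact h3
  have h4 : w = 0 := by
    have : (w ᵥ* P.1) ᵥ* P⁻¹.1 = w := by
      rw [Matrix.vecMul_vecMul, ← Units.val_mul, mul_inv_cancel, Units.val_one, Matrix.vecMul_one]
    rw [← this, h2, Matrix.zero_vecMul]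
  funext i
  have h5 : w i = 0 := by rw [h4]; rfl
  exact pow_eq_zero_iff (q_ne_zero' h.hF) |>.mp h5

theorem RS.nondeg_right (h : RS F₀ P ζ q) (x : Fin n → F)
    (hx : ∀ y, Rat F₀ P y → hh x y = 0) : x = 0 :=
  h.nondeg_left x (fun y hy => hh_zero_symm h.hF (hx y hy))

theorem RS.exists_ne_right (h : RS F₀ P ζ q) (x : Fin n → F) (hx0 : x ≠ 0) :
    ∃ y, Rat F₀ P y ∧ hh x y ≠ 0 := by
  by_contra hcon
  push Not at hcon
  exact hx0 (h.nondeg_right x hcon)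

theorem RS.exists_conn (h : RS F₀ P ζ q) (x x' : Fin n → F) (hx0 : x ≠ 0) (hx'0 : x' ≠ 0) :
    ∃ w, Rat F₀ P w ∧ hh x w ≠ 0 ∧ hh w x' ≠ 0 := by
  obtain ⟨w₁, hw₁, h1⟩ := h.exists_ne_right x hx0
  obtain ⟨w₂, hw₂, h2'⟩ := h.exists_ne_right x' hx'0
  have h2 : hh w₂ x' ≠ 0 := hh_ne_symm h.hF h2'
  by_cases h3 : hh w₁ x' = 0
  · by_cases h4 : hh x w₂ = 0
    · refine ⟨w₁ + w₂, rat_add hw₁ hw₂, ?_, ?_⟩
      · rw [hform_add_right h.hF, h4, add_zero]; exact h1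
      · rw [hform_add_left, h3, zero_add]; exact h2
    · exact ⟨w₂, hw₂, h4, h2⟩
  · exact ⟨w₁, hw₁, h1, h3⟩

/-- elements of `M` that are isometries and preserve the rational structure -/
def Good (F₀ : Subfield F) (P : Matrix.GeneralLinearGroup (Fin n) F) (q : ℕ)
    (M : Subgroup (Matrix.GeneralLinearGroup (Fin n) F))
    (t : Matrix.GeneralLinearGroup (Fin n) F) : Prop :=
  t ∈ M ∧ IsIsoMat q t.1 ∧ ∀ v, Rat F₀ P v → Rat F₀ P (t.1 *ᵥ v)

theorem Good.mul {M : Subgroup GLn} {t t' : GLn} (ht : Good F₀ P q M t) (ht' : Good F₀ P q M t') :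
    Good F₀ P q M (t * t') := by
  refine ⟨M.mul_mem ht.1 ht'.1, ?_, ?_⟩
  · rw [Units.val_mul]; exact ht.2.1.mul ht'.2.1
  · intro v hv
    rw [gl_mul_act']
    exact ht.2.2 _ (ht'.2.2 v hv)

/-- every transvection with a rational centre lies in `M ≥ H` and preserves the rational
structure -/
theorem RS.tv_good (h : RS F₀ P ζ q) (M : Subgroup GLn)
    (hHM : Cfsg.Geo.subfieldSubgroup F₀ P ⊓
      (Cfsg.GU n F q ⊓ Cfsg.Geo.specialLinear (Fin n) F) ≤ M)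
    (u : Fin n → F) (hu : Rat F₀ P u) (c : F) (hc : c + c ^ q = 0) (t : GLn)
    (ht : t.1 = qrefl q u c) : Good F₀ P q M t := by
  have huu : hh u u = 0 := h.alt u hu
  have hiso : IsIsoMat q t.1 := by rw [ht]; exact qrefl_iso_skew h.hF u huu c hc
  have hdet : t.1.det = 1 := by rw [ht, det_qrefl', huu, mul_zero, add_zero]
  -- `c = a ζ` with `a ∈ F₀`
  have hzq : ζ ^ q = -ζ := by linear_combination h.hζ
  have hcq : c ^ q = -c := by linear_combination hc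
  have ha : c * ζ⁻¹ ∈ F₀ := by
    apply mem_of_pow_q h.hF F₀ h.hq
    rw [mul_pow, inv_pow, hzq, hcq]
    field_simp
  have hrat : ∀ v, Rat F₀ P v → Rat F₀ P (t.1 *ᵥ v) := by
    intro v hv
    rw [ht, qrefl_mulVec]
    refine rat_add hv (rat_smul ?_ hu)
    have : c * hh v u = (c * ζ⁻¹) * (ζ * hh v u) := by
      field_simp [h.hζ0]
    rw [this]
    exact F₀.mul_mem ha (h.val v u hv hu)
  refine ⟨hHM ⟨?_, (mem_GUSL_iff t).mpr ⟨hiso, hdet⟩⟩, hiso, hrat⟩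
  apply mem_subfield_of_rat t 1 one_ne_zero
  intro x hx
  rw [one_smul]
  exact hrat x hx

theorem RS.rat_mem_XM (h : RS F₀ P ζ q) (M : Subgroup GLn)
    (hHM : Cfsg.Geo.subfieldSubgroup F₀ P ⊓
      (Cfsg.GU n F q ⊓ Cfsg.Geo.specialLinear (Fin n) F) ≤ M)
    (u : Fin n → F) (hu : Rat F₀ P u) : u ∈ XM q M :=
  ⟨h.alt u hu, fun c hc t ht => (h.tv_good M hHM u hu c hc t ht).1⟩

/-- rational transvections with prescribed parameter -/
theorem RS.exists_rt (h : RS F₀ P ζ q) (M : Subgroup GLn)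
    (hHM : Cfsg.Geo.subfieldSubgroup F₀ P ⊓
      (Cfsg.GU n F q ⊓ Cfsg.Geo.specialLinear (Fin n) F) ≤ M)
    (u : Fin n → F) (hu : Rat F₀ P u) (a : F) (ha : a ∈ F₀) :
    ∃ t : GLn, Good F₀ P q M t ∧ ∀ x, t.1 *ᵥ x = x + (a * (ζ * hh x u)) • u := by
  have hc : a * ζ + (a * ζ) ^ q = 0 := skew_mul_fix a ζ (h.fix ha) h.hζ
  have hiso : IsIsoMat q (qrefl q u (a * ζ)) := qrefl_iso_skew h.hF u (h.alt u hu) _ hc
  refine ⟨(hiso.isUnit h.hF).unit, h.tv_good M hHM u hu _ hc _ rfl, ?_⟩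
  intro x
  show qrefl q u (a * ζ) *ᵥ x = _
  rw [qrefl_mulVec]
  congr 2
  ring

/-- moving a rational vector to a non-orthogonal rational vector by one rational transvection -/
theorem RS.move1 (h : RS F₀ P ζ q) (M : Subgroup GLn)
    (hHM : Cfsg.Geo.subfieldSubgroup F₀ P ⊓
      (Cfsg.GU n F q ⊓ Cfsg.Geo.specialLinear (Fin n) F) ≤ M)
    (x x' : Fin n → F) (hx : Rat F₀ P x) (hx' : Rat F₀ P x') (hne : hh x x' ≠ 0) :
    ∃ t : GLn, Good F₀ P q M t ∧ t.1 *ᵥ x = x' ∧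
      ∀ v, hh v x = 0 → hh v x' = 0 → t.1 *ᵥ v = v := by
  have hb : ζ * hh x x' ∈ F₀ := h.val x x' hx hx'
  have hb0 : ζ * hh x x' ≠ 0 := mul_ne_zero h.hζ0 hne
  obtain ⟨t, htG, ht⟩ := h.exists_rt M hHM (x' - x) (rat_sub hx' hx) (ζ * hh x x')⁻¹
    (F₀.inv_mem hb)
  refine ⟨t, htG, ?_, ?_⟩
  · rw [ht, hform_sub_right h.hF, h.alt x hx, sub_zero, inv_mul_cancel₀ hb0, one_smul]
    abel
  · intro v hv hv'
    rw [ht, hform_sub_right h.hF, hv, hv', sub_zero, mul_zero, mul_zero, zero_smul, add_zero]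

/-- the rational transvections are transitive on non-zero rational vectors -/
theorem RS.move (h : RS F₀ P ζ q) (M : Subgroup GLn)
    (hHM : Cfsg.Geo.subfieldSubgroup F₀ P ⊓
      (Cfsg.GU n F q ⊓ Cfsg.Geo.specialLinear (Fin n) F) ≤ M)
    (x x' : Fin n → F) (hx : Rat F₀ P x) (hx' : Rat F₀ P x') (hx0 : x ≠ 0) (hx'0 : x' ≠ 0) :
    ∃ t : GLn, Good F₀ P q M t ∧ t.1 *ᵥ x = x' := by
  by_cases hne : hh x x' = 0
  · obtain ⟨w, hw, h1, h2⟩ := h.exists_conn x x' hx0 hx'0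
    obtain ⟨t₁, ht₁, e₁, _⟩ := h.move1 M hHM x w hx hw h1
    obtain ⟨t₂, ht₂, e₂, _⟩ := h.move1 M hHM w x' hw hx' h2
    refine ⟨t₂ * t₁, ht₂.mul ht₁, ?_⟩
    rw [gl_mul_act', e₁, e₂]
  · obtain ⟨t, ht, e, _⟩ := h.move1 M hHM x x' hx hx' hne
    exact ⟨t, ht, e⟩

/-- a rational vector orthogonal to `x` but not to `y`, when `y` is not a rational multiple of `x` -/
theorem RS.exists_perp (h : RS F₀ P ζ q) (x y : Fin n → F) (hx : Rat F₀ P x) (hy : Rat F₀ P y)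
    (hx0 : x ≠ 0) (hyne : ∀ a ∈ F₀, y ≠ a • x) :
    ∃ z, Rat F₀ P z ∧ hh x z = 0 ∧ hh y z ≠ 0 := by
  obtain ⟨w, hw, hxw⟩ := h.exists_ne_right x hx0
  have hb : ζ * hh x w ∈ F₀ := h.val x w hx hw
  have hb0 : ζ * hh x w ≠ 0 := mul_ne_zero h.hζ0 hxw
  set w' : Fin n → F := (ζ * hh x w)⁻¹ • w with hw'
  have hw'r : Rat F₀ P w' := rat_smul (F₀.inv_mem hb) hw
  have hxw' : ζ * hh x w' = 1 := by
    rw [hw', h.smul_right (F₀.inv_mem hb)]
    have : ζ * ((ζ * hh x w)⁻¹ * hh x w) = (ζ * hh x w)⁻¹ * (ζ * hh x w) := by ring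
    rw [this, inv_mul_cancel₀ hb0]
  by_contra hcon
  push Not at hcon
  set β : F := ζ * hh y w' with hβ
  have hβm : β ∈ F₀ := h.val y w' hy hw'r
  apply hyne β hβm
  rw [← sub_eq_zero]
  apply h.nondeg_right
  intro v hv
  have hcv : ζ * hh x v ∈ F₀ := h.val x v hx hv
  set z : Fin n → F := v - (ζ * hh x v) • w' with hz
  have hzr : Rat F₀ P z := rat_sub hv (rat_smul hcv hw'r)
  have hxz : hh x z = 0 := by
    have : ζ * hh x z = 0 := by
      rw [hz, hform_sub_right h.hF, h.smul_right hcv]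
      linear_combination (-(ζ * hh x v)) * hxw'
    rcases mul_eq_zero.mp this with h0 | h0
    · exact absurd h0 h.hζ0
    · exact h0
  have hyz := hcon z hzr hxz
  rw [hz, hform_sub_right h.hF, h.smul_right hcv] at hyz
  rw [hform_sub_left, hform_smul_left, hβ]
  linear_combination hyz

/-- moving `y` to `y'` inside the perp of `x` by rational transvections fixing `x` -/
theorem RS.move2 (h : RS F₀ P ζ q) (M : Subgroup GLn)
    (hHM : Cfsg.Geo.subfieldSubgroup F₀ P ⊓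
      (Cfsg.GU n F q ⊓ Cfsg.Geo.specialLinear (Fin n) F) ≤ M)
    (x y y' : Fin n → F) (hx : Rat F₀ P x) (hy : Rat F₀ P y) (hy' : Rat F₀ P y')
    (hx0 : x ≠ 0) (hxy : hh x y = 0) (hxy' : hh x y' = 0)
    (hyne : ∀ a ∈ F₀, y ≠ a • x) (hy'ne : ∀ a ∈ F₀, y' ≠ a • x) :
    ∃ t : GLn, Good F₀ P q M t ∧ t.1 *ᵥ x = x ∧ t.1 *ᵥ y = y' := by
  by_cases hne : hh y y' = 0
  · -- find an intermediate `z`
    have hz : ∃ z, Rat F₀ P z ∧ hh x z = 0 ∧ hh y z ≠ 0 ∧ hh z y' ≠ 0 := by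
      obtain ⟨z₁, hz₁, h11, h12⟩ := h.exists_perp x y hx hy hx0 hyne
      obtain ⟨z₂, hz₂, h21, h22'⟩ := h.exists_perp x y' hx hy' hx0 hy'ne
      have h22 : hh z₂ y' ≠ 0 := hh_ne_symm h.hF h22'
      by_cases h3 : hh z₁ y' = 0
      · by_cases h4 : hh y z₂ = 0
        · refine ⟨z₁ + z₂, rat_add hz₁ hz₂, ?_, ?_, ?_⟩
          · rw [hform_add_right h.hF, h11, h21, add_zero]
          · rw [hform_add_right h.hF, h4, add_zero]; exact h12
          · rw [hform_add_left, h3, zero_add]; exact h22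
        · exact ⟨z₂, hz₂, h21, h4, h22⟩
      · exact ⟨z₁, hz₁, h11, h12, h3⟩
    obtain ⟨z, hzr, hxz, hyz, hzy'⟩ := hz
    obtain ⟨t₁, ht₁, e₁, f₁⟩ := h.move1 M hHM y z hy hzr hyz
    obtain ⟨t₂, ht₂, e₂, f₂⟩ := h.move1 M hHM z y' hzr hy' hzy'
    refine ⟨t₂ * t₁, ht₂.mul ht₁, ?_, ?_⟩
    · rw [gl_mul_act', f₁ x hxy hxz, f₂ x hxz hxy']
    · rw [gl_mul_act', e₁, e₂]
  · obtain ⟨t, ht, e, f⟩ := h.move1 M hHM y y' hy hy' hne
    exact ⟨t, ht, f x hxy hxy', e⟩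

/-- transitivity on pairs of independent orthogonal rational vectors -/
theorem RS.move_pair (h : RS F₀ P ζ q) (M : Subgroup GLn)
    (hHM : Cfsg.Geo.subfieldSubgroup F₀ P ⊓
      (Cfsg.GU n F q ⊓ Cfsg.Geo.specialLinear (Fin n) F) ≤ M)
    (x y x' y' : Fin n → F) (hx : Rat F₀ P x) (hy : Rat F₀ P y) (hx' : Rat F₀ P x')
    (hy' : Rat F₀ P y') (hx0 : x ≠ 0) (hx'0 : x' ≠ 0) (hxy : hh x y = 0) (hx'y' : hh x' y' = 0)
    (hyne : ∀ a ∈ F₀, y ≠ a • x) (hy'ne : ∀ a ∈ F₀, y' ≠ a • x') :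
    ∃ t : GLn, Good F₀ P q M t ∧ t.1 *ᵥ x = x' ∧ t.1 *ᵥ y = y' := by
  obtain ⟨t₁, ht₁, e₁⟩ := h.move M hHM x x' hx hx' hx0 hx'0
  set y₁ : Fin n → F := t₁.1 *ᵥ y with hy₁
  have hy₁r : Rat F₀ P y₁ := ht₁.2.2 y hy
  have hx'y₁ : hh x' y₁ = 0 := by rw [← e₁, hy₁, ht₁.2.1, hxy]
  have hy₁ne : ∀ a ∈ F₀, y₁ ≠ a • x' := by
    intro a ha he
    apply hyne a ha
    have h1 : t₁⁻¹.1 *ᵥ y₁ = t₁⁻¹.1 *ᵥ (a • x') := by rw [he]
    rw [hy₁, gl_inv_act', ← e₁, Matrix.mulVec_smul, gl_inv_act'] at h1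
    exact h1
  obtain ⟨t₂, ht₂, e₂, e₃⟩ := h.move2 M hHM x' y₁ y' hx' hy₁r hy' hx'0 hx'y₁ hx'y' hy₁ne hy'ne
  refine ⟨t₂ * t₁, ht₂.mul ht₁, ?_, ?_⟩
  · rw [gl_mul_act', e₁, e₂]
  · rw [gl_mul_act', ← hy₁, e₃]

end form

end Cfsg.Agent.Lib.Helper61.SubfieldSU
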