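import Mathlib
import Cfsg.Prelude.Def_GeometricClasses
import Cfsg.Agent.Lib.Helper51.SUMax1
import Cfsg.Agent.Lib.Helper61.SubfieldSUC

/-!
Subfield subgroups of `SU_n(q)` of symplectic type are maximal: every proper overgroup moves a
rational point to a non-rational isotropic point, and the rational transvections are transitive on
those.
-/

set_option autoImplicit false
set_option linter.unusedSectionVars false
set_option linter.unusedVariables false

namespace Cfsg.Agent.Lib.Helper61.SubfieldSU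

open Matrix Cfsg.Agent.Lib.Helper08 Cfsg.Agent.Lib.Helper51

section main
variable {F : Type*} [Field F] [Fintype F] {q n : ℕ}

local notation "GLn" => Matrix.GeneralLinearGroup (Fin n) F
local notation "hh" => hform (Fin n) F q

variable {F₀ : Subfield F} {P : Matrix.GeneralLinearGroup (Fin n) F} {ζ : F}

/-- comparing the scalars attached to two non-orthogonal rational vectors -/
theorem RS.ratio (h : RS F₀ P ζ q) (g : GLn) (hg : IsIsoMat q g.1) (x y : Fin n → F)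
    (hx : Rat F₀ P x) (hy : Rat F₀ P y) (hxy : hh x y ≠ 0) (cx cy : F) (hcx : cx ≠ 0)
    (hcy : cy ≠ 0) (hrx : Rat F₀ P (cx • g.1 *ᵥ x)) (hry : Rat F₀ P (cy • g.1 *ᵥ y)) :
    Rat F₀ P (cx • g.1 *ᵥ y) := by
  have hA : ζ * hh (cx • g.1 *ᵥ x) (cy • g.1 *ᵥ y) ∈ F₀ := h.val _ _ hrx hry
  have hB : ζ * hh x y ∈ F₀ := h.val x y hx hy
  have hB0 : ζ * hh x y ≠ 0 := mul_ne_zero h.hζ0 hxy
  have hAB : ζ * hh (cx • g.1 *ᵥ x) (cy • g.1 *ᵥ y) = (cx * cy ^ q) * (ζ * hh x y) := by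
    rw [hform_smul_left, hform_smul_right, hg]
    ring
  have h1 : cx * cy ^ q ∈ F₀ := by
    have : cx * cy ^ q = (ζ * hh (cx • g.1 *ᵥ x) (cy • g.1 *ᵥ y)) / (ζ * hh x y) := by
      rw [hAB, mul_div_assoc, div_self hB0, mul_one]
    rw [this]
    exact F₀.div_mem hA hB
  have hN : cy * cy ^ q ∈ F₀ := norm_mem h.hF F₀ h.hq cy
  have hN0 : cy * cy ^ q ≠ 0 := mul_ne_zero hcy (pow_ne_zero _ hcy)
  have h2 : cx / cy ∈ F₀ := by
    have : cx / cy = (cx * cy ^ q) / (cy * cy ^ q) := by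
      have hcyq : cy ^ q ≠ 0 := pow_ne_zero _ hcy
      field_simp
    rw [this]
    exact F₀.div_mem h1 hN
  have h3 : cx • g.1 *ᵥ y = (cx / cy) • (cy • g.1 *ᵥ y) := by
    rw [smul_smul, div_mul_cancel₀ _ hcy]
  rw [h3]
  exact rat_smul h2 hry

theorem col_ne_zero (P : Matrix.GeneralLinearGroup (Fin n) F) (j : Fin n) :
    P.1 *ᵥ Pi.single j 1 ≠ 0 := by
  intro h0
  have h1 : P⁻¹.1 *ᵥ (P.1 *ᵥ Pi.single j 1) = (Pi.single j 1 : Fin n → F) := gl_inv_act' P _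
  rw [h0, Matrix.mulVec_zero] at h1
  have h2 := congrFun h1 j
  rw [Pi.single_eq_same] at h2
  exact zero_ne_one h2

/-- an isometry mapping rational points to rational points does so with a uniform scalar -/
theorem RS.uniform (h : RS F₀ P ζ q) (hn : 0 < n) (g : GLn) (hg : IsIsoMat q g.1)
    (hgr : ∀ x, Rat F₀ P x → ∃ c : F, c ≠ 0 ∧ Rat F₀ P (c • g.1 *ᵥ x)) :
    ∃ c : F, c ≠ 0 ∧ ∀ x, Rat F₀ P x → Rat F₀ P (c • g.1 *ᵥ x) := by
  classical
  set x₀ : Fin n → F := P.1 *ᵥ Pi.single ⟨0, hn⟩ 1 with hx₀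
  have hx₀r : Rat F₀ P x₀ := rat_col _
  have hx₀0 : x₀ ≠ 0 := col_ne_zero P _
  obtain ⟨c₀, hc₀, hr₀⟩ := hgr x₀ hx₀r
  refine ⟨c₀, hc₀, ?_⟩
  intro x hx
  by_cases hx0 : x = 0
  · rw [hx0, Matrix.mulVec_zero, smul_zero]; exact rat_zero
  by_cases hne : hh x₀ x = 0
  · obtain ⟨w, hw, h1, h2⟩ := h.exists_conn x₀ x hx₀0 hx0
    obtain ⟨cw, hcw, hrw⟩ := hgr w hw
    have hw' : Rat F₀ P (c₀ • g.1 *ᵥ w) := h.ratio g hg x₀ w hx₀r hw h1 c₀ cw hc₀ hcw hr₀ hrw
    obtain ⟨cx, hcx, hrx⟩ := hgr x hx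
    exact h.ratio g hg w x hw hx h2 c₀ cx hc₀ hcx hw' hrx
  · obtain ⟨cx, hcx, hrx⟩ := hgr x hx
    exact h.ratio g hg x₀ x hx₀r hx hne c₀ cx hc₀ hcx hr₀ hrx

/-- an element of `SU` outside the subfield subgroup moves some rational point off the rational
points -/
theorem RS.exists_moved (h : RS F₀ P ζ q) (hn : 0 < n) (g : GLn) (hg : IsIsoMat q g.1)
    (hgH : g ∉ Cfsg.Geo.subfieldSubgroup F₀ P) :
    ∃ w, Rat F₀ P w ∧ ∀ c : F, c ≠ 0 → ¬ Rat F₀ P (c • g.1 *ᵥ w) := by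
  by_contra hcon
  push Not at hcon
  obtain ⟨c, hc, hall⟩ := h.uniform hn g hg hcon
  exact hgH (mem_subfield_of_rat g c hc hall)

/-- decomposition of a vector along `F = F₀ ⊕ θ F₀` -/
theorem exists_decomp_vec (hF : Fintype.card F = q ^ 2) (hq : Nat.card F₀ = q)
    (θ : F) (hθ : θ ∉ F₀) (v : Fin n → F) :
    ∃ x y, Rat F₀ P x ∧ Rat F₀ P y ∧ v = x + θ • y := by
  classical
  set u : Fin n → F := P⁻¹.1 *ᵥ v with hu
  have hd : ∀ i, ∃ a b : F, a ∈ F₀ ∧ b ∈ F₀ ∧ u i = a + θ * b :=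
    fun i => exists_decomp hF F₀ hq θ hθ (u i)
  choose a b ha hb hab using hd
  refine ⟨P.1 *ᵥ a, P.1 *ᵥ b, ⟨a, ha, rfl⟩, ⟨b, hb, rfl⟩, ?_⟩
  have h1 : u = a + θ • b := by
    funext i
    rw [hab i]
    rfl
  have h2 : v = P.1 *ᵥ u := by rw [hu, gl_act_inv']
  rw [h2, h1, Matrix.mulVec_add, Matrix.mulVec_smul]

theorem RS.hh_decomp (h : RS F₀ P ζ q) (θ : F) (x y : Fin n → F) (hx : Rat F₀ P x)
    (hy : Rat F₀ P y) : hh (x + θ • y) (x + θ • y) = (θ ^ q - θ) * hh x y := by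
  rw [hform_add_left, hform_add_right h.hF, hform_add_right h.hF, hform_smul_left,
    hform_smul_left, hform_smul_right, hform_smul_right, h.alt x hx, h.alt y hy, h.skew hx hy]
  ring

/-- all isotropic vectors are centres of transvection subgroups of a proper overgroup -/
theorem RS.all_XM (h : RS F₀ P ζ q) (hn : 0 < n) (M : Subgroup GLn)
    (hMI : M ≤ Cfsg.GU n F q ⊓ Cfsg.Geo.specialLinear (Fin n) F)
    (hHM : Cfsg.Geo.subfieldSubgroup F₀ P ⊓
      (Cfsg.GU n F q ⊓ Cfsg.Geo.specialLinear (Fin n) F) ≤ M)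
    (g : GLn) (hgM : g ∈ M) (hgH : g ∉ Cfsg.Geo.subfieldSubgroup F₀ P)
    (z : Fin n → F) (hz : hh z z = 0) : z ∈ XM q M := by
  have hF := h.hF
  have hgiso : IsIsoMat q g.1 := ((mem_GUSL_iff g).mp (hMI hgM)).1
  obtain ⟨θ, hθ⟩ := exists_not_mem hF F₀ h.hq
  have hθq : θ ^ q - θ ≠ 0 := pow_q_ne hF F₀ h.hq θ hθ
  obtain ⟨w, hw, hwn⟩ := h.exists_moved hn g hgiso hgH
  have hz₀X : g.1 *ᵥ w ∈ XM q M := XM_act hF M g hgM hgiso w (h.rat_mem_XM M hHM w hw)
  obtain ⟨x, y, hx, hy, hxy⟩ := exists_decomp_vec (P := P) hF h.hq θ hθ (g.1 *ᵥ w)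
  -- `x, y` are independent and orthogonal
  have hxy0 : hh x y = 0 := by
    have h1 := hz₀X.1
    rw [hxy, h.hh_decomp θ x y hx hy] at h1
    rcases mul_eq_zero.mp h1 with h0 | h0
    · exact absurd h0 hθq
    · exact h0
  have hθ0 : θ ≠ 0 := fun h0 => hθ (h0 ▸ F₀.zero_mem)
  have hx0 : x ≠ 0 := by
    intro h0
    apply hwn θ⁻¹ (inv_ne_zero hθ0)
    rw [hxy, h0, zero_add, smul_smul, inv_mul_cancel₀ hθ0, one_smul]
    exact hy
  have hyne : ∀ a ∈ F₀, y ≠ a • x := by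
    intro a ha he
    have h1 : (1 + θ * a) ≠ 0 := by
      intro h0
      have ha0 : a ≠ 0 := by
        intro h00
        rw [h00, mul_zero, add_zero] at h0
        exact one_ne_zero h0
      apply hθ
      have : θ = -a⁻¹ := by
        field_simp
        linear_combination h0
      rw [this]
      exact F₀.neg_mem (F₀.inv_mem ha)
    apply hwn (1 + θ * a)⁻¹ (inv_ne_zero h1)
    have h2 : g.1 *ᵥ w = (1 + θ * a) • x := by
      rw [hxy, he, smul_smul, add_smul, one_smul]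
    rw [h2, smul_smul, inv_mul_cancel₀ h1, one_smul]
    exact hx
  -- now an arbitrary isotropic `z`
  obtain ⟨x', y', hx', hy', hz'⟩ := exists_decomp_vec (P := P) hF h.hq θ hθ z
  have hx'y' : hh x' y' = 0 := by
    have h1 := hz
    rw [hz', h.hh_decomp θ x' y' hx' hy'] at h1
    rcases mul_eq_zero.mp h1 with h0 | h0
    · exact absurd h0 hθq
    · exact h0
  by_cases hx'0 : x' = 0
  · rw [hz', hx'0, zero_add]
    exact XM_smul hF M θ y' (h.rat_mem_XM M hHM y' hy')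
  by_cases hy'ne : ∀ a ∈ F₀, y' ≠ a • x'
  · obtain ⟨t, ht, e₁, e₂⟩ := h.move_pair M hHM x y x' y' hx hy hx' hy' hx0 hx'0 hxy0 hx'y'
      hyne hy'ne
    have h1 := XM_act hF M t ht.1 ht.2.1 _ hz₀X
    rw [hxy, Matrix.mulVec_add, Matrix.mulVec_smul, e₁, e₂, ← hz'] at h1
    exact h1
  · push Not at hy'ne
    obtain ⟨a, ha, he⟩ := hy'ne
    have h2 : z = (1 + θ * a) • x' := by
      rw [hz', he, smul_smul, add_smul, one_smul]
    rw [h2]
    exact XM_smul hF M _ x' (h.rat_mem_XM M hHM x' hx')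

/-- a vector which is not proportional to a rational vector -/
theorem nonrat_of_coords (θ : F) (hθ : θ ∉ F₀) (ξ η : Fin n → F) (i j : Fin n)
    (h1 : ξ i = 1) (h2 : η i = 0) (h3 : ξ j = 0) (h4 : η j = 1) (c : F) (hc : c ≠ 0) :
    ¬ Rat F₀ P (c • (P.1 *ᵥ ξ + θ • P.1 *ᵥ η)) := by
  rintro ⟨u, hu, he⟩
  have h5 : c • ξ + (c * θ) • η = u := by
    have h6 : P.1 *ᵥ (c • ξ + (c * θ) • η) = P.1 *ᵥ u := by
      rw [← he, Matrix.mulVec_add, Matrix.mulVec_smul, Matrix.mulVec_smul, smul_add, smul_smul]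
    have h7 := congrArg (fun v => P⁻¹.1 *ᵥ v) h6
    simp only [gl_inv_act'] at h7
    exact h7
  have hi := congrFun h5 i
  have hj := congrFun h5 j
  simp only [Pi.add_apply, Pi.smul_apply, smul_eq_mul, h1, h2, h3, h4, mul_one, mul_zero,
    add_zero, zero_add] at hi hj
  apply hθ
  have : θ = (u j) / (u i) := by
    rw [← hi, ← hj]
    field_simp
  rw [this]
  exact F₀.div_mem (hu j) (hu i)

/-- the subfield subgroup does not contain `SU` -/
theorem RS.exists_not_mem (h : RS F₀ P ζ q) (hn : 3 ≤ n) :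
    ∃ g : GLn, g ∈ Cfsg.GU n F q ⊓ Cfsg.Geo.specialLinear (Fin n) F ∧
      g ∉ Cfsg.Geo.subfieldSubgroup F₀ P := by
  classical
  have hF := h.hF
  obtain ⟨θ, hθ⟩ := SubfieldSU.exists_not_mem hF F₀ h.hq
  have hθq : θ ^ q - θ ≠ 0 := pow_q_ne hF F₀ h.hq θ hθ
  let i0 : Fin n := ⟨0, by omega⟩
  let i1 : Fin n := ⟨1, by omega⟩
  let i2 : Fin n := ⟨2, by omega⟩
  have h01 : i0 ≠ i1 := by intro h; simpa [i0, i1] using congrArg Fin.val h
  have h02 : i0 ≠ i2 := by intro h; simpa [i0, i2] using congrArg Fin.val h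
  have h12 : i1 ≠ i2 := by intro h; simpa [i1, i2] using congrArg Fin.val h
  set x : Fin n → F := P.1 *ᵥ Pi.single i0 1 with hx
  have hxr : Rat F₀ P x := rat_col _
  have hx0 : x ≠ 0 := col_ne_zero P _
  have hxx : hh x x = 0 := h.alt x hxr
  -- a rational `η` with `η i0 = 0`, `η j = 1`, `hh x (P η) = 0`
  have key : ∃ (η : Fin n → F) (j : Fin n), (∀ k, η k ∈ F₀) ∧ η i0 = 0 ∧ η j = 1 ∧ j ≠ i0 ∧
      hh x (P.1 *ᵥ η) = 0 := by
    by_cases hc : hh x (P.1 *ᵥ Pi.single i1 1) = 0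
    · refine ⟨Pi.single i1 1, i1, ?_, ?_, ?_, h01.symm, hc⟩
      · intro k
        by_cases hk : k = i1
        · subst hk; rw [Pi.single_eq_same]; exact F₀.one_mem
        · rw [Pi.single_eq_of_ne hk]; exact F₀.zero_mem
      · rw [Pi.single_eq_of_ne h01]
      · rw [Pi.single_eq_same]
    · set b1 : F := ζ * hh x (P.1 *ᵥ Pi.single i1 1) with hb1
      set b2 : F := ζ * hh x (P.1 *ᵥ Pi.single i2 1) with hb2
      have hb1m : b1 ∈ F₀ := h.val _ _ hxr (rat_col _)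
      have hb2m : b2 ∈ F₀ := h.val _ _ hxr (rat_col _)
      have hb10 : b1 ≠ 0 := mul_ne_zero h.hζ0 hc
      have hcm : b2 / b1 ∈ F₀ := F₀.div_mem hb2m hb1m
      refine ⟨Pi.single i2 1 - (b2 / b1) • Pi.single i1 1, i2, ?_, ?_, ?_, h02.symm, ?_⟩
      · intro k
        apply F₀.sub_mem
        · by_cases hk : k = i2
          · subst hk; rw [Pi.single_eq_same]; exact F₀.one_mem
          · rw [Pi.single_eq_of_ne hk]; exact F₀.zero_mem
        · show (b2 / b1) * (Pi.single i1 1 : Fin n → F) k ∈ F₀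
          apply F₀.mul_mem hcm
          by_cases hk : k = i1
          · subst hk; rw [Pi.single_eq_same]; exact F₀.one_mem
          · rw [Pi.single_eq_of_ne hk]; exact F₀.zero_mem
      · simp [Pi.single_eq_of_ne h02, Pi.single_eq_of_ne h01]
      · simp [Pi.single_eq_of_ne h12.symm]
      · rw [Matrix.mulVec_sub, Matrix.mulVec_smul, hform_sub_right hF, h.smul_right hcm]
        have : ζ * (hh x (P.1 *ᵥ Pi.single i2 1) -
            b2 / b1 * hh x (P.1 *ᵥ Pi.single i1 1)) = 0 := by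
          rw [mul_sub]
          have e1 : ζ * (b2 / b1 * hh x (P.1 *ᵥ Pi.single i1 1)) = b2 / b1 * b1 := by
            rw [hb1]; ring
          rw [e1, div_mul_cancel₀ _ hb10, hb2, sub_self]
        rcases mul_eq_zero.mp this with h0 | h0
        · exact absurd h0 h.hζ0
        · exact h0
  obtain ⟨η, j, hη, hη0, hηj, hj0, hxη⟩ := key
  set y : Fin n → F := P.1 *ᵥ η with hy
  have hyr : Rat F₀ P y := ⟨η, hη, rfl⟩
  set z : Fin n → F := x + θ • y with hz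
  have hzz : hh z z = 0 := by
    rw [hz, h.hh_decomp θ x y hxr hyr, hxη, mul_zero]
  have hznr : ∀ c : F, c ≠ 0 → ¬ Rat F₀ P (c • z) := by
    intro c hc
    exact nonrat_of_coords θ hθ (Pi.single i0 1) η i0 j (Pi.single_eq_same _ _) hη0
      (Pi.single_eq_of_ne hj0 _) hηj c hc
  have hz0 : z ≠ 0 := by
    intro h0
    apply hznr 1 one_ne_zero
    rw [h0, smul_zero]
    exact rat_zero
  obtain ⟨M0, hM0, hdet, hM0x⟩ := exists_SU_map hF hn x z hx0 hz0 hxx hzz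
  refine ⟨(hM0.isUnit hF).unit, (mem_GUSL_iff _).mpr ⟨hM0, hdet⟩, fun hmem => ?_⟩
  obtain ⟨c, hc, hr⟩ := rat_of_mem_subfield _ hmem x hxr
  have h2 : ((hM0.isUnit hF).unit : GLn).1 *ᵥ x = z := hM0x
  rw [h2] at hr
  exact hznr c hc hr

/-- **Maximality** of the symplectic-type subfield subgroup of `SU_n(q)`. -/
theorem RS.isMaximalIn (h : RS F₀ P ζ q) (hn : 4 ≤ n) :
    Cfsg.Geo.IsMaximalIn (Cfsg.GU n F q ⊓ Cfsg.Geo.specialLinear (Fin n) F)
      (Cfsg.Geo.subfieldSubgroup F₀ P ⊓ (Cfsg.GU n F q ⊓ Cfsg.Geo.specialLinear (Fin n) F)) := by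
  have h32 : ¬ (n = 3 ∧ q = 2) := by omega
  refine ⟨lt_of_le_of_ne inf_le_right ?_, ?_⟩
  · intro heq
    obtain ⟨g, hg, hgs⟩ := h.exists_not_mem (by omega)
    rw [← heq] at hg
    exact hgs hg.1
  · intro M hHM hMI
    by_cases hMH : M = Cfsg.Geo.subfieldSubgroup F₀ P ⊓
        (Cfsg.GU n F q ⊓ Cfsg.Geo.specialLinear (Fin n) F)
    · exact Or.inl hMH
    right
    have : ∃ g ∈ M, g ∉ Cfsg.Geo.subfieldSubgroup F₀ P ⊓
        (Cfsg.GU n F q ⊓ Cfsg.Geo.specialLinear (Fin n) F) := by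
      by_contra hcon
      push Not at hcon
      exact hMH (le_antisymm hcon hHM)
    obtain ⟨g, hgM, hgP⟩ := this
    have hgs : g ∉ Cfsg.Geo.subfieldSubgroup F₀ P := fun hs => hgP ⟨hs, hMI hgM⟩
    exact le_antisymm hMI (le_of_XM h.hF h32 M
      (fun z hz => h.all_XM (by omega) M hMI hHM g hgM hgs z hz))

end main

end Cfsg.Agent.Lib.Helper61.SubfieldSU
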