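import Mathlib
import Cfsg.Prelude.Def_GeometricClasses
import Cfsg.Agent.Lib.Helper51.SUMax1
import Cfsg.Agent.Lib.Helper61.SubfieldSUD

/-!
Subfield subgroups of `SU_n(q)` of orthogonal type (`q` odd, subfield of index two): the
symmetric form on the rational structure `P • F₀ⁿ`, basic geometry.
-/

set_option autoImplicit false
set_option linter.unusedSectionVars false
set_option linter.unusedVariables false

namespace Cfsg.Agent.Lib.Helper61.SubfieldSO

open Matrix Cfsg.Agent.Lib.Helper08 Cfsg.Agent.Lib.Helper51 Cfsg.Agent.Lib.Helper61.SubfieldSU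
open scoped Pointwise

section form
variable {F : Type*} [Field F] [Fintype F] {q n : ℕ}

local notation "GLn" => Matrix.GeneralLinearGroup (Fin n) F
local notation "hh" => hform (Fin n) F q

/-- the data of an orthogonal-type rational structure for the hermitian form -/
structure RO (F₀ : Subfield F) (P : Matrix.GeneralLinearGroup (Fin n) F) (q : ℕ) : Prop where
  hF : Fintype.card F = q ^ 2
  hq : Nat.card F₀ = q
  hodd : Odd q
  val : ∀ x y, Rat F₀ P x → Rat F₀ P y → hform (Fin n) F q x y ∈ F₀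

variable {F₀ : Subfield F} {P : Matrix.GeneralLinearGroup (Fin n) F}

theorem RO.fix (h : RO F₀ P q) {a : F} (ha : a ∈ F₀) : a ^ q = a := pow_q_of_mem F₀ h.hq ha

theorem RO.two_ne (h : RO F₀ P q) : (2 : F) ≠ 0 := by
  intro h2
  have hchar : ringChar F = 2 := CharP.ringChar_of_prime_eq_zero Nat.prime_two h2
  have h3 := FiniteField.even_card_of_char_two hchar
  rw [h.hF] at h3
  have h4 : Odd (q ^ 2) := h.hodd.pow
  rw [Nat.odd_iff] at h4
  omega

theorem RO.two_mem (h : RO F₀ P q) : (2 : F) ∈ F₀ := by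
  have : (2 : F) = 1 + 1 := by norm_num
  rw [this]
  exact F₀.add_mem F₀.one_mem F₀.one_mem

theorem RO.symm (h : RO F₀ P q) {x y : Fin n → F} (hx : Rat F₀ P x) (hy : Rat F₀ P y) :
    hh y x = hh x y := by
  rw [← hform_conj h.hF, h.fix (h.val x y hx hy)]

theorem RO.smul_right (h : RO F₀ P q) {a : F} (ha : a ∈ F₀) (x y : Fin n → F) :
    hh x (a • y) = a * hh x y := by
  rw [hform_smul_right, h.fix ha]

theorem RO.nondeg_left (h : RO F₀ P q) (x : Fin n → F)
    (hx : ∀ y, Rat F₀ P y → hh y x = 0) : x = 0 := by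
  classical
  let w : Fin n → F := fun i => x i ^ q
  have h1 : ∀ y : Fin n → F, hh y x = y ⬝ᵥ w := fun y => rfl
  have h2 : w ᵥ* P.1 = 0 := by
    funext j
    have h3 := hx _ (rat_col (F₀ := F₀) (P := P) j)
    rw [h1, dotProduct_comm, Matrix.dotProduct_mulVec, dotProduct_single, mul_one] at h3
    exact h3
  have h4 : w = 0 := by
    have : (w ᵥ* P.1) ᵥ* P⁻¹.1 = w := by
      rw [Matrix.vecMul_vecMul, ← Units.val_mul, mul_inv_cancel, Units.val_one, Matrix.vecMul_one]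
    rw [← this, h2, Matrix.zero_vecMul]
  funext i
  have h5 : w i = 0 := by rw [h4]; rfl
  exact pow_eq_zero_iff (q_ne_zero' h.hF) |>.mp h5

theorem RO.nondeg_right (h : RO F₀ P q) (x : Fin n → F)
    (hx : ∀ y, Rat F₀ P y → hh x y = 0) : x = 0 :=
  h.nondeg_left x (fun y hy => hh_zero_symm h.hF (hx y hy))

theorem RO.exists_ne_right (h : RO F₀ P q) (x : Fin n → F) (hx0 : x ≠ 0) :
    ∃ y, Rat F₀ P y ∧ hh x y ≠ 0 := by
  by_contra hcon
  push Not at hcon
  exact hx0 (h.nondeg_right x hcon)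

theorem RO.exists_ne_left (h : RO F₀ P q) (x : Fin n → F) (hx0 : x ≠ 0) :
    ∃ y, Rat F₀ P y ∧ hh y x ≠ 0 := by
  obtain ⟨y, hy, hxy⟩ := h.exists_ne_right x hx0
  exact ⟨y, hy, hh_ne_symm h.hF hxy⟩

theorem RO.exists_conn (h : RO F₀ P q) (x x' : Fin n → F) (hx0 : x ≠ 0) (hx'0 : x' ≠ 0) :
    ∃ w, Rat F₀ P w ∧ hh x w ≠ 0 ∧ hh w x' ≠ 0 := by
  obtain ⟨w₁, hw₁, h1⟩ := h.exists_ne_right x hx0
  obtain ⟨w₂, hw₂, h2'⟩ := h.exists_ne_right x' hx'0
  have h2 : hh w₂ x' ≠ 0 := hh_ne_symm h.hF h2'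
  by_cases h3 : hh w₁ x' = 0
  · by_cases h4 : hh x w₂ = 0
    · refine ⟨w₁ + w₂, rat_add hw₁ hw₂, ?_, ?_⟩
      · rw [hform_add_right h.hF, h4, add_zero]; exact h1
      · rw [hform_add_left, h3, zero_add]; exact h2
    · exact ⟨w₂, hw₂, h4, h2⟩
  · exact ⟨w₁, hw₁, h1, h3⟩

/-- a rational vector orthogonal to `x` but not to `y`, when `y` is not a rational multiple of `x` -/
theorem RO.exists_perp (h : RO F₀ P q) (x y : Fin n → F) (hx : Rat F₀ P x) (hy : Rat F₀ P y)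
    (hx0 : x ≠ 0) (hyne : ∀ a ∈ F₀, y ≠ a • x) :
    ∃ z, Rat F₀ P z ∧ hh x z = 0 ∧ hh y z ≠ 0 := by
  obtain ⟨w, hw, hxw⟩ := h.exists_ne_right x hx0
  have hb : hh x w ∈ F₀ := h.val x w hx hw
  set w' : Fin n → F := (hh x w)⁻¹ • w with hw'
  have hw'r : Rat F₀ P w' := rat_smul (F₀.inv_mem hb) hw
  have hxw' : hh x w' = 1 := by
    rw [hw', h.smul_right (F₀.inv_mem hb), inv_mul_cancel₀ hxw]
  by_contra hcon
  push Not at hcon
  set β : F := hh y w' with hβ
  have hβm : β ∈ F₀ := h.val y w' hy hw'r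
  apply hyne β hβm
  rw [← sub_eq_zero]
  apply h.nondeg_right
  intro v hv
  have hcv : hh x v ∈ F₀ := h.val x v hx hv
  set z : Fin n → F := v - (hh x v) • w' with hz
  have hzr : Rat F₀ P z := rat_sub hv (rat_smul hcv hw'r)
  have hxz : hh x z = 0 := by
    rw [hz, hform_sub_right h.hF, h.smul_right hcv, hxw', mul_one, sub_self]
  have hyz := hcon z hzr hxz
  rw [hz, hform_sub_right h.hF, h.smul_right hcv] at hyz
  rw [hform_sub_left, hform_smul_left, hβ]
  linear_combination hyz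

/-- uniform version of `rat_of_mem_subfield` -/
theorem rat_of_mem_subfield_unif (g : GLn) (hg : g ∈ Cfsg.Geo.subfieldSubgroup F₀ P) :
    ∃ c : F, c ≠ 0 ∧ ∀ x, Rat F₀ P x → Rat F₀ P (c • g.1 *ᵥ x) := by
  classical
  haveI := scalars_normal (F := F) (n := n)
  obtain ⟨k, hk, rfl⟩ := hg
  have hk' : k ∈ (((Matrix.GeneralLinearGroup.map (n := Fin n) (F₀.subtype : F₀ →+* F)).range :
      Subgroup GLn) : Set GLn) * ((Cfsg.Geo.scalars (Fin n) F : Subgroup GLn) : Set GLn) := by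
    rw [← Subgroup.mul_normal]; exact hk
  obtain ⟨a, ⟨g₀, rfl⟩, s, hs, rfl⟩ := hk'
  obtain ⟨d, hd⟩ := (Cfsg.Geo.mem_scalars_iff s).mp hs
  refine ⟨(d : F)⁻¹, inv_ne_zero d.ne_zero, ?_⟩
  rintro x ⟨u, hu, rfl⟩
  refine ⟨(Matrix.GeneralLinearGroup.map (F₀.subtype : F₀ →+* F) g₀).1 *ᵥ u, ?_, ?_⟩
  · intro i
    rw [Matrix.mulVec, dotProduct]
    apply F₀.sum_mem
    intro j _
    rw [Matrix.GeneralLinearGroup.map_apply]
    exact F₀.mul_mem (g₀.1 i j).2 (hu j)
  · show (d : F)⁻¹ • (MulAut.conj P (Matrix.GeneralLinearGroup.map (F₀.subtype : F₀ →+* F) g₀ * s)).1 *ᵥ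
      (P.1 *ᵥ u) = _
    rw [MulAut.conj_apply, gl_mul_act', gl_inv_act', gl_mul_act', gl_mul_act', hd,
      Matrix.smul_mulVec, Matrix.one_mulVec, Matrix.mulVec_smul, Matrix.mulVec_smul, smul_smul,
      inv_mul_cancel₀ d.ne_zero, one_smul]

/-- a scalar mapping a non-zero rational vector to a rational vector is rational -/
theorem mem_of_smul_rat {b : Fin n → F} (hb : Rat F₀ P b) (hb0 : b ≠ 0) {c : F}
    (hcb : Rat F₀ P (c • b)) : c ∈ F₀ := by
  obtain ⟨u, hu, rfl⟩ := hb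
  obtain ⟨u', hu', he⟩ := hcb
  have h1 : c • u = u' := by
    have h6 : P.1 *ᵥ (c • u) = P.1 *ᵥ u' := by rw [Matrix.mulVec_smul, he]
    have h7 := congrArg (fun v => P⁻¹.1 *ᵥ v) h6
    simp only [gl_inv_act'] at h7
    exact h7
  have hu0 : u ≠ 0 := by
    intro h0
    apply hb0
    rw [h0, Matrix.mulVec_zero]
  obtain ⟨i, hi⟩ := Function.ne_iff.mp hu0
  have h2 := congrFun h1 i
  simp only [Pi.smul_apply, smul_eq_mul, Pi.zero_apply] at h2 hi
  have : c = u' i / u i := by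
    rw [← h2]; field_simp
  rw [this]
  exact F₀.div_mem (hu' i) (hu i)

/-- uniqueness of the decomposition `X + θ Y` -/
theorem rat_decomp_unique {θ : F} (hθ : θ ∉ F₀) {X Y : Fin n → F} (hX : Rat F₀ P X)
    (hY : Rat F₀ P Y) (hXY : Rat F₀ P (X + θ • Y)) : Y = 0 := by
  obtain ⟨u, hu, rfl⟩ := hX
  obtain ⟨v, hv, rfl⟩ := hY
  obtain ⟨w, hw, he⟩ := hXY
  have h1 : u + θ • v = w := by
    have h6 : P.1 *ᵥ (u + θ • v) = P.1 *ᵥ w := by
      rw [Matrix.mulVec_add, Matrix.mulVec_smul, he]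
    have h7 := congrArg (fun v => P⁻¹.1 *ᵥ v) h6
    simp only [gl_inv_act'] at h7
    exact h7
  have hv0 : v = 0 := by
    funext i
    by_contra hvi
    have hvi' : v i ≠ 0 := hvi
    have h2 := congrFun h1 i
    simp only [Pi.add_apply, Pi.smul_apply, smul_eq_mul] at h2
    apply hθ
    have : θ = (w i - u i) / v i := by
      rw [← h2]; field_simp; ring
    rw [this]
    exact F₀.div_mem (F₀.sub_mem (hw i) (hu i)) (hv i)
  rw [hv0, Matrix.mulVec_zero]

/-- `a + θ c = 0` with `a, c ∈ F₀` forces `a = c = 0` -/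
theorem decomp_zero {θ : F} (hθ : θ ∉ F₀) {a c : F} (ha : a ∈ F₀) (hc : c ∈ F₀)
    (h0 : a + θ * c = 0) : a = 0 ∧ c = 0 := by
  have hc0 : c = 0 := by
    by_contra hc0
    apply hθ
    have : θ = -a / c := by
      field_simp
      linear_combination h0
    rw [this]
    exact F₀.div_mem (F₀.neg_mem ha) hc
  refine ⟨?_, hc0⟩
  rw [hc0, mul_zero, add_zero] at h0
  exact h0

/-- a non-zero element `θ` with `θ^q = -θ`; it lies outside `F₀` -/
theorem RO.exists_theta (h : RO F₀ P q) : ∃ θ : F, θ ≠ 0 ∧ θ ^ q = -θ ∧ θ ∉ F₀ := by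
  obtain ⟨s, hs0, hs⟩ := exists_skew_ne_zero h.hF (F := F)
  have hsq : s ^ q = -s := skew_pow s hs
  refine ⟨s, hs0, hsq, fun hmem => ?_⟩
  have h1 := h.fix hmem
  rw [hsq] at h1
  have h2 : (2 : F) * s = 0 := by linear_combination -h1
  rcases mul_eq_zero.mp h2 with h3 | h3
  · exact h.two_ne h3
  · exact hs0 h3

theorem theta_sq_mem (h : RO F₀ P q) {θ : F} (hθq : θ ^ q = -θ) : θ * θ ∈ F₀ := by
  apply mem_of_pow_q h.hF F₀ h.hq
  rw [mul_pow, hθq]
  ring

/-- the hermitian form in terms of the decomposition `X + θ Y` -/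
theorem RO.hh_decomp (h : RO F₀ P q) {θ : F} (hθq : θ ^ q = -θ) (X Y X' Y' : Fin n → F) :
    hh (X + θ • Y) (X' + θ • Y') =
      hh X X' - θ * hh X Y' + θ * hh Y X' - θ * θ * hh Y Y' := by
  rw [hform_add_left, hform_add_right h.hF, hform_add_right h.hF, hform_smul_left,
    hform_smul_left, hform_smul_right, hform_smul_right, hθq]
  ring

theorem RO.hh_decomp_self (h : RO F₀ P q) {θ : F} (hθq : θ ^ q = -θ) {X Y : Fin n → F}
    (hX : Rat F₀ P X) (hY : Rat F₀ P Y) :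
    hh (X + θ • Y) (X + θ • Y) = hh X X - θ * θ * hh Y Y := by
  rw [h.hh_decomp hθq, h.symm hX hY]
  ring

end form

end Cfsg.Agent.Lib.Helper61.SubfieldSO
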