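import Mathlib
import Cfsg.Prelude.Def_GeometricClasses
import Cfsg.Agent.Lib.Helper51.SUMax1
import Cfsg.Agent.Lib.Helper11.OrthMaxA
import Cfsg.Agent.Lib.Helper61.SubfieldSOA

/-!
Orthogonal-type rational structures: the induced quadratic form over the subfield, existence of
rational vectors of prescribed norm, rational singular vectors with prescribed pairings.
-/

set_option autoImplicit false
set_option linter.unusedSectionVars false
set_option linter.unusedVariables false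

namespace Cfsg.Agent.Lib.Helper61.SubfieldSO

open Matrix Cfsg.Agent.Lib.Helper08 Cfsg.Agent.Lib.Helper51 Cfsg.Agent.Lib.Helper61.SubfieldSU

section geo
variable {F : Type*} [Field F] [Fintype F] {q n : ℕ}

local notation "GLn" => Matrix.GeneralLinearGroup (Fin n) F
local notation "hh" => hform (Fin n) F q

variable {F₀ : Subfield F} {P : Matrix.GeneralLinearGroup (Fin n) F}

/-- the rational vector with given `F₀`-coordinates -/
def toV (P : Matrix.GeneralLinearGroup (Fin n) F) (u : Fin n → F₀) : Fin n → F :=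
  P.1 *ᵥ (fun i => (u i : F))

theorem rat_toV (u : Fin n → F₀) : Rat F₀ P (toV P u) := ⟨fun i => (u i : F), fun i => (u i).2, rfl⟩

theorem exists_toV {x : Fin n → F} (hx : Rat F₀ P x) : ∃ u : Fin n → F₀, x = toV P u := by
  obtain ⟨u, hu, rfl⟩ := hx
  exact ⟨fun i => ⟨u i, hu i⟩, rfl⟩

theorem toV_add (u v : Fin n → F₀) : toV P (u + v) = toV P u + toV P v := by
  unfold toV
  rw [← Matrix.mulVec_add]
  congr 1

theorem toV_smul (c : F₀) (u : Fin n → F₀) : toV P (c • u) = (c : F) • toV P u := by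
  unfold toV
  rw [← Matrix.mulVec_smul]
  congr 1

theorem toV_ne_zero {u : Fin n → F₀} (hu : u ≠ 0) : toV P u ≠ 0 := by
  intro h0
  apply hu
  have h1 : P⁻¹.1 *ᵥ (toV P u) = (fun i => (u i : F)) := gl_inv_act' P _
  rw [h0, Matrix.mulVec_zero] at h1
  funext i
  have h2 := congrFun h1 i
  apply Subtype.ext
  exact h2.symm

/-- the quadratic form over `F₀` -/
def Q0 (h : RO F₀ P q) (u : Fin n → F₀) : F₀ :=
  ⟨hform (Fin n) F q (toV P u) (toV P u), h.val _ _ (rat_toV u) (rat_toV u)⟩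

theorem polar_Q0 (h : RO F₀ P q) (u v : Fin n → F₀) :
    ((QuadraticMap.polar (Q0 h) u v : F₀) : F) = 2 * hh (toV P u) (toV P v) := by
  unfold QuadraticMap.polar Q0
  simp only [Subfield.coe_sub]
  rw [toV_add, hform_add_left, hform_add_right h.hF, hform_add_right h.hF,
    h.symm (rat_toV u) (rat_toV v)]
  ring

theorem Q0_nondeg (h : RO F₀ P q) : Cfsg.Geo.IsNondegenerateQuadraticForm (Q0 h) := by
  refine ⟨?_, ⟨?_, ?_, ?_, ?_⟩, ?_⟩
  · intro c v
    apply Subtype.ext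
    show hh (toV P (c • v)) (toV P (c • v)) = ((c ^ 2 * Q0 h v : F₀) : F)
    rw [toV_smul, hform_smul_left, hform_smul_right, h.fix c.2]
    simp only [Subfield.coe_mul, SubmonoidClass.coe_pow]
    show _ = (c : F) ^ 2 * hh (toV P v) (toV P v)
    ring
  · intro x y v
    apply Subtype.ext
    simp only [Subfield.coe_add]
    rw [polar_Q0, polar_Q0, polar_Q0, toV_add, hform_add_left]
    ring
  · intro c x v
    apply Subtype.ext
    simp only [Subfield.coe_mul]
    rw [polar_Q0, polar_Q0, toV_smul, hform_smul_left]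
    ring
  · intro v x y
    apply Subtype.ext
    simp only [Subfield.coe_add]
    rw [polar_Q0, polar_Q0, polar_Q0, toV_add, hform_add_right h.hF]
    ring
  · intro c v x
    apply Subtype.ext
    simp only [Subfield.coe_mul]
    rw [polar_Q0, polar_Q0, toV_smul, h.smul_right c.2]
    ring
  · intro v hv
    obtain ⟨y, hy, hvy⟩ := h.exists_ne_right _ (toV_ne_zero (P := P) hv)
    obtain ⟨x, rfl⟩ := exists_toV hy
    have h2 := h.two_ne
    refine ⟨⟨x, fun h0 => ?_⟩, ⟨x, fun h0 => ?_⟩⟩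
    · have h1 := polar_Q0 h x v
      rw [h0, ← h.symm (rat_toV x) (rat_toV v)] at h1
      simp only [ZeroMemClass.coe_zero] at h1
      exact (mul_ne_zero h2 hvy) h1.symm
    · have h1 := polar_Q0 h v x
      rw [h0] at h1
      simp only [ZeroMemClass.coe_zero] at h1
      exact (mul_ne_zero h2 hvy) h1.symm

/-- a rational vector of prescribed norm orthogonal to a family of rational vectors -/
theorem RO.exists_norm (h : RO F₀ P q) {κ : Type} [Fintype κ] (s : κ → Fin n → F)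
    (hs : ∀ i, Rat F₀ P (s i)) (hκ : 2 * (Fintype.card κ + 1) < n) (ν : F) (hν : ν ∈ F₀) :
    ∃ w, Rat F₀ P w ∧ hh w w = ν ∧ ∀ i, hh (s i) w = 0 := by
  classical
  haveI : Fintype F₀ := Fintype.ofFinite F₀
  have hodd : Odd (Fintype.card F₀) := by
    rw [← Nat.card_eq_fintype_card, h.hq]; exact h.hodd
  choose u hu using fun i => exists_toV (hs i)
  obtain ⟨w, hw, hws⟩ := Cfsg.Agent.Lib.Helper11.OrthMax.exists_orth_norm (Q0_nondeg h) hodd u
    (by rw [Fintype.card_fin]; exact hκ) ⟨ν, hν⟩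
  refine ⟨toV P w, rat_toV w, ?_, fun i => ?_⟩
  · have := congrArg (fun z : F₀ => (z : F)) hw
    exact this
  · have h1 := polar_Q0 h (u i) w
    rw [hws i] at h1
    simp only [ZeroMemClass.coe_zero] at h1
    rw [hu i]
    rcases mul_eq_zero.mp h1.symm with h3 | h3
    · exact absurd h3 h.two_ne
    · exact h3

theorem rat_option {κ : Type} (s : κ → Fin n → F) (hs : ∀ i, Rat F₀ P (s i)) (z : Fin n → F)
    (hz : Rat F₀ P z) : ∀ o : Option κ, Rat F₀ P (o.elim z s) := by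
  intro o
  cases o with
  | none => exact hz
  | some i => exact hs i

/-- adjusting a rational vector to a singular one with the same pairings -/
theorem RO.exists_sing_adjust (h : RO F₀ P q) {κ : Type} [Fintype κ] (s : κ → Fin n → F)
    (hs : ∀ i, Rat F₀ P (s i)) (z : Fin n → F) (hz : Rat F₀ P z)
    (hκ : 2 * (Fintype.card κ + 2) < n) :
    ∃ d, Rat F₀ P d ∧ hh d d = 0 ∧ ∀ i, hh (s i) d = hh (s i) z := by
  obtain ⟨w, hw, hww, hws⟩ := h.exists_norm (fun o : Option κ => o.elim z s)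
    (rat_option s hs z hz) (by rw [Fintype.card_option]; omega) (- hh z z)
    (F₀.neg_mem (h.val z z hz hz))
  have hzw : hh z w = 0 := hws none
  have hsw : ∀ i, hh (s i) w = 0 := fun i => hws (some i)
  refine ⟨z + w, rat_add hz hw, ?_, fun i => ?_⟩
  · rw [hform_add_left, hform_add_right h.hF, hform_add_right h.hF, hww, hzw, h.symm hz hw, hzw]
    ring
  · rw [hform_add_right h.hF, hsw i, add_zero]

/-- a non-zero rational singular vector orthogonal to a family of rational vectors -/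
theorem RO.exists_sing_perp (h : RO F₀ P q) {κ : Type} [Fintype κ] (s : κ → Fin n → F)
    (hs : ∀ i, Rat F₀ P (s i)) (hκ : 2 * (Fintype.card κ + 2) < n) :
    ∃ b, Rat F₀ P b ∧ b ≠ 0 ∧ hh b b = 0 ∧ ∀ i, hh (s i) b = 0 := by
  obtain ⟨w₁, hw₁, hw₁w₁, hw₁s⟩ := h.exists_norm s hs (by omega) 1 F₀.one_mem
  obtain ⟨w₂, hw₂, hw₂w₂, hw₂s⟩ := h.exists_norm (fun o : Option κ => o.elim w₁ s)
    (rat_option s hs w₁ hw₁) (by rw [Fintype.card_option]; omega) (-1)
    (F₀.neg_mem F₀.one_mem)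
  have h12 : hh w₁ w₂ = 0 := hw₂s none
  have hsw₂ : ∀ i, hh (s i) w₂ = 0 := fun i => hw₂s (some i)
  refine ⟨w₁ + w₂, rat_add hw₁ hw₂, ?_, ?_, fun i => ?_⟩
  · intro h0
    have h1 : hh w₁ (w₁ + w₂) = 1 := by rw [hform_add_right h.hF, hw₁w₁, h12, add_zero]
    rw [h0, hh_zero_right h.hF] at h1
    exact zero_ne_one h1
  · rw [hform_add_left, hform_add_right h.hF, hform_add_right h.hF, hw₁w₁, hw₂w₂, h12,
      h.symm hw₁ hw₂, h12]
    ring
  · rw [hform_add_right h.hF, hw₁s i, hsw₂ i, add_zero]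

/-- a rational singular partner of a rational singular vector -/
theorem RO.exists_partner (h : RO F₀ P q) (b : Fin n → F) (hb : Rat F₀ P b) (hb0 : b ≠ 0)
    (hbb : hh b b = 0) :
    ∃ b', Rat F₀ P b' ∧ hh b' b' = 0 ∧ hh b b' = 1 ∧ hh b' b = 1 := by
  obtain ⟨w', hw'r, hbw'⟩ : ∃ w', Rat F₀ P w' ∧ hh b w' = 1 := by
    obtain ⟨w, hw, hbw⟩ := h.exists_ne_right b hb0
    have hc : hh b w ∈ F₀ := h.val b w hb hw
    refine ⟨(hh b w)⁻¹ • w, rat_smul (F₀.inv_mem hc) hw, ?_⟩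
    rw [h.smul_right (F₀.inv_mem hc), inv_mul_cancel₀ hbw]
  have hw'b : hh w' b = 1 := by rw [h.symm hb hw'r, hbw']
  have h2 := h.two_ne
  obtain ⟨c, hcm, hc'⟩ : ∃ c : F, c ∈ F₀ ∧ c = hh w' w' / 2 :=
    ⟨_, F₀.div_mem (h.val w' w' hw'r hw'r) h.two_mem, rfl⟩
  have hb'r : Rat F₀ P (w' - c • b) := rat_sub hw'r (rat_smul hcm hb)
  have e1 : hh b (w' - c • b) = 1 := by
    rw [hform_sub_right h.hF, h.smul_right hcm, hbb, mul_zero, sub_zero, hbw']
  refine ⟨w' - c • b, hb'r, ?_, e1, ?_⟩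
  · rw [hform_sub_left, hform_sub_right h.hF, hform_sub_right h.hF, hform_smul_left,
      hform_smul_left, h.smul_right hcm, h.smul_right hcm, hbb, hbw', hw'b, hc']
    field_simp
    ring
  · rw [h.symm hb hb'r, e1]

/-- a rational singular vector pairing to `1` with two independent rational vectors -/
theorem RO.exists_sing_11 (h : RO F₀ P q) (hn : 8 < n) (b b₁ : Fin n → F) (hb : Rat F₀ P b)
    (hb₁ : Rat F₀ P b₁) (hb0 : b ≠ 0) (hne : ∀ a ∈ F₀, b₁ ≠ a • b) :
    ∃ u, Rat F₀ P u ∧ hh u u = 0 ∧ hh u b = 1 ∧ hh u b₁ = 1 := by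
  have hb₁0 : b₁ ≠ 0 := by
    intro h0
    apply hne 0 F₀.zero_mem
    rw [h0, zero_smul]
  have hne' : ∀ a ∈ F₀, b ≠ a • b₁ := by
    intro a ha he
    have ha0 : a ≠ 0 := by
      intro h0
      rw [h0, zero_smul] at he
      exact hb0 he
    apply hne a⁻¹ (F₀.inv_mem ha)
    rw [he, smul_smul, inv_mul_cancel₀ ha0, one_smul]
  obtain ⟨z₁, hz₁, h11, h12⟩ := h.exists_perp b b₁ hb hb₁ hb0 hne
  obtain ⟨z₂, hz₂, h21, h22⟩ := h.exists_perp b₁ b hb₁ hb hb₁0 hne'
  have hc1 : hh b₁ z₁ ∈ F₀ := h.val _ _ hb₁ hz₁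
  have hc2 : hh b z₂ ∈ F₀ := h.val _ _ hb hz₂
  set z : Fin n → F := (hh b z₂)⁻¹ • z₂ + (hh b₁ z₁)⁻¹ • z₁ with hz
  have hzr : Rat F₀ P z :=
    rat_add (rat_smul (F₀.inv_mem hc2) hz₂) (rat_smul (F₀.inv_mem hc1) hz₁)
  have e1 : hh b z = 1 := by
    rw [hz, hform_add_right h.hF, h.smul_right (F₀.inv_mem hc2), h.smul_right (F₀.inv_mem hc1),
      h11, mul_zero, add_zero, inv_mul_cancel₀ h22]
  have e2 : hh b₁ z = 1 := by
    rw [hz, hform_add_right h.hF, h.smul_right (F₀.inv_mem hc2), h.smul_right (F₀.inv_mem hc1),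
      h21, mul_zero, zero_add, inv_mul_cancel₀ h12]
  obtain ⟨d, hd, hdd, hds⟩ := h.exists_sing_adjust (fun i : Fin 2 => if i = 0 then b else b₁)
    (by intro i; by_cases hi : i = 0 <;> simp [hi, hb, hb₁]) z hzr
    (by rw [Fintype.card_fin]; omega)
  have f1 : hh b d = 1 := by
    have := hds 0
    simpa [e1] using this
  have f2 : hh b₁ d = 1 := by
    have := hds 1
    simpa [e2] using this
  exact ⟨d, hd, hdd, by rw [h.symm hb hd, f1], by rw [h.symm hb₁ hd, f2]⟩

/-- a rational singular vector orthogonal to `X` but not to `Y` -/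
theorem RO.exists_sing_sep (h : RO F₀ P q) (hn : 8 < n) (X Y : Fin n → F) (hX : Rat F₀ P X)
    (hY : Rat F₀ P Y) (hX0 : X ≠ 0) (hne : ∀ a ∈ F₀, Y ≠ a • X) :
    ∃ u, Rat F₀ P u ∧ hh u u = 0 ∧ hh X u = 0 ∧ hh Y u ≠ 0 := by
  obtain ⟨z, hz, h1, h2⟩ := h.exists_perp X Y hX hY hX0 hne
  obtain ⟨d, hd, hdd, hds⟩ := h.exists_sing_adjust (fun i : Fin 2 => if i = 0 then X else Y)
    (by intro i; by_cases hi : i = 0 <;> simp [hi, hX, hY]) z hz
    (by rw [Fintype.card_fin]; omega)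
  have f1 : hh X d = 0 := by
    have := hds 0
    simpa [h1] using this
  have f2 : hh Y d = hh Y z := by
    have := hds 1
    simpa using this
  exact ⟨d, hd, hdd, f1, by rw [f2]; exact h2⟩

/-- a rational singular vector orthogonal to neither `X` nor `Y` -/
theorem RO.exists_sing_pair (h : RO F₀ P q) (hn : 8 < n) (X Y : Fin n → F) (hX : Rat F₀ P X)
    (hY : Rat F₀ P Y) (hX0 : X ≠ 0) (hY0 : Y ≠ 0) :
    ∃ u, Rat F₀ P u ∧ hh u u = 0 ∧ hh X u ≠ 0 ∧ hh Y u ≠ 0 := by
  obtain ⟨z, hz, h1, h2'⟩ := h.exists_conn X Y hX0 hY0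
  have h2 : hh Y z ≠ 0 := hh_ne_symm h.hF h2'
  obtain ⟨d, hd, hdd, hds⟩ := h.exists_sing_adjust (fun i : Fin 2 => if i = 0 then X else Y)
    (by intro i; by_cases hi : i = 0 <;> simp [hi, hX, hY]) z hz
    (by rw [Fintype.card_fin]; omega)
  have f1 : hh X d = hh X z := by
    have := hds 0
    simpa using this
  have f2 : hh Y d = hh Y z := by
    have := hds 1
    simpa using this
  exact ⟨d, hd, hdd, by rw [f1]; exact h1, by rw [f2]; exact h2⟩

end geo

end Cfsg.Agent.Lib.Helper61.SubfieldSO
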