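import Mathlib
import Cfsg.Prelude.Def_GeometricClasses
import Cfsg.Agent.Lib.Helper51.SUMax1
import Cfsg.Agent.Lib.Helper51.SUGen8
import Cfsg.Agent.Lib.Helper61.SubfieldSOB

/-!
Orthogonal-type rational structures: rational Eichler transformations, identities between
Eichler transformations and transvections, the rational torus.
-/

set_option autoImplicit false
set_option linter.unusedSectionVars false
set_option linter.unusedVariables false

namespace Cfsg.Agent.Lib.Helper61.SubfieldSO

open Matrix Cfsg.Agent.Lib.Helper08 Cfsg.Agent.Lib.Helper51 Cfsg.Agent.Lib.Helper61.SubfieldSU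

section eich
variable {F : Type*} [Field F] [Fintype F] {q n : ℕ}

local notation "GLn" => Matrix.GeneralLinearGroup (Fin n) F
local notation "hh" => hform (Fin n) F q

variable {F₀ : Subfield F} {P : Matrix.GeneralLinearGroup (Fin n) F}

/-- elements of `SU` preserving the rational structure lie in the subfield subgroup -/
theorem mem_H_of_rat (t : GLn) (hiso : IsIsoMat q t.1) (hdet : t.1.det = 1)
    (hrat : ∀ v, Rat F₀ P v → Rat F₀ P (t.1 *ᵥ v)) :
    t ∈ Cfsg.Geo.subfieldSubgroup F₀ P ⊓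
      (Cfsg.GU n F q ⊓ Cfsg.Geo.specialLinear (Fin n) F) := by
  refine ⟨?_, (mem_GUSL_iff t).mpr ⟨hiso, hdet⟩⟩
  apply mem_subfield_of_rat t 1 one_ne_zero
  intro x hx
  rw [one_smul]
  exact hrat x hx

/-- rational Eichler transformations are in `H` -/
theorem RO.eich_good (h : RO F₀ P q) (M : Subgroup GLn)
    (hHM : Cfsg.Geo.subfieldSubgroup F₀ P ⊓
      (Cfsg.GU n F q ⊓ Cfsg.Geo.specialLinear (Fin n) F) ≤ M)
    (u y : Fin n → F) (hu : Rat F₀ P u) (hy : Rat F₀ P y) (huu : hh u u = 0) (huy : hh u y = 0)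
    (α : F) (hα : α ∈ F₀) (hαy : α + α + hh y y = 0) (t : GLn) (ht : t.1 = eichler q u y α) :
    Good F₀ P q M t := by
  have hiso : IsIsoMat q t.1 := by
    rw [ht]
    exact eichler_iso h.hF u y α huu huy (by rw [h.fix hα]; exact hαy)
  have hdet : t.1.det = 1 := by rw [ht]; exact eichler_det h.hF u y α huu huy
  have hrat : ∀ v, Rat F₀ P v → Rat F₀ P (t.1 *ᵥ v) := by
    intro v hv
    rw [ht, eichler_mulVec h.hF u y α huu huy]
    exact rat_sub (rat_add hv (rat_smul (h.val v u hv hu) (rat_add hy (rat_smul hα hu))))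
      (rat_smul (h.val v y hv hy) hu)
  exact ⟨hHM (mem_H_of_rat t hiso hdet hrat), hiso, hrat⟩

theorem RO.exists_eich (h : RO F₀ P q) (M : Subgroup GLn)
    (hHM : Cfsg.Geo.subfieldSubgroup F₀ P ⊓
      (Cfsg.GU n F q ⊓ Cfsg.Geo.specialLinear (Fin n) F) ≤ M)
    (u y : Fin n → F) (hu : Rat F₀ P u) (hy : Rat F₀ P y) (huu : hh u u = 0) (huy : hh u y = 0)
    (α : F) (hα : α ∈ F₀) (hαy : α + α + hh y y = 0) :
    ∃ t : GLn, Good F₀ P q M t ∧ t.1 = eichler q u y α := by
  have hiso : IsIsoMat q (eichler q u y α) :=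
    eichler_iso h.hF u y α huu huy (by rw [h.fix hα]; exact hαy)
  exact ⟨(hiso.isUnit h.hF).unit, h.eich_good M hHM u y hu hy huu huy α hα hαy _ rfl, rfl⟩

/-- the parameter `-Q(y)/2` -/
theorem RO.exists_alpha (h : RO F₀ P q) (y : Fin n → F) (hy : Rat F₀ P y) :
    ∃ α : F, α ∈ F₀ ∧ α + α + hh y y = 0 := by
  refine ⟨-(hh y y) / 2, F₀.div_mem (F₀.neg_mem (h.val y y hy hy)) h.two_mem, ?_⟩
  have := h.two_ne
  field_simp
  ring

/-- conjugating an Eichler transformation by an isometry -/
theorem eichler_conj (hF : Fintype.card F = q ^ 2) (g : Matrix (Fin n) (Fin n) F)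
    (hg : IsIsoMat q g) (u y : Fin n → F) (α : F) (huu : hh u u = 0) (huy : hh u y = 0) :
    g * eichler q u y α = eichler q (g *ᵥ u) (g *ᵥ y) α * g := by
  apply mat_ext_mulVec
  intro x
  rw [← Matrix.mulVec_mulVec, ← Matrix.mulVec_mulVec, eichler_mulVec hF u y α huu huy,
    eichler_mulVec hF (g *ᵥ u) (g *ᵥ y) α (by rw [hg]; exact huu) (by rw [hg]; exact huy),
    hg, hg]
  simp only [Matrix.mulVec_add, Matrix.mulVec_sub, Matrix.mulVec_smul]

/-- commutator of two Eichler transformations with the same singular vector -/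
theorem eichler_comm (hF : Fintype.card F = q ^ 2) (b v v' : Fin n → F) (α α' : F)
    (hbb : hh b b = 0) (hbv : hh b v = 0) (hbv' : hh b v' = 0) :
    eichler q b v α * eichler q b v' α' =
      qrefl q b (hh v v' - hh v' v) * (eichler q b v' α' * eichler q b v α) := by
  have hvb : hh v b = 0 := hh_zero_symm hF hbv
  have hv'b : hh v' b = 0 := hh_zero_symm hF hbv'
  apply mat_ext_mulVec
  intro x
  simp only [← Matrix.mulVec_mulVec, eichler_mulVec hF b v α hbb hbv,
    eichler_mulVec hF b v' α' hbb hbv', qrefl_mulVec]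
  simp only [hform_add_left, hform_sub_left, hform_smul_left, hbb, hbv, hbv', hvb, hv'b]
  funext i
  simp only [Pi.add_apply, Pi.sub_apply, Pi.smul_apply, smul_eq_mul]
  ring

/-- shifting the vector of an Eichler transformation along its singular vector -/
theorem eichler_shift (hF : Fintype.card F = q ^ 2) (b y : Fin n → F) (c α : F)
    (hbb : hh b b = 0) (hby : hh b y = 0) :
    eichler q b (y + c • b) α = qrefl q b (c - c ^ q) * eichler q b y α := by
  have hyb : hh y b = 0 := hh_zero_symm hF hby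
  have hby' : hh b (y + c • b) = 0 := by
    rw [hform_add_right hF, hform_smul_right, hbb, hby, mul_zero, add_zero]
  apply mat_ext_mulVec
  intro x
  simp only [← Matrix.mulVec_mulVec, eichler_mulVec hF b y α hbb hby,
    eichler_mulVec hF b (y + c • b) α hbb hby', qrefl_mulVec]
  simp only [hform_add_left, hform_sub_left, hform_smul_left, hform_add_right hF,
    hform_smul_right, hbb, hyb]
  funext i
  simp only [Pi.add_apply, Pi.sub_apply, Pi.smul_apply, smul_eq_mul]
  ring

/-- the torus element `b ↦ μ b`, `b' ↦ μ⁻¹ b'` -/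
def torus (q : ℕ) (b b' : Fin n → F) (μ : F) : Matrix (Fin n) (Fin n) F :=
  rk1 q ((μ⁻¹ - 1) • b') b * rk1 q ((μ - 1) • b) b'

theorem torus_mulVec (b b' : Fin n → F) (μ : F) (hbb : hh b b = 0) (x : Fin n → F) :
    torus q b b' μ *ᵥ x = x + ((μ - 1) * hh x b') • b + ((μ⁻¹ - 1) * hh x b) • b' := by
  unfold torus
  rw [← Matrix.mulVec_mulVec, rk1_mulVec, rk1_mulVec, hform_add_left, hform_smul_left,
    hform_smul_left, hbb, mul_zero, mul_zero, add_zero, smul_smul, smul_smul, mul_comm (hh x b'),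
    mul_comm (hh x b)]

theorem torus_det (b b' : Fin n → F) (μ : F) (hμ : μ ≠ 0) (hbb' : hh b b' = 1)
    (hb'b : hh b' b = 1) : (torus q b b' μ).det = 1 := by
  unfold torus
  rw [Matrix.det_mul, det_rk1, det_rk1, hform_smul_left, hform_smul_left, hbb', hb'b]
  field_simp
  ring

theorem torus_iso (hF : Fintype.card F = q ^ 2) (b b' : Fin n → F) (μ : F) (hμ : μ ≠ 0)
    (hμq : μ ^ q = μ) (hbb : hh b b = 0) (hb'b' : hh b' b' = 0) (hbb' : hh b b' = 1)
    (hb'b : hh b' b = 1) : IsIsoMat q (torus q b b' μ) := by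
  intro x y
  rw [torus_mulVec b b' μ hbb, torus_mulVec b b' μ hbb]
  have e1 : hh b y = (hh y b) ^ q := (hform_conj hF y b).symm
  have e2 : hh b' y = (hh y b') ^ q := (hform_conj hF y b').symm
  have e3 : (μ⁻¹) ^ q = μ⁻¹ := by rw [inv_pow, hμq]
  simp only [hform_add_left, hform_add_right hF, hform_smul_left, hform_smul_right, hbb, hb'b',
    hbb', hb'b, e1, e2, mul_pow, sub_pow_q hF, hμq, e3, one_pow]
  field_simp
  ring

end eich

end Cfsg.Agent.Lib.Helper61.SubfieldSO
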