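import Mathlib
import Cfsg.Prelude.Def_GeometricClasses
import Cfsg.Agent.Lib.Helper51.SUMax1
import Cfsg.Agent.Lib.Helper51.SUGen8
import Cfsg.Agent.Lib.Helper61.SubfieldSOC

/-!
Orthogonal-type rational structures: an isometry outside the subfield subgroup moves a rational
singular vector off the rational points; a proper overgroup contains an element outside the
subfield subgroup fixing a rational singular vector.
-/

set_option autoImplicit false
set_option linter.unusedSectionVars false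
set_option linter.unusedVariables false

namespace Cfsg.Agent.Lib.Helper61.SubfieldSO

open Matrix Cfsg.Agent.Lib.Helper08 Cfsg.Agent.Lib.Helper51 Cfsg.Agent.Lib.Helper61.SubfieldSU

section moved
variable {F : Type*} [Field F] [Fintype F] {q n : ℕ}

local notation "GLn" => Matrix.GeneralLinearGroup (Fin n) F
local notation "hh" => hform (Fin n) F q

variable {F₀ : Subfield F} {P : Matrix.GeneralLinearGroup (Fin n) F}

/-- comparing the scalars attached to two non-orthogonal rational vectors -/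
theorem RO.ratio (h : RO F₀ P q) (g : GLn) (hg : IsIsoMat q g.1) (x y : Fin n → F)
    (hx : Rat F₀ P x) (hy : Rat F₀ P y) (hxy : hh x y ≠ 0) (cx cy : F) (hcx : cx ≠ 0)
    (hcy : cy ≠ 0) (hrx : Rat F₀ P (cx • g.1 *ᵥ x)) (hry : Rat F₀ P (cy • g.1 *ᵥ y)) :
    Rat F₀ P (cx • g.1 *ᵥ y) := by
  have hA : hh (cx • g.1 *ᵥ x) (cy • g.1 *ᵥ y) ∈ F₀ := h.val _ _ hrx hry
  have hB : hh x y ∈ F₀ := h.val x y hx hy
  have hAB : hh (cx • g.1 *ᵥ x) (cy • g.1 *ᵥ y) = (cx * cy ^ q) * hh x y := by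
    rw [hform_smul_left, hform_smul_right, hg]
    ring
  have h1 : cx * cy ^ q ∈ F₀ := by
    have : cx * cy ^ q = hh (cx • g.1 *ᵥ x) (cy • g.1 *ᵥ y) / hh x y := by
      rw [hAB, mul_div_assoc, div_self hxy, mul_one]
    rw [this]
    exact F₀.div_mem hA hB
  have hN : cy * cy ^ q ∈ F₀ := norm_mem h.hF F₀ h.hq cy
  have h2 : cx / cy ∈ F₀ := by
    have : cx / cy = (cx * cy ^ q) / (cy * cy ^ q) := by
      have hcyq : cy ^ q ≠ 0 := pow_ne_zero _ hcy
      field_simp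
    rw [this]
    exact F₀.div_mem h1 hN
  have h3 : cx • g.1 *ᵥ y = (cx / cy) • (cy • g.1 *ᵥ y) := by
    rw [smul_smul, div_mul_cancel₀ _ hcy]
  rw [h3]
  exact rat_smul h2 hry

/-- an isometry mapping rational singular points to rational points preserves the rational
structure up to a scalar -/
theorem RO.sing_uniform (h : RO F₀ P q) (hn : 4 < n) (g : GLn) (hg : IsIsoMat q g.1)
    (hgr : ∀ a, Rat F₀ P a → hh a a = 0 → ∃ c : F, c ≠ 0 ∧ Rat F₀ P (c • g.1 *ᵥ a)) :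
    ∃ c : F, c ≠ 0 ∧ ∀ x, Rat F₀ P x → Rat F₀ P (c • g.1 *ᵥ x) := by
  obtain ⟨a₀, ha₀, ha₀0, haa, -⟩ := h.exists_sing_perp (fun i : Fin 0 => (0 : Fin n → F))
    (fun i => i.elim0) (by rw [Fintype.card_fin]; omega)
  obtain ⟨b₀, hb₀, hbb, hab, hba⟩ := h.exists_partner a₀ ha₀ ha₀0 haa
  obtain ⟨c, hc, hca⟩ := hgr a₀ ha₀ haa
  obtain ⟨cb, hcb, hcbr⟩ := hgr b₀ hb₀ hbb
  have hcb' : Rat F₀ P (c • g.1 *ᵥ b₀) :=
    h.ratio g hg a₀ b₀ ha₀ hb₀ (by rw [hab]; exact one_ne_zero) c cb hc hcb hca hcbr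
  refine ⟨c, hc, ?_⟩
  have key : ∀ x', Rat F₀ P x' → hh x' a₀ = 0 → hh x' b₀ = 0 → Rat F₀ P (c • g.1 *ᵥ x') := by
    intro x' hx' h1 h2
    obtain ⟨γ, hγm, hγ⟩ : ∃ γ : F, γ ∈ F₀ ∧ γ + γ = hh x' x' := by
      refine ⟨hh x' x' / 2, F₀.div_mem (h.val _ _ hx' hx') h.two_mem, ?_⟩
      have := h.two_ne
      field_simp
      ring
    have h1' : hh a₀ x' = 0 := hh_zero_symm h.hF h1
    have h2' : hh b₀ x' = 0 := hh_zero_symm h.hF h2
    obtain ⟨s, hs, hsdef⟩ : ∃ s, Rat F₀ P s ∧ s = b₀ + x' - γ • a₀ :=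
      ⟨_, rat_sub (rat_add hb₀ hx') (rat_smul hγm ha₀), rfl⟩
    have hss : hh s s = 0 := by
      rw [hsdef]
      simp only [hform_add_left, hform_sub_left, hform_smul_left, hform_add_right h.hF,
        hform_sub_right h.hF, h.smul_right hγm, hbb, haa, hab, hba, h1, h2, h1', h2']
      linear_combination -hγ
    have has : hh a₀ s = 1 := by
      rw [hsdef]
      simp only [hform_add_right h.hF, hform_sub_right h.hF, h.smul_right hγm, haa, hab, h1']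
      ring
    obtain ⟨cs, hcs, hcsr⟩ := hgr s hs hss
    have hcs' : Rat F₀ P (c • g.1 *ᵥ s) :=
      h.ratio g hg a₀ s ha₀ hs (by rw [has]; exact one_ne_zero) c cs hc hcs hca hcsr
    have e : c • g.1 *ᵥ x' = c • g.1 *ᵥ s - c • g.1 *ᵥ b₀ + γ • (c • g.1 *ᵥ a₀) := by
      rw [hsdef]
      simp only [Matrix.mulVec_add, Matrix.mulVec_sub, Matrix.mulVec_smul, smul_add, smul_sub]
      rw [smul_comm γ c]
      abel
    rw [e]
    exact rat_add (rat_sub hcs' hcb') (rat_smul hγm hca)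
  intro x hx
  obtain ⟨l₁, hl₁m, hl₁⟩ : ∃ l : F, l ∈ F₀ ∧ l = hh x b₀ := ⟨_, h.val _ _ hx hb₀, rfl⟩
  obtain ⟨l₂, hl₂m, hl₂⟩ : ∃ l : F, l ∈ F₀ ∧ l = hh x a₀ := ⟨_, h.val _ _ hx ha₀, rfl⟩
  obtain ⟨x', hx', hx'def⟩ : ∃ x', Rat F₀ P x' ∧ x' = x - l₁ • a₀ - l₂ • b₀ :=
    ⟨_, rat_sub (rat_sub hx (rat_smul hl₁m ha₀)) (rat_smul hl₂m hb₀), rfl⟩
  have e1 : hh x' a₀ = 0 := by
    rw [hx'def]
    simp only [hform_sub_left, hform_smul_left, haa, hba, ← hl₂]
    ring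
  have e2 : hh x' b₀ = 0 := by
    rw [hx'def]
    simp only [hform_sub_left, hform_smul_left, hbb, hab, ← hl₁]
    ring
  have hkx := key x' hx' e1 e2
  have e : c • g.1 *ᵥ x = c • g.1 *ᵥ x' + l₁ • (c • g.1 *ᵥ a₀) + l₂ • (c • g.1 *ᵥ b₀) := by
    rw [hx'def]
    simp only [Matrix.mulVec_sub, Matrix.mulVec_smul, smul_sub]
    rw [smul_comm l₁ c, smul_comm l₂ c]
    abel
  rw [e]
  exact rat_add (rat_add hkx (rat_smul hl₁m hca)) (rat_smul hl₂m hcb')

/-- an isometry outside the subfield subgroup moves some rational singular point off the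
rational points -/
theorem RO.exists_moved_sing (h : RO F₀ P q) (hn : 4 < n) (g : GLn) (hg : IsIsoMat q g.1)
    (hgH : g ∉ Cfsg.Geo.subfieldSubgroup F₀ P) :
    ∃ a, Rat F₀ P a ∧ hh a a = 0 ∧ ∀ c : F, c ≠ 0 → ¬ Rat F₀ P (c • g.1 *ᵥ a) := by
  by_contra hcon
  push Not at hcon
  obtain ⟨c, hc, hall⟩ := h.sing_uniform hn g hg hcon
  exact hgH (mem_subfield_of_rat g c hc hall)

/-- a proper overgroup of `H` contains an element outside the subfield subgroup which fixes a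
non-zero rational singular vector -/
theorem RO.exists_fix (h : RO F₀ P q) (hn : 12 < n) (M : Subgroup GLn)
    (hMI : M ≤ Cfsg.GU n F q ⊓ Cfsg.Geo.specialLinear (Fin n) F)
    (hHM : Cfsg.Geo.subfieldSubgroup F₀ P ⊓
      (Cfsg.GU n F q ⊓ Cfsg.Geo.specialLinear (Fin n) F) ≤ M)
    (g : GLn) (hgM : g ∈ M) (hgH : g ∉ Cfsg.Geo.subfieldSubgroup F₀ P) :
    ∃ (m : GLn) (b : Fin n → F), m ∈ M ∧ m ∉ Cfsg.Geo.subfieldSubgroup F₀ P ∧ Rat F₀ P b ∧
      b ≠ 0 ∧ hh b b = 0 ∧ m.1 *ᵥ b = b := by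
  have hF := h.hF
  obtain ⟨θ, hθ0, hθq, hθ⟩ := h.exists_theta
  have hgiso : IsIsoMat q g.1 := ((mem_GUSL_iff g).mp (hMI hgM)).1
  obtain ⟨a, ha, haa, hna⟩ := h.exists_moved_sing (by omega) g hgiso hgH
  obtain ⟨w, hw, hww, hws⟩ := h.exists_norm (fun _ : Fin 1 => a) (fun _ => ha)
    (by rw [Fintype.card_fin]; omega) 1 F₀.one_mem
  have haw : hh a w = 0 := hws 0
  obtain ⟨α, hαm, hα⟩ := h.exists_alpha w hw
  obtain ⟨E, hE, hE1⟩ := h.exists_eich M hHM a w ha hw haa haw α hαm hα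
  obtain ⟨u, hudef⟩ : ∃ u, u = g.1 *ᵥ a := ⟨_, rfl⟩
  obtain ⟨v, hvdef⟩ : ∃ v, v = g.1 *ᵥ w := ⟨_, rfl⟩
  have huu : hh u u = 0 := by rw [hudef, hgiso, haa]
  have huv : hh u v = 0 := by rw [hudef, hvdef, hgiso, haw]
  have hvu : hh v u = 0 := hh_zero_symm hF huv
  have hvv : hh v v = 1 := by rw [hvdef, hgiso, hww]
  have hY1 : (g * E * g⁻¹).1 = eichler q u v α := by
    rw [Units.val_mul, Units.val_mul, hE1, eichler_conj hF g.1 hgiso a w α haa haw,
      Matrix.mul_assoc, ← Units.val_mul, mul_inv_cancel, Units.val_one, Matrix.mul_one, hudef,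
      hvdef]
  have hYM : g * E * g⁻¹ ∈ M := M.mul_mem (M.mul_mem hgM hE.1) (M.inv_mem hgM)
  obtain ⟨X₁, X₂, hX₁, hX₂, hu⟩ := exists_decomp_vec (P := P) hF h.hq θ hθ u
  obtain ⟨X₃, X₄, hX₃, hX₄, hv⟩ := exists_decomp_vec (P := P) hF h.hq θ hθ v
  obtain ⟨b, hb, hb0, hbb, hbs⟩ := h.exists_sing_perp (fun i : Fin 4 => ![X₁, X₂, X₃, X₄] i)
    (by
      intro i
      fin_cases i
      · exact hX₁
      · exact hX₂
      · exact hX₃
      · exact hX₄)
    (by rw [Fintype.card_fin]; omega)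
  have hb1 : hh b X₁ = 0 := hh_zero_symm hF (hbs 0)
  have hb2 : hh b X₂ = 0 := hh_zero_symm hF (hbs 1)
  have hb3 : hh b X₃ = 0 := hh_zero_symm hF (hbs 2)
  have hb4 : hh b X₄ = 0 := hh_zero_symm hF (hbs 3)
  have hbu : hh b u = 0 := by
    rw [hu, hform_add_right hF, hform_smul_right, hb1, hb2, mul_zero, add_zero]
  have hbv : hh b v = 0 := by
    rw [hv, hform_add_right hF, hform_smul_right, hb3, hb4, mul_zero, add_zero]
  have hYb : (g * E * g⁻¹).1 *ᵥ b = b := by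
    rw [hY1, eichler_mulVec hF u v α huu huv, hbu, hbv, zero_smul, zero_smul, add_zero, sub_zero]
  refine ⟨g * E * g⁻¹, b, hYM, ?_, hb, hb0, hbb, hYb⟩
  intro hYH
  obtain ⟨c, hc, hcr⟩ := rat_of_mem_subfield_unif _ hYH
  have hcF : c ∈ F₀ := by
    apply mem_of_smul_rat hb hb0
    have := hcr b hb
    rwa [hYb] at this
  have hYr : ∀ x, Rat F₀ P x → Rat F₀ P ((g * E * g⁻¹).1 *ᵥ x) := by
    intro x hx
    have := rat_smul (F₀.inv_mem hcF) (hcr x hx)
    rwa [smul_smul, inv_mul_cancel₀ hc, one_smul] at this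
  have hu0 : u ≠ 0 := by
    intro h0
    apply hna 1 one_ne_zero
    rw [← hudef, h0, smul_zero]
    exact rat_zero
  obtain ⟨x, hx, hxu⟩ := h.exists_ne_left u hu0
  have key : (g * E * g⁻¹).1 *ᵥ ((g * E * g⁻¹).1 *ᵥ x) - (2 : F) • (g * E * g⁻¹).1 *ᵥ x + x =
      (-(hh x u)) • u := by
    rw [hY1]
    simp only [eichler_mulVec hF u v α huu huv]
    simp only [hform_add_left, hform_sub_left, hform_smul_left, huu, huv, hvu, hvv]
    funext i
    simp only [Pi.add_apply, Pi.sub_apply, Pi.smul_apply, smul_eq_mul]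
    ring
  have hr : Rat F₀ P ((-(hh x u)) • u) := by
    rw [← key]
    exact rat_add (rat_sub (hYr _ (hYr x hx)) (rat_smul h.two_mem (hYr x hx))) hx
  apply hna (-(hh x u)) (neg_ne_zero.mpr hxu)
  rw [← hudef]
  exact hr

end moved

end Cfsg.Agent.Lib.Helper61.SubfieldSO
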