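import Mathlib
import Cfsg.Prelude.Def_GeometricClasses
import Cfsg.Agent.Lib.Helper51.SUMax1
import Cfsg.Agent.Lib.Helper51.SUGen8
import Cfsg.Agent.Lib.Helper61.SubfieldSOD

/-!
Orthogonal-type rational structures: an element of a proper overgroup outside the subfield subgroup
fixing a rational singular vector `b` produces a transvection with centre `b`.
-/

set_option autoImplicit false
set_option linter.unusedSectionVars false
set_option linter.unusedVariables false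

namespace Cfsg.Agent.Lib.Helper61.SubfieldSO

open Matrix Cfsg.Agent.Lib.Helper08 Cfsg.Agent.Lib.Helper51 Cfsg.Agent.Lib.Helper61.SubfieldSU

section tv
variable {F : Type*} [Field F] [Fintype F] {q n : ℕ}

local notation "GLn" => Matrix.GeneralLinearGroup (Fin n) F
local notation "hh" => hform (Fin n) F q

variable {F₀ : Subfield F} {P : Matrix.GeneralLinearGroup (Fin n) F}

/-- `M` contains a non-trivial transvection with centre `b` -/
def HasTv (q : ℕ) (M : Subgroup (Matrix.GeneralLinearGroup (Fin n) F)) (b : Fin n → F) : Prop :=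
  ∃ s : F, s ≠ 0 ∧ s + s ^ q = 0 ∧
    ∀ t : Matrix.GeneralLinearGroup (Fin n) F, t.1 = qrefl q b s → t ∈ M

theorem iso_fix_left {m : GLn} (hm : IsIsoMat q m.1) {b : Fin n → F} (hmb : m.1 *ᵥ b = b)
    (y : Fin n → F) : hh b (m.1 *ᵥ y) = hh b y := by
  have := hm b y
  rw [hmb] at this
  exact this

theorem iso_fix_right {m : GLn} (hm : IsIsoMat q m.1) {b : Fin n → F} (hmb : m.1 *ᵥ b = b)
    (y : Fin n → F) : hh (m.1 *ᵥ y) b = hh y b := by
  have := hm y b
  rw [hmb] at this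
  exact this

/-- first alternative: a transvection, or `m` preserves the rational vectors orthogonal to `b` -/
theorem RO.tv_or_rat (h : RO F₀ P q) (M : Subgroup GLn)
    (hMI : M ≤ Cfsg.GU n F q ⊓ Cfsg.Geo.specialLinear (Fin n) F)
    (hHM : Cfsg.Geo.subfieldSubgroup F₀ P ⊓
      (Cfsg.GU n F q ⊓ Cfsg.Geo.specialLinear (Fin n) F) ≤ M)
    {θ : F} (hθ0 : θ ≠ 0) (hθq : θ ^ q = -θ) (hθ : θ ∉ F₀)
    (b : Fin n → F) (hb : Rat F₀ P b) (hb0 : b ≠ 0) (hbb : hh b b = 0)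
    (m : GLn) (hmM : m ∈ M) (hmb : m.1 *ᵥ b = b) :
    HasTv q M b ∨ ∀ y, Rat F₀ P y → hh b y = 0 → Rat F₀ P (m.1 *ᵥ y) := by
  have hF := h.hF
  by_cases hall : ∀ y, Rat F₀ P y → hh b y = 0 → Rat F₀ P (m.1 *ᵥ y)
  · exact Or.inr hall
  left
  push Not at hall
  obtain ⟨y, hy, hby, hmy⟩ := hall
  have hmiso : IsIsoMat q m.1 := ((mem_GUSL_iff m).mp (hMI hmM)).1
  obtain ⟨v, hvdef⟩ : ∃ v, v = m.1 *ᵥ y := ⟨_, rfl⟩
  have hbv : hh b v = 0 := by rw [hvdef, iso_fix_left hmiso hmb, hby]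
  have hvv : hh v v = hh y y := by rw [hvdef, hmiso]
  obtain ⟨α, hαm, hα⟩ := h.exists_alpha y hy
  obtain ⟨E, hE, hE1⟩ := h.exists_eich M hHM b y hb hy hbb hby α hαm hα
  obtain ⟨A, hAdef⟩ : ∃ A : GLn, A = m * E * m⁻¹ := ⟨_, rfl⟩
  have hA1 : A.1 = eichler q b v α := by
    rw [hAdef, Units.val_mul, Units.val_mul, hE1, eichler_conj hF m.1 hmiso b y α hbb hby,
      Matrix.mul_assoc, ← Units.val_mul, mul_inv_cancel, Units.val_one, Matrix.mul_one, hmb,
      hvdef]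
  have hAM : A ∈ M := by
    rw [hAdef]
    exact M.mul_mem (M.mul_mem hmM hE.1) (M.inv_mem hmM)
  obtain ⟨X, Y, hX, hY, hv⟩ := exists_decomp_vec (P := P) hF h.hq θ hθ v
  have hbXY : hh b X = 0 ∧ -(hh b Y) = 0 := by
    apply decomp_zero hθ (h.val _ _ hb hX) (F₀.neg_mem (h.val _ _ hb hY))
    have := hbv
    rw [hv, hform_add_right hF, hform_smul_right, hθq] at this
    linear_combination this
  have hbX : hh b X = 0 := hbXY.1
  have hbY : hh b Y = 0 := neg_eq_zero.mp hbXY.2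
  have h2 := h.two_ne
  by_cases hYb : ∀ a ∈ F₀, Y ≠ a • b
  · -- commutator with a rational Eichler transformation
    obtain ⟨y₂, hy₂, hby₂, hYy₂⟩ := h.exists_perp b Y hb hY hb0 hYb
    obtain ⟨α₂, hα₂m, hα₂⟩ := h.exists_alpha y₂ hy₂
    obtain ⟨B, hB, hB1⟩ := h.exists_eich M hHM b y₂ hb hy₂ hbb hby₂ α₂ hα₂m hα₂
    obtain ⟨s, hsdef⟩ : ∃ s, s = hh v y₂ - hh y₂ v := ⟨_, rfl⟩
    have hs_eq : s = 2 * θ * hh Y y₂ := by
      rw [hsdef, hv, hform_add_left, hform_smul_left, hform_add_right hF, hform_smul_right, hθq,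
        h.symm hX hy₂, h.symm hY hy₂]
      ring
    have hs0 : s ≠ 0 := by
      rw [hs_eq]
      exact mul_ne_zero (mul_ne_zero h2 hθ0) hYy₂
    have hskew : s + s ^ q = 0 := by
      rw [hsdef, sub_pow_q hF, hform_conj hF, hform_conj hF]
      ring
    have hTiso : IsIsoMat q (qrefl q b s) := qrefl_iso_skew hF b hbb s hskew
    have hAB : A * B = (hTiso.isUnit hF).unit * (B * A) := by
      apply Units.ext
      rw [Units.val_mul, Units.val_mul, Units.val_mul, hA1, hB1]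
      show _ = qrefl q b s * _
      rw [hsdef]
      exact eichler_comm hF b v y₂ α α₂ hbb hbv hby₂
    have hTM : (hTiso.isUnit hF).unit ∈ M := by
      have : (hTiso.isUnit hF).unit = A * B * (B * A)⁻¹ := by
        rw [hAB]; group
      rw [this]
      exact M.mul_mem (M.mul_mem hAM hB.1) (M.inv_mem (M.mul_mem hB.1 hAM))
    refine ⟨s, hs0, hskew, fun t ht => ?_⟩
    have : t = (hTiso.isUnit hF).unit := Units.ext ht
    rw [this]
    exact hTM
  · -- the non-rational part of `m y` is a multiple of `b`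
    push Not at hYb
    obtain ⟨e, hem, hYe⟩ := hYb
    have he0 : e ≠ 0 := by
      intro h0
      apply hmy
      rw [← hvdef, hv, hYe, h0, zero_smul, smul_zero, add_zero]
      exact hX
    have hv' : v = X + (θ * e) • b := by rw [hv, hYe, smul_smul]
    have hXb : hh X b = 0 := hh_zero_symm hF hbX
    have hXX : α + α + hh X X = 0 := by
      have e1 : hh v v = hh X X := by
        rw [hv']
        simp only [hform_add_left, hform_add_right hF, hform_smul_left, hform_smul_right, hbb,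
          hbX, hXb]
        ring
      rw [← e1, hvv]
      exact hα
    obtain ⟨EX, hEX, hEX1⟩ := h.exists_eich M hHM b X hb hX hbb hbX α hαm hXX
    obtain ⟨s, hsdef⟩ : ∃ s, s = θ * e - (θ * e) ^ q := ⟨_, rfl⟩
    have hs_eq : s = 2 * θ * e := by
      rw [hsdef, mul_pow, hθq, h.fix hem]
      ring
    have hs0 : s ≠ 0 := by
      rw [hs_eq]
      exact mul_ne_zero (mul_ne_zero h2 hθ0) he0
    have hskew : s + s ^ q = 0 := by
      rw [hs_eq, mul_pow, mul_pow, hθq, h.fix hem, h.fix h.two_mem]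
      ring
    have hTiso : IsIsoMat q (qrefl q b s) := qrefl_iso_skew hF b hbb s hskew
    have hAT : A = (hTiso.isUnit hF).unit * EX := by
      apply Units.ext
      rw [Units.val_mul, hA1, hEX1, hv']
      show _ = qrefl q b s * _
      rw [hsdef]
      exact eichler_shift hF b X (θ * e) α hbb hbX
    have hTM : (hTiso.isUnit hF).unit ∈ M := by
      have : (hTiso.isUnit hF).unit = A * EX⁻¹ := by
        rw [hAT]; group
      rw [this]
      exact M.mul_mem hAM (M.inv_mem hEX.1)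
    refine ⟨s, hs0, hskew, fun t ht => ?_⟩
    have : t = (hTiso.isUnit hF).unit := Units.ext ht
    rw [this]
    exact hTM

/-- second alternative: `m` and `m⁻¹` preserve the rational vectors orthogonal to `b` -/
theorem RO.tv_of_rat (h : RO F₀ P q) (M : Subgroup GLn)
    (hMI : M ≤ Cfsg.GU n F q ⊓ Cfsg.Geo.specialLinear (Fin n) F)
    (hHM : Cfsg.Geo.subfieldSubgroup F₀ P ⊓
      (Cfsg.GU n F q ⊓ Cfsg.Geo.specialLinear (Fin n) F) ≤ M)
    {θ : F} (hθ0 : θ ≠ 0) (hθq : θ ^ q = -θ) (hθ : θ ∉ F₀)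
    (b : Fin n → F) (hb : Rat F₀ P b) (hb0 : b ≠ 0) (hbb : hh b b = 0)
    (m : GLn) (hmM : m ∈ M) (hmH : m ∉ Cfsg.Geo.subfieldSubgroup F₀ P) (hmb : m.1 *ᵥ b = b)
    (h1 : ∀ y, Rat F₀ P y → hh b y = 0 → Rat F₀ P (m.1 *ᵥ y))
    (h2 : ∀ y, Rat F₀ P y → hh b y = 0 → Rat F₀ P (m⁻¹.1 *ᵥ y)) : HasTv q M b := by
  have hF := h.hF
  have hmSU := (mem_GUSL_iff m).mp (hMI hmM)
  have hmiso : IsIsoMat q m.1 := hmSU.1
  obtain ⟨b', hb', hb'b', hbb', hb'b⟩ := h.exists_partner b hb hb0 hbb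
  obtain ⟨z₁, z₂, hz₁, hz₂, hmb'⟩ := exists_decomp_vec (P := P) hF h.hq θ hθ (m.1 *ᵥ b')
  have hz₂b : ∃ e ∈ F₀, z₂ = e • b := by
    by_contra hcon
    push Not at hcon
    obtain ⟨y', hy', hby', hz₂y'⟩ := h.exists_perp b z₂ hb hz₂ hb0 hcon
    have hyr : Rat F₀ P (m⁻¹.1 *ᵥ y') := h2 y' hy' hby'
    have e1 : hh (m.1 *ᵥ b') y' = hh b' (m⁻¹.1 *ᵥ y') := by
      have := hmiso b' (m⁻¹.1 *ᵥ y')
      rw [gl_act_inv'] at this
      exact this
    have e2 : hh (m.1 *ᵥ b') y' = hh z₁ y' + θ * hh z₂ y' := by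
      rw [hmb', hform_add_left, hform_smul_left]
    have h3 : θ * hh z₂ y' ∈ F₀ := by
      have : θ * hh z₂ y' = hh b' (m⁻¹.1 *ᵥ y') - hh z₁ y' := by
        rw [← e1, e2]; ring
      rw [this]
      exact F₀.sub_mem (h.val _ _ hb' hyr) (h.val _ _ hz₁ hy')
    apply hθ
    have : θ = (θ * hh z₂ y') / hh z₂ y' := by field_simp
    rw [this]
    exact F₀.div_mem h3 (h.val _ _ hz₂ hy')
  obtain ⟨e, hem, hz₂e⟩ := hz₂b
  obtain ⟨s, hsdef⟩ : ∃ s, s = -(θ * e) := ⟨_, rfl⟩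
  have hskew : s + s ^ q = 0 := by
    rw [hsdef, neg_pow_q hF, mul_pow, hθq, h.fix hem]
    ring
  have hTiso : IsIsoMat q (qrefl q b s) := qrefl_iso_skew hF b hbb s hskew
  have hT1 : ((hTiso.isUnit hF).unit : GLn).1 = qrefl q b s := rfl
  have hTmH : (hTiso.isUnit hF).unit * m ∈ Cfsg.Geo.subfieldSubgroup F₀ P ⊓
      (Cfsg.GU n F q ⊓ Cfsg.Geo.specialLinear (Fin n) F) := by
    apply mem_H_of_rat
    · rw [Units.val_mul]; exact hTiso.mul hmiso
    · rw [Units.val_mul, Matrix.det_mul, hT1, det_qrefl', hbb, mul_zero, add_zero, hmSU.2, mul_one]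
    · intro x hx
      obtain ⟨l, hlm, hl⟩ : ∃ l : F, l ∈ F₀ ∧ l = hh x b := ⟨_, h.val _ _ hx hb, rfl⟩
      obtain ⟨x₀, hx₀, hx₀def⟩ : ∃ x₀, Rat F₀ P x₀ ∧ x₀ = x - l • b' :=
        ⟨_, rat_sub hx (rat_smul hlm hb'), rfl⟩
      have hx₀b : hh x₀ b = 0 := by
        rw [hx₀def, hform_sub_left, hform_smul_left, hb'b, ← hl]
        ring
      have hbx₀ : hh b x₀ = 0 := hh_zero_symm hF hx₀b
      have hxe : x = x₀ + l • b' := by rw [hx₀def]; abel
      have e1 : (hTiso.isUnit hF).unit.1 *ᵥ (m.1 *ᵥ x₀) = m.1 *ᵥ x₀ := by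
        rw [hT1, qrefl_mulVec, iso_fix_right hmiso hmb, hx₀b, mul_zero, zero_smul, add_zero]
      have e2 : (hTiso.isUnit hF).unit.1 *ᵥ (m.1 *ᵥ b') = z₁ := by
        rw [hT1, qrefl_mulVec, iso_fix_right hmiso hmb, hb'b, mul_one, hmb', hz₂e, hsdef,
          smul_smul]
        rw [add_assoc, ← add_smul, add_neg_cancel, zero_smul, add_zero]
      rw [gl_mul_act', hxe, Matrix.mulVec_add, Matrix.mulVec_smul, Matrix.mulVec_add,
        Matrix.mulVec_smul, e1, e2]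
      exact rat_add (h1 x₀ hx₀ hbx₀) (rat_smul hlm hz₁)
  have hTM : (hTiso.isUnit hF).unit ∈ M := by
    have : (hTiso.isUnit hF).unit = ((hTiso.isUnit hF).unit * m) * m⁻¹ := by group
    rw [this]
    exact M.mul_mem (hHM hTmH) (M.inv_mem hmM)
  have he0 : e ≠ 0 := by
    intro h0
    apply hmH
    have hs0 : s = 0 := by rw [hsdef, h0, mul_zero, neg_zero]
    have hT : (hTiso.isUnit hF).unit = 1 := by
      apply Units.ext
      rw [hT1, hs0, qrefl_zero]
      rfl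
    rw [hT, one_mul] at hTmH
    exact hTmH.1
  refine ⟨s, ?_, hskew, fun t ht => ?_⟩
  · rw [hsdef]
    exact neg_ne_zero.mpr (mul_ne_zero hθ0 he0)
  · have : t = (hTiso.isUnit hF).unit := Units.ext ht
    rw [this]
    exact hTM

/-- an element of `M` outside the subfield subgroup fixing `b` yields a transvection -/
theorem RO.hasTv (h : RO F₀ P q) (M : Subgroup GLn)
    (hMI : M ≤ Cfsg.GU n F q ⊓ Cfsg.Geo.specialLinear (Fin n) F)
    (hHM : Cfsg.Geo.subfieldSubgroup F₀ P ⊓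
      (Cfsg.GU n F q ⊓ Cfsg.Geo.specialLinear (Fin n) F) ≤ M)
    (b : Fin n → F) (hb : Rat F₀ P b) (hb0 : b ≠ 0) (hbb : hh b b = 0)
    (m : GLn) (hmM : m ∈ M) (hmH : m ∉ Cfsg.Geo.subfieldSubgroup F₀ P) (hmb : m.1 *ᵥ b = b) :
    HasTv q M b := by
  obtain ⟨θ, hθ0, hθq, hθ⟩ := h.exists_theta
  have hmb' : m⁻¹.1 *ᵥ b = b := by
    have := gl_inv_act' m b
    rw [hmb] at this
    exact this
  rcases h.tv_or_rat M hMI hHM hθ0 hθq hθ b hb hb0 hbb m hmM hmb with h1 | h1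
  · exact h1
  rcases h.tv_or_rat M hMI hHM hθ0 hθq hθ b hb hb0 hbb m⁻¹ (M.inv_mem hmM) hmb' with h2 | h2
  · exact h2
  exact h.tv_of_rat M hMI hHM hθ0 hθq hθ b hb hb0 hbb m hmM hmH hmb h1 h2

end tv

end Cfsg.Agent.Lib.Helper61.SubfieldSO
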