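import Mathlib
import Cfsg.Prelude.Def_GeometricClasses
import Cfsg.Agent.Lib.Helper51.SUMax1
import Cfsg.Agent.Lib.Helper51.SUGen8
import Cfsg.Agent.Lib.Helper61.SubfieldSOE

/-!
Orthogonal-type rational structures: from one transvection with a rational singular centre to
all transvections; maximality of the subfield subgroup.
-/

set_option autoImplicit false
set_option linter.unusedSectionVars false
set_option linter.unusedVariables false

namespace Cfsg.Agent.Lib.Helper61.SubfieldSO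

open Matrix Cfsg.Agent.Lib.Helper08 Cfsg.Agent.Lib.Helper51 Cfsg.Agent.Lib.Helper61.SubfieldSU

section fin
variable {F : Type*} [Field F] [Fintype F] {q n : ℕ}

local notation "GLn" => Matrix.GeneralLinearGroup (Fin n) F
local notation "hh" => hform (Fin n) F q

variable {F₀ : Subfield F} {P : Matrix.GeneralLinearGroup (Fin n) F}

theorem zero_mem_XM (M : Subgroup GLn) : (0 : Fin n → F) ∈ XM q M := by
  refine ⟨hform_zero_left 0, fun c hc t ht => ?_⟩
  have : t = 1 := by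
    apply Units.ext
    rw [ht]
    apply mat_ext_mulVec
    intro x
    rw [qrefl_mulVec, smul_zero, add_zero]
    simp
  rw [this]
  exact M.one_mem

/-- the torus spreads one transvection to the whole root subgroup -/
theorem RO.mem_XM_of_hasTv (h : RO F₀ P q) (M : Subgroup GLn)
    (hHM : Cfsg.Geo.subfieldSubgroup F₀ P ⊓
      (Cfsg.GU n F q ⊓ Cfsg.Geo.specialLinear (Fin n) F) ≤ M)
    (b : Fin n → F) (hb : Rat F₀ P b) (hb0 : b ≠ 0) (hbb : hh b b = 0)
    (hTv : HasTv q M b) : b ∈ XM q M := by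
  have hF := h.hF
  obtain ⟨s₀, hs₀0, hs₀, hs₀M⟩ := hTv
  obtain ⟨b', hb', hb'b', hbb', hb'b⟩ := h.exists_partner b hb hb0 hbb
  have claim : ∀ μ ∈ F₀, ∀ t : GLn, t.1 = qrefl q b (μ * μ * s₀) → t ∈ M := by
    intro μ hμ t ht
    by_cases hμ0 : μ = 0
    · have : t = 1 := by
        apply Units.ext
        rw [ht, hμ0, mul_zero, zero_mul, qrefl_zero]
        rfl
      rw [this]
      exact M.one_mem
    · have hμq : μ ^ q = μ := h.fix hμ
      have hToriso : IsIsoMat q (torus q b b' μ) :=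
        torus_iso hF b b' μ hμ0 hμq hbb hb'b' hbb' hb'b
      obtain ⟨Tor, hTor1⟩ : ∃ Tor : GLn, Tor.1 = torus q b b' μ :=
        ⟨(hToriso.isUnit hF).unit, rfl⟩
      have hTorM : Tor ∈ M := by
        apply hHM
        apply mem_H_of_rat
        · rw [hTor1]; exact hToriso
        · rw [hTor1]; exact torus_det b b' μ hμ0 hbb' hb'b
        · intro x hx
          rw [hTor1, torus_mulVec b b' μ hbb]
          exact rat_add (rat_add hx (rat_smul (F₀.mul_mem (F₀.sub_mem hμ F₀.one_mem)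
            (h.val _ _ hx hb')) hb)) (rat_smul (F₀.mul_mem
            (F₀.sub_mem (F₀.inv_mem hμ) F₀.one_mem) (h.val _ _ hx hb)) hb')
      have hTiso : IsIsoMat q (qrefl q b s₀) := qrefl_iso_skew hF b hbb s₀ hs₀
      obtain ⟨T₀, hT₀1⟩ : ∃ T₀ : GLn, T₀.1 = qrefl q b s₀ := ⟨(hTiso.isUnit hF).unit, rfl⟩
      have hT₀M : T₀ ∈ M := hs₀M T₀ hT₀1
      have hTorb : Tor.1 *ᵥ b = μ • b := by
        rw [hTor1, torus_mulVec b b' μ hbb, hbb', hbb, mul_one, mul_zero, zero_smul, add_zero]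
        rw [sub_smul, one_smul]
        abel
      have hconj : (Tor * T₀ * Tor⁻¹).1 = qrefl q b (μ * μ * s₀) := by
        rw [Units.val_mul, Units.val_mul, hT₀1, qrefl_conj Tor.1 (by rw [hTor1]; exact hToriso),
          Matrix.mul_assoc, ← Units.val_mul, mul_inv_cancel, Units.val_one, Matrix.mul_one, hTorb,
          qrefl_smul, hμq]
      have : t = Tor * T₀ * Tor⁻¹ := Units.ext (ht.trans hconj.symm)
      rw [this]
      exact M.mul_mem (M.mul_mem hTorM hT₀M) (M.inv_mem hTorM)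
  refine ⟨hbb, fun c hc t ht => ?_⟩
  have h2 := h.two_ne
  have hcq : c ^ q = -c := skew_pow c hc
  have hsq : s₀ ^ q = -s₀ := skew_pow s₀ hs₀
  obtain ⟨l, hlm, hl⟩ : ∃ l : F, l ∈ F₀ ∧ c = l * s₀ := by
    refine ⟨c / s₀, ?_, by field_simp⟩
    apply mem_of_pow_q hF F₀ h.hq
    rw [div_pow, hcq, hsq, neg_div_neg_eq]
  obtain ⟨μ₁, hμ₁m, hμ₁⟩ : ∃ μ : F, μ ∈ F₀ ∧ μ = (l + 1) / 2 :=
    ⟨_, F₀.div_mem (F₀.add_mem hlm F₀.one_mem) h.two_mem, rfl⟩
  obtain ⟨μ₂, hμ₂m, hμ₂⟩ : ∃ μ : F, μ ∈ F₀ ∧ μ = (l - 1) / 2 :=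
    ⟨_, F₀.div_mem (F₀.sub_mem hlm F₀.one_mem) h.two_mem, rfl⟩
  have hsk : ∀ μ ∈ F₀, (μ * μ * s₀) + (μ * μ * s₀) ^ q = 0 := fun μ hμ =>
    skew_mul_fix (μ * μ) s₀ (h.fix (F₀.mul_mem hμ hμ)) hs₀
  have hiso₁ : IsIsoMat q (qrefl q b (μ₁ * μ₁ * s₀)) := qrefl_iso_skew hF b hbb _ (hsk μ₁ hμ₁m)
  have hiso₂ : IsIsoMat q (qrefl q b (μ₂ * μ₂ * s₀)) := qrefl_iso_skew hF b hbb _ (hsk μ₂ hμ₂m)
  have ht₁ := claim μ₁ hμ₁m (hiso₁.isUnit hF).unit rfl
  have ht₂ := claim μ₂ hμ₂m (hiso₂.isUnit hF).unit rfl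
  have hmul : t * (hiso₂.isUnit hF).unit = (hiso₁.isUnit hF).unit := by
    apply Units.ext
    rw [Units.val_mul, ht]
    show qrefl q b c * qrefl q b (μ₂ * μ₂ * s₀) = qrefl q b (μ₁ * μ₁ * s₀)
    rw [qrefl_mul_same hF b hbb]
    congr 1
    rw [hl, hμ₁, hμ₂]
    field_simp
    ring
  have : t = (hiso₁.isUnit hF).unit * ((hiso₂.isUnit hF).unit)⁻¹ := by
    rw [← hmul]; group
  rw [this]
  exact M.mul_mem ht₁ (M.inv_mem ht₂)

/-- the subfield subgroup is transitive enough on rational singular vectors -/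
theorem RO.sing_mem_XM (h : RO F₀ P q) (hn : 8 < n) (M : Subgroup GLn)
    (hHM : Cfsg.Geo.subfieldSubgroup F₀ P ⊓
      (Cfsg.GU n F q ⊓ Cfsg.Geo.specialLinear (Fin n) F) ≤ M)
    (b : Fin n → F) (hb : Rat F₀ P b) (hb0 : b ≠ 0) (hbb : hh b b = 0) (hbX : b ∈ XM q M)
    (b₁ : Fin n → F) (hb₁ : Rat F₀ P b₁) (hb₁b₁ : hh b₁ b₁ = 0) : b₁ ∈ XM q M := by
  have hF := h.hF
  by_cases hne : ∀ a ∈ F₀, b₁ ≠ a • b
  · obtain ⟨u, hu, huu, hub, hub₁⟩ := h.exists_sing_11 hn b b₁ hb hb₁ hb0 hne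
    have hbu : hh b u = 1 := by rw [h.symm hu hb, hub]
    have hb₁u : hh b₁ u = 1 := by rw [h.symm hu hb₁, hub₁]
    obtain ⟨α, hαm, hαdef⟩ : ∃ α : F, α ∈ F₀ ∧ α = hh b₁ b := ⟨_, h.val _ _ hb₁ hb, rfl⟩
    have hbb₁ : hh b b₁ = α := by rw [h.symm hb₁ hb, hαdef]
    obtain ⟨y, hyr, hydef⟩ : ∃ y, Rat F₀ P y ∧ y = b₁ - b - α • u :=
      ⟨_, rat_sub (rat_sub hb₁ hb) (rat_smul hαm hu), rfl⟩
    have huy : hh u y = 0 := by
      rw [hydef, hform_sub_right hF, hform_sub_right hF, h.smul_right hαm, hub₁, hub, huu]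
      ring
    have hby : hh b y = 0 := by
      rw [hydef, hform_sub_right hF, hform_sub_right hF, h.smul_right hαm, hbb₁, hbb, hbu]
      ring
    have hαy : α + α + hh y y = 0 := by
      rw [hydef]
      simp only [hform_sub_left, hform_sub_right hF, hform_smul_left, h.smul_right hαm, hb₁b₁,
        hbb, huu, hub, hub₁, hbu, hb₁u, hbb₁, ← hαdef]
      ring
    obtain ⟨E, hE, hE1⟩ := h.exists_eich M hHM u y hu hyr huu huy α hαm hαy
    have hEb : E.1 *ᵥ b = b₁ := by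
      rw [hE1, eichler_mulVec hF u y α huu huy, hbu, hby, one_smul, zero_smul, sub_zero, hydef]
      abel
    rw [← hEb]
    exact XM_act hF M E hE.1 hE.2.1 b hbX
  · push Not at hne
    obtain ⟨a, ham, he⟩ := hne
    rw [he]
    exact XM_smul hF M a b hbX

/-- all isotropic vectors are centres of transvection subgroups, once the rational singular ones
are -/
theorem RO.all_XM (h : RO F₀ P q) (hn : 8 < n) (M : Subgroup GLn)
    (hrat : ∀ b, Rat F₀ P b → hh b b = 0 → b ∈ XM q M)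
    (z : Fin n → F) (hz : hh z z = 0) : z ∈ XM q M := by
  have hF := h.hF
  obtain ⟨θ, hθ0, hθq, hθ⟩ := h.exists_theta
  have hd : θ * θ ∈ F₀ := theta_sq_mem h hθq
  have hd0 : θ * θ ≠ 0 := mul_ne_zero hθ0 hθ0
  have h2 := h.two_ne
  -- level 1: both parts singular and non-orthogonal
  have lev1 : ∀ X Y, Rat F₀ P X → Rat F₀ P Y → hh X X = 0 → hh Y Y = 0 → hh X Y ≠ 0 →
      X + θ • Y ∈ XM q M := by
    intro X Y hX hY hXX hYY hXY
    obtain ⟨c, hcdef⟩ : ∃ c : F, c = θ * (hh X Y)⁻¹ := ⟨_, rfl⟩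
    have hc : c + c ^ q = 0 := by
      rw [hcdef, mul_pow, hθq, h.fix (F₀.inv_mem (h.val _ _ hX hY))]
      ring
    have hiso : IsIsoMat q (qrefl q Y c) := qrefl_iso_skew hF Y hYY c hc
    have hTM : (hiso.isUnit hF).unit ∈ M := (hrat Y hY hYY).2 c hc _ rfl
    have := XM_act hF M _ hTM hiso X (hrat X hX hXX)
    have e : ((hiso.isUnit hF).unit : GLn).1 *ᵥ X = X + θ • Y := by
      show qrefl q Y c *ᵥ X = _
      rw [qrefl_mulVec, hcdef, mul_assoc, inv_mul_cancel₀ hXY, mul_one]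
    rw [e] at this
    exact this
  -- level 2: both parts singular
  have lev2 : ∀ X Y, Rat F₀ P X → Rat F₀ P Y → hh X X = 0 → hh Y Y = 0 →
      X + θ • Y ∈ XM q M := by
    intro X Y hX hY hXX hYY
    by_cases hXY : hh X Y = 0
    · by_cases hX0 : X = 0
      · rw [hX0, zero_add]
        exact XM_smul hF M θ Y (hrat Y hY hYY)
      by_cases hne : ∀ a ∈ F₀, Y ≠ a • X
      · obtain ⟨u, hu, huu, hXu, hYu⟩ := h.exists_sing_sep hn X Y hX hY hX0 hne
        -- `v' = t_u(-c) z` is of level one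
        obtain ⟨a, ham, ha0⟩ : ∃ a : F, a ∈ F₀ ∧ a ≠ 0 := ⟨1, F₀.one_mem, one_ne_zero⟩
        obtain ⟨c, hcdef⟩ : ∃ c : F, c = θ * a := ⟨_, rfl⟩
        have hc : c + c ^ q = 0 := by
          rw [hcdef, mul_pow, hθq, h.fix ham]
          ring
        obtain ⟨X', hX', hX'def⟩ : ∃ X', Rat F₀ P X' ∧ X' = X - (θ * θ * a * hh Y u) • u :=
          ⟨_, rat_sub hX (rat_smul (F₀.mul_mem (F₀.mul_mem hd ham) (h.val _ _ hY hu)) hu), rfl⟩
        have hm1 : θ * θ * a * hh Y u ∈ F₀ := F₀.mul_mem (F₀.mul_mem hd ham) (h.val _ _ hY hu)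
        have huX : hh u X = 0 := hh_zero_symm hF hXu
        have huY : hh u Y = hh Y u := h.symm hY hu
        have hX'X' : hh X' X' = 0 := by
          rw [hX'def]
          simp only [hform_sub_left, hform_sub_right hF, hform_smul_left, h.smul_right hm1, hXX,
            huu, hXu, huX]
          ring
        have hX'Y : hh X' Y ≠ 0 := by
          rw [hX'def, hform_sub_left, hform_smul_left, hXY, huY, zero_sub]
          exact neg_ne_zero.mpr (mul_ne_zero (mul_ne_zero (mul_ne_zero hd0 ha0) hYu) hYu)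
        have hv' := lev1 X' Y hX' hY hX'X' hYY hX'Y
        have hiso : IsIsoMat q (qrefl q u c) := qrefl_iso_skew hF u huu c hc
        have hTM : (hiso.isUnit hF).unit ∈ M := (hrat u hu huu).2 c hc _ rfl
        have := XM_act hF M _ hTM hiso _ hv'
        have e : ((hiso.isUnit hF).unit : GLn).1 *ᵥ (X' + θ • Y) = X + θ • Y := by
          show qrefl q u c *ᵥ _ = _
          rw [qrefl_mulVec, hX'def, hcdef]
          simp only [hform_add_left, hform_sub_left, hform_smul_left, hXu, huu]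
          funext i
          simp only [Pi.add_apply, Pi.sub_apply, Pi.smul_apply, smul_eq_mul]
          ring
        rw [e] at this
        exact this
      · push Not at hne
        obtain ⟨a, ham, he⟩ := hne
        have e : X + θ • Y = (1 + θ * a) • X := by
          rw [he, smul_smul, add_smul, one_smul]
        rw [e]
        exact XM_smul hF M _ X (hrat X hX hXX)
    · exact lev1 X Y hX hY hXX hYY hXY
  -- general case
  obtain ⟨X, Y, hX, hY, hzdef⟩ := exists_decomp_vec (P := P) hF h.hq θ hθ z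
  have hQ : hh X X = θ * θ * hh Y Y := by
    have := hz
    rw [hzdef, h.hh_decomp_self hθq hX hY] at this
    linear_combination this
  by_cases ht : hh Y Y = 0
  · rw [hzdef]
    exact lev2 X Y hX hY (by rw [hQ, ht, mul_zero]) ht
  · have hY0 : Y ≠ 0 := by
      intro h0
      apply ht
      rw [h0, hform_zero_left]
    have hX0 : X ≠ 0 := by
      intro h0
      have : hh X X = 0 := by rw [h0, hform_zero_left]
      rw [hQ] at this
      exact (mul_ne_zero hd0 ht) this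
    obtain ⟨u, hu, huu, hXu, hYu⟩ := h.exists_sing_pair hn X Y hX hY hX0 hY0
    obtain ⟨a, ham, hadef⟩ : ∃ a : F, a ∈ F₀ ∧ a = hh Y Y / (2 * hh X u * hh Y u) :=
      ⟨_, F₀.div_mem (h.val _ _ hY hY) (F₀.mul_mem (F₀.mul_mem h.two_mem (h.val _ _ hX hu))
        (h.val _ _ hY hu)), rfl⟩
    obtain ⟨c, hcdef⟩ : ∃ c : F, c = θ * a := ⟨_, rfl⟩
    have hc : c + c ^ q = 0 := by
      rw [hcdef, mul_pow, hθq, h.fix ham]
      ring
    have hm1 : θ * θ * a * hh Y u ∈ F₀ := F₀.mul_mem (F₀.mul_mem hd ham) (h.val _ _ hY hu)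
    have hm2 : a * hh X u ∈ F₀ := F₀.mul_mem ham (h.val _ _ hX hu)
    obtain ⟨X', hX', hX'def⟩ : ∃ X', Rat F₀ P X' ∧ X' = X - (θ * θ * a * hh Y u) • u :=
      ⟨_, rat_sub hX (rat_smul hm1 hu), rfl⟩
    obtain ⟨Y', hY', hY'def⟩ : ∃ Y', Rat F₀ P Y' ∧ Y' = Y - (a * hh X u) • u :=
      ⟨_, rat_sub hY (rat_smul hm2 hu), rfl⟩
    have huX : hh u X = hh X u := h.symm hX hu
    have huY : hh u Y = hh Y u := h.symm hY hu
    have hY'Y' : hh Y' Y' = 0 := by
      rw [hY'def]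
      simp only [hform_sub_left, hform_sub_right hF, hform_smul_left, h.smul_right hm2, huu, huY]
      rw [hadef]
      field_simp
      ring
    have hX'X' : hh X' X' = 0 := by
      rw [hX'def]
      simp only [hform_sub_left, hform_sub_right hF, hform_smul_left, h.smul_right hm1, huu, huX,
        hQ]
      rw [hadef]
      field_simp
      ring
    have hv' := lev2 X' Y' hX' hY' hX'X' hY'Y'
    have hiso : IsIsoMat q (qrefl q u c) := qrefl_iso_skew hF u huu c hc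
    have hTM : (hiso.isUnit hF).unit ∈ M := (hrat u hu huu).2 c hc _ rfl
    have := XM_act hF M _ hTM hiso _ hv'
    have e : ((hiso.isUnit hF).unit : GLn).1 *ᵥ (X' + θ • Y') = z := by
      show qrefl q u c *ᵥ _ = _
      rw [qrefl_mulVec, hX'def, hY'def, hcdef, hzdef]
      simp only [hform_add_left, hform_sub_left, hform_smul_left, huu]
      funext i
      simp only [Pi.add_apply, Pi.sub_apply, Pi.smul_apply, smul_eq_mul]
      ring
    rw [e] at this
    exact this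

/-- the subfield subgroup does not contain `SU` -/
theorem RO.exists_not_mem (h : RO F₀ P q) (hn : 8 < n) :
    ∃ g : GLn, g ∈ Cfsg.GU n F q ⊓ Cfsg.Geo.specialLinear (Fin n) F ∧
      g ∉ Cfsg.Geo.subfieldSubgroup F₀ P := by
  have hF := h.hF
  obtain ⟨θ, hθ0, hθq, hθ⟩ := h.exists_theta
  obtain ⟨X, hX, hX0, hXX, -⟩ := h.exists_sing_perp (fun i : Fin 0 => (0 : Fin n → F))
    (fun i => i.elim0) (by rw [Fintype.card_fin]; omega)
  obtain ⟨X', hX', hX'X', hXX', hX'X⟩ := h.exists_partner X hX hX0 hXX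
  obtain ⟨Y, hY, hY0, hYY, hYs⟩ := h.exists_sing_perp
    (fun i : Fin 2 => if i = 0 then X else X')
    (by intro i; by_cases hi : i = 0 <;> simp [hi, hX, hX']) (by rw [Fintype.card_fin]; omega)
  have hXY : hh X Y = 0 := by
    have := hYs 0
    simpa using this
  have hX'Y : hh X' Y = 0 := by
    have := hYs 1
    simpa using this
  obtain ⟨z, hzdef⟩ : ∃ z, z = X + θ • Y := ⟨_, rfl⟩
  have hzz : hh z z = 0 := by
    rw [hzdef, h.hh_decomp_self hθq hX hY, hXX, hYY]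
    ring
  have hznr : ∀ c : F, c ≠ 0 → ¬ Rat F₀ P (c • z) := by
    intro c hc hr
    obtain ⟨c₁, c₂, hc₁, hc₂, hcdef⟩ := exists_decomp hF F₀ h.hq θ hθ c
    have e : c • z = (c₁ • X + (θ * θ * c₂) • Y) + θ • (c₂ • X + c₁ • Y) := by
      rw [hzdef, hcdef]
      funext i
      simp only [Pi.add_apply, Pi.smul_apply, smul_eq_mul]
      ring
    rw [e] at hr
    have h0 := rat_decomp_unique hθ
      (rat_add (rat_smul hc₁ hX) (rat_smul (F₀.mul_mem (theta_sq_mem h hθq) hc₂) hY))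
      (rat_add (rat_smul hc₂ hX) (rat_smul hc₁ hY)) hr
    have hc₂0 : c₂ = 0 := by
      have := congrArg (fun w => hh X' w) h0
      simp only [hform_add_right hF, h.smul_right hc₂, h.smul_right hc₁, hX'X, hX'Y,
        hh_zero_right hF] at this
      linear_combination this
    rw [hc₂0, zero_smul, zero_add] at h0
    have hc₁0 : c₁ = 0 := by
      by_contra hne
      apply hY0
      have := congrArg (fun w => c₁⁻¹ • w) h0
      simp only [smul_smul, inv_mul_cancel₀ hne, one_smul, smul_zero] at this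
      exact this
    apply hc
    rw [hcdef, hc₁0, hc₂0, mul_zero, add_zero]
  have hz0 : z ≠ 0 := by
    intro h0
    apply hznr 1 one_ne_zero
    rw [h0, smul_zero]
    exact rat_zero
  obtain ⟨M0, hM0, hdet, hM0x⟩ := exists_SU_map hF (by omega : 3 ≤ n) X z hX0 hz0 hXX hzz
  refine ⟨(hM0.isUnit hF).unit, (mem_GUSL_iff _).mpr ⟨hM0, hdet⟩, fun hmem => ?_⟩
  obtain ⟨c, hc, hr⟩ := rat_of_mem_subfield _ hmem X hX
  have h2 : ((hM0.isUnit hF).unit : GLn).1 *ᵥ X = z := hM0x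
  rw [h2] at hr
  exact hznr c hc hr

/-- **Maximality** of the orthogonal-type subfield subgroup of `SU_n(q)`, `q` odd. -/
theorem RO.isMaximalIn (h : RO F₀ P q) (hn : 12 < n) :
    Cfsg.Geo.IsMaximalIn (Cfsg.GU n F q ⊓ Cfsg.Geo.specialLinear (Fin n) F)
      (Cfsg.Geo.subfieldSubgroup F₀ P ⊓ (Cfsg.GU n F q ⊓ Cfsg.Geo.specialLinear (Fin n) F)) := by
  have h32 : ¬ (n = 3 ∧ q = 2) := by omega
  refine ⟨lt_of_le_of_ne inf_le_right ?_, ?_⟩
  · intro heq
    obtain ⟨g, hg, hgs⟩ := h.exists_not_mem (by omega)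
    rw [← heq] at hg
    exact hgs hg.1
  · intro M hHM hMI
    by_cases hMH : M = Cfsg.Geo.subfieldSubgroup F₀ P ⊓
        (Cfsg.GU n F q ⊓ Cfsg.Geo.specialLinear (Fin n) F)
    · exact Or.inl hMH
    right
    have : ∃ g ∈ M, g ∉ Cfsg.Geo.subfieldSubgroup F₀ P ⊓
        (Cfsg.GU n F q ⊓ Cfsg.Geo.specialLinear (Fin n) F) := by
      by_contra hcon
      push Not at hcon
      exact hMH (le_antisymm hcon hHM)
    obtain ⟨g, hgM, hgP⟩ := this
    have hgs : g ∉ Cfsg.Geo.subfieldSubgroup F₀ P := fun hs => hgP ⟨hs, hMI hgM⟩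
    obtain ⟨m, b, hmM, hmH, hb, hb0, hbb, hmb⟩ := h.exists_fix hn M hMI hHM g hgM hgs
    have hTv := h.hasTv M hMI hHM b hb hb0 hbb m hmM hmH hmb
    have hbX := h.mem_XM_of_hasTv M hHM b hb hb0 hbb hTv
    have hrat : ∀ b₁, Rat F₀ P b₁ → hh b₁ b₁ = 0 → b₁ ∈ XM q M := fun b₁ hb₁ hb₁b₁ =>
      h.sing_mem_XM (by omega) M hHM b hb hb0 hbb hbX b₁ hb₁ hb₁b₁
    exact le_antisymm hMI (le_of_XM h.hF h32 M
      (fun z hz => h.all_XM (by omega) M hrat z hz))

end fin

end Cfsg.Agent.Lib.Helper61.SubfieldSO
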