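import Mathlib
import Cfsg.Prelude.Def_GeometricClasses
import Cfsg.Agent.Lib.Helper51.SUMax1
import Cfsg.Agent.Lib.Helper51.SUGen1
import Cfsg.Agent.Lib.Helper61.SubfieldSUB
import Cfsg.Agent.Lib.Helper61.SubfieldSOB

/-!
Subfield subgroups `SU_n(q₀) < SU_n(q)`, `q = q₀ ^ r`, `r` an odd prime: the setting and the
field-theoretic preliminaries.
-/

set_option autoImplicit false
set_option linter.unusedSectionVars false
set_option linter.unusedVariables false

namespace Cfsg.Agent.Lib.Helper61.SubfieldUr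

open Matrix Cfsg.Agent.Lib.Helper08 Cfsg.Agent.Lib.Helper51 Cfsg.Agent.Lib.Helper61.SubfieldSU
  Cfsg.Agent.Lib.Helper61.SubfieldSO

section field
variable {F : Type*} [Field F] [Fintype F] {q n : ℕ}

local notation "GLn" => Matrix.GeneralLinearGroup (Fin n) F
local notation "hh" => hform (Fin n) F q

/-- the setting: a rational structure on which the hermitian form takes values in the subfield
`F₀` of odd prime index -/
structure RU (F₀ : Subfield F) (P : Matrix.GeneralLinearGroup (Fin n) F) (q r : ℕ) : Prop where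
  hF : Fintype.card F = q ^ 2
  hr : r.Prime
  hro : Odd r
  hcard : Fintype.card F = Nat.card F₀ ^ r
  val : ∀ x y, Rat F₀ P x → Rat F₀ P y → hform (Fin n) F q x y ∈ F₀

variable {F₀ : Subfield F} {P : Matrix.GeneralLinearGroup (Fin n) F} {r : ℕ}

theorem RU.finrank (h : RU F₀ P q r) : Module.finrank F₀ F = r := by
  classical
  haveI : Fintype F₀ := Fintype.ofFinite F₀
  have h1 : Fintype.card F = Fintype.card F₀ ^ Module.finrank F₀ F := Module.card_eq_pow_finrank
  have h0 := h.hcard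
  rw [Nat.card_eq_fintype_card] at h0
  rw [h0] at h1
  have h2 : 1 < Fintype.card F₀ := Fintype.one_lt_card
  exact (Nat.pow_right_injective h2 h1).symm

theorem RU.three_le (h : RU F₀ P q r) : 3 ≤ r := by
  have h2 := h.hr.two_le
  obtain ⟨k, hk⟩ := h.hro
  omega

/-- the involution is non-trivial on the subfield -/
theorem RU.exists_nonfixed (h : RU F₀ P q r) : ∃ a ∈ F₀, a ^ q ≠ a := by
  classical
  by_contra hcon
  push Not at hcon
  have hF := h.hF
  have hinv : Function.Involutive (fun x : F => x ^ q) := fun x => pow_q_pow_q' hF x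
  let σ₁ : F →ₐ[F₀] F :=
    { toFun := fun x => x ^ q
      map_one' := one_pow q
      map_mul' := fun x y => mul_pow x y q
      map_zero' := zero_pow (q_ne_zero' hF)
      map_add' := fun x y => add_pow_q' hF x y
      commutes' := fun a => hcon a.1 a.2 }
  let σ : F ≃ₐ[F₀] F := AlgEquiv.ofBijective σ₁ hinv.bijective
  have hσ : ∀ x, σ x = x ^ q := fun x => rfl
  have hσ2 : σ ^ 2 = 1 := by
    apply AlgEquiv.ext
    intro x
    rw [sq, AlgEquiv.mul_apply, hσ, hσ, pow_q_pow_q' hF]
    rfl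
  have hσ1 : σ ≠ 1 := by
    intro h1
    obtain ⟨θ, hθ⟩ := Cfsg.Agent.Lib.Helper43.exists_pow_q_ne hF (F := F)
    apply hθ
    have := AlgEquiv.congr_fun h1 θ
    rw [hσ] at this
    exact this
  haveI : Fact (Nat.Prime 2) := ⟨Nat.prime_two⟩
  have hord : orderOf σ = 2 := orderOf_eq_prime hσ2 hσ1
  have hcardG : Nat.card (F ≃ₐ[F₀] F) = r := by
    rw [IsGalois.card_aut_eq_finrank, h.finrank]
  have hdvd : 2 ∣ r := by
    rw [← hord, ← hcardG]
    exact orderOf_dvd_natCard σ
  obtain ⟨k, hk⟩ := h.hro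
  omega

/-- a non-zero skew element of the subfield -/
theorem RU.exists_skew0 (h : RU F₀ P q r) : ∃ ζ : F, ζ ∈ F₀ ∧ ζ ≠ 0 ∧ ζ + ζ ^ q = 0 := by
  obtain ⟨a, ha, hne⟩ := h.exists_nonfixed
  refine ⟨a - a ^ q, F₀.sub_mem ha (F₀.pow_mem ha q), sub_ne_zero.mpr (Ne.symm hne), ?_⟩
  rw [sub_pow_q h.hF, pow_q_pow_q' h.hF]
  ring

/-- the Frobenius involution of the subfield -/
def frob0 (hF : Fintype.card F = q ^ 2) (F₀ : Subfield F) : F₀ ≃+* F₀ where
  toFun x := ⟨x.1 ^ q, F₀.pow_mem x.2 q⟩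
  invFun x := ⟨x.1 ^ q, F₀.pow_mem x.2 q⟩
  left_inv x := Subtype.ext (pow_q_pow_q' hF x.1)
  right_inv x := Subtype.ext (pow_q_pow_q' hF x.1)
  map_mul' x y := Subtype.ext (mul_pow x.1 y.1 q)
  map_add' x y := Subtype.ext (add_pow_q' hF x.1 y.1)

theorem frob0_apply (hF : Fintype.card F = q ^ 2) (F₀ : Subfield F) (x : F₀) :
    ((frob0 hF F₀ x : F₀) : F) = (x : F) ^ q := rfl

theorem RU.frob0_ne (h : RU F₀ P q r) : frob0 h.hF F₀ ≠ RingEquiv.refl F₀ := by
  intro he
  obtain ⟨a, ha, hne⟩ := h.exists_nonfixed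
  apply hne
  have := congrArg (fun f : F₀ ≃+* F₀ => ((f ⟨a, ha⟩ : F₀) : F)) he
  exact this

/-- subalgebras of `F` over `F₀` are trivial -/
theorem RU.subalgebra_dichotomy (h : RU F₀ P q r) (A : Subalgebra F₀ F) :
    (∀ a ∈ A, a ∈ F₀) ∨ (∀ a : F, a ∈ A) := by
  have hsimple : IsSimpleOrder (Subalgebra F₀ F) :=
    Subalgebra.isSimpleOrder_of_finrank_prime F₀ F (h.finrank ▸ h.hr)
  rcases hsimple.eq_bot_or_eq_top A with h1 | h1
  · left
    intro a ha
    rw [h1, Algebra.mem_bot] at ha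
    obtain ⟨y, rfl⟩ := ha
    exact y.2
  · right
    intro a
    rw [h1]
    exact Algebra.mem_top

/-- an element outside the subfield satisfies no quadratic equation over it -/
theorem RU.quad_indep (h : RU F₀ P q r) {t : F} (ht : t ∉ F₀) {a b c : F} (ha : a ∈ F₀)
    (hb : b ∈ F₀) (hc : c ∈ F₀) (h0 : a * t ^ 2 + b * t + c = 0) : a = 0 ∧ b = 0 ∧ c = 0 := by
  classical
  have key : a = 0 := by
    by_contra ha0
    -- `t ^ 2 = α t + β`
    have hα : -b / a ∈ F₀ := F₀.div_mem (F₀.neg_mem hb) ha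
    have hβ : -c / a ∈ F₀ := F₀.div_mem (F₀.neg_mem hc) ha
    have hsq : t * t = (-b / a) * t + (-c / a) := by
      field_simp
      linear_combination h0
    let A : Subalgebra F₀ F :=
      { carrier := {x | ∃ u v : F, u ∈ F₀ ∧ v ∈ F₀ ∧ x = u + v * t}
        mul_mem' := by
          rintro _ _ ⟨u, v, hu, hv, rfl⟩ ⟨u', v', hu', hv', rfl⟩
          refine ⟨u * u' + v * v' * (-c / a), u * v' + v * u' + v * v' * (-b / a),
            F₀.add_mem (F₀.mul_mem hu hu') (F₀.mul_mem (F₀.mul_mem hv hv') hβ),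
            F₀.add_mem (F₀.add_mem (F₀.mul_mem hu hv') (F₀.mul_mem hv hu'))
              (F₀.mul_mem (F₀.mul_mem hv hv') hα), ?_⟩
          linear_combination (v * v') * hsq
        add_mem' := by
          rintro _ _ ⟨u, v, hu, hv, rfl⟩ ⟨u', v', hu', hv', rfl⟩
          exact ⟨u + u', v + v', F₀.add_mem hu hu', F₀.add_mem hv hv', by ring⟩
        algebraMap_mem' := fun x => ⟨x.1, 0, x.2, F₀.zero_mem, by
          show (x : F) = (x : F) + 0 * t
          ring⟩ }
    rcases h.subalgebra_dichotomy A with h1 | h1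
    · apply ht
      apply h1
      exact ⟨0, 1, F₀.zero_mem, F₀.one_mem, by ring⟩
    · -- cardinality
      haveI : Fintype F₀ := Fintype.ofFinite F₀
      let f : F₀ × F₀ → F := fun uv => (uv.1 : F) + (uv.2 : F) * t
      have hsurj : Function.Surjective f := by
        intro x
        obtain ⟨u, v, hu, hv, rfl⟩ := h1 x
        exact ⟨(⟨u, hu⟩, ⟨v, hv⟩), rfl⟩
      have h2 := Fintype.card_le_of_surjective f hsurj
      rw [Fintype.card_prod] at h2
      have h3 := h.hcard
      rw [Nat.card_eq_fintype_card] at h3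
      rw [h3] at h2
      have h4 : 1 < Fintype.card F₀ := Fintype.one_lt_card
      have h5 := h.three_le
      have h6 : Fintype.card F₀ ^ 3 ≤ Fintype.card F₀ ^ r :=
        Nat.pow_le_pow_right (by omega) h5
      have h7 : Fintype.card F₀ * Fintype.card F₀ < Fintype.card F₀ ^ 3 := by
        have : Fintype.card F₀ ^ 3 = Fintype.card F₀ * Fintype.card F₀ * Fintype.card F₀ := by ring
        rw [this]
        nlinarith
      omega
  subst key
  have hb0 : b = 0 := by
    by_contra hb0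
    apply ht
    have : t = -c / b := by
      field_simp
      linear_combination h0
    rw [this]
    exact F₀.div_mem (F₀.neg_mem hc) hb
  subst hb0
  refine ⟨rfl, rfl, ?_⟩
  linear_combination h0

/-- every skew element is of the form `μ - μ ^ q` -/
theorem exists_sub_conj (hF : Fintype.card F = q ^ 2) (c : F) (hc : c + c ^ q = 0) :
    ∃ μ : F, μ - μ ^ q = c := by
  obtain ⟨s, hs0, hs⟩ := exists_skew_ne_zero hF (F := F)
  have hsq : s ^ q = -s := skew_pow s hs
  have hcq : c ^ q = -c := skew_pow c hc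
  have hfix : (c / s) ^ q = c / s := by
    rw [div_pow, hsq, hcq]
    field_simp
  obtain ⟨β, hβ⟩ := exists_tr_eq hF (c / s) hfix
  refine ⟨s * β, ?_⟩
  rw [mul_pow, hsq]
  have : s * β - -s * β ^ q = s * (β + β ^ q) := by ring
  rw [this, hβ]
  field_simp

/-- skew elements of the subfield are the fixed multiples of a given one -/
theorem skew_div_fix {ζ c : F} (hζ0 : ζ ≠ 0) (hζ : ζ + ζ ^ q = 0) (hc : c + c ^ q = 0) :
    (c / ζ) ^ q = c / ζ := by
  rw [div_pow, skew_pow ζ hζ, skew_pow c hc]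
  field_simp

end field

end Cfsg.Agent.Lib.Helper61.SubfieldUr
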