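import Mathlib
import Cfsg.Prelude.Def_GeometricClasses
import Cfsg.Agent.Lib.Helper11.UnitaryMaxB
import Cfsg.Agent.Lib.Helper61.SubfieldUrA

/-!
Subfield subgroups `SU_n(q₀) < SU_n(q)`: geometry of the rational structure (a non-degenerate
unitary space over the subfield), transported from the abstract unitary geometry of `Helper11`.
-/

set_option autoImplicit false
set_option linter.unusedSectionVars false
set_option linter.unusedVariables false

namespace Cfsg.Agent.Lib.Helper61.SubfieldUr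

open Matrix Cfsg.Agent.Lib.Helper08 Cfsg.Agent.Lib.Helper51 Cfsg.Agent.Lib.Helper61.SubfieldSU
  Cfsg.Agent.Lib.Helper61.SubfieldSO

section geo
variable {F : Type*} [Field F] [Fintype F] {q n r : ℕ}

local notation "GLn" => Matrix.GeneralLinearGroup (Fin n) F
local notation "hh" => hform (Fin n) F q

variable {F₀ : Subfield F} {P : Matrix.GeneralLinearGroup (Fin n) F}

theorem hh0_symm (hF : Fintype.card F = q ^ 2) {x y : Fin n → F} (hxy : hh x y = 0) :
    hh y x = 0 := by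
  rw [← hform_conj hF, hxy, zero_pow (q_ne_zero' hF)]

theorem hhne_symm (hF : Fintype.card F = q ^ 2) {x y : Fin n → F} (hxy : hh x y ≠ 0) :
    hh y x ≠ 0 := fun h0 => hxy (hh0_symm hF h0)

theorem hh_zero_r (hF : Fintype.card F = q ^ 2) (x : Fin n → F) : hh x 0 = 0 :=
  hh0_symm hF (hform_zero_left x)

/-- expansion of the form along the columns of `P` -/
theorem hh_toV_left (u : Fin n → F₀) (y : Fin n → F) :
    hh (toV P u) y = ∑ i, (u i : F) * hh (P.1 *ᵥ Pi.single i 1) y := by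
  classical
  let w : Fin n → F := fun i => y i ^ q
  have h1 : ∀ z : Fin n → F, hh z y = z ⬝ᵥ w := fun z => rfl
  rw [h1]
  unfold toV
  rw [dotProduct_comm, Matrix.dotProduct_mulVec, dotProduct]
  apply Finset.sum_congr rfl
  intro i _
  rw [h1, dotProduct_comm (P.1 *ᵥ Pi.single i 1), Matrix.dotProduct_mulVec, dotProduct_single,
    mul_one, mul_comm]

theorem nondeg_left (hF : Fintype.card F = q ^ 2) (x : Fin n → F)
    (hx : ∀ y, Rat F₀ P y → hh y x = 0) : x = 0 := by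
  classical
  let w : Fin n → F := fun i => x i ^ q
  have h1 : ∀ y : Fin n → F, hh y x = y ⬝ᵥ w := fun y => rfl
  have h2 : w ᵥ* P.1 = 0 := by
    funext j
    have h3 := hx _ (rat_col (F₀ := F₀) (P := P) j)
    rw [h1, dotProduct_comm, Matrix.dotProduct_mulVec, dotProduct_single, mul_one] at h3
    exact h3
  have h4 : w = 0 := by
    have : (w ᵥ* P.1) ᵥ* P⁻¹.1 = w := by
      rw [Matrix.vecMul_vecMul, ← Units.val_mul, mul_inv_cancel, Units.val_one, Matrix.vecMul_one]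
    rw [← this, h2, Matrix.zero_vecMul]
  funext i
  have h5 : w i = 0 := by rw [h4]; rfl
  exact pow_eq_zero_iff (q_ne_zero' hF) |>.mp h5

theorem nondeg_right (hF : Fintype.card F = q ^ 2) (x : Fin n → F)
    (hx : ∀ y, Rat F₀ P y → hh x y = 0) : x = 0 :=
  nondeg_left (F₀ := F₀) (P := P) hF x (fun y hy => hh0_symm hF (hx y hy))

theorem exists_ne_right (hF : Fintype.card F = q ^ 2) (x : Fin n → F) (hx0 : x ≠ 0) :
    ∃ y, Rat F₀ P y ∧ hh x y ≠ 0 := by
  by_contra hcon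
  push Not at hcon
  exact hx0 (nondeg_right hF x hcon)

theorem exists_ne_left (hF : Fintype.card F = q ^ 2) (x : Fin n → F) (hx0 : x ≠ 0) :
    ∃ y, Rat F₀ P y ∧ hh y x ≠ 0 := by
  obtain ⟨y, hy, hxy⟩ := exists_ne_right (F₀ := F₀) (P := P) hF x hx0
  exact ⟨y, hy, hhne_symm hF hxy⟩

/-- the form over the subfield -/
def f0 (h : RU F₀ P q r) (u v : Fin n → F₀) : F₀ :=
  ⟨hform (Fin n) F q (toV P u) (toV P v), h.val _ _ (rat_toV u) (rat_toV v)⟩

theorem f0_coe (h : RU F₀ P q r) (u v : Fin n → F₀) :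
    ((f0 h u v : F₀) : F) = hh (toV P u) (toV P v) := rfl

theorem RU.unitary (h : RU F₀ P q r) : Cfsg.Geo.IsUnitaryForm (frob0 h.hF F₀) (f0 h) := by
  refine ⟨h.frob0_ne, ?_, ?_, ?_, ?_, ?_⟩
  · intro a
    apply Subtype.ext
    rw [frob0_apply, frob0_apply, pow_q_pow_q' h.hF]
  · intro x y v
    apply Subtype.ext
    rw [Subfield.coe_add, f0_coe, f0_coe, f0_coe, toV_add, hform_add_left]
  · intro c x v
    apply Subtype.ext
    rw [Subfield.coe_mul, f0_coe, f0_coe, toV_smul, hform_smul_left]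
  · intro v w
    apply Subtype.ext
    rw [frob0_apply, f0_coe, f0_coe, hform_conj h.hF]
  · intro v hv
    have hv0 : toV P v ≠ 0 := toV_ne_zero (P := P) hv
    constructor
    · obtain ⟨y, hy, hne⟩ := exists_ne_left (F₀ := F₀) (P := P) h.hF _ hv0
      obtain ⟨x, rfl⟩ := exists_toV hy
      refine ⟨x, fun h0 => hne ?_⟩
      have := congrArg (fun z : F₀ => (z : F)) h0
      exact this
    · obtain ⟨y, hy, hne⟩ := exists_ne_right (F₀ := F₀) (P := P) h.hF _ hv0
      obtain ⟨x, rfl⟩ := exists_toV hy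
      refine ⟨x, fun h0 => hne ?_⟩
      have := congrArg (fun z : F₀ => (z : F)) h0
      exact this

theorem RU.smul_right (h : RU F₀ P q r) (a : F) (x y : Fin n → F) :
    hh x (a • y) = a ^ q * hh x y := hform_smul_right a x y

/-- a rational anisotropic vector orthogonal to a family of rational vectors -/
theorem RU.exists_anis (h : RU F₀ P q r) {κ : Type} [Fintype κ] (s : κ → Fin n → F)
    (hs : ∀ i, Rat F₀ P (s i)) (hκ : 2 * Fintype.card κ < n) :
    ∃ w, Rat F₀ P w ∧ hh w w ≠ 0 ∧ ∀ i, hh (s i) w = 0 ∧ hh w (s i) = 0 := by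
  classical
  choose u hu using fun i => exists_toV (hs i)
  obtain ⟨w, hw, hws⟩ := Cfsg.Agent.Lib.Helper11.UnitaryMax.exists_orth_anis h.unitary u
    (by rw [Fintype.card_fin]; exact hκ)
  refine ⟨toV P w, rat_toV w, fun h0 => hw (Subtype.ext h0), fun i => ?_⟩
  rw [hu i]
  exact ⟨congrArg Subtype.val (hws i).1, congrArg Subtype.val (hws i).2⟩

/-- adjusting a rational vector to an isotropic one, keeping its pairings with a family -/
theorem RU.exists_iso_adjust (h : RU F₀ P q r) {κ : Type} [Fintype κ] (s : κ → Fin n → F)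
    (hs : ∀ i, Rat F₀ P (s i)) (z : Fin n → F) (hz : Rat F₀ P z)
    (hκ : 2 * (Fintype.card κ + 1) < n) :
    ∃ d, Rat F₀ P d ∧ hh d d = 0 ∧ ∀ i, hh (s i) d = hh (s i) z ∧ hh d (s i) = hh z (s i) := by
  classical
  haveI : Fintype F₀ := Fintype.ofFinite F₀
  choose u hu using fun i => exists_toV (hs i)
  obtain ⟨z₀, rfl⟩ := exists_toV hz
  obtain ⟨d, hd, hds⟩ := Cfsg.Agent.Lib.Helper11.UnitaryMax.exists_iso_adjust h.unitary u z₀
    (by rw [Fintype.card_fin]; exact hκ)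
  refine ⟨toV P d, rat_toV d, congrArg Subtype.val hd, fun i => ?_⟩
  rw [hu i]
  exact ⟨congrArg Subtype.val (hds i).1, congrArg Subtype.val (hds i).2⟩

/-- splitting a rational vector into two rational isotropic vectors -/
theorem RU.exists_split (h : RU F₀ P q r) {κ : Type} [Fintype κ] (s : κ → Fin n → F)
    (hs : ∀ i, Rat F₀ P (s i)) (x : Fin n → F) (hx : Rat F₀ P x)
    (hκ : 2 * (Fintype.card κ + 1) < n) :
    ∃ e₁ e₂, Rat F₀ P e₁ ∧ Rat F₀ P e₂ ∧ x = e₁ + e₂ ∧ hh e₁ e₁ = 0 ∧ hh e₂ e₂ = 0 ∧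
      ∀ i, hh (s i) x = 0 → (hh (s i) e₁ = 0 ∧ hh (s i) e₂ = 0) := by
  classical
  haveI : Fintype F₀ := Fintype.ofFinite F₀
  choose u hu using fun i => exists_toV (hs i)
  obtain ⟨x₀, rfl⟩ := exists_toV hx
  obtain ⟨e₁, e₂, he, h1, h2, h3⟩ := Cfsg.Agent.Lib.Helper11.UnitaryMax.exists_split h.unitary u x₀
    (by rw [Fintype.card_fin]; exact hκ)
  refine ⟨toV P e₁, toV P e₂, rat_toV e₁, rat_toV e₂, ?_, congrArg Subtype.val h1,
    congrArg Subtype.val h2, fun i hi => ?_⟩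
  · rw [he, toV_add]
  · rw [hu i] at hi ⊢
    have h4 := h3 i (Subtype.ext hi)
    exact ⟨congrArg Subtype.val h4.1, congrArg Subtype.val h4.2⟩

/-- a rational isotropic vector orthogonal to `u` and to neither `p` nor `p'` -/
theorem RU.exists_iso_conn (h : RU F₀ P q r) (hn : 8 < n) (u p p' : Fin n → F)
    (hu : Rat F₀ P u) (hp : Rat F₀ P p) (hp' : Rat F₀ P p') (hpu : ∀ a ∈ F₀, p ≠ a • u)
    (hp'u : ∀ a ∈ F₀, p' ≠ a • u) :
    ∃ d, Rat F₀ P d ∧ hh d d = 0 ∧ hh u d = 0 ∧ hh p d ≠ 0 ∧ hh p' d ≠ 0 := by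
  classical
  haveI : Fintype F₀ := Fintype.ofFinite F₀
  obtain ⟨u₀, rfl⟩ := exists_toV hu
  obtain ⟨p₀, rfl⟩ := exists_toV hp
  obtain ⟨p₀', rfl⟩ := exists_toV hp'
  have h1 : p₀ ∉ Submodule.span F₀ {u₀} := by
    intro hmem
    obtain ⟨a, ha⟩ := Submodule.mem_span_singleton.mp hmem
    apply hpu a.1 a.2
    rw [← ha, toV_smul]
  have h2 : p₀' ∉ Submodule.span F₀ {u₀} := by
    intro hmem
    obtain ⟨a, ha⟩ := Submodule.mem_span_singleton.mp hmem
    apply hp'u a.1 a.2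
    rw [← ha, toV_smul]
  obtain ⟨d, hd, hud, hpd, hp'd⟩ := Cfsg.Agent.Lib.Helper11.UnitaryMax.exists_iso_conn h.unitary
    (by rw [Fintype.card_fin]; exact hn) u₀ p₀ p₀' h1 h2
  refine ⟨toV P d, rat_toV d, congrArg Subtype.val hd, congrArg Subtype.val hud,
    fun h0 => hpd (Subtype.ext h0), fun h0 => hp'd (Subtype.ext h0)⟩

/-- a vector all of whose pairings with rational vectors are rational is rational -/
theorem RU.rat_of_pairings (h : RU F₀ P q r) (y : Fin n → F)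
    (hy : ∀ x, Rat F₀ P x → hh x y ∈ F₀) : Rat F₀ P y := by
  classical
  let φ : Fin n → F₀ := fun i => ⟨hh (P.1 *ᵥ Pi.single i 1) y, hy _ (rat_col i)⟩
  obtain ⟨z, hz⟩ := Cfsg.Agent.Lib.Helper11.UnitaryMax.riesz h.unitary φ
  have key : y - toV P z = 0 := by
    apply nondeg_left (F₀ := F₀) (P := P) h.hF
    intro x hx
    obtain ⟨u, rfl⟩ := exists_toV hx
    rw [hform_sub_right h.hF, sub_eq_zero, hh_toV_left]
    have h1 := congrArg (fun t : F₀ => (t : F)) (hz u)
    simp only [f0_coe] at h1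
    rw [h1, dotProduct]
    simp only [AddSubmonoidClass.coe_finset_sum, Subfield.coe_mul]
    apply Finset.sum_congr rfl
    intro i _
    rw [mul_comm]
  rw [sub_eq_zero.mp key]
  exact rat_toV z

/-- a rational vector orthogonal to `x` but not to `y`, when `y` is not a rational multiple of
`x` -/
theorem RU.exists_perp (h : RU F₀ P q r) (x y : Fin n → F) (hx : Rat F₀ P x) (hy : Rat F₀ P y)
    (hx0 : x ≠ 0) (hyne : ∀ a ∈ F₀, y ≠ a • x) :
    ∃ z, Rat F₀ P z ∧ hh x z = 0 ∧ hh y z ≠ 0 := by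
  have hF := h.hF
  obtain ⟨w, hw, hxw⟩ := exists_ne_right (F₀ := F₀) (P := P) hF x hx0
  have hb : hh x w ∈ F₀ := h.val x w hx hw
  set c : F := ((hh x w) ^ q)⁻¹ with hc
  have hcm : c ∈ F₀ := F₀.inv_mem (F₀.pow_mem hb q)
  set w' : Fin n → F := c • w with hw'
  have hw'r : Rat F₀ P w' := rat_smul hcm hw
  have hxw' : hh x w' = 1 := by
    rw [hw', hform_smul_right, hc, inv_pow, pow_q_pow_q' hF, inv_mul_cancel₀ hxw]
  by_contra hcon
  push Not at hcon
  set β : F := hh y w' with hβ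
  have hβm : β ∈ F₀ := h.val y w' hy hw'r
  apply hyne β hβm
  rw [← sub_eq_zero]
  apply nondeg_right (F₀ := F₀) (P := P) hF
  intro v hv
  have hcv : hh x v ∈ F₀ := h.val x v hx hv
  set z : Fin n → F := v - ((hh x v) ^ q) • w' with hz
  have hzr : Rat F₀ P z := rat_sub hv (rat_smul (F₀.pow_mem hcv q) hw'r)
  have hxz : hh x z = 0 := by
    rw [hz, hform_sub_right hF, hform_smul_right, pow_q_pow_q' hF, hxw', mul_one, sub_self]
  have hyz := hcon z hzr hxz
  rw [hz, hform_sub_right hF, hform_smul_right, pow_q_pow_q' hF] at hyz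
  rw [hform_sub_left, hform_smul_left, hβ]
  linear_combination hyz

theorem rat_opt {κ : Type} (s : κ → Fin n → F) (hs : ∀ i, Rat F₀ P (s i)) (z : Fin n → F)
    (hz : Rat F₀ P z) : ∀ o : Option κ, Rat F₀ P (o.elim z s) := by
  intro o
  cases o with
  | none => exact hz
  | some i => exact hs i

/-- a non-zero rational isotropic vector orthogonal to a family, with a witness of its
independence from the family -/
theorem RU.exists_iso_perp (h : RU F₀ P q r) {κ : Type} [Fintype κ] (s : κ → Fin n → F)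
    (hs : ∀ i, Rat F₀ P (s i)) (hκ : 2 * (Fintype.card κ + 2) < n) :
    ∃ e z, Rat F₀ P e ∧ Rat F₀ P z ∧ hh e e = 0 ∧ (∀ i, hh (s i) e = 0 ∧ hh e (s i) = 0) ∧
      (∀ i, hh (s i) z = 0 ∧ hh z (s i) = 0) ∧ hh e z ≠ 0 := by
  classical
  have hF := h.hF
  obtain ⟨z, hz, hzz, hzs⟩ := h.exists_anis s hs (by omega)
  obtain ⟨d, hd, hdd, hds⟩ := h.exists_iso_adjust (fun o : Option κ => o.elim z s)
    (rat_opt s hs z hz) z hz (by rw [Fintype.card_option]; omega)
  refine ⟨d, z, hd, hz, hdd, fun i => ?_, hzs, ?_⟩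
  · have := hds (some i)
    simp only [Option.elim] at this
    rw [this.1, this.2]
    exact hzs i
  · have := (hds none).2
    simp only [Option.elim] at this
    rw [this]
    exact hzz

/-- a rational isotropic vector with prescribed vanishing pairings and pairing `1` with `x`,
given a witness -/
theorem RU.exists_iso_dual (h : RU F₀ P q r) {κ : Type} [Fintype κ] (s : κ → Fin n → F)
    (hs : ∀ i, Rat F₀ P (s i)) (x : Fin n → F) (hx : Rat F₀ P x) (z₁ : Fin n → F)
    (hz₁ : Rat F₀ P z₁) (hz₁s : ∀ i, hh (s i) z₁ = 0) (hxz₁ : hh x z₁ ≠ 0)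
    (hκ : 2 * (Fintype.card κ + 2) < n) :
    ∃ z, Rat F₀ P z ∧ hh z z = 0 ∧ (∀ i, hh (s i) z = 0 ∧ hh z (s i) = 0) ∧ hh x z = 1 ∧
      hh z x = 1 := by
  classical
  have hF := h.hF
  have hb : hh x z₁ ∈ F₀ := h.val x z₁ hx hz₁
  set c : F := ((hh x z₁) ^ q)⁻¹ with hc
  have hcm : c ∈ F₀ := F₀.inv_mem (F₀.pow_mem hb q)
  set z₂ : Fin n → F := c • z₁ with hz₂
  have hz₂r : Rat F₀ P z₂ := rat_smul hcm hz₁
  have hxz₂ : hh x z₂ = 1 := by
    rw [hz₂, hform_smul_right, hc, inv_pow, pow_q_pow_q' hF, inv_mul_cancel₀ hxz₁]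
  have hsz₂ : ∀ i, hh (s i) z₂ = 0 := by
    intro i
    rw [hz₂, hform_smul_right, hz₁s i, mul_zero]
  obtain ⟨d, hd, hdd, hds⟩ := h.exists_iso_adjust (fun o : Option κ => o.elim x s)
    (rat_opt s hs x hx) z₂ hz₂r (by rw [Fintype.card_option]; omega)
  refine ⟨d, hd, hdd, fun i => ?_, ?_, ?_⟩
  · have := hds (some i)
    simp only [Option.elim] at this
    rw [this.1, this.2]
    exact ⟨hsz₂ i, hh0_symm hF (hsz₂ i)⟩
  · have := (hds none).1
    simp only [Option.elim] at this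
    rw [this]
    exact hxz₂
  · have := (hds none).2
    simp only [Option.elim] at this
    rw [this, ← hform_conj hF, hxz₂, one_pow]

/-- a rational hyperbolic pair orthogonal to a family of rational vectors -/
theorem RU.exists_hyp_perp (h : RU F₀ P q r) {κ : Type} [Fintype κ] (s : κ → Fin n → F)
    (hs : ∀ i, Rat F₀ P (s i)) (hκ : 2 * (Fintype.card κ + 2) < n) :
    ∃ e f, Rat F₀ P e ∧ Rat F₀ P f ∧ hh e e = 0 ∧ hh f f = 0 ∧ hh e f = 1 ∧ hh f e = 1 ∧
      (∀ i, hh (s i) e = 0 ∧ hh e (s i) = 0) ∧ (∀ i, hh (s i) f = 0 ∧ hh f (s i) = 0) := by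
  obtain ⟨e, z, he, hz, hee, hes, hzs, hez⟩ := h.exists_iso_perp s hs hκ
  obtain ⟨f, hf, hff, hfs, hef, hfe⟩ := h.exists_iso_dual s hs e he z hz (fun i => (hzs i).1) hez hκ
  exact ⟨e, f, he, hf, hee, hff, hef, hfe, hes, hfs⟩

end geo

end Cfsg.Agent.Lib.Helper61.SubfieldUr
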