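import Mathlib
import Cfsg.Prelude.Def_GeometricClasses
import Cfsg.Agent.Lib.Helper51.SUGen8
import Cfsg.Agent.Lib.Helper61.SubfieldSUC
import Cfsg.Agent.Lib.Helper61.SubfieldSOC
import Cfsg.Agent.Lib.Helper61.SubfieldUrB

/-!
Subfield subgroups `SU_n(q₀) < SU_n(q)`: Siegel elements, Eichler elements and transvections,
their algebra, the rational ones, and the moves between rational isotropic vectors.
-/

set_option autoImplicit false
set_option linter.unusedSectionVars false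
set_option linter.unusedVariables false

namespace Cfsg.Agent.Lib.Helper61.SubfieldUr

open Matrix Cfsg.Agent.Lib.Helper08 Cfsg.Agent.Lib.Helper51 Cfsg.Agent.Lib.Helper61.SubfieldSU
  Cfsg.Agent.Lib.Helper61.SubfieldSO

section elems
variable {F : Type*} [Field F] [Fintype F] {q n r : ℕ}

local notation "GLn" => Matrix.GeneralLinearGroup (Fin n) F
local notation "hh" => hform (Fin n) F q

/-- the matrix `A` represents an element of `M` -/
def InM (M : Subgroup (Matrix.GeneralLinearGroup (Fin n) F)) (A : Matrix (Fin n) (Fin n) F) :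
    Prop :=
  ∀ t : Matrix.GeneralLinearGroup (Fin n) F, t.1 = A → t ∈ M

variable {M : Subgroup (Matrix.GeneralLinearGroup (Fin n) F)}

theorem inM_of_mem (t : GLn) (ht : t ∈ M) : InM M t.1 := by
  intro s hs
  rw [Units.ext hs]
  exact ht

theorem InM.mul {A B : Matrix (Fin n) (Fin n) F} (hA : InM M A) (hB : InM M B) (hAu : IsUnit A)
    (hBu : IsUnit B) : InM M (A * B) := by
  intro t ht
  have : t = hAu.unit * hBu.unit := by
    apply Units.ext
    rw [ht, Units.val_mul]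
    rfl
  rw [this]
  exact M.mul_mem (hA _ rfl) (hB _ rfl)

theorem inM_one : InM M (1 : Matrix (Fin n) (Fin n) F) := by
  intro t ht
  have : t = 1 := Units.ext ht
  rw [this]
  exact M.one_mem

theorem InM.of_mul_eq_one {A B : Matrix (Fin n) (Fin n) F} (hA : InM M A) (hAB : A * B = 1) :
    InM M B := by
  intro t ht
  have hBA : B * A = 1 := (Matrix.mul_eq_one_comm_of_card_eq (Fin n) (Fin n) F rfl).mp hAB
  let tA : GLn := ⟨A, B, hAB, hBA⟩
  have h1 : tA ∈ M := hA tA rfl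
  have h2 : t = tA⁻¹ := by
    apply Units.ext
    rw [ht]
    rfl
  rw [h2]
  exact M.inv_mem h1

theorem InM.of_mul_left {A B : Matrix (Fin n) (Fin n) F} (hAB : InM M (A * B)) (hA : InM M A)
    (hAu : IsUnit A) (hBu : IsUnit B) : InM M B := by
  intro t ht
  have h1 : hAu.unit ∈ M := hA _ rfl
  have h2 : hAu.unit * t ∈ M := hAB _ (by rw [Units.val_mul, ht]; rfl)
  have : t = (hAu.unit)⁻¹ * (hAu.unit * t) := by group
  rw [this]
  exact M.mul_mem (M.inv_mem h1) h2

theorem InM.of_mul_right {A B : Matrix (Fin n) (Fin n) F} (hAB : InM M (A * B)) (hB : InM M B)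
    (hAu : IsUnit A) (hBu : IsUnit B) : InM M A := by
  intro t ht
  have h1 : hBu.unit ∈ M := hB _ rfl
  have h2 : t * hBu.unit ∈ M := hAB _ (by rw [Units.val_mul, ht]; rfl)
  have : t = (t * hBu.unit) * (hBu.unit)⁻¹ := by group
  rw [this]
  exact M.mul_mem h2 (M.inv_mem h1)

/-- conjugation: if `g A = B g` with `g ∈ M` then `B` is in `M` -/
theorem InM.conj {A B : Matrix (Fin n) (Fin n) F} (hA : InM M A) (g : GLn) (hg : g ∈ M)
    (hAu : IsUnit A) (e : g.1 * A = B * g.1) : InM M B := by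
  intro t ht
  have h1 : hAu.unit ∈ M := hA _ rfl
  have : t = g * hAu.unit * g⁻¹ := by
    rw [eq_mul_inv_iff_mul_eq]
    apply Units.ext
    rw [Units.val_mul, Units.val_mul, ht, ← e]
    rfl
  rw [this]
  exact M.mul_mem (M.mul_mem hg h1) (M.inv_mem hg)

theorem mem_XM_iff (v : Fin n → F) :
    v ∈ XM q M ↔ hh v v = 0 ∧ ∀ c : F, c + c ^ q = 0 → InM M (qrefl q v c) := Iff.rfl

/-- the Siegel element `x ↦ x + a h(x,w) v - a^q h(x,v) w` -/
def sg (q : ℕ) (v w : Fin n → F) (a : F) : Matrix (Fin n) (Fin n) F := eichler q w (a • v) 0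

theorem sg_mulVec (hF : Fintype.card F = q ^ 2) (v w : Fin n → F) (a : F) (hww : hh w w = 0)
    (hwv : hh w v = 0) (x : Fin n → F) :
    sg q v w a *ᵥ x = x + (a * hh x w) • v - (a ^ q * hh x v) • w := by
  unfold sg
  rw [eichler_mulVec hF w (a • v) 0 hww (by rw [hform_smul_right, hwv, mul_zero])]
  rw [zero_smul, add_zero, hform_smul_right, smul_smul, mul_comm]

theorem sg_iso (hF : Fintype.card F = q ^ 2) (v w : Fin n → F) (a : F) (hvv : hh v v = 0)
    (hww : hh w w = 0) (hwv : hh w v = 0) : IsIsoMat q (sg q v w a) := by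
  unfold sg
  apply eichler_iso hF w (a • v) 0 hww (by rw [hform_smul_right, hwv, mul_zero])
  rw [hform_smul_left, hform_smul_right, hvv, zero_pow (q_ne_zero' hF)]
  ring

theorem sg_det (hF : Fintype.card F = q ^ 2) (v w : Fin n → F) (a : F)
    (hww : hh w w = 0) (hwv : hh w v = 0) : (sg q v w a).det = 1 := by
  unfold sg
  exact eichler_det hF w (a • v) 0 hww (by rw [hform_smul_right, hwv, mul_zero])

theorem sg_unit (hF : Fintype.card F = q ^ 2) (v w : Fin n → F) (a : F) (hvv : hh v v = 0)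
    (hww : hh w w = 0) (hwv : hh w v = 0) : IsUnit (sg q v w a) :=
  (sg_iso hF v w a hvv hww hwv).isUnit hF

theorem sg_add (hF : Fintype.card F = q ^ 2) (v w : Fin n → F) (a b : F) (hvv : hh v v = 0)
    (hww : hh w w = 0) (hwv : hh w v = 0) : sg q v w a * sg q v w b = sg q v w (a + b) := by
  have hvw : hh v w = 0 := hh0_symm hF hwv
  apply mat_ext_mulVec
  intro x
  simp only [← Matrix.mulVec_mulVec, sg_mulVec hF v w _ hww hwv]
  simp only [hform_add_left, hform_sub_left, hform_smul_left, hvv, hww, hwv, hvw, add_pow_q' hF]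
  funext i
  simp only [Pi.add_apply, Pi.sub_apply, Pi.smul_apply, smul_eq_mul]
  ring

theorem sg_zero (hF : Fintype.card F = q ^ 2) (v w : Fin n → F) (hww : hh w w = 0)
    (hwv : hh w v = 0) : sg q v w 0 = 1 := by
  apply mat_ext_mulVec
  intro x
  rw [sg_mulVec hF v w 0 hww hwv, zero_mul, zero_smul, zero_pow (q_ne_zero' hF), zero_mul,
    zero_smul, add_zero, sub_zero, Matrix.one_mulVec]

theorem sg_conj (hF : Fintype.card F = q ^ 2) (g : Matrix (Fin n) (Fin n) F) (hg : IsIsoMat q g)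
    (v w : Fin n → F) (a : F) (hww : hh w w = 0) (hwv : hh w v = 0) :
    g * sg q v w a = sg q (g *ᵥ v) (g *ᵥ w) a * g := by
  unfold sg
  rw [eichler_conj hF g hg w (a • v) 0 hww (by rw [hform_smul_right, hwv, mul_zero]),
    Matrix.mulVec_smul]

/-- rescaling the vectors of a Siegel element -/
theorem sg_smul (hF : Fintype.card F = q ^ 2) (v w : Fin n → F) (a l m : F) (hww : hh w w = 0)
    (hwv : hh w v = 0) : sg q (l • v) (m • w) a = sg q v w (a * l * m ^ q) := by
  apply mat_ext_mulVec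
  intro x
  rw [sg_mulVec hF (l • v) (m • w) a (by
      rw [hform_smul_left, hform_smul_right, hww, mul_zero, mul_zero]) (by
      rw [hform_smul_left, hform_smul_right, hwv, mul_zero, mul_zero]),
    sg_mulVec hF v w _ hww hwv]
  simp only [hform_smul_right, mul_pow, pow_q_pow_q' hF, smul_smul]
  funext i
  simp only [Pi.add_apply, Pi.sub_apply, Pi.smul_apply, smul_eq_mul]
  ring

/-- swapping the vectors of a Siegel element -/
theorem sg_swap (hF : Fintype.card F = q ^ 2) (v w : Fin n → F) (a : F) (hvv : hh v v = 0)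
    (hww : hh w w = 0) (hwv : hh w v = 0) : sg q v w a = sg q w v (-(a ^ q)) := by
  have hvw : hh v w = 0 := hh0_symm hF hwv
  apply mat_ext_mulVec
  intro x
  rw [sg_mulVec hF v w a hww hwv, sg_mulVec hF w v _ hvv hvw, neg_pow_q hF, pow_q_pow_q' hF]
  funext i
  simp only [Pi.add_apply, Pi.sub_apply, Pi.smul_apply, smul_eq_mul]
  ring

/-- additivity of a Siegel element in its first vector -/
theorem sg_add_left (hF : Fintype.card F = q ^ 2) (w w' e : Fin n → F) (a : F)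
    (hee : hh e e = 0) (hew : hh e w = 0) (hew' : hh e w' = 0) (hww' : hh w w' = 0) :
    sg q w e a * sg q w' e a = sg q (w + w') e a := by
  have hwe : hh w e = 0 := hh0_symm hF hew
  have hw'e : hh w' e = 0 := hh0_symm hF hew'
  have hw'w : hh w' w = 0 := hh0_symm hF hww'
  apply mat_ext_mulVec
  intro x
  simp only [← Matrix.mulVec_mulVec]
  rw [sg_mulVec hF w' e a hee hew', sg_mulVec hF w e a hee hew,
    sg_mulVec hF (w + w') e a hee (by rw [hform_add_right hF, hew, hew', add_zero])]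
  simp only [hform_add_left, hform_sub_left, hform_smul_left, hform_add_right hF, hee, hew,
    hew', hwe, hw'e, hww', hw'w]
  funext i
  simp only [Pi.add_apply, Pi.sub_apply, Pi.smul_apply, smul_eq_mul]
  ring

/-- the commutator relation for Siegel elements -/
theorem sg_comm (hF : Fintype.card F = q ^ 2) (v w e f : Fin n → F) (a b : F)
    (hvv : hh v v = 0) (hww : hh w w = 0) (hee : hh e e = 0) (hff : hh f f = 0)
    (hef : hh e f = 1) (hvw : hh v w = 0) (hve : hh v e = 0) (hvf : hh v f = 0)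
    (hwe : hh w e = 0) (hwf : hh w f = 0) :
    sg q v f a * sg q e w b = sg q v w (a * b) * (sg q e w b * sg q v f a) := by
  have hfe : hh f e = 1 := by rw [← hform_conj hF, hef, one_pow]
  have hwv : hh w v = 0 := hh0_symm hF hvw
  have hev : hh e v = 0 := hh0_symm hF hve
  have hfv : hh f v = 0 := hh0_symm hF hvf
  have hew : hh e w = 0 := hh0_symm hF hwe
  have hfw : hh f w = 0 := hh0_symm hF hwf
  apply mat_ext_mulVec
  intro x
  simp only [← Matrix.mulVec_mulVec]
  rw [sg_mulVec hF e w b hww hwe, sg_mulVec hF v f a hff hfv, sg_mulVec hF v f a hff hfv,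
    sg_mulVec hF e w b hww hwe, sg_mulVec hF v w (a * b) hww hwv]
  simp only [hform_add_left, hform_sub_left, hform_smul_left, hvv, hww, hee, hff, hef, hfe, hvw,
    hwv, hve, hev, hvf, hfv, hwe, hew, hwf, hfw, mul_pow]
  funext i
  simp only [Pi.add_apply, Pi.sub_apply, Pi.smul_apply, smul_eq_mul]
  ring

/-- an Eichler element with isotropic vector part is a Siegel element times a transvection -/
theorem eichler_eq_sg (hF : Fintype.card F = q ^ 2) (u y : Fin n → F) (a α : F)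
    (huu : hh u u = 0) (huy : hh u y = 0) :
    eichler q u (a • y) α = sg q y u a * qrefl q u α := by
  have hyu : hh y u = 0 := hh0_symm hF huy
  apply mat_ext_mulVec
  intro x
  simp only [← Matrix.mulVec_mulVec]
  rw [eichler_mulVec hF u (a • y) α huu (by rw [hform_smul_right, huy, mul_zero]),
    qrefl_mulVec, sg_mulVec hF y u a huu huy]
  simp only [hform_add_left, hform_smul_left, hform_smul_right, huu, huy, hyu]
  funext i
  simp only [Pi.add_apply, Pi.sub_apply, Pi.smul_apply, smul_eq_mul]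
  ring

/-- product of Eichler elements with the same isotropic vector -/
theorem eichler_mul (hF : Fintype.card F = q ^ 2) (u y y' : Fin n → F) (α α' : F)
    (huu : hh u u = 0) (huy : hh u y = 0) (huy' : hh u y' = 0) :
    eichler q u y α * eichler q u y' α' = eichler q u (y + y') (α + α' - hh y' y) := by
  have hyu : hh y u = 0 := hh0_symm hF huy
  have hy'u : hh y' u = 0 := hh0_symm hF huy'
  apply mat_ext_mulVec
  intro x
  simp only [← Matrix.mulVec_mulVec]
  rw [eichler_mulVec hF u y' α' huu huy', eichler_mulVec hF u y α huu huy,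
    eichler_mulVec hF u (y + y') _ huu (by rw [hform_add_right hF, huy, huy', add_zero])]
  simp only [hform_add_left, hform_sub_left, hform_smul_left, hform_add_right hF, huu, huy, huy',
    hyu, hy'u]
  funext i
  simp only [Pi.add_apply, Pi.sub_apply, Pi.smul_apply, smul_eq_mul]
  ring

theorem eichler_unit (hF : Fintype.card F = q ^ 2) (u y : Fin n → F) (α : F)
    (huu : hh u u = 0) (huy : hh u y = 0) : IsUnit (eichler q u y α) := by
  rw [Matrix.isUnit_iff_isUnit_det, eichler_det hF u y α huu huy]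
  exact isUnit_one

theorem qrefl_unit (hF : Fintype.card F = q ^ 2) (u : Fin n → F) (c : F) (huu : hh u u = 0) :
    IsUnit (qrefl q u c) := by
  rw [Matrix.isUnit_iff_isUnit_det, det_qrefl', huu, mul_zero, add_zero]
  exact isUnit_one

/-- the quotient of two transvections whose centres differ by a perpendicular isotropic vector -/
theorem qrefl_quot (hF : Fintype.card F = q ^ 2) (u e : Fin n → F) (c k : F)
    (hc : c + c ^ q = 0) (huu : hh u u = 0) (hee : hh e e = 0) (hue : hh u e = 0) :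
    qrefl q u (-c) * qrefl q (u - k • e) c = eichler q e ((-(c * k ^ q)) • u) (c * k * k ^ q) := by
  have heu : hh e u = 0 := hh0_symm hF hue
  have hcq : c ^ q = -c := skew_pow c hc
  apply mat_ext_mulVec
  intro x
  simp only [← Matrix.mulVec_mulVec]
  rw [qrefl_mulVec, qrefl_mulVec,
    eichler_mulVec hF e _ _ hee (by rw [hform_smul_right, heu, mul_zero])]
  simp only [hform_add_left, hform_sub_left, hform_smul_left, hform_sub_right hF,
    hform_smul_right, huu, hee, hue, heu, neg_pow_q hF, mul_pow, pow_q_pow_q' hF, hcq]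
  funext i
  simp only [Pi.add_apply, Pi.sub_apply, Pi.smul_apply, smul_eq_mul]
  ring

variable {F₀ : Subfield F} {P : Matrix.GeneralLinearGroup (Fin n) F}

/-- rational Siegel elements lie in every overgroup of the subfield subgroup -/
theorem RU.sg_good (h : RU F₀ P q r)
    (hHM : Cfsg.Geo.subfieldSubgroup F₀ P ⊓
      (Cfsg.GU n F q ⊓ Cfsg.Geo.specialLinear (Fin n) F) ≤ M)
    (v w : Fin n → F) (hv : Rat F₀ P v) (hw : Rat F₀ P w) (hvv : hh v v = 0) (hww : hh w w = 0)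
    (hwv : hh w v = 0) (a : F) (ha : a ∈ F₀) (t : GLn) (ht : t.1 = sg q v w a) :
    Good F₀ P q M t := by
  have hF := h.hF
  have hiso : IsIsoMat q t.1 := by rw [ht]; exact sg_iso hF v w a hvv hww hwv
  have hdet : t.1.det = 1 := by rw [ht]; exact sg_det hF v w a hww hwv
  have hrat : ∀ x, Rat F₀ P x → Rat F₀ P (t.1 *ᵥ x) := by
    intro x hx
    rw [ht, sg_mulVec hF v w a hww hwv]
    exact rat_sub (rat_add hx (rat_smul (F₀.mul_mem ha (h.val x w hx hw)) hv))
      (rat_smul (F₀.mul_mem (F₀.pow_mem ha q) (h.val x v hx hv)) hw)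
  exact ⟨hHM (mem_H_of_rat t hiso hdet hrat), hiso, hrat⟩

theorem RU.sg_inM (h : RU F₀ P q r)
    (hHM : Cfsg.Geo.subfieldSubgroup F₀ P ⊓
      (Cfsg.GU n F q ⊓ Cfsg.Geo.specialLinear (Fin n) F) ≤ M)
    (v w : Fin n → F) (hv : Rat F₀ P v) (hw : Rat F₀ P w) (hvv : hh v v = 0) (hww : hh w w = 0)
    (hwv : hh w v = 0) (a : F) (ha : a ∈ F₀) : InM M (sg q v w a) :=
  fun t ht => (h.sg_good hHM v w hv hw hvv hww hwv a ha t ht).1

/-- rational transvections lie in every overgroup of the subfield subgroup -/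
theorem RU.tv_good (h : RU F₀ P q r)
    (hHM : Cfsg.Geo.subfieldSubgroup F₀ P ⊓
      (Cfsg.GU n F q ⊓ Cfsg.Geo.specialLinear (Fin n) F) ≤ M)
    (u : Fin n → F) (hu : Rat F₀ P u) (huu : hh u u = 0) (c : F) (hc : c ∈ F₀)
    (hcs : c + c ^ q = 0) (t : GLn) (ht : t.1 = qrefl q u c) : Good F₀ P q M t := by
  have hF := h.hF
  have hiso : IsIsoMat q t.1 := by rw [ht]; exact qrefl_iso_skew hF u huu c hcs
  have hdet : t.1.det = 1 := by rw [ht, det_qrefl', huu, mul_zero, add_zero]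
  have hrat : ∀ x, Rat F₀ P x → Rat F₀ P (t.1 *ᵥ x) := by
    intro x hx
    rw [ht, qrefl_mulVec]
    exact rat_add hx (rat_smul (F₀.mul_mem hc (h.val x u hx hu)) hu)
  exact ⟨hHM (mem_H_of_rat t hiso hdet hrat), hiso, hrat⟩

theorem RU.tv_inM (h : RU F₀ P q r)
    (hHM : Cfsg.Geo.subfieldSubgroup F₀ P ⊓
      (Cfsg.GU n F q ⊓ Cfsg.Geo.specialLinear (Fin n) F) ≤ M)
    (u : Fin n → F) (hu : Rat F₀ P u) (huu : hh u u = 0) (c : F) (hc : c ∈ F₀)
    (hcs : c + c ^ q = 0) : InM M (qrefl q u c) :=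
  fun t ht => (h.tv_good hHM u hu huu c hc hcs t ht).1

/-- one rational transvection moving a rational isotropic vector to a multiple of another one -/
theorem RU.move1 (h : RU F₀ P q r)
    (hHM : Cfsg.Geo.subfieldSubgroup F₀ P ⊓
      (Cfsg.GU n F q ⊓ Cfsg.Geo.specialLinear (Fin n) F) ≤ M)
    (x x' : Fin n → F) (hx : Rat F₀ P x) (hx' : Rat F₀ P x') (hxx : hh x x = 0)
    (hx'x' : hh x' x' = 0) (hne : hh x x' ≠ 0) :
    ∃ (t : GLn) (m : F), Good F₀ P q M t ∧ m ∈ F₀ ∧ m ≠ 0 ∧ t.1 *ᵥ x = m • x' ∧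
      ∀ v, hh v x = 0 → hh v x' = 0 → t.1 *ᵥ v = v := by
  have hF := h.hF
  obtain ⟨ζ, hζm, hζ0, hζ⟩ := h.exists_skew0
  have hζq : ζ ^ q = -ζ := skew_pow ζ hζ
  set s : F := hh x x' with hs
  have hsm : s ∈ F₀ := h.val x x' hx hx'
  set m : F := (ζ / s) ^ q with hm
  have hmm : m ∈ F₀ := F₀.pow_mem (F₀.div_mem hζm hsm) q
  have hm0 : m ≠ 0 := pow_ne_zero _ (div_ne_zero hζ0 hne)
  have hmq : m ^ q = ζ / s := by rw [hm, pow_q_pow_q' hF]
  have hxm : hh x (m • x') = ζ := by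
    rw [hform_smul_right, hmq, ← hs, div_mul_cancel₀ _ hne]
  have hmx : hh (m • x') x = -ζ := by
    rw [← hform_conj hF, hxm, hζq]
  set y : Fin n → F := m • x' - x with hy
  have hyr : Rat F₀ P y := rat_sub (rat_smul hmm hx') hx
  have hyy : hh y y = 0 := by
    rw [hy, hform_sub_left, hform_sub_right hF, hform_sub_right hF, hxm, hmx, hxx,
      hform_smul_left, hform_smul_right, hx'x']
    ring
  have hxy : hh x y = ζ := by
    rw [hy, hform_sub_right hF, hxm, hxx, sub_zero]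
  have hc : ζ⁻¹ + (ζ⁻¹) ^ q = 0 := skew_inv ζ hζ
  have hiso : IsIsoMat q (qrefl q y ζ⁻¹) := qrefl_iso_skew hF y hyy _ hc
  refine ⟨(hiso.isUnit hF).unit, m, h.tv_good hHM y hyr hyy ζ⁻¹ (F₀.inv_mem hζm) hc _ rfl,
    hmm, hm0, ?_, ?_⟩
  · show qrefl q y ζ⁻¹ *ᵥ x = _
    rw [qrefl_mulVec, hxy, inv_mul_cancel₀ hζ0, one_smul, hy]
    abel
  · intro v hv hv'
    show qrefl q y ζ⁻¹ *ᵥ v = _
    rw [qrefl_mulVec, hy, hform_sub_right hF, hform_smul_right, hv, hv', mul_zero, sub_zero,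
      mul_zero, zero_smul, add_zero]

/-- moving `w₀` to a multiple of `w₁` inside the perp of the rational isotropic vector `v₀` -/
theorem RU.move (h : RU F₀ P q r) (hn : 8 < n)
    (hHM : Cfsg.Geo.subfieldSubgroup F₀ P ⊓
      (Cfsg.GU n F q ⊓ Cfsg.Geo.specialLinear (Fin n) F) ≤ M)
    (v₀ w₀ w₁ : Fin n → F) (hv₀ : Rat F₀ P v₀) (hw₀ : Rat F₀ P w₀) (hw₁ : Rat F₀ P w₁)
    (hw₀w₀ : hh w₀ w₀ = 0) (hw₁w₁ : hh w₁ w₁ = 0)
    (hv₀w₀ : hh v₀ w₀ = 0) (hv₀w₁ : hh v₀ w₁ = 0) (hw₀v₀ : ∀ a ∈ F₀, w₀ ≠ a • v₀)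
    (hw₁v₀ : ∀ a ∈ F₀, w₁ ≠ a • v₀) :
    ∃ (t : GLn) (m : F), Good F₀ P q M t ∧ m ∈ F₀ ∧ m ≠ 0 ∧ t.1 *ᵥ w₀ = m • w₁ ∧
      t.1 *ᵥ v₀ = v₀ := by
  have hF := h.hF
  by_cases hne : hh w₀ w₁ = 0
  · obtain ⟨d, hd, hdd, hv₀d, hw₀d, hw₁d⟩ := h.exists_iso_conn hn v₀ w₀ w₁ hv₀ hw₀ hw₁ hw₀v₀ hw₁v₀
    obtain ⟨t₁, m₁, ht₁, hm₁, hm₁0, e₁, f₁⟩ := h.move1 hHM w₀ d hw₀ hd hw₀w₀ hdd hw₀d
    obtain ⟨t₂, m₂, ht₂, hm₂, hm₂0, e₂, f₂⟩ := h.move1 hHM d w₁ hd hw₁ hdd hw₁w₁ (hhne_symm hF hw₁d)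
    refine ⟨t₂ * t₁, m₁ * m₂, ht₂.mul ht₁, F₀.mul_mem hm₁ hm₂, mul_ne_zero hm₁0 hm₂0, ?_, ?_⟩
    · rw [gl_mul_act', e₁, Matrix.mulVec_smul, e₂, smul_smul]
    · rw [gl_mul_act', f₁ v₀ hv₀w₀ hv₀d, f₂ v₀ hv₀d hv₀w₁]
  · obtain ⟨t, m, ht, hm, hm0, e, f⟩ := h.move1 hHM w₀ w₁ hw₀ hw₁ hw₀w₀ hw₁w₁ hne
    exact ⟨t, m, ht, hm, hm0, e, f v₀ hv₀w₀ hv₀w₁⟩

end elems

end Cfsg.Agent.Lib.Helper61.SubfieldUr
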