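import Mathlib
import Cfsg.Prelude.Def_GeometricClasses
import Cfsg.Agent.Lib.Helper61.SubfieldUrC

/-!
Subfield subgroups `SU_n(q₀) < SU_n(q)`: the ring of Siegel parameters of an overgroup.
-/

set_option autoImplicit false
set_option linter.unusedSectionVars false
set_option linter.unusedVariables false

namespace Cfsg.Agent.Lib.Helper61.SubfieldUr

open Matrix Cfsg.Agent.Lib.Helper08 Cfsg.Agent.Lib.Helper51 Cfsg.Agent.Lib.Helper61.SubfieldSU
  Cfsg.Agent.Lib.Helper61.SubfieldSO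

section ring
variable {F : Type*} [Field F] [Fintype F] {q n r : ℕ}

local notation "GLn" => Matrix.GeneralLinearGroup (Fin n) F
local notation "hh" => hform (Fin n) F q

/-- a pair of independent orthogonal rational isotropic vectors -/
structure TIPair (F₀ : Subfield F) (P : Matrix.GeneralLinearGroup (Fin n) F) (q : ℕ)
    (v w : Fin n → F) : Prop where
  hv : Rat F₀ P v
  hw : Rat F₀ P w
  hvv : hform (Fin n) F q v v = 0
  hww : hform (Fin n) F q w w = 0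
  hvw : hform (Fin n) F q v w = 0
  ind1 : ∀ a ∈ F₀, w ≠ a • v
  ind2 : ∀ a ∈ F₀, v ≠ a • w

variable {F₀ : Subfield F} {P : Matrix.GeneralLinearGroup (Fin n) F}
variable {M : Subgroup (Matrix.GeneralLinearGroup (Fin n) F)}

theorem TIPair.hwv (hF : Fintype.card F = q ^ 2) {v w : Fin n → F} (t : TIPair F₀ P q v w) :
    hh w v = 0 := hh0_symm hF t.hvw

theorem TIPair.symm (hF : Fintype.card F = q ^ 2) {v w : Fin n → F} (t : TIPair F₀ P q v w) :
    TIPair F₀ P q w v :=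
  ⟨t.hw, t.hv, t.hww, t.hvv, t.hwv hF, t.ind2, t.ind1⟩

theorem TIPair.v_ne {v w : Fin n → F} (t : TIPair F₀ P q v w) : v ≠ 0 := by
  intro h0
  apply t.ind2 0 F₀.zero_mem
  rw [h0, zero_smul]

theorem TIPair.w_ne {v w : Fin n → F} (t : TIPair F₀ P q v w) : w ≠ 0 := by
  intro h0
  apply t.ind1 0 F₀.zero_mem
  rw [h0, zero_smul]

/-- building a pair from a separating witness -/
theorem TIPair.of_witness (hF : Fintype.card F = q ^ 2) {v w z : Fin n → F} (hv : Rat F₀ P v)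
    (hw : Rat F₀ P w) (hvv : hh v v = 0) (hww : hh w w = 0) (hvw : hh v w = 0) (hv0 : v ≠ 0)
    (hvz : hh v z = 0) (hwz : hh w z ≠ 0) : TIPair F₀ P q v w := by
  have h1 : ∀ a ∈ F₀, w ≠ a • v := by
    intro a _ he
    apply hwz
    rw [he, hform_smul_left, hvz, mul_zero]
  refine ⟨hv, hw, hvv, hww, hvw, h1, ?_⟩
  intro a ha he
  have ha0 : a ≠ 0 := by
    intro h0
    rw [h0, zero_smul] at he
    exact hv0 he
  apply h1 a⁻¹ (F₀.inv_mem ha)
  rw [he, smul_smul, inv_mul_cancel₀ ha0, one_smul]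

/-- the set of Siegel parameters of `M` for the pair `(v, w)` -/
def AB (F₀ : Subfield F) (q : ℕ) (M : Subgroup (Matrix.GeneralLinearGroup (Fin n) F))
    (v w : Fin n → F) : Set F :=
  {a | ∀ l ∈ F₀, InM M (sg q v w (l * a))}

theorem AB_add (hF : Fintype.card F = q ^ 2) {v w : Fin n → F} (t : TIPair F₀ P q v w) {a b : F}
    (ha : a ∈ AB F₀ q M v w) (hb : b ∈ AB F₀ q M v w) : a + b ∈ AB F₀ q M v w := by
  intro l hl
  rw [mul_add, ← sg_add hF v w _ _ t.hvv t.hww (t.hwv hF)]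
  exact (ha l hl).mul (hb l hl) (sg_unit hF v w _ t.hvv t.hww (t.hwv hF))
    (sg_unit hF v w _ t.hvv t.hww (t.hwv hF))

theorem AB_smul {v w : Fin n → F} {a l : F} (hl : l ∈ F₀) (ha : a ∈ AB F₀ q M v w) :
    l * a ∈ AB F₀ q M v w := by
  intro l' hl'
  rw [← mul_assoc]
  exact ha (l' * l) (F₀.mul_mem hl' hl)

theorem RU.AB_rat (h : RU F₀ P q r)
    (hHM : Cfsg.Geo.subfieldSubgroup F₀ P ⊓
      (Cfsg.GU n F q ⊓ Cfsg.Geo.specialLinear (Fin n) F) ≤ M)
    {v w : Fin n → F} (t : TIPair F₀ P q v w) {a : F} (ha : a ∈ F₀) : a ∈ AB F₀ q M v w := by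
  intro l hl
  exact h.sg_inM hHM v w t.hv t.hw t.hvv t.hww (t.hwv h.hF) _ (F₀.mul_mem hl ha)

/-- moving the second vector of the pair -/
theorem RU.AB_move_right (h : RU F₀ P q r) (hn : 8 < n)
    (hHM : Cfsg.Geo.subfieldSubgroup F₀ P ⊓
      (Cfsg.GU n F q ⊓ Cfsg.Geo.specialLinear (Fin n) F) ≤ M)
    {v₀ w₀ w₁ : Fin n → F} (t₀ : TIPair F₀ P q v₀ w₀) (t₁ : TIPair F₀ P q v₀ w₁) :
    AB F₀ q M v₀ w₀ ⊆ AB F₀ q M v₀ w₁ := by
  have hF := h.hF
  intro a ha l hl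
  obtain ⟨t, m, ht, hm, hm0, e₁, e₂⟩ := h.move (M := M) hn hHM v₀ w₀ w₁ t₀.hv t₀.hw t₁.hw t₀.hww
    t₁.hww t₀.hvw t₁.hvw t₀.ind1 t₁.ind1
  have hmq : m ^ q ∈ F₀ := F₀.pow_mem hm q
  have hmq0 : m ^ q ≠ 0 := pow_ne_zero _ hm0
  have h1 : InM M (sg q v₀ w₀ (l / m ^ q * a)) := ha _ (F₀.div_mem hl hmq)
  have h2 := sg_conj hF t.1 ht.2.1 v₀ w₀ (l / m ^ q * a) t₀.hww (t₀.hwv hF)
  rw [e₁, e₂] at h2
  have h3 : sg q v₀ (m • w₁) (l / m ^ q * a) = sg q v₀ w₁ (l * a) := by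
    have := sg_smul hF v₀ w₁ (l / m ^ q * a) 1 m t₁.hww (t₁.hwv hF)
    rw [one_smul] at this
    rw [this]
    congr 1
    field_simp
  rw [h3] at h2
  exact h1.conj t ht.1 (sg_unit hF v₀ w₀ _ t₀.hvv t₀.hww (t₀.hwv hF)) h2

/-- swapping the pair conjugates the parameters -/
theorem AB_swap (hF : Fintype.card F = q ^ 2) {v w : Fin n → F} (t : TIPair F₀ P q v w) {a : F}
    (ha : a ∈ AB F₀ q M v w) : a ^ q ∈ AB F₀ q M w v := by
  intro l hl
  have h1 := ha (-(l ^ q)) (F₀.neg_mem (F₀.pow_mem hl q))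
  rw [sg_swap hF v w _ t.hvv t.hww (t.hwv hF)] at h1
  have : -((-(l ^ q) * a) ^ q) = l * a ^ q := by
    rw [mul_pow, neg_pow_q hF, pow_q_pow_q' hF]
    ring
  rw [this] at h1
  exact h1

/-- moving the first vector of the pair -/
theorem RU.AB_move_left (h : RU F₀ P q r) (hn : 8 < n)
    (hHM : Cfsg.Geo.subfieldSubgroup F₀ P ⊓
      (Cfsg.GU n F q ⊓ Cfsg.Geo.specialLinear (Fin n) F) ≤ M)
    {v₀ v₁ w : Fin n → F} (t₀ : TIPair F₀ P q v₀ w) (t₁ : TIPair F₀ P q v₁ w) :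
    AB F₀ q M v₀ w ⊆ AB F₀ q M v₁ w := by
  have hF := h.hF
  intro a ha
  have h1 := AB_swap hF t₀ ha
  have h2 := h.AB_move_right hn hHM (t₀.symm hF) (t₁.symm hF) h1
  have h3 := AB_swap hF (t₁.symm hF) h2
  rw [pow_q_pow_q' hF] at h3
  exact h3

/-- multiplicativity -/
theorem AB_mul (hF : Fintype.card F = q ^ 2) (v w e f : Fin n → F)
    (hvv : hh v v = 0) (hww : hh w w = 0) (hee : hh e e = 0) (hff : hh f f = 0)
    (hef : hh e f = 1) (hvw : hh v w = 0) (hve : hh v e = 0) (hvf : hh v f = 0)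
    (hwe : hh w e = 0) (hwf : hh w f = 0) {a b : F} (ha : a ∈ AB F₀ q M v f)
    (hb : b ∈ AB F₀ q M e w) : a * b ∈ AB F₀ q M v w := by
  intro l hl
  have hA : InM M (sg q v f (l * a)) := ha l hl
  have hB : InM M (sg q e w b) := by
    have := hb 1 F₀.one_mem
    rwa [one_mul] at this
  have hAu : IsUnit (sg q v f (l * a)) := sg_unit hF v f _ hvv hff (hh0_symm hF hvf)
  have hBu : IsUnit (sg q e w b) := sg_unit hF e w _ hee hww hwe
  have hSu : IsUnit (sg q v w (l * a * b)) := sg_unit hF v w _ hvv hww (hh0_symm hF hvw)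
  have hcomm := sg_comm hF v w e f (l * a) b hvv hww hee hff hef hvw hve hvf hwe hwf
  have h1 : InM M (sg q v w (l * a * b) * (sg q e w b * sg q v f (l * a))) := by
    rw [← hcomm]
    exact hA.mul hB hAu hBu
  have h2 := h1.of_mul_right (hB.mul hA hBu hAu) hSu (hBu.mul hAu)
  rw [← mul_assoc]
  exact h2

/-- all pairs have the same parameter set -/
theorem RU.AB_le (h : RU F₀ P q r) (hn : 8 < n)
    (hHM : Cfsg.Geo.subfieldSubgroup F₀ P ⊓
      (Cfsg.GU n F q ⊓ Cfsg.Geo.specialLinear (Fin n) F) ≤ M)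
    {v w v' w' : Fin n → F} (t : TIPair F₀ P q v w) (t' : TIPair F₀ P q v' w') :
    AB F₀ q M v w ⊆ AB F₀ q M v' w' := by
  classical
  have hF := h.hF
  obtain ⟨x, z, hx, hz, hxx, hxs, hzs, hxz⟩ := h.exists_iso_perp ![w, w']
    (by
      intro i
      fin_cases i
      · exact t.hw
      · exact t'.hw) (by simp; omega)
  have hxw : hh x w = 0 := (hxs 0).2
  have hxw' : hh x w' = 0 := (hxs 1).2
  have hwz : hh w z = 0 := (hzs 0).1
  have hw'z : hh w' z = 0 := (hzs 1).1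
  have p1 : TIPair F₀ P q x w :=
    (TIPair.of_witness hF t.hw hx t.hww hxx (hh0_symm hF hxw) t.w_ne hwz hxz).symm hF
  have p2 : TIPair F₀ P q x w' :=
    (TIPair.of_witness hF t'.hw hx t'.hww hxx (hh0_symm hF hxw') t'.w_ne hw'z hxz).symm hF
  intro a ha
  have h1 := h.AB_move_left hn hHM t p1 ha
  have h2 := h.AB_move_right hn hHM p1 p2 h1
  exact h.AB_move_left hn hHM p2 t' h2

/-- the parameter set is a subalgebra -/
theorem RU.AB_dichotomy (h : RU F₀ P q r) (hn : 8 < n)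
    (hHM : Cfsg.Geo.subfieldSubgroup F₀ P ⊓
      (Cfsg.GU n F q ⊓ Cfsg.Geo.specialLinear (Fin n) F) ≤ M)
    {v w : Fin n → F} (t : TIPair F₀ P q v w) :
    (∀ a ∈ AB F₀ q M v w, a ∈ F₀) ∨ (∀ a : F, a ∈ AB F₀ q M v w) := by
  classical
  have hF := h.hF
  obtain ⟨e, f, he, hf, hee, hff, hef, hfe, hes, hfs⟩ := h.exists_hyp_perp ![v, w]
    (by
      intro i
      fin_cases i
      · exact t.hv
      · exact t.hw) (by simp; omega)
  have hve : hh v e = 0 := (hes 0).1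
  have hwe : hh w e = 0 := (hes 1).1
  have hvf : hh v f = 0 := (hfs 0).1
  have hwf : hh w f = 0 := (hfs 1).1
  -- the pairs `(v, f)` and `(e, w)`
  have p1 : TIPair F₀ P q v f :=
    TIPair.of_witness hF t.hv hf t.hvv hff hvf t.v_ne hve (by rw [hfe]; exact one_ne_zero)
  have p2 : TIPair F₀ P q e w :=
    (TIPair.of_witness hF t.hw he t.hww hee hwe t.w_ne hwf (by rw [hef]; exact one_ne_zero)).symm hF
  let A : Subalgebra F₀ F :=
    { carrier := AB F₀ q M v w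
      mul_mem' := by
        intro a b ha hb
        have ha' := h.AB_le hn hHM t p1 ha
        have hb' := h.AB_le hn hHM t p2 hb
        exact AB_mul hF v w e f t.hvv t.hww hee hff hef t.hvw hve hvf hwe hwf ha' hb'
      add_mem' := fun {a b} ha hb => AB_add hF t ha hb
      algebraMap_mem' := fun x => h.AB_rat hHM t x.2 }
  exact h.subalgebra_dichotomy A

end ring

end Cfsg.Agent.Lib.Helper61.SubfieldUr
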