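import Mathlib
import Cfsg.Prelude.Def_GeometricClasses
import Cfsg.Agent.Lib.Helper51.SUMax2
import Cfsg.Agent.Lib.Helper61.SubfieldUrD

/-!
Subfield subgroups `SU_n(q₀) < SU_n(q)`: an overgroup whose ring of Siegel parameters is the
whole field contains `SU_n(q)`.
-/

set_option autoImplicit false
set_option linter.unusedSectionVars false
set_option linter.unusedVariables false

namespace Cfsg.Agent.Lib.Helper61.SubfieldUr

open Matrix Cfsg.Agent.Lib.Helper08 Cfsg.Agent.Lib.Helper51 Cfsg.Agent.Lib.Helper61.SubfieldSU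
  Cfsg.Agent.Lib.Helper61.SubfieldSO

section big
variable {F : Type*} [Field F] [Fintype F] {q n r : ℕ}

local notation "GLn" => Matrix.GeneralLinearGroup (Fin n) F
local notation "hh" => hform (Fin n) F q

variable {F₀ : Subfield F} {P : Matrix.GeneralLinearGroup (Fin n) F}
variable {M : Subgroup (Matrix.GeneralLinearGroup (Fin n) F)}

theorem zero_mem_XM' (M : Subgroup GLn) : (0 : Fin n → F) ∈ XM q M := by
  refine ⟨hform_zero_left 0, fun c hc t ht => ?_⟩
  have : t = 1 := by
    apply Units.ext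
    rw [ht]
    apply mat_ext_mulVec
    intro x
    rw [qrefl_mulVec, smul_zero, add_zero]
    simp
  rw [this]
  exact M.one_mem

theorem hform_sum_left {ι : Type} (s : Finset ι) (g : ι → Fin n → F) (y : Fin n → F) :
    hh (∑ i ∈ s, g i) y = ∑ i ∈ s, hh (g i) y := by
  classical
  induction s using Finset.induction_on with
  | empty => simp [hform_zero_left]
  | insert a s ha ih => rw [Finset.sum_insert ha, Finset.sum_insert ha, hform_add_left, ih]

/-- rational isotropic vectors are centres of full transvection subgroups -/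
theorem RU.rat_mem_XM (h : RU F₀ P q r) (hn : 8 < n)
    (hHM : Cfsg.Geo.subfieldSubgroup F₀ P ⊓
      (Cfsg.GU n F q ⊓ Cfsg.Geo.specialLinear (Fin n) F) ≤ M)
    {v w : Fin n → F} (t : TIPair F₀ P q v w) (hall : ∀ a : F, a ∈ AB F₀ q M v w)
    (u : Fin n → F) (hu : Rat F₀ P u) (huu : hh u u = 0) : u ∈ XM q M := by
  classical
  have hF := h.hF
  by_cases hu0 : u = 0
  · rw [hu0]; exact zero_mem_XM' M
  obtain ⟨y, y', hy, hy', hyy, hy'y', hyy', hy'y, hys, hy's⟩ := h.exists_hyp_perp ![u]
    (by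
      intro i
      fin_cases i
      exact hu) (by simp; omega)
  have huy : hh u y = 0 := (hys 0).1
  have hyu : hh y u = 0 := (hys 0).2
  have huy' : hh u y' = 0 := (hy's 0).1
  have hy'u : hh y' u = 0 := (hy's 0).2
  have p1 : TIPair F₀ P q y u :=
    (TIPair.of_witness hF hu hy huu hyy huy hu0 huy' (by rw [hyy']; exact one_ne_zero)).symm hF
  have p2 : TIPair F₀ P q y' u :=
    (TIPair.of_witness hF hu hy' huu hy'y' huy' hu0 huy (by rw [hy'y]; exact one_ne_zero)).symm hF
  refine ⟨huu, fun c hc => ?_⟩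
  obtain ⟨μ, hμ⟩ := exists_sub_conj hF c hc
  have hA : InM M (sg q y u μ) := by
    have := h.AB_le hn hHM t p1 (hall μ) 1 F₀.one_mem
    rwa [one_mul] at this
  have hB : InM M (sg q y' u 1) := by
    have := h.AB_le hn hHM t p2 (hall 1) 1 F₀.one_mem
    rwa [one_mul] at this
  have hAu : IsUnit (sg q y u μ) := sg_unit hF y u μ hyy huu huy
  have hBu : IsUnit (sg q y' u 1) := sg_unit hF y' u 1 hy'y' huu huy'
  have hcomm := eichler_comm hF u (μ • y) ((1 : F) • y') 0 0 huu
    (by rw [hform_smul_right, huy, mul_zero]) (by rw [hform_smul_right, huy', mul_zero])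
  have e1 : hh (μ • y) ((1 : F) • y') - hh ((1 : F) • y') (μ • y) = c := by
    rw [hform_smul_left, hform_smul_right, hform_smul_left, hform_smul_right, hyy', hy'y, one_pow,
      ← hμ]
    ring
  rw [e1] at hcomm
  have h1 : InM M (qrefl q u c * (sg q y' u 1 * sg q y u μ)) := by
    have e2 : qrefl q u c * (sg q y' u 1 * sg q y u μ) = sg q y u μ * sg q y' u 1 := by
      unfold sg
      exact hcomm.symm
    rw [e2]
    exact hA.mul hB hAu hBu
  exact h1.of_mul_right (hB.mul hA hBu hAu) (qrefl_unit hF u c huu) (hBu.mul hAu)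

/-- all Eichler elements with isotropic vector `u` and vector part `y` lie in `M` -/
def EY (q : ℕ) (M : Subgroup (Matrix.GeneralLinearGroup (Fin n) F)) (u y : Fin n → F) : Prop :=
  ∀ α : F, α + α ^ q + hform (Fin n) F q y y = 0 → InM M (eichler q u y α)

theorem eichler_zero_vec (hF : Fintype.card F = q ^ 2) (u : Fin n → F) (α : F)
    (huu : hh u u = 0) : eichler q u 0 α = qrefl q u α := by
  apply mat_ext_mulVec
  intro x
  rw [eichler_mulVec hF u 0 α huu (hh_zero_r hF u), qrefl_mulVec, hh_zero_r hF x, zero_smul,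
    sub_zero, zero_add, smul_smul, mul_comm]

theorem EY_zero (hF : Fintype.card F = q ^ 2) (u : Fin n → F) (hX : u ∈ XM q M) :
    EY q M u 0 := by
  intro α hα
  rw [eichler_zero_vec hF u α hX.1]
  apply hX.2 α
  rw [hform_zero_left, add_zero] at hα
  exact hα

theorem EY_add (hF : Fintype.card F = q ^ 2) (u y y' : Fin n → F) (huu : hh u u = 0)
    (huy : hh u y = 0) (huy' : hh u y' = 0) (hy : EY q M u y) (hy' : EY q M u y') :
    EY q M u (y + y') := by
  intro α'' hα''
  have hfix : (-(hh y y)) ^ q = -(hh y y) := by rw [neg_pow_q hF, hform_conj hF]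
  obtain ⟨α, hα⟩ := exists_tr_eq hF _ hfix
  have hD : (hh y' y) ^ q = hh y y' := hform_conj hF y' y
  have h1 : InM M (eichler q u y α) := hy α (by rw [hα]; ring)
  have h2 : InM M (eichler q u y' (α'' - α + hh y' y)) := by
    apply hy'
    rw [hform_add_left, hform_add_right hF, hform_add_right hF] at hα''
    rw [add_pow_q' hF, sub_pow_q hF, hD]
    linear_combination hα'' - hα
  have h3 := eichler_mul hF u y y' α (α'' - α + hh y' y) huu huy huy'
  have e : α + (α'' - α + hh y' y) - hh y' y = α'' := by ring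
  rw [e] at h3
  rw [← h3]
  exact h1.mul h2 (eichler_unit hF u y _ huu huy) (eichler_unit hF u y' _ huu huy')

theorem EY_smul_self (hF : Fintype.card F = q ^ 2) (u : Fin n → F) (hX : u ∈ XM q M) (c : F) :
    EY q M u (c • u) := by
  have huu := hX.1
  intro α hα
  have h1 := eichler_shift hF u 0 c α huu (hh_zero_r hF u)
  rw [zero_add] at h1
  rw [h1, eichler_zero_vec hF u α huu]
  have hs1 : (c - c ^ q) + (c - c ^ q) ^ q = 0 := by
    rw [sub_pow_q hF, pow_q_pow_q' hF]
    ring
  have hs2 : α + α ^ q = 0 := by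
    rw [hform_smul_left, hform_smul_right, huu, mul_zero, mul_zero, add_zero] at hα
    exact hα
  exact InM.mul (M := M) (hX.2 _ hs1) (hX.2 _ hs2) (qrefl_unit hF u _ huu) (qrefl_unit hF u _ huu)

theorem EY_sg (hF : Fintype.card F = q ^ 2) (u y₀ : Fin n → F) (hX : u ∈ XM q M)
    (huy : hh u y₀ = 0) (hyy : hh y₀ y₀ = 0) (hsg : ∀ a : F, InM M (sg q y₀ u a)) (a : F) :
    EY q M u (a • y₀) := by
  have huu := hX.1
  intro α hα
  rw [eichler_eq_sg hF u y₀ a α huu huy]
  have hs2 : α + α ^ q = 0 := by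
    rw [hform_smul_left, hform_smul_right, hyy, mul_zero, mul_zero, add_zero] at hα
    exact hα
  exact InM.mul (M := M) (hsg a) (hX.2 _ hs2) (sg_unit hF y₀ u a hyy huu huy) (qrefl_unit hF u _ huu)

theorem EY_sum (hF : Fintype.card F = q ^ 2) (u : Fin n → F) (hX : u ∈ XM q M) {ι : Type}
    (s : Finset ι) (g : ι → Fin n → F) (hg : ∀ i ∈ s, hh u (g i) = 0 ∧ EY q M u (g i)) :
    hh u (∑ i ∈ s, g i) = 0 ∧ EY q M u (∑ i ∈ s, g i) := by
  classical
  induction s using Finset.induction_on with
  | empty =>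
    rw [Finset.sum_empty]
    exact ⟨hh_zero_r hF u, EY_zero hF u hX⟩
  | insert a s ha ih =>
    rw [Finset.sum_insert ha]
    have h1 := hg a (Finset.mem_insert_self a s)
    have h2 := ih (fun i hi => hg i (Finset.mem_insert_of_mem hi))
    refine ⟨by rw [hform_add_right hF, h1.1, h2.1, add_zero], ?_⟩
    exact EY_add hF u _ _ hX.1 h1.1 h2.1 h1.2 h2.2

/-- the whole unipotent radical of the stabiliser of the rational isotropic point `u` -/
theorem RU.EY_all (h : RU F₀ P q r) (hn : 8 < n) (u f : Fin n → F) (hu : Rat F₀ P u)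
    (hf : Rat F₀ P f) (hX : u ∈ XM q M) (huf : hh u f = 1) (hfu : hh f u = 1)
    (hff : hh f f = 0)
    (hsg : ∀ y₀, Rat F₀ P y₀ → hh y₀ y₀ = 0 → hh u y₀ = 0 → hh f y₀ = 0 →
      ∀ a : F, EY q M u (a • y₀))
    (y : Fin n → F) (huy : hh u y = 0) : EY q M u y := by
  classical
  have hF := h.hF
  have huu := hX.1
  have hyu : hh y u = 0 := hh0_symm hF huy
  set c : Fin n → F := P⁻¹.1 *ᵥ y with hc
  set p : Fin n → Fin n → F := fun i => P.1 *ᵥ Pi.single i 1 with hp
  have hpr : ∀ i, Rat F₀ P (p i) := fun i => rat_col i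
  have hy : y = ∑ i, c i • p i := by
    have h1 : y = P.1 *ᵥ c := (gl_act_inv' P y).symm
    conv_lhs => rw [h1]
    funext j
    rw [Finset.sum_apply, Matrix.mulVec, dotProduct]
    apply Finset.sum_congr rfl
    intro i _
    rw [Pi.smul_apply, smul_eq_mul, hp]
    simp only [Matrix.mulVec_single_one, Matrix.col_apply]
    rw [mul_comm]
  set p' : Fin n → Fin n → F := fun i => p i - (hh (p i) f) • u - (hh (p i) u) • f with hp'
  have hp'r : ∀ i, Rat F₀ P (p' i) := fun i =>
    rat_sub (rat_sub (hpr i) (rat_smul (h.val _ _ (hpr i) hf) hu))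
      (rat_smul (h.val _ _ (hpr i) hu) hf)
  have hp'u : ∀ i, hh (p' i) u = 0 := by
    intro i
    rw [hp']
    simp only [hform_sub_left, hform_smul_left, huu, hfu]
    ring
  have hp'f : ∀ i, hh (p' i) f = 0 := by
    intro i
    rw [hp']
    simp only [hform_sub_left, hform_smul_left, huf, hff]
    ring
  have hsum : ∑ i, c i • p' i = y - (hh y f) • u := by
    have e1 : hh y f = ∑ i, c i * hh (p i) f := by
      conv_lhs => rw [hy]
      rw [hform_sum_left]
      apply Finset.sum_congr rfl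
      intro i _
      rw [hform_smul_left]
    have e2 : (0 : F) = ∑ i, c i * hh (p i) u := by
      rw [← hyu]
      conv_lhs => rw [hy]
      rw [hform_sum_left]
      apply Finset.sum_congr rfl
      intro i _
      rw [hform_smul_left]
    have e3 : ∑ i, c i • p' i =
        ∑ i, c i • p i - (∑ i, c i * hh (p i) f) • u - (∑ i, c i * hh (p i) u) • f := by
      rw [Finset.sum_smul, Finset.sum_smul, ← Finset.sum_sub_distrib, ← Finset.sum_sub_distrib]
      apply Finset.sum_congr rfl
      intro i _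
      rw [hp', smul_sub, smul_sub, smul_smul, smul_smul]
    rw [e3, ← e1, ← e2, zero_smul, sub_zero, ← hy]
  -- each summand
  have hterm : ∀ i ∈ (Finset.univ : Finset (Fin n)),
      hh u (c i • p' i) = 0 ∧ EY q M u (c i • p' i) := by
    intro i _
    have hup' : hh u (p' i) = 0 := hh0_symm hF (hp'u i)
    have hfp' : hh f (p' i) = 0 := hh0_symm hF (hp'f i)
    refine ⟨by rw [hform_smul_right, hup', mul_zero], ?_⟩
    obtain ⟨e₁, e₂, he₁, he₂, hsplit, h11, h22, hperp⟩ := h.exists_split ![u, f]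
      (by
        intro j
        fin_cases j
        · exact hu
        · exact hf) (p' i) (hp'r i) (by simp; omega)
    have hu12 := hperp 0 hup'
    have hf12 := hperp 1 hfp'
    simp only [Matrix.cons_val_zero] at hu12
    simp only [Matrix.cons_val_one, Matrix.cons_val_zero] at hf12
    rw [hsplit, smul_add]
    exact EY_add hF u _ _ huu (by rw [hform_smul_right, hu12.1, mul_zero])
      (by rw [hform_smul_right, hu12.2, mul_zero])
      (hsg e₁ he₁ h11 hu12.1 hf12.1 (c i)) (hsg e₂ he₂ h22 hu12.2 hf12.2 (c i))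
  have hS := EY_sum hF u hX Finset.univ (fun i => c i • p' i) hterm
  rw [hsum] at hS
  have hfin := EY_add hF u _ _ huu hS.1
    (by rw [hform_smul_right, huu, mul_zero]) hS.2 (EY_smul_self hF u hX (hh y f))
  rw [sub_add_cancel] at hfin
  exact hfin

/-- if the ring of Siegel parameters is the whole field, the overgroup contains `SU_n` -/
theorem RU.le_of_AB_univ (h : RU F₀ P q r) (hn : 8 < n)
    (hHM : Cfsg.Geo.subfieldSubgroup F₀ P ⊓
      (Cfsg.GU n F q ⊓ Cfsg.Geo.specialLinear (Fin n) F) ≤ M)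
    {v w : Fin n → F} (t : TIPair F₀ P q v w) (hall : ∀ a : F, a ∈ AB F₀ q M v w) :
    Cfsg.GU n F q ⊓ Cfsg.Geo.specialLinear (Fin n) F ≤ M := by
  classical
  have hF := h.hF
  have hrat : ∀ u, Rat F₀ P u → hh u u = 0 → u ∈ XM q M :=
    fun u hu huu => h.rat_mem_XM hn hHM t hall u hu huu
  -- a rational hyperbolic pair
  obtain ⟨u, f, hu, hf, huu, hff, huf, hfu, -, -⟩ := h.exists_hyp_perp (fun i : Fin 0 => 0)
    (fun i => i.elim0) (by simp; omega)
  have hu0 : u ≠ 0 := by
    intro h0
    rw [h0, hform_zero_left] at huf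
    exact zero_ne_one huf
  have hXu := hrat u hu huu
  have hXf := hrat f hf hff
  have hsg : ∀ y₀, Rat F₀ P y₀ → hh y₀ y₀ = 0 → hh u y₀ = 0 → hh f y₀ = 0 →
      ∀ a : F, EY q M u (a • y₀) := by
    intro y₀ hy₀ hyy huy hfy a
    by_cases hy0 : y₀ = 0
    · rw [hy0, smul_zero]
      exact EY_zero hF u hXu
    · obtain ⟨z, hz, huz, hyz⟩ := h.exists_perp u y₀ hu hy₀ hu0 (by
        intro a ha he
        have h1 : hh f y₀ = a ^ q := by
          rw [he, hform_smul_right, hfu, mul_one]
        rw [hfy] at h1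
        have ha0 : a = 0 := (pow_eq_zero_iff (q_ne_zero' hF)).mp h1.symm
        rw [ha0, zero_smul] at he
        exact hy0 he)
      have p1 : TIPair F₀ P q y₀ u :=
        (TIPair.of_witness hF hu hy₀ huu hyy huy hu0 huz hyz).symm hF
      apply EY_sg hF u y₀ hXu huy hyy
      intro b
      have := h.AB_le hn hHM t p1 (hall b) 1 F₀.one_mem
      rwa [one_mul] at this
  have hEY : ∀ y, hh u y = 0 → EY q M u y :=
    fun y huy => h.EY_all hn u f hu hf hXu huf hfu hff hsg y huy
  -- isotropic vectors not orthogonal to `u`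
  have step1 : ∀ z : Fin n → F, hh z z = 0 → hh z u ≠ 0 → z ∈ XM q M := by
    intro z hzz hzu
    obtain ⟨l, hl⟩ : ∃ l : F, l = hh z u := ⟨_, rfl⟩
    rw [← hl] at hzu
    obtain ⟨z', hz'⟩ : ∃ z' : Fin n → F, z' = l⁻¹ • z := ⟨_, rfl⟩
    have hz'u : hh z' u = 1 := by rw [hz', hform_smul_left, ← hl, inv_mul_cancel₀ hzu]
    have hz'z' : hh z' z' = 0 := by
      rw [hz', hform_smul_left, hform_smul_right, hzz, mul_zero, mul_zero]
    obtain ⟨α, hα⟩ : ∃ α : F, α = hh z' f := ⟨_, rfl⟩
    obtain ⟨y, hy⟩ : ∃ y : Fin n → F, y = z' - f - α • u := ⟨_, rfl⟩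
    have hyu : hh y u = 0 := by
      rw [hy, hform_sub_left, hform_sub_left, hform_smul_left, hz'u, hfu, huu]
      ring
    have hyf : hh y f = 0 := by
      rw [hy, hform_sub_left, hform_sub_left, hform_smul_left, ← hα, hff, huf]
      ring
    have huy : hh u y = 0 := hh0_symm hF hyu
    have hfy : hh f y = 0 := hh0_symm hF hyf
    have hz'eq : z' = f + y + α • u := by rw [hy]; abel
    have hαy : α + α ^ q + hh y y = 0 := by
      have h0 := hz'z'
      rw [hz'eq] at h0
      simp only [hform_add_left, hform_add_right hF, hform_smul_left, hform_smul_right, hff, hfy,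
        hyf, hfu, huf, huy, hyu, huu] at h0
      linear_combination h0
    have hE := hEY y huy α hαy
    have hiso : IsIsoMat q (eichler q u y α) := eichler_iso hF u y α huu huy hαy
    have hEf : eichler q u y α *ᵥ f = z' := by
      rw [eichler_mulVec hF u y α huu huy, hfu, hfy, one_smul, zero_smul, sub_zero, hz'eq]
      abel
    have h1 := XM_act hF M (hiso.isUnit hF).unit (hE _ rfl) hiso f hXf
    have h2 : ((hiso.isUnit hF).unit : GLn).1 *ᵥ f = z' := hEf
    rw [h2] at h1
    have h3 := XM_smul hF M l z' h1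
    rw [hz', smul_smul, mul_inv_cancel₀ hzu, one_smul] at h3
    exact h3
  apply le_of_XM hF (by omega) M
  intro z hzz
  by_cases hzu : hh z u = 0
  · by_cases hz0 : z = 0
    · rw [hz0]; exact zero_mem_XM' M
    obtain ⟨z', hz'z', hz'u, hz'z⟩ := exists_isotropic_two hF (by omega) u z hu0 hz0
    have hX' := step1 z' hz'z' hz'u
    obtain ⟨ζ, hζ0, hζ⟩ := exists_skew_ne_zero hF (F := F)
    set a : F := ζ / hh z' z with ha
    have ha1 : a * hh z' z = ζ := by rw [ha, div_mul_cancel₀ _ hz'z]
    set z₂ : Fin n → F := z + a • z' with hz₂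
    have hzz' : hh z z' = (hh z' z) ^ q := (hform_conj hF z' z).symm
    have hz₂z₂ : hh z₂ z₂ = 0 := by
      rw [hz₂]
      simp only [hform_add_left, hform_add_right hF, hform_smul_left, hform_smul_right, hzz,
        hz'z', hzz']
      have : a ^ q * hh z' z ^ q = ζ ^ q := by rw [← mul_pow, ha1]
      linear_combination this + ha1 + hζ
    have hz₂u : hh z₂ u ≠ 0 := by
      rw [hz₂, hform_add_left, hform_smul_left, hzu, zero_add]
      exact mul_ne_zero (by rw [ha]; exact div_ne_zero hζ0 hz'z) hz'u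
    have hX₂ := step1 z₂ hz₂z₂ hz₂u
    have hne : hh z₂ z' ≠ 0 := by
      rw [hz₂, hform_add_left, hform_smul_left, hz'z', mul_zero, add_zero]
      exact hhne_symm hF hz'z
    have hzeq : z₂ + (-a) • z' = z := by
      rw [hz₂, neg_smul]
      abel
    have := XM_hyp hF M z₂ z' hX₂ hX' (-a) hne (by rw [hzeq]; exact hzz)
    rw [hzeq] at this
    exact this
  · exact step1 z hzz hzu

end big

end Cfsg.Agent.Lib.Helper61.SubfieldUr
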