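import Mathlib
import Cfsg.Prelude.Def_GeometricClasses
import Cfsg.Agent.Lib.Helper61.SubfieldUrE

/-!
Subfield subgroups `SU_n(q₀) < SU_n(q)`: when the ring of Siegel parameters of the overgroup is
the subfield, the unipotent elements of the overgroup attached to rational isotropic points are
rational, and centres of transvections which are orthogonal to a rational isotropic vector are
rational modulo that vector.
-/

set_option autoImplicit false
set_option linter.unusedSectionVars false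
set_option linter.unusedVariables false

namespace Cfsg.Agent.Lib.Helper61.SubfieldUr

open Matrix Cfsg.Agent.Lib.Helper08 Cfsg.Agent.Lib.Helper51 Cfsg.Agent.Lib.Helper61.SubfieldSU
  Cfsg.Agent.Lib.Helper61.SubfieldSO

section small
variable {F : Type*} [Field F] [Fintype F] {q n r : ℕ}

local notation "GLn" => Matrix.GeneralLinearGroup (Fin n) F
local notation "hh" => hform (Fin n) F q

variable {F₀ : Subfield F} {P : Matrix.GeneralLinearGroup (Fin n) F}
variable {M : Subgroup (Matrix.GeneralLinearGroup (Fin n) F)}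

/-- a matrix identity used to split off a Siegel element -/
theorem sg_split (hF : Fintype.card F = q ^ 2) (w w'' e : Fin n → F) (a γ : F)
    (hee : hh e e = 0) (hew : hh e w = 0) (hew'' : hh e w'' = 0) (hww'' : hh w w'' = 0) :
    (sg q w e a * qrefl q e γ) * sg q w'' e a = sg q (w + w'') e a * qrefl q e γ := by
  have hwe : hh w e = 0 := hh0_symm hF hew
  have hw''e : hh w'' e = 0 := hh0_symm hF hew''
  have hw''w : hh w'' w = 0 := hh0_symm hF hww''
  apply mat_ext_mulVec
  intro x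
  simp only [← Matrix.mulVec_mulVec]
  rw [sg_mulVec hF w'' e a hee hew'', qrefl_mulVec, qrefl_mulVec, sg_mulVec hF w e a hee hew,
    sg_mulVec hF (w + w'') e a hee (by rw [hform_add_right hF, hew, hew'', add_zero])]
  simp only [hform_add_left, hform_sub_left, hform_smul_left, hform_add_right hF, hee, hew,
    hew'', hwe, hw''e, hww'', hw''w]
  funext i
  simp only [Pi.add_apply, Pi.sub_apply, Pi.smul_apply, smul_eq_mul]
  ring

/-- (F1) the parameter of a Siegel element of `M`, possibly multiplied by a transvection, is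
rational -/
theorem RU.sg_param_rat (h : RU F₀ P q r) (hn : 12 < n)
    (hHM : Cfsg.Geo.subfieldSubgroup F₀ P ⊓
      (Cfsg.GU n F q ⊓ Cfsg.Geo.specialLinear (Fin n) F) ≤ M)
    {v₀ w₀ : Fin n → F} (t₀ : TIPair F₀ P q v₀ w₀) (hA : ∀ a ∈ AB F₀ q M v₀ w₀, a ∈ F₀)
    {w e : Fin n → F} (t : TIPair F₀ P q w e) (a γ : F) (hγ : γ + γ ^ q = 0)
    (hK : InM M (sg q w e a * qrefl q e γ)) : a ∈ F₀ := by
  classical
  have hF := h.hF
  have hew : hh e w = 0 := t.hwv hF
  -- `z` rational isotropic with `hh w z = 1`, `hh e z = 0`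
  obtain ⟨z₁, hz₁, hez₁, hwz₁⟩ := h.exists_perp e w t.hw t.hv t.w_ne t.ind2
  obtain ⟨z, hz, hzz, hzs, hwz, hzw⟩ := h.exists_iso_dual ![e]
    (by
      intro i
      fin_cases i
      exact t.hw) w t.hv z₁ hz₁
    (by
      intro i
      fin_cases i
      exact hez₁) hwz₁ (by simp; omega)
  have hez : hh e z = 0 := (hzs 0).1
  have hze : hh z e = 0 := (hzs 0).2
  -- `w'` rational isotropic, orthogonal to `w, e, z`
  obtain ⟨w', z', hw', hz', hw'w', hw's, hz's, hw'z'⟩ := h.exists_iso_perp ![w, e, z]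
    (by
      intro i
      fin_cases i
      · exact t.hv
      · exact t.hw
      · exact hz) (by simp; omega)
  have hww' : hh w w' = 0 := (hw's 0).1
  have hew' : hh e w' = 0 := (hw's 1).1
  have hzw' : hh z w' = 0 := (hw's 2).1
  have hw'z : hh w' z = 0 := (hw's 2).2
  have hez' : hh e z' = 0 := (hz's 1).1
  have t' : TIPair F₀ P q w' e :=
    (TIPair.of_witness hF t.hw hw' t.hww hw'w' hew' t.w_ne hez' hw'z').symm hF
  -- `a ∈ AB w' e`
  have hmem : a ∈ AB F₀ q M w' e := by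
    intro l hl
    -- the rational Siegel element `g = sg w' z l`
    have hgiso : IsIsoMat q (sg q w' z l) := sg_iso hF w' z l hw'w' hzz hzw'
    obtain ⟨g, hg⟩ : ∃ g : GLn, g.1 = sg q w' z l := ⟨(hgiso.isUnit hF).unit, rfl⟩
    have hgG := h.sg_good (M := M) hHM w' z hw' hz hw'w' hzz hzw' l hl g hg
    have hgw : g.1 *ᵥ w = w + l • w' := by
      rw [hg, sg_mulVec hF w' z l hzz hzw', hwz, hww', mul_one, mul_zero, zero_smul, sub_zero]
    have hge : g.1 *ᵥ e = e := by
      rw [hg, sg_mulVec hF w' z l hzz hzw', hez, hew', mul_zero, mul_zero, zero_smul, zero_smul,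
        add_zero, sub_zero]
    have hconj : g.1 * (sg q w e a * qrefl q e γ) =
        (sg q (w + l • w') e a * qrefl q e γ) * g.1 := by
      rw [← Matrix.mul_assoc, sg_conj hF g.1 hgG.2.1 w e a t.hww hew, Matrix.mul_assoc,
        qrefl_conj g.1 hgG.2.1 e γ, hgw, hge, Matrix.mul_assoc]
    have hAu : IsUnit (sg q w e a * qrefl q e γ) :=
      (sg_unit hF w e a t.hvv t.hww hew).mul (qrefl_unit hF e γ t.hww)
    have h1 : InM M (sg q (w + l • w') e a * qrefl q e γ) := hK.conj g hgG.1 hAu hconj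
    have hlw' : hh e (l • w') = 0 := by rw [hform_smul_right, hew', mul_zero]
    have hwlw' : hh w (l • w') = 0 := by rw [hform_smul_right, hww', mul_zero]
    have h2 := sg_split hF w (l • w') e a γ t.hww hew hlw' hwlw'
    rw [← h2] at h1
    have hlw'iso : hh (l • w') (l • w') = 0 := by
      rw [hform_smul_left, hform_smul_right, hw'w', mul_zero, mul_zero]
    have h3 := h1.of_mul_left hK hAu (sg_unit hF (l • w') e a hlw'iso t.hww hlw')
    have h4 := sg_smul hF w' e a l 1 t.hww hew'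
    rw [one_smul, one_pow, mul_one] at h4
    rw [h4, mul_comm] at h3
    exact h3
  exact hA a (h.AB_le (by omega) hHM t' t₀ hmem)

/-- a rational isotropic partner -/
theorem RU.exists_partner (h : RU F₀ P q r) (hn : 8 < n) (e : Fin n → F) (he : Rat F₀ P e)
    (he0 : e ≠ 0) :
    ∃ f, Rat F₀ P f ∧ hh f f = 0 ∧ hh e f = 1 ∧ hh f e = 1 := by
  obtain ⟨z₁, hz₁, hez₁⟩ := exists_ne_right (F₀ := F₀) (P := P) h.hF e he0
  obtain ⟨f, hf, hff, -, hef, hfe⟩ := h.exists_iso_dual (fun i : Fin 0 => 0) (fun i => i.elim0) e he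
    z₁ hz₁ (fun i => i.elim0) hez₁ (by simp; omega)
  exact ⟨f, hf, hff, hef, hfe⟩

/-- a vector whose pairings with the rational isotropic vectors of `e^⊥` are rational is rational
modulo `e` -/
theorem RU.rat_mod_of_pairings (h : RU F₀ P q r) (hn : 8 < n) (e : Fin n → F) (he : Rat F₀ P e)
    (he0 : e ≠ 0) (hee : hh e e = 0) (y : Fin n → F) (hey : hh e y = 0)
    (hy : ∀ w₁, Rat F₀ P w₁ → hh w₁ w₁ = 0 → hh e w₁ = 0 → hh w₁ y ∈ F₀) :
    ∃ (y₀ : Fin n → F) (δ : F), Rat F₀ P y₀ ∧ y = y₀ + δ • e := by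
  classical
  have hF := h.hF
  obtain ⟨f, hf, hff, hef, hfe⟩ := h.exists_partner hn e he he0
  have hye : hh y e = 0 := hh0_symm hF hey
  obtain ⟨yW, hyW⟩ : ∃ yW : Fin n → F, yW = y - (hh y f) • e := ⟨_, rfl⟩
  have hyWe : hh yW e = 0 := by
    rw [hyW, hform_sub_left, hform_smul_left, hye, hee, mul_zero, sub_zero]
  have hyWf : hh yW f = 0 := by
    rw [hyW, hform_sub_left, hform_smul_left, hef, mul_one, sub_self]
  have heyW : hh e yW = 0 := hh0_symm hF hyWe
  have hfyW : hh f yW = 0 := hh0_symm hF hyWf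
  have hrat : Rat F₀ P yW := by
    apply h.rat_of_pairings
    intro x hx
    obtain ⟨xW, hxW⟩ : ∃ xW : Fin n → F, xW = x - (hh x f) • e - (hh x e) • f := ⟨_, rfl⟩
    have hxWr : Rat F₀ P xW := by
      rw [hxW]
      exact rat_sub (rat_sub hx (rat_smul (h.val x f hx hf) he)) (rat_smul (h.val x e hx he) hf)
    have hxWe : hh xW e = 0 := by
      rw [hxW, hform_sub_left, hform_sub_left, hform_smul_left, hform_smul_left, hee, hfe]
      ring
    have hexW : hh e xW = 0 := hh0_symm hF hxWe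
    have e1 : hh x yW = hh xW y := by
      have hx' : x = xW + (hh x f) • e + (hh x e) • f := by rw [hxW]; abel
      conv_lhs => rw [hx']
      rw [hform_add_left, hform_add_left, hform_smul_left, hform_smul_left, heyW, hfyW, mul_zero,
        mul_zero, add_zero, add_zero, hyW, hform_sub_right hF, hform_smul_right, hxWe, mul_zero,
        sub_zero]
    rw [e1]
    obtain ⟨e₁, e₂, he₁, he₂, hsplit, h11, h22, hperp⟩ := h.exists_split ![e]
      (by
        intro j
        fin_cases j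
        exact he) xW hxWr (by simp; omega)
    have h12 : hh e e₁ = 0 ∧ hh e e₂ = 0 := hperp 0 hexW
    rw [hsplit, hform_add_left]
    exact F₀.add_mem (hy e₁ he₁ h11 h12.1) (hy e₂ he₂ h22 h12.2)
  refine ⟨yW, hh y f, hrat, ?_⟩
  rw [hyW]
  abel

/-- (F2) the vector part of an Eichler element of `M` at a rational isotropic point is rational
modulo the point -/
theorem RU.eichler_vec_rat (h : RU F₀ P q r) (hn : 12 < n)
    (hHM : Cfsg.Geo.subfieldSubgroup F₀ P ⊓
      (Cfsg.GU n F q ⊓ Cfsg.Geo.specialLinear (Fin n) F) ≤ M)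
    {v₀ w₀ : Fin n → F} (t₀ : TIPair F₀ P q v₀ w₀) (hA : ∀ a ∈ AB F₀ q M v₀ w₀, a ∈ F₀)
    (e : Fin n → F) (he : Rat F₀ P e) (he0 : e ≠ 0) (hee : hh e e = 0) (y : Fin n → F)
    (hey : hh e y = 0) (α : F) (hK : InM M (eichler q e y α)) :
    ∃ (y₀ : Fin n → F) (δ : F), Rat F₀ P y₀ ∧ y = y₀ + δ • e := by
  classical
  have hF := h.hF
  have hye : hh y e = 0 := hh0_symm hF hey
  obtain ⟨ζ, hζm, hζ0, hζ⟩ := h.exists_skew0
  apply h.rat_mod_of_pairings (by omega) e he he0 hee y hey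
  intro w₁ hw₁ hw₁w₁ hew₁
  have hw₁e : hh w₁ e = 0 := hh0_symm hF hew₁
  -- it suffices that `hh y w₁` is rational
  suffices hsuff : hh y w₁ ∈ F₀ by
    rw [← hform_conj hF]
    exact F₀.pow_mem hsuff q
  by_cases hind : ∀ a ∈ F₀, w₁ ≠ a • e
  · have hw₁0 : w₁ ≠ 0 := by
      intro h0
      apply hind 0 F₀.zero_mem
      rw [h0, zero_smul]
    obtain ⟨z, hz, hez, hw₁z⟩ := h.exists_perp e w₁ he hw₁ he0 hind
    have t : TIPair F₀ P q w₁ e :=
      (TIPair.of_witness hF he hw₁ hee hw₁w₁ hew₁ he0 hez hw₁z).symm hF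
    -- conjugate by the rational transvection with centre `w₁`
    have htiso : IsIsoMat q (qrefl q w₁ ζ) := qrefl_iso_skew hF w₁ hw₁w₁ ζ hζ
    obtain ⟨g, hg⟩ : ∃ g : GLn, g.1 = qrefl q w₁ ζ := ⟨(htiso.isUnit hF).unit, rfl⟩
    have hgG := h.tv_good (M := M) hHM w₁ hw₁ hw₁w₁ ζ hζm hζ g hg
    obtain ⟨a, ha⟩ : ∃ a : F, a = ζ * hh y w₁ := ⟨_, rfl⟩
    have hge : g.1 *ᵥ e = e := by
      rw [hg, qrefl_mulVec, hew₁, mul_zero, zero_smul, add_zero]
    have hgy : g.1 *ᵥ y = y + a • w₁ := by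
      rw [hg, qrefl_mulVec, ha]
    have hconj := eichler_conj hF g.1 hgG.2.1 e y α hee hey
    rw [hge, hgy] at hconj
    have hK' : InM M (eichler q e (y + a • w₁) α) :=
      hK.conj g hgG.1 (eichler_unit hF e y α hee hey) hconj
    obtain ⟨γ, hγdef⟩ : ∃ γ : F, γ = hh (a • w₁) y := ⟨_, rfl⟩
    have heaw : hh e (a • w₁) = 0 := by rw [hform_smul_right, hew₁, mul_zero]
    have hmul := eichler_mul hF e y (a • w₁) α γ hee hey heaw
    rw [← hγdef] at hmul
    have e0 : α + γ - γ = α := by ring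
    rw [e0] at hmul
    rw [← hmul] at hK'
    have h3 := hK'.of_mul_left hK (eichler_unit hF e y α hee hey)
      (eichler_unit hF e (a • w₁) γ hee heaw)
    rw [eichler_eq_sg hF e w₁ a γ hee hew₁] at h3
    have hγs : γ + γ ^ q = 0 := by
      have e1 : γ = (hh y w₁ * (hh y w₁) ^ q) * ζ := by
        rw [hγdef, hform_smul_left, ha, ← hform_conj hF y w₁]
        ring
      rw [e1]
      exact skew_mul_fix _ ζ (nm_fix hF _) hζ
    have ham := h.sg_param_rat hn hHM t₀ hA t a γ hγs h3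
    have : hh y w₁ = ζ⁻¹ * a := by
      rw [ha, ← mul_assoc, inv_mul_cancel₀ hζ0, one_mul]
    rw [this]
    exact F₀.mul_mem (F₀.inv_mem hζm) ham
  · push Not at hind
    obtain ⟨a, ha, hae⟩ := hind
    rw [hae, hform_smul_right, hye, mul_zero]
    exact F₀.zero_mem

/-- (F3) a centre of a transvection of `M` which is orthogonal to a rational isotropic vector `e`
is, up to a scalar, rational modulo `e` -/
theorem RU.center_rat_mod (h : RU F₀ P q r) (hn : 12 < n)
    (hHM : Cfsg.Geo.subfieldSubgroup F₀ P ⊓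
      (Cfsg.GU n F q ⊓ Cfsg.Geo.specialLinear (Fin n) F) ≤ M)
    {v₀ w₀ : Fin n → F} (t₀ : TIPair F₀ P q v₀ w₀) (hA : ∀ a ∈ AB F₀ q M v₀ w₀, a ∈ F₀)
    (u : Fin n → F) (huu : hh u u = 0) (c : F) (hc0 : c ≠ 0) (hc : c + c ^ q = 0)
    (hK : InM M (qrefl q u c))
    (e : Fin n → F) (he : Rat F₀ P e) (he0 : e ≠ 0) (hee : hh e e = 0) (hue : hh u e = 0)
    (hune : ∀ a : F, u ≠ a • e) :
    ∃ (l : F) (y₀ : Fin n → F) (δ : F), l ≠ 0 ∧ Rat F₀ P y₀ ∧ l • u = y₀ + δ • e := by
  classical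
  have hF := h.hF
  have heu : hh e u = 0 := hh0_symm hF hue
  -- a rational isotropic `y₁ ⊥ e` with `hh u y₁ ≠ 0`
  have hex : ∃ y₁, Rat F₀ P y₁ ∧ hh y₁ y₁ = 0 ∧ hh e y₁ = 0 ∧ hh u y₁ ≠ 0 := by
    by_contra hcon
    push Not at hcon
    obtain ⟨y₀, δ, hy₀, hyd⟩ := h.rat_mod_of_pairings (by omega) e he he0 hee u heu (by
      intro w₁ hw₁ hw₁w₁ hew₁
      rw [hh0_symm hF (hcon w₁ hw₁ hw₁w₁ hew₁)]
      exact F₀.zero_mem)
    -- then `u - δ e` is rational and orthogonal to all rational isotropic vectors of `e^⊥`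
    obtain ⟨f, hf, hff, hef, hfe⟩ := h.exists_partner (by omega) e he he0
    have hy₀e : hh y₀ e = 0 := by
      have : y₀ = u - δ • e := by rw [hyd]; abel
      rw [this, hform_sub_left, hform_smul_left, hue, hee, mul_zero, sub_zero]
    have hy₀0 : y₀ - (hh y₀ f) • e = 0 := by
      apply nondeg_left (F₀ := F₀) (P := P) hF
      intro x hx
      obtain ⟨xW, hxW⟩ : ∃ xW : Fin n → F, xW = x - (hh x f) • e - (hh x e) • f := ⟨_, rfl⟩
      have hxWr : Rat F₀ P xW := by
        rw [hxW]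
        exact rat_sub (rat_sub hx (rat_smul (h.val x f hx hf) he)) (rat_smul (h.val x e hx he) hf)
      have hxWe : hh xW e = 0 := by
        rw [hxW, hform_sub_left, hform_sub_left, hform_smul_left, hform_smul_left, hee, hfe]
        ring
      have hexW : hh e xW = 0 := hh0_symm hF hxWe
      have hx' : x = xW + (hh x f) • e + (hh x e) • f := by rw [hxW]; abel
      have hey₀ : hh e y₀ = 0 := hh0_symm hF hy₀e
      have e1 : hh x (y₀ - (hh y₀ f) • e) = hh xW y₀ := by
        conv_lhs => rw [hx']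
        simp only [hform_add_left, hform_smul_left, hform_sub_right hF, hform_smul_right, hee,
          hey₀, hxWe, hfe]
        rw [← hform_conj hF y₀ f]
        ring
      rw [e1]
      obtain ⟨e₁, e₂, he₁, he₂, hsplit, h11, h22, hperp⟩ := h.exists_split ![e]
        (by
          intro j
          fin_cases j
          exact he) xW hxWr (by simp; omega)
      have h12 : hh e e₁ = 0 ∧ hh e e₂ = 0 := hperp 0 hexW
      have hz1 : hh e₁ u = 0 := hh0_symm hF (hcon e₁ he₁ h11 h12.1)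
      have hz2 : hh e₂ u = 0 := hh0_symm hF (hcon e₂ he₂ h22 h12.2)
      have hy₀eq : y₀ = u - δ • e := by rw [hyd]; abel
      rw [hsplit, hform_add_left, hy₀eq, hform_sub_right hF, hform_sub_right hF, hform_smul_right,
        hform_smul_right, hz1, hz2, hh0_symm hF h12.1, hh0_symm hF h12.2]
      ring
    apply hune (hh y₀ f + δ)
    rw [hyd, add_smul]
    congr 1
    exact sub_eq_zero.mp hy₀0
  obtain ⟨y₁, hy₁, hy₁y₁, hey₁, huy₁⟩ := hex
  obtain ⟨κ, hκ⟩ : ∃ κ : F, κ = hh u y₁ := ⟨_, rfl⟩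
  have hκ0 : κ ≠ 0 := by rw [hκ]; exact huy₁
  -- the rational Siegel element `g = sg y₁ e 1`
  have hgiso : IsIsoMat q (sg q y₁ e 1) := sg_iso hF y₁ e 1 hy₁y₁ hee hey₁
  obtain ⟨g, hg⟩ : ∃ g : GLn, g.1 = sg q y₁ e 1 := ⟨(hgiso.isUnit hF).unit, rfl⟩
  have hgG := h.sg_good (M := M) hHM y₁ e hy₁ he hy₁y₁ hee hey₁ 1 F₀.one_mem g hg
  have hgu : g.1 *ᵥ u = u - κ • e := by
    rw [hg, sg_mulVec hF y₁ e 1 hee hey₁, hue, mul_zero, zero_smul, add_zero, one_pow, one_mul, hκ]
  have hconj := qrefl_conj g.1 hgG.2.1 u c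
  rw [hgu] at hconj
  have hK' : InM M (qrefl q (u - κ • e) c) := hK.conj g hgG.1 (qrefl_unit hF u c huu) hconj
  have hKn : InM M (qrefl q u (-c)) := hK.of_mul_eq_one (qrefl_mul_neg hF u huu c)
  have hcn : -c + (-c) ^ q = 0 := skew_neg hF c hc
  have hiso' : hh (u - κ • e) (u - κ • e) = 0 := by
    simp only [hform_sub_left, hform_sub_right hF, hform_smul_left, hform_smul_right, huu, hue,
      heu, hee]
    ring
  have hprod : InM M (qrefl q u (-c) * qrefl q (u - κ • e) c) :=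
    hKn.mul hK' (qrefl_unit hF u _ huu) (qrefl_unit hF _ c hiso')
  rw [qrefl_quot hF u e c κ hc huu hee hue] at hprod
  have hey' : hh e ((-(c * κ ^ q)) • u) = 0 := by rw [hform_smul_right, heu, mul_zero]
  obtain ⟨y₀, δ, hy₀, hyd⟩ := h.eichler_vec_rat hn hHM t₀ hA e he he0 hee _ hey' _ hprod
  refine ⟨-(c * κ ^ q), y₀, δ, ?_, hy₀, hyd⟩
  exact neg_ne_zero.mpr (mul_ne_zero hc0 (pow_ne_zero _ hκ0))

/-- (F4') centres of transvections of `M` on the `F`-span of a rational totally isotropic line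
are rational up to scalars -/
theorem RU.center_on_line_rat (h : RU F₀ P q r) (hn : 12 < n)
    (hHM : Cfsg.Geo.subfieldSubgroup F₀ P ⊓
      (Cfsg.GU n F q ⊓ Cfsg.Geo.specialLinear (Fin n) F) ≤ M)
    {v₀ w₀ : Fin n → F} (t₀ : TIPair F₀ P q v₀ w₀) (hA : ∀ a ∈ AB F₀ q M v₀ w₀, a ∈ F₀)
    {v w : Fin n → F} (t : TIPair F₀ P q v w) (α β : F) (hne : α • v + β • w ≠ 0)
    (c : F) (hc0 : c ≠ 0) (hc : c + c ^ q = 0) (hK : InM M (qrefl q (α • v + β • w) c)) :
    ∃ a b l : F, l ≠ 0 ∧ a ∈ F₀ ∧ b ∈ F₀ ∧ l * α = a ∧ l * β = b := by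
  classical
  have hF := h.hF
  have hwv : hh w v = 0 := t.hwv hF
  -- duals
  obtain ⟨z₁, hz₁, hwz₁, hvz₁⟩ := h.exists_perp w v t.hw t.hv t.w_ne t.ind2
  obtain ⟨v', hv', hv'v', hv's, hvv', hv'v⟩ := h.exists_iso_dual ![w]
    (by
      intro i
      fin_cases i
      exact t.hw) v t.hv z₁ hz₁
    (by
      intro i
      fin_cases i
      exact hwz₁) hvz₁ (by simp; omega)
  have hwv' : hh w v' = 0 := (hv's 0).1
  obtain ⟨z₂, hz₂, hvz₂, hwz₂⟩ := h.exists_perp v w t.hv t.hw t.v_ne t.ind1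
  obtain ⟨w', hw', hw'w', hw's, hww', hw'w⟩ := h.exists_iso_dual ![v]
    (by
      intro i
      fin_cases i
      exact t.hv) w t.hw z₂ hz₂
    (by
      intro i
      fin_cases i
      exact hvz₂) hwz₂ (by simp; omega)
  have hvw' : hh v w' = 0 := (hw's 0).1
  obtain ⟨e, z', he, hz', hee, hes, hz's, hez'⟩ := h.exists_iso_perp ![v, w, v', w']
    (by
      intro i
      fin_cases i
      · exact t.hv
      · exact t.hw
      · exact hv'
      · exact hw') (by simp; omega)
  have hve : hh v e = 0 := (hes 0).1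
  have hwe : hh w e = 0 := (hes 1).1
  have hev' : hh e v' = 0 := (hes 2).2
  have hew' : hh e w' = 0 := (hes 3).2
  have he0 : e ≠ 0 := by
    intro h0
    rw [h0, hform_zero_left] at hez'
    exact hez' rfl
  obtain ⟨u, hu⟩ : ∃ u : Fin n → F, u = α • v + β • w := ⟨_, rfl⟩
  rw [← hu] at hK hne
  have huu : hh u u = 0 := by
    rw [hu]
    simp only [hform_add_left, hform_add_right hF, hform_smul_left, hform_smul_right, t.hvv,
      t.hww, t.hvw, hwv]
    ring
  have hue : hh u e = 0 := by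
    rw [hu, hform_add_left, hform_smul_left, hform_smul_left, hve, hwe, mul_zero, mul_zero,
      add_zero]
  have huv' : hh u v' = α := by
    rw [hu, hform_add_left, hform_smul_left, hform_smul_left, hvv', hwv', mul_one, mul_zero,
      add_zero]
  have huw' : hh u w' = β := by
    rw [hu, hform_add_left, hform_smul_left, hform_smul_left, hvw', hww', mul_one, mul_zero,
      zero_add]
  have hune : ∀ a : F, u ≠ a • e := by
    intro a hae
    apply hne
    have h1 : α = 0 := by rw [← huv', hae, hform_smul_left, hev', mul_zero]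
    have h2 : β = 0 := by rw [← huw', hae, hform_smul_left, hew', mul_zero]
    rw [hu, h1, h2, zero_smul, zero_smul, add_zero]
  obtain ⟨l, y₀, δ, hl0, hy₀, hyd⟩ := h.center_rat_mod hn hHM t₀ hA u huu c hc0 hc hK e he he0 hee
    hue hune
  have h1 : l * α = hh y₀ v' := by
    have : hh (l • u) v' = hh (y₀ + δ • e) v' := by rw [hyd]
    rw [hform_smul_left, huv', hform_add_left, hform_smul_left, hev', mul_zero, add_zero] at this
    exact this
  have h2 : l * β = hh y₀ w' := by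
    have : hh (l • u) w' = hh (y₀ + δ • e) w' := by rw [hyd]
    rw [hform_smul_left, huw', hform_add_left, hform_smul_left, hew', mul_zero, add_zero] at this
    exact this
  exact ⟨hh y₀ v', hh y₀ w', l, hl0, h.val _ _ hy₀ hv', h.val _ _ hy₀ hw', h1, h2⟩

end small

end Cfsg.Agent.Lib.Helper61.SubfieldUr
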