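import Mathlib
import Cfsg.Prelude.Def_GeometricClasses
import Cfsg.Agent.Lib.Helper51.SUMax4
import Cfsg.Agent.Lib.Helper61.SubfieldUrF
import Cfsg.Agent.Lib.Helper61.SubfieldUrG

/-!
Subfield subgroups `SU_n(q₀) < SU_n(q)`: the configuration of a rational totally isotropic line
`<v, w>` and the centre `u` of a transvection of the overgroup such that the point of the line
orthogonal to `u` is irrational leads to a Frobenius group with an elementary abelian complement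
of rank two, which is impossible.
-/

set_option autoImplicit false
set_option linter.unusedSectionVars false
set_option linter.unusedVariables false

namespace Cfsg.Agent.Lib.Helper61.SubfieldUr

open Matrix Cfsg.Agent.Lib.Helper08 Cfsg.Agent.Lib.Helper51 Cfsg.Agent.Lib.Helper61.SubfieldSU
  Cfsg.Agent.Lib.Helper61.SubfieldSO

section r2
variable {F : Type*} [Field F] [Fintype F] {q n r : ℕ}

local notation "GLn" => Matrix.GeneralLinearGroup (Fin n) F
local notation "hh" => hform (Fin n) F q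

variable {F₀ : Subfield F} {P : Matrix.GeneralLinearGroup (Fin n) F}
variable {M : Subgroup (Matrix.GeneralLinearGroup (Fin n) F)}

/-- a matrix over the subfield, up to a scalar, fixing an irrational vector of the plane is the
identity -/
theorem RU.line_fix (h : RU F₀ P q r) {t : F} (ht : t ∉ F₀) {α₁ β₁ α₂ β₂ l₁ l₂ l₃ : F}
    (hl₁ : l₁ ≠ 0) (hl₂ : l₂ ≠ 0) (hl₃ : l₃ ≠ 0)
    (h1a : l₁ * α₁ ∈ F₀) (h1b : l₁ * β₁ ∈ F₀) (h2a : l₂ * α₂ ∈ F₀) (h2b : l₂ * β₂ ∈ F₀)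
    (h3a : l₃ * (α₁ + α₂) ∈ F₀) (h3b : l₃ * (β₁ + β₂) ∈ F₀)
    (hD : α₁ * β₂ - α₂ * β₁ ≠ 0) (e1 : t * α₁ - α₂ = t) (e2 : t * β₁ - β₂ = -1) :
    α₁ = 1 ∧ β₁ = 0 ∧ α₂ = 0 ∧ β₂ = 1 := by
  have ht0 : t ≠ 0 := fun h0 => ht (h0 ▸ F₀.zero_mem)
  have hDD : (l₁ * α₁) * (l₂ * β₂) - (l₂ * α₂) * (l₁ * β₁) ≠ 0 := by
    have : (l₁ * α₁) * (l₂ * β₂) - (l₂ * α₂) * (l₁ * β₁) = l₁ * l₂ * (α₁ * β₂ - α₂ * β₁) := by ring
    rw [this]
    exact mul_ne_zero (mul_ne_zero hl₁ hl₂) hD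
  have hDm : (l₁ * α₁) * (l₂ * β₂) - (l₂ * α₂) * (l₁ * β₁) ∈ F₀ :=
    F₀.sub_mem (F₀.mul_mem h1a h2b) (F₀.mul_mem h2a h1b)
  have hx : l₃ / l₁ ∈ F₀ := by
    have e : l₃ / l₁ = ((l₃ * (α₁ + α₂)) * (l₂ * β₂) - (l₂ * α₂) * (l₃ * (β₁ + β₂))) /
        ((l₁ * α₁) * (l₂ * β₂) - (l₂ * α₂) * (l₁ * β₁)) := by
      rw [div_eq_div_iff hl₁ hDD]
      ring
    rw [e]
    exact F₀.div_mem (F₀.sub_mem (F₀.mul_mem h3a h2b) (F₀.mul_mem h2a h3b)) hDm
  have hy : l₃ / l₂ ∈ F₀ := by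
    have e : l₃ / l₂ = ((l₁ * α₁) * (l₃ * (β₁ + β₂)) - (l₃ * (α₁ + α₂)) * (l₁ * β₁)) /
        ((l₁ * α₁) * (l₂ * β₂) - (l₂ * α₂) * (l₁ * β₁)) := by
      rw [div_eq_div_iff hl₂ hDD]
      ring
    rw [e]
    exact F₀.div_mem (F₀.sub_mem (F₀.mul_mem h1a h3b) (F₀.mul_mem h3a h1b)) hDm
  obtain ⟨κ, hκ⟩ : ∃ κ : F, κ = l₁ / l₂ := ⟨_, rfl⟩
  have hκm : κ ∈ F₀ := by
    have : κ = (l₃ / l₂) / (l₃ / l₁) := by
      rw [hκ]
      field_simp
    rw [this]
    exact F₀.div_mem hy hx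
  have hκl : κ * l₂ = l₁ := by rw [hκ, div_mul_cancel₀ _ hl₂]
  have hquad : (l₁ * β₁) * t ^ 2 + (l₁ * α₁ - κ * (l₂ * β₂)) * t + (-(κ * (l₂ * α₂))) = 0 := by
    have e3 : κ * (l₂ * β₂) = l₁ * β₂ := by rw [← mul_assoc, hκl]
    have e4 : κ * (l₂ * α₂) = l₁ * α₂ := by rw [← mul_assoc, hκl]
    rw [e3, e4]
    linear_combination (l₁ * t) * e2 + l₁ * e1
  obtain ⟨q1, q2, q3⟩ := h.quad_indep ht h1b
    (F₀.sub_mem h1a (F₀.mul_mem hκm h2b)) (F₀.neg_mem (F₀.mul_mem hκm h2a)) hquad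
  have hβ₁ : β₁ = 0 := by
    rcases mul_eq_zero.mp q1 with h0 | h0
    · exact absurd h0 hl₁
    · exact h0
  have hα₂ : α₂ = 0 := by
    have e4 : κ * (l₂ * α₂) = l₁ * α₂ := by rw [← mul_assoc, hκl]
    rw [e4] at q3
    rcases mul_eq_zero.mp (neg_eq_zero.mp q3) with h0 | h0
    · exact absurd h0 hl₁
    · exact h0
  have hα₁ : α₁ = 1 := by
    rw [hα₂, sub_zero] at e1
    have : t * (α₁ - 1) = 0 := by linear_combination e1
    rcases mul_eq_zero.mp this with h0 | h0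
    · exact absurd h0 ht0
    · linear_combination h0
  have hβ₂ : β₂ = 1 := by
    rw [hβ₁] at e2
    linear_combination -e2
  exact ⟨hα₁, hβ₁, hα₂, hβ₂⟩

/-- a rational `s` with `s t^q - s^q t` irrational -/
theorem RU.exists_s (h : RU F₀ P q r) {t : F} (ht : t ∉ F₀) :
    ∃ s ∈ F₀, s * t ^ q - s ^ q * t ∉ F₀ := by
  by_contra hcon
  push Not at hcon
  obtain ⟨s₀, hs₀, hne⟩ := h.exists_nonfixed
  have h1 := hcon 1 F₀.one_mem
  have h2 := hcon s₀ hs₀
  rw [one_mul, one_pow, one_mul] at h1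
  have h3 : (s₀ - s₀ ^ q) * t ∈ F₀ := by
    have : (s₀ - s₀ ^ q) * t = (s₀ * t ^ q - s₀ ^ q * t) - s₀ * (t ^ q - t) := by ring
    rw [this]
    exact F₀.sub_mem h2 (F₀.mul_mem hs₀ h1)
  have h4 : s₀ - s₀ ^ q ≠ 0 := sub_ne_zero.mpr (Ne.symm hne)
  apply ht
  have : t = (s₀ - s₀ ^ q)⁻¹ * ((s₀ - s₀ ^ q) * t) := by
    rw [← mul_assoc, inv_mul_cancel₀ h4, one_mul]
  rw [this]
  exact F₀.mul_mem (F₀.inv_mem (F₀.sub_mem hs₀ (F₀.pow_mem hs₀ q))) h3

/-- the subgroup fixing a vector -/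
def fixG (ρ : Fin n → F) : Subgroup (Matrix.GeneralLinearGroup (Fin n) F) where
  carrier := {g | g.1 *ᵥ ρ = ρ}
  mul_mem' := by
    intro a b ha hb
    show (a * b).1 *ᵥ ρ = ρ
    rw [gl_mul_act']
    have hb' : b.1 *ᵥ ρ = ρ := hb
    have ha' : a.1 *ᵥ ρ = ρ := ha
    rw [hb', ha']
  one_mem' := by
    show (1 : GLn).1 *ᵥ ρ = ρ
    simp
  inv_mem' := by
    intro a ha
    show a⁻¹.1 *ᵥ ρ = ρ
    have ha' : a.1 *ᵥ ρ = ρ := ha
    conv_lhs => rw [← ha']
    exact gl_inv_act' a ρ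

theorem mem_fixG (ρ : Fin n → F) (g : GLn) : g ∈ fixG ρ ↔ g.1 *ᵥ ρ = ρ := Iff.rfl

/-- the line -/
def LL (v w : Fin n → F) : Submodule F (Fin n → F) := Submodule.span F {v, w}

/-- the three-dimensional space -/
def PP (u v w : Fin n → F) : Submodule F (Fin n → F) := Submodule.span F (insert u {v, w})

theorem mem_LL {v w x : Fin n → F} : x ∈ LL v w ↔ ∃ a b : F, a • v + b • w = x :=
  Submodule.mem_span_pair

theorem mem_PP {u v w x : Fin n → F} :
    x ∈ PP u v w ↔ ∃ c : F, ∃ z ∈ LL v w, x = c • u + z := Submodule.mem_span_insert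

theorem LL_le_PP (u v w : Fin n → F) : LL v w ≤ PP u v w :=
  Submodule.span_mono (Set.subset_insert _ _)

theorem v_mem_LL (v w : Fin n → F) : v ∈ LL v w := Submodule.subset_span (by simp)

theorem w_mem_LL (v w : Fin n → F) : w ∈ LL v w := Submodule.subset_span (by simp)

theorem u_mem_PP (u v w : Fin n → F) : u ∈ PP u v w := Submodule.subset_span (by simp)

/-- the configuration -/
structure Cfg (F₀ : Subfield F) (P : Matrix.GeneralLinearGroup (Fin n) F) (q : ℕ)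
    (M : Subgroup (Matrix.GeneralLinearGroup (Fin n) F)) (v w v' w' u : Fin n → F) (c : F) :
    Prop where
  t : TIPair F₀ P q v w
  hv' : Rat F₀ P v'
  hw' : Rat F₀ P w'
  hvv' : hform (Fin n) F q v v' = 1
  hwv' : hform (Fin n) F q w v' = 0
  hvw' : hform (Fin n) F q v w' = 0
  hww' : hform (Fin n) F q w w' = 1
  huu : hform (Fin n) F q u u = 0
  hc0 : c ≠ 0
  hc : c + c ^ q = 0
  hK : InM M (qrefl q u c)
  hp1 : hform (Fin n) F q v u ≠ 0

variable {v w v' w' u : Fin n → F} {c : F}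

/-- the point of the line orthogonal to `u` -/
def rho (q : ℕ) (v w u : Fin n → F) : Fin n → F :=
  (hform (Fin n) F q w u) • v - (hform (Fin n) F q v u) • w

theorem Cfg.indep (C : Cfg F₀ P q M v w v' w' u c) {a b : F} (h0 : a • v + b • w = 0) :
    a = 0 ∧ b = 0 := by
  constructor
  · have := congrArg (fun x => hh x v') h0
    simp only [hform_add_left, hform_smul_left, C.hvv', C.hwv', hform_zero_left] at this
    linear_combination this
  · have := congrArg (fun x => hh x w') h0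
    simp only [hform_add_left, hform_smul_left, C.hvw', C.hww', hform_zero_left] at this
    linear_combination this

theorem Cfg.hh_LL (hF : Fintype.card F = q ^ 2) (C : Cfg F₀ P q M v w v' w' u c) {z : Fin n → F}
    (hz : z ∈ LL v w) : hh z v = 0 ∧ hh z w = 0 ∧ hh v z = 0 ∧ hh w z = 0 := by
  obtain ⟨a, b, rfl⟩ := mem_LL.mp hz
  have hwv : hh w v = 0 := C.t.hwv hF
  refine ⟨?_, ?_, ?_, ?_⟩
  · rw [hform_add_left, hform_smul_left, hform_smul_left, C.t.hvv, hwv, mul_zero, mul_zero,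
      add_zero]
  · rw [hform_add_left, hform_smul_left, hform_smul_left, C.t.hvw, C.t.hww, mul_zero, mul_zero,
      add_zero]
  · rw [hform_add_right hF, hform_smul_right, hform_smul_right, C.t.hvv, C.t.hvw, mul_zero,
      mul_zero, add_zero]
  · rw [hform_add_right hF, hform_smul_right, hform_smul_right, hwv, C.t.hww, mul_zero,
      mul_zero, add_zero]

theorem Cfg.huv (hF : Fintype.card F = q ^ 2) (C : Cfg F₀ P q M v w v' w' u c) : hh u v ≠ 0 :=
  hhne_symm hF C.hp1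

theorem Cfg.mem_LL_of_PP (hF : Fintype.card F = q ^ 2) (C : Cfg F₀ P q M v w v' w' u c)
    {x : Fin n → F} (hx : x ∈ PP u v w) (hxv : hh x v = 0) : x ∈ LL v w := by
  obtain ⟨c', z, hz, rfl⟩ := mem_PP.mp hx
  rw [hform_add_left, hform_smul_left, (C.hh_LL hF hz).1, add_zero] at hxv
  rcases mul_eq_zero.mp hxv with h0 | h0
  · rw [h0, zero_smul, zero_add]
    exact hz
  · exact absurd h0 (C.huv hF)

theorem rho_mem_LL (v w u : Fin n → F) : rho q v w u ∈ LL v w :=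
  mem_LL.mpr ⟨hh w u, -(hh v u), by unfold rho; rw [neg_smul, sub_eq_add_neg]⟩

theorem rho_perp (v w u : Fin n → F) : hh (rho q v w u) u = 0 := by
  unfold rho
  rw [hform_sub_left, hform_smul_left, hform_smul_left]
  ring

/-- vectors of the line orthogonal to `u` are multiples of `rho` -/
theorem Cfg.LL_perp (C : Cfg F₀ P q M v w v' w' u c) {z : Fin n → F} (hz : z ∈ LL v w)
    (hzu : hh z u = 0) : ∃ a : F, z = a • rho q v w u := by
  obtain ⟨a, b, rfl⟩ := mem_LL.mp hz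
  rw [hform_add_left, hform_smul_left, hform_smul_left] at hzu
  refine ⟨-b / hh v u, ?_⟩
  unfold rho
  have hp := C.hp1
  have ha : a = -b / hh v u * hh w u := by
    field_simp
    linear_combination hzu
  rw [smul_sub, smul_smul, smul_smul, ← ha, div_mul_cancel₀ _ hp, neg_smul, sub_neg_eq_add]

/-- the group `Y` -/
def YY (q : ℕ) (M : Subgroup (Matrix.GeneralLinearGroup (Fin n) F)) (v w u : Fin n → F) :
    Subgroup (Matrix.GeneralLinearGroup (Fin n) F) :=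
  M ⊓ Cfsg.Geo.subspaceStabilizer (PP u v w) ⊓ fixG (rho q v w u)

/-- the stabiliser of the line in `Y` -/
def Y1 (q : ℕ) (M : Subgroup (Matrix.GeneralLinearGroup (Fin n) F)) (v w u : Fin n → F) :
    Subgroup (Matrix.GeneralLinearGroup (Fin n) F) :=
  YY q M v w u ⊓ Cfsg.Geo.subspaceStabilizer (LL v w)

theorem mem_YY {g : GLn} : g ∈ YY q M v w u ↔
    g ∈ M ∧ g ∈ Cfsg.Geo.subspaceStabilizer (PP u v w) ∧ g.1 *ᵥ rho q v w u = rho q v w u := by
  unfold YY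
  rw [Subgroup.mem_inf, Subgroup.mem_inf, mem_fixG, and_assoc]

/-- the kernel of the action on the quotient by `rho` -/
def N0 (q : ℕ) (M : Subgroup (Matrix.GeneralLinearGroup (Fin n) F)) (v w u : Fin n → F) :
    Subgroup (Matrix.GeneralLinearGroup (Fin n) F) where
  carrier := {g | g ∈ YY q M v w u ∧
    ∀ x ∈ PP u v w, ∃ a : F, g.1 *ᵥ x - x = a • rho q v w u}
  mul_mem' := by
    rintro a b ⟨ha, ha'⟩ ⟨hb, hb'⟩
    refine ⟨(YY q M v w u).mul_mem ha hb, ?_⟩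
    intro x hx
    obtain ⟨β, hβ⟩ := hb' x hx
    have hbx : b.1 *ᵥ x ∈ PP u v w := stab_maps _ b (mem_YY.mp hb).2.1 x hx
    obtain ⟨α, hα⟩ := ha' _ hbx
    refine ⟨α + β, ?_⟩
    rw [gl_mul_act', add_smul, ← hα, ← hβ]
    abel
  one_mem' := by
    refine ⟨(YY q M v w u).one_mem, ?_⟩
    intro x hx
    refine ⟨0, ?_⟩
    simp
  inv_mem' := by
    rintro a ⟨ha, ha'⟩
    refine ⟨(YY q M v w u).inv_mem ha, ?_⟩
    intro x hx
    have hx' : a⁻¹.1 *ᵥ x ∈ PP u v w := by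
      apply stab_maps_inv _ a (mem_YY.mp ha).2.1
      rw [gl_act_inv']
      exact hx
    obtain ⟨α, hα⟩ := ha' _ hx'
    rw [gl_act_inv'] at hα
    refine ⟨-α, ?_⟩
    rw [neg_smul, ← hα]
    abel

theorem mem_N0 {g : GLn} : g ∈ N0 q M v w u ↔ g ∈ YY q M v w u ∧
    ∀ x ∈ PP u v w, ∃ a : F, g.1 *ᵥ x - x = a • rho q v w u := Iff.rfl

end r2

end Cfsg.Agent.Lib.Helper61.SubfieldUr
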