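import Mathlib
import Cfsg.Prelude.Def_GeometricClasses
import Cfsg.Agent.Lib.Helper61.SubfieldUrH

/-!
Subfield subgroups `SU_n(q₀) < SU_n(q)`: the Frobenius contradiction for a configuration.
-/

set_option autoImplicit false
set_option linter.unusedSectionVars false
set_option linter.unusedVariables false

namespace Cfsg.Agent.Lib.Helper61.SubfieldUr

open Matrix Cfsg.Agent.Lib.Helper08 Cfsg.Agent.Lib.Helper51 Cfsg.Agent.Lib.Helper61.SubfieldSU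
  Cfsg.Agent.Lib.Helper61.SubfieldSO

section r3
variable {F : Type*} [Field F] [Fintype F] {q n r : ℕ}

local notation "GLn" => Matrix.GeneralLinearGroup (Fin n) F
local notation "hh" => hform (Fin n) F q

variable {F₀ : Subfield F} {P : Matrix.GeneralLinearGroup (Fin n) F}
variable {M : Subgroup (Matrix.GeneralLinearGroup (Fin n) F)}
variable {v w v' w' u : Fin n → F} {c : F}

theorem N0_normal {g k : GLn} (hg : g ∈ YY q M v w u) (hk : k ∈ N0 q M v w u) :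
    g * k * g⁻¹ ∈ N0 q M v w u := by
  obtain ⟨hkY, hk'⟩ := mem_N0.mp hk
  refine mem_N0.mpr ⟨(YY q M v w u).mul_mem ((YY q M v w u).mul_mem hg hkY)
    ((YY q M v w u).inv_mem hg), ?_⟩
  intro x hx
  have hgP := (mem_YY.mp hg).2.1
  have hgρ := (mem_YY.mp hg).2.2
  have hx' : g⁻¹.1 *ᵥ x ∈ PP u v w := by
    apply stab_maps_inv _ g hgP
    rw [gl_act_inv']
    exact hx
  obtain ⟨a, ha⟩ := hk' _ hx'
  refine ⟨a, ?_⟩
  rw [gl_mul_act', gl_mul_act']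
  have : k.1 *ᵥ (g⁻¹.1 *ᵥ x) = g⁻¹.1 *ᵥ x + a • rho q v w u := by rw [← ha]; abel
  rw [this, Matrix.mulVec_add, gl_act_inv', Matrix.mulVec_smul, hgρ]
  abel

theorem N0_le_Y1 : N0 q M v w u ≤ Y1 q M v w u := by
  intro g hg
  obtain ⟨hgY, hg'⟩ := mem_N0.mp hg
  refine Subgroup.mem_inf.mpr ⟨hgY, ?_⟩
  apply mem_stab_of_maps
  intro x hx
  obtain ⟨a, ha⟩ := hg' x (LL_le_PP u v w hx)
  have : g.1 *ᵥ x = x + a • rho q v w u := by rw [← ha]; abel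
  rw [this]
  exact (LL v w).add_mem hx ((LL v w).smul_mem a (rho_mem_LL v w u))

theorem fx_LL {g : GLn} (hv : g.1 *ᵥ v = v) (hw : g.1 *ᵥ w = w) {y : Fin n → F}
    (hy : y ∈ LL v w) : g.1 *ᵥ y = y := by
  obtain ⟨a, b, rfl⟩ := mem_LL.mp hy
  rw [Matrix.mulVec_add, Matrix.mulVec_smul, Matrix.mulVec_smul, hv, hw]

theorem fx_PP {g : GLn} (hv : g.1 *ᵥ v = v) (hw : g.1 *ᵥ w = w) {z : Fin n → F}
    (hu : g.1 *ᵥ u = u + z) (c' : F) {y : Fin n → F} (hy : y ∈ LL v w) :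
    g.1 *ᵥ (c' • u + y) = c' • u + y + c' • z := by
  rw [Matrix.mulVec_add, Matrix.mulVec_smul, hu, fx_LL hv hw hy, smul_add]
  abel

theorem fx_pow {g : GLn} (hv : g.1 *ᵥ v = v) (hw : g.1 *ᵥ w = w) {z : Fin n → F}
    (hz : z ∈ LL v w) (hu : g.1 *ᵥ u = u + z) (k : ℕ) :
    (g ^ k).1 *ᵥ u = u + (k : F) • z := by
  induction k with
  | zero => simp
  | succ k ih =>
    rw [pow_succ', gl_mul_act', ih, Matrix.mulVec_add, Matrix.mulVec_smul, hu, fx_LL hv hw hz,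
      Nat.cast_succ, add_smul, one_smul]
    abel

/-- fixing `PP` pointwise puts an element of `YY` into `N0` -/
theorem mem_N0_of_fix {g : GLn} (hg : g ∈ YY q M v w u) (hv : g.1 *ᵥ v = v)
    (hw : g.1 *ᵥ w = w) (hu : g.1 *ᵥ u = u) : g ∈ N0 q M v w u := by
  refine mem_N0.mpr ⟨hg, ?_⟩
  intro x hx
  obtain ⟨c', y, hy, rfl⟩ := mem_PP.mp hx
  refine ⟨0, ?_⟩
  have hu' : g.1 *ᵥ u = u + 0 := by rw [add_zero]; exact hu
  rw [fx_PP hv hw hu' c' hy, smul_zero, add_zero, sub_self, zero_smul]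

/-- (L6) the stabiliser of the line fixes it pointwise and is unipotent on the plane -/
theorem RU.Y1_fix (h : RU F₀ P q r) (hn : 12 < n)
    (hHM : Cfsg.Geo.subfieldSubgroup F₀ P ⊓
      (Cfsg.GU n F q ⊓ Cfsg.Geo.specialLinear (Fin n) F) ≤ M)
    (hMI : M ≤ Cfsg.GU n F q ⊓ Cfsg.Geo.specialLinear (Fin n) F)
    {v₀ w₀ : Fin n → F} (t₀ : TIPair F₀ P q v₀ w₀) (hA : ∀ a ∈ AB F₀ q M v₀ w₀, a ∈ F₀)
    (C : Cfg F₀ P q M v w v' w' u c) (ht : hh w u / hh v u ∉ F₀) {g : GLn}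
    (hg : g ∈ Y1 q M v w u) :
    g.1 *ᵥ v = v ∧ g.1 *ᵥ w = w ∧ ∃ z ∈ LL v w, g.1 *ᵥ u = u + z := by
  classical
  have hF := h.hF
  obtain ⟨hgY, hgL⟩ := Subgroup.mem_inf.mp hg
  obtain ⟨hgM, hgP, hgρ⟩ := mem_YY.mp hgY
  have hiso : IsIsoMat q g.1 := ((mem_GUSL_iff g).mp (hMI hgM)).1
  obtain ⟨ζ, hζm, hζ0, hζ⟩ := h.exists_skew0
  have hwv : hh w v = 0 := C.t.hwv hF
  obtain ⟨α₁, β₁, h1⟩ := mem_LL.mp (stab_maps _ g hgL v (v_mem_LL v w))
  obtain ⟨α₂, β₂, h2⟩ := mem_LL.mp (stab_maps _ g hgL w (w_mem_LL v w))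
  have hinj : ∀ x : Fin n → F, g.1 *ᵥ x = 0 → x = 0 := by
    intro x hx
    have := gl_inv_act' g x
    rw [hx, Matrix.mulVec_zero] at this
    exact this.symm
  have key : ∀ (x : Fin n → F) (α β : F), Rat F₀ P x → hh x x = 0 → x ≠ 0 →
      α • v + β • w = g.1 *ᵥ x →
      ∃ a b l : F, l ≠ 0 ∧ a ∈ F₀ ∧ b ∈ F₀ ∧ l * α = a ∧ l * β = b := by
    intro x α β hx hxx hx0 hαβ
    have hK0 : InM M (qrefl q x ζ) := h.tv_inM hHM x hx hxx ζ hζm hζ
    have hconj := qrefl_conj g.1 hiso x ζ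
    have hK1 : InM M (qrefl q (g.1 *ᵥ x) ζ) := hK0.conj g hgM (qrefl_unit hF x ζ hxx) hconj
    rw [← hαβ] at hK1
    apply h.center_on_line_rat hn hHM t₀ hA C.t α β _ ζ hζ0 hζ hK1
    rw [hαβ]
    intro h0
    exact hx0 (hinj x h0)
  obtain ⟨a₁, b₁, l₁, hl₁, ha₁, hb₁, e1a, e1b⟩ := key v α₁ β₁ C.t.hv C.t.hvv C.t.v_ne h1
  obtain ⟨a₂, b₂, l₂, hl₂, ha₂, hb₂, e2a, e2b⟩ := key w α₂ β₂ C.t.hw C.t.hww C.t.w_ne h2
  have hvw0 : v + w ≠ 0 := by
    intro h0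
    have := C.indep (a := 1) (b := 1) (by rw [one_smul, one_smul]; exact h0)
    exact one_ne_zero this.1
  have hvwiso : hh (v + w) (v + w) = 0 := by
    simp only [hform_add_left, hform_add_right hF, C.t.hvv, C.t.hww, C.t.hvw, hwv]
    ring
  have h3 : (α₁ + α₂) • v + (β₁ + β₂) • w = g.1 *ᵥ (v + w) := by
    rw [Matrix.mulVec_add, ← h1, ← h2, add_smul, add_smul]
    abel
  obtain ⟨a₃, b₃, l₃, hl₃, ha₃, hb₃, e3a, e3b⟩ :=
    key (v + w) (α₁ + α₂) (β₁ + β₂) (rat_add C.t.hv C.t.hw) hvwiso hvw0 h3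
  -- the determinant
  have hD : α₁ * β₂ - α₂ * β₁ ≠ 0 := by
    intro hD0
    have hx : g.1 *ᵥ (β₂ • v - β₁ • w) = 0 := by
      rw [Matrix.mulVec_sub, Matrix.mulVec_smul, Matrix.mulVec_smul, ← h1, ← h2]
      have : β₂ • (α₁ • v + β₁ • w) - β₁ • (α₂ • v + β₂ • w) =
          (α₁ * β₂ - α₂ * β₁) • v := by
        simp only [smul_add, smul_smul, sub_smul]
        rw [mul_comm β₂ α₁, mul_comm β₁ α₂, mul_comm β₂ β₁]
        abel
      rw [this, hD0, zero_smul]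
    have hy : g.1 *ᵥ (α₂ • v - α₁ • w) = 0 := by
      rw [Matrix.mulVec_sub, Matrix.mulVec_smul, Matrix.mulVec_smul, ← h1, ← h2]
      have : α₂ • (α₁ • v + β₁ • w) - α₁ • (α₂ • v + β₂ • w) =
          (-(α₁ * β₂ - α₂ * β₁)) • w := by
        simp only [smul_add, smul_smul, sub_smul, neg_smul]
        rw [mul_comm α₂ α₁]
        abel
      rw [this, hD0, neg_zero, zero_smul]
    have hx0 := hinj _ hx
    have hy0 := hinj _ hy
    rw [sub_eq_add_neg, ← neg_smul] at hx0 hy0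
    obtain ⟨hb2, hb1⟩ := C.indep hx0
    obtain ⟨ha2, ha1⟩ := C.indep hy0
    have hα₁ : α₁ = 0 := neg_eq_zero.mp ha1
    have hβ₁ : β₁ = 0 := neg_eq_zero.mp hb1
    rw [hα₁, hβ₁, zero_smul, zero_smul, add_zero] at h1
    exact C.t.v_ne (hinj v h1.symm)
  -- the fixed vector
  have hp1 := C.hp1
  have hρ : (hh w u * α₁ - hh v u * α₂ - hh w u) • v +
      (hh w u * β₁ - hh v u * β₂ + hh v u) • w = 0 := by
    have e := hgρ
    unfold rho at e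
    rw [Matrix.mulVec_sub, Matrix.mulVec_smul, Matrix.mulVec_smul, ← h1, ← h2] at e
    have e' := sub_eq_zero.mpr e
    rw [← e']
    simp only [smul_add, smul_smul, sub_smul, add_smul]
    abel
  obtain ⟨hρ1, hρ2⟩ := C.indep hρ
  have e1 : hh w u / hh v u * α₁ - α₂ = hh w u / hh v u := by
    field_simp
    linear_combination hρ1
  have e2 : hh w u / hh v u * β₁ - β₂ = -1 := by
    field_simp
    linear_combination hρ2
  obtain ⟨hα₁, hβ₁, hα₂, hβ₂⟩ := h.line_fix ht hl₁ hl₂ hl₃ (e1a ▸ ha₁) (e1b ▸ hb₁) (e2a ▸ ha₂)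
    (e2b ▸ hb₂) (e3a ▸ ha₃) (e3b ▸ hb₃) hD e1 e2
  have hgv : g.1 *ᵥ v = v := by
    rw [← h1, hα₁, hβ₁, one_smul, zero_smul, add_zero]
  have hgw : g.1 *ᵥ w = w := by
    rw [← h2, hα₂, hβ₂, one_smul, zero_smul, zero_add]
  refine ⟨hgv, hgw, ?_⟩
  obtain ⟨c', z, hz, hgu⟩ := mem_PP.mp (stab_maps _ g hgP u (u_mem_PP u v w))
  have e := hiso v u
  rw [hgv, hgu, hform_add_right hF, hform_smul_right, (C.hh_LL hF hz).2.2.1, add_zero] at e
  have hc1 : c' ^ q = 1 := by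
    have : (c' ^ q - 1) * hh v u = 0 := by linear_combination e
    rcases mul_eq_zero.mp this with h0 | h0
    · linear_combination h0
    · exact absurd h0 hp1
  have hc' : c' = 1 := by
    rw [← pow_q_pow_q' hF c', hc1, one_pow]
  refine ⟨z, hz, ?_⟩
  rw [hgu, hc', one_smul]

end r3

end Cfsg.Agent.Lib.Helper61.SubfieldUr
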