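import Mathlib
import Cfsg.Prelude.Def_GeometricClasses
import Cfsg.Agent.Lib.Helper61.SubfieldUrI

/-!
Subfield subgroups `SU_n(q₀) < SU_n(q)`: the Frobenius contradiction for a configuration, end.
-/

set_option autoImplicit false
set_option linter.unusedSectionVars false
set_option linter.unusedVariables false

namespace Cfsg.Agent.Lib.Helper61.SubfieldUr

open Matrix Cfsg.Agent.Lib.Helper08 Cfsg.Agent.Lib.Helper51 Cfsg.Agent.Lib.Helper61.SubfieldSU
  Cfsg.Agent.Lib.Helper61.SubfieldSO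

section r4
variable {F : Type*} [Field F] [Fintype F] {q n r : ℕ}

local notation "GLn" => Matrix.GeneralLinearGroup (Fin n) F
local notation "hh" => hform (Fin n) F q

variable {F₀ : Subfield F} {P : Matrix.GeneralLinearGroup (Fin n) F}
variable {M : Subgroup (Matrix.GeneralLinearGroup (Fin n) F)}
variable {v w v' w' u : Fin n → F} {c : F}

/-- a transvection with centre in the plane and orthogonal to `rho`... membership in `YY` -/
theorem mem_YY_of_act {g : GLn} (hgM : g ∈ M) (hP : ∀ x ∈ PP u v w, g.1 *ᵥ x ∈ PP u v w)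
    (hρ : g.1 *ᵥ rho q v w u = rho q v w u) : g ∈ YY q M v w u :=
  mem_YY.mpr ⟨hgM, mem_stab_of_maps _ g hP, hρ⟩

/-- (R2) a configuration with an irrational orthogonal point is impossible -/
theorem RU.cfg_false (h : RU F₀ P q r) (hn : 12 < n)
    (hHM : Cfsg.Geo.subfieldSubgroup F₀ P ⊓
      (Cfsg.GU n F q ⊓ Cfsg.Geo.specialLinear (Fin n) F) ≤ M)
    (hMI : M ≤ Cfsg.GU n F q ⊓ Cfsg.Geo.specialLinear (Fin n) F)
    {v₀ w₀ : Fin n → F} (t₀ : TIPair F₀ P q v₀ w₀) (hA : ∀ a ∈ AB F₀ q M v₀ w₀, a ∈ F₀)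
    (C : Cfg F₀ P q M v w v' w' u c) (ht : hh w u / hh v u ∉ F₀) : False := by
  classical
  have hF := h.hF
  obtain ⟨ζ, hζm, hζ0, hζ⟩ := h.exists_skew0
  have hwv : hh w v = 0 := C.t.hwv hF
  have hp1 := C.hp1
  have huv := C.huv hF
  obtain ⟨s, hsm, hs⟩ := h.exists_s ht
  haveI := ringChar.charP F
  haveI : Fact (ringChar F).Prime := ⟨CharP.char_is_prime F (ringChar F)⟩
  have hfix := fun {g : GLn} (hg : g ∈ Y1 q M v w u) => h.Y1_fix hn hHM hMI t₀ hA C ht hg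
  have hvP : v ∈ PP u v w := LL_le_PP u v w (v_mem_LL v w)
  have hwP : w ∈ PP u v w := LL_le_PP u v w (w_mem_LL v w)
  have hρL : rho q v w u ∈ LL v w := rho_mem_LL v w u
  -- τ
  obtain ⟨τ, hτ⟩ : ∃ τ : GLn, τ.1 = qrefl q u c := ⟨(qrefl_unit hF u c C.huu).unit, rfl⟩
  have hτY : τ ∈ YY q M v w u := by
    apply mem_YY_of_act (C.hK τ hτ)
    · intro x hx
      rw [hτ, qrefl_mulVec]
      exact (PP u v w).add_mem hx ((PP u v w).smul_mem _ (u_mem_PP u v w))
    · rw [hτ, qrefl_mulVec, rho_perp, mul_zero, zero_smul, add_zero]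
  have hτ1 : τ ∉ Y1 q M v w u := by
    intro hmem
    have e := (hfix hmem).1
    rw [hτ, qrefl_mulVec] at e
    have e' : (c * hh v u) • u = 0 := by
      have := sub_eq_zero.mpr e
      rw [← this]
      abel
    rcases smul_eq_zero.mp e' with h0 | h0
    · exact mul_ne_zero C.hc0 hp1 h0
    · apply hp1
      rw [h0]
      exact hh_zero_r hF v
  -- x₁
  obtain ⟨x₁, hx₁⟩ : ∃ x₁ : GLn, x₁.1 = qrefl q v ζ := ⟨(qrefl_unit hF v ζ C.t.hvv).unit, rfl⟩
  have hx₁M : x₁ ∈ M := h.tv_inM hHM v C.t.hv C.t.hvv ζ hζm hζ x₁ hx₁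
  have hx₁L : ∀ y ∈ LL v w, x₁.1 *ᵥ y = y := by
    intro y hy
    rw [hx₁, qrefl_mulVec, (C.hh_LL hF hy).1, mul_zero, zero_smul, add_zero]
  have hx₁Y1 : x₁ ∈ Y1 q M v w u := by
    refine Subgroup.mem_inf.mpr ⟨?_, ?_⟩
    · apply mem_YY_of_act hx₁M
      · intro x hx
        rw [hx₁, qrefl_mulVec]
        exact (PP u v w).add_mem hx ((PP u v w).smul_mem _ hvP)
      · exact hx₁L _ hρL
    · apply mem_stab_of_maps
      intro y hy
      rw [hx₁L y hy]
      exact hy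
  have hx₁u : x₁.1 *ᵥ u = u + (ζ * hh u v) • v := by rw [hx₁, qrefl_mulVec]
  have hx₁N : x₁ ∉ N0 q M v w u := by
    intro hmem
    obtain ⟨a, ha⟩ := (mem_N0.mp hmem).2 u (u_mem_PP u v w)
    rw [hx₁u] at ha
    unfold rho at ha
    have e : (ζ * hh u v - a * hh w u) • v + (a * hh v u) • w = 0 := by
      have := sub_eq_zero.mpr ha
      rw [← this]
      simp only [smul_sub, smul_smul, sub_smul]
      abel
    obtain ⟨e1, e2⟩ := C.indep e
    have ha0 : a = 0 := by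
      rcases mul_eq_zero.mp e2 with h0 | h0
      · exact h0
      · exact absurd h0 hp1
    rw [ha0, zero_mul, sub_zero] at e1
    exact mul_ne_zero hζ0 huv e1
  -- x₂
  obtain ⟨x₂, hx₂⟩ : ∃ x₂ : GLn, x₂.1 = sg q v w s :=
    ⟨(sg_unit hF v w s C.t.hvv C.t.hww hwv).unit, rfl⟩
  have hx₂M : x₂ ∈ M := h.sg_inM hHM v w C.t.hv C.t.hw C.t.hvv C.t.hww hwv s hsm x₂ hx₂
  have hx₂act : ∀ x, x₂.1 *ᵥ x = x + (s * hh x w) • v - (s ^ q * hh x v) • w := by
    intro x
    rw [hx₂, sg_mulVec hF v w s C.t.hww hwv]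
  have hx₂L : ∀ y ∈ LL v w, x₂.1 *ᵥ y = y := by
    intro y hy
    rw [hx₂act, (C.hh_LL hF hy).1, (C.hh_LL hF hy).2.1, mul_zero, mul_zero, zero_smul, zero_smul,
      add_zero, sub_zero]
  have hx₂Y1 : x₂ ∈ Y1 q M v w u := by
    refine Subgroup.mem_inf.mpr ⟨?_, ?_⟩
    · apply mem_YY_of_act hx₂M
      · intro x hx
        rw [hx₂act]
        exact (PP u v w).sub_mem ((PP u v w).add_mem hx ((PP u v w).smul_mem _ hvP))
          ((PP u v w).smul_mem _ hwP)
      · exact hx₂L _ hρL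
    · apply mem_stab_of_maps
      intro y hy
      rw [hx₂L y hy]
      exact hy
  -- the contradiction
  apply frob_contra (YY q M v w u) (Y1 q M v w u) (N0 q M v w u) inf_le_left N0_le_Y1
    (fun g hg k hk => N0_normal hg hk) (ringChar F) ?_ τ hτY hτ1 ?_ x₁ x₂ hx₁Y1 hx₂Y1 hx₁N ?_
  · -- exponent
    intro x hx
    obtain ⟨hxv, hxw, z, hz, hxu⟩ := hfix hx
    have hxp : x ^ ringChar F ∈ Y1 q M v w u := (Y1 q M v w u).pow_mem hx _
    obtain ⟨hpv, hpw, -⟩ := hfix hxp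
    apply mem_N0_of_fix (Subgroup.mem_inf.mp hxp).1 hpv hpw
    rw [fx_pow hxv hxw hz hxu, CharP.cast_eq_zero F (ringChar F), zero_smul, add_zero]
  · -- TI
    intro g hgY hg1 x hx hconj
    have hgP := (mem_YY.mp hgY).2.1
    obtain ⟨y, hy, hgy⟩ : ∃ y ∈ LL v w, g.1 *ᵥ y ∉ LL v w := by
      by_contra hcon
      push Not at hcon
      exact hg1 (Subgroup.mem_inf.mpr ⟨hgY, mem_stab_of_maps _ g hcon⟩)
    obtain ⟨c', z₁, hz₁, hgy'⟩ := mem_PP.mp (stab_maps _ g hgP y (LL_le_PP u v w hy))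
    have hc'0 : c' ≠ 0 := by
      intro h0
      apply hgy
      rw [hgy', h0, zero_smul, zero_add]
      exact hz₁
    obtain ⟨hxv, hxw, z, hz, hxu⟩ := hfix hx
    obtain ⟨hcv, hcw, -⟩ := hfix hconj
    have e1 : (g⁻¹ * x * g).1 *ᵥ y = y := fx_LL hcv hcw hy
    rw [gl_mul_act', gl_mul_act'] at e1
    have e2 : x.1 *ᵥ (g.1 *ᵥ y) = g.1 *ᵥ y := by
      have := congrArg (fun t => g.1 *ᵥ t) e1
      rw [gl_act_inv'] at this
      exact this
    rw [hgy', fx_PP hxv hxw hxu c' hz₁] at e2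
    have e3 : c' • z = 0 := by
      have := sub_eq_zero.mpr e2
      rw [← this]
      abel
    have hz0 : z = 0 := by
      rcases smul_eq_zero.mp e3 with h0 | h0
      · exact absurd h0 hc'0
      · exact h0
    apply mem_N0_of_fix (Subgroup.mem_inf.mp hx).1 hxv hxw
    rw [hxu, hz0, add_zero]
  · -- the cosets
    intro j hmem
    obtain ⟨a, ha⟩ := (mem_N0.mp hmem).2 u (u_mem_PP u v w)
    have hx₁v : x₁.1 *ᵥ v = v := hx₁L v (v_mem_LL v w)
    have hx₁w : x₁.1 *ᵥ w = w := hx₁L w (w_mem_LL v w)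
    have hzL : (ζ * hh u v) • v ∈ LL v w := (LL v w).smul_mem _ (v_mem_LL v w)
    have hpu := fx_pow hx₁v hx₁w hzL hx₁u j
    have hpY : x₁ ^ j ∈ Y1 q M v w u := (Y1 q M v w u).pow_mem hx₁Y1 _
    obtain ⟨hpv, hpw, -⟩ := hfix hpY
    have hpρ : (x₁ ^ j).1 *ᵥ rho q v w u = rho q v w u := fx_LL hpv hpw hρL
    have e1 : x₂.1 *ᵥ u = (x₁ ^ j).1 *ᵥ (u + a • rho q v w u) := by
      have e0 : ((x₁ ^ j)⁻¹ * x₂).1 *ᵥ u = u + a • rho q v w u := by rw [← ha]; abel
      rw [← e0, gl_mul_act', gl_act_inv']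
    rw [Matrix.mulVec_add, Matrix.mulVec_smul, hpρ, hpu, hx₂act] at e1
    unfold rho at e1
    have e : (s * hh u w - (j : F) * (ζ * hh u v) - a * hh w u) • v +
        (a * hh v u - s ^ q * hh u v) • w = 0 := by
      have := sub_eq_zero.mpr e1
      rw [← this]
      simp only [smul_sub, smul_smul, sub_smul]
      abel
    obtain ⟨ev, ew⟩ := C.indep e
    apply hs
    have huw' : hh u w = hh w u ^ q := (hform_conj hF w u).symm
    have huv' : hh u v = hh v u ^ q := (hform_conj hF v u).symm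
    rw [huw', huv'] at ev
    rw [huv'] at ew
    have hp1q : hh v u ^ q ≠ 0 := pow_ne_zero _ hp1
    have : s * (hh w u / hh v u) ^ q - s ^ q * (hh w u / hh v u) = (j : F) * ζ := by
      rw [div_pow]
      field_simp
      linear_combination (hh v u) * ev + (hh w u) * ew
    rw [this]
    exact F₀.mul_mem (natCast_mem F₀ j) hζm

end r4

end Cfsg.Agent.Lib.Helper61.SubfieldUr
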