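import Mathlib
import Cfsg.Prelude.Def_GeometricClasses
import Cfsg.Agent.Lib.Helper61.SubfieldUrJ

/-!
Subfield subgroups `SU_n(q₀) < SU_n(q)`: centres of transvections of a small overgroup are
rational up to scalars.
-/

set_option autoImplicit false
set_option linter.unusedSectionVars false
set_option linter.unusedVariables false

namespace Cfsg.Agent.Lib.Helper61.SubfieldUr

open Matrix Cfsg.Agent.Lib.Helper08 Cfsg.Agent.Lib.Helper51 Cfsg.Agent.Lib.Helper61.SubfieldSU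
  Cfsg.Agent.Lib.Helper61.SubfieldSO

section r5
variable {F : Type*} [Field F] [Fintype F] {q n r : ℕ}

local notation "GLn" => Matrix.GeneralLinearGroup (Fin n) F
local notation "hh" => hform (Fin n) F q

variable {F₀ : Subfield F} {P : Matrix.GeneralLinearGroup (Fin n) F}
variable {M : Subgroup (Matrix.GeneralLinearGroup (Fin n) F)}

/-- a rational isotropic vector not orthogonal to a given non-zero vector -/
theorem RU.exists_iso_ne (h : RU F₀ P q r) (hn : 4 < n) (u : Fin n → F) (hu0 : u ≠ 0) :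
    ∃ v, Rat F₀ P v ∧ hh v v = 0 ∧ hh v u ≠ 0 := by
  obtain ⟨x, hx, hxu⟩ := exists_ne_left (F₀ := F₀) (P := P) h.hF u hu0
  obtain ⟨e₁, e₂, he₁, he₂, hsplit, h11, h22, -⟩ := h.exists_split (fun i : Fin 0 => 0)
    (fun i => i.elim0) x hx (by simp; omega)
  by_cases h1 : hh e₁ u = 0
  · refine ⟨e₂, he₂, h22, ?_⟩
    intro h2
    apply hxu
    rw [hsplit, hform_add_left, h1, h2, add_zero]
  · exact ⟨e₁, he₁, h11, h1⟩

/-- rational duals of a pair -/
theorem RU.exists_duals (h : RU F₀ P q r) (hn : 6 < n) {v w : Fin n → F}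
    (t : TIPair F₀ P q v w) :
    ∃ v' w', Rat F₀ P v' ∧ Rat F₀ P w' ∧ hh v v' = 1 ∧ hh w v' = 0 ∧ hh v w' = 0 ∧
      hh w w' = 1 := by
  classical
  obtain ⟨z₁, hz₁, hwz₁, hvz₁⟩ := h.exists_perp w v t.hw t.hv t.w_ne t.ind2
  obtain ⟨v', hv', hv'v', hv's, hvv', hv'v⟩ := h.exists_iso_dual ![w]
    (by
      intro i
      fin_cases i
      exact t.hw) v t.hv z₁ hz₁
    (by
      intro i
      fin_cases i
      exact hwz₁) hvz₁ (by simp; omega)
  have hwv' : hh w v' = 0 := (hv's 0).1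
  obtain ⟨z₂, hz₂, hvz₂, hwz₂⟩ := h.exists_perp v w t.hv t.hw t.v_ne t.ind1
  obtain ⟨w', hw', hw'w', hw's, hww', hw'w⟩ := h.exists_iso_dual ![v]
    (by
      intro i
      fin_cases i
      exact t.hv) w t.hw z₂ hz₂
    (by
      intro i
      fin_cases i
      exact hvz₂) hwz₂ (by simp; omega)
  have hvw' : hh v w' = 0 := (hw's 0).1
  exact ⟨v', w', hv', hw', hvv', hwv', hvw', hww'⟩

/-- a pair is linearly independent over the big field -/
theorem RU.pair_indep (h : RU F₀ P q r) (hn : 6 < n) {v w : Fin n → F}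
    (t : TIPair F₀ P q v w) {a b : F} (h0 : a • v + b • w = 0) : a = 0 ∧ b = 0 := by
  obtain ⟨v', w', hv', hw', hvv', hwv', hvw', hww'⟩ := h.exists_duals hn t
  constructor
  · have := congrArg (fun x => hh x v') h0
    simp only [hform_add_left, hform_smul_left, hvv', hwv', hform_zero_left] at this
    linear_combination this
  · have := congrArg (fun x => hh x w') h0
    simp only [hform_add_left, hform_smul_left, hvw', hww', hform_zero_left] at this
    linear_combination this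

/-- (C) the centres of the transvections of a small overgroup are rational up to scalars -/
theorem RU.center_rat (h : RU F₀ P q r) (hn : 12 < n)
    (hHM : Cfsg.Geo.subfieldSubgroup F₀ P ⊓
      (Cfsg.GU n F q ⊓ Cfsg.Geo.specialLinear (Fin n) F) ≤ M)
    (hMI : M ≤ Cfsg.GU n F q ⊓ Cfsg.Geo.specialLinear (Fin n) F)
    {v₀ w₀ : Fin n → F} (t₀ : TIPair F₀ P q v₀ w₀) (hA : ∀ a ∈ AB F₀ q M v₀ w₀, a ∈ F₀)
    (u : Fin n → F) (huu : hh u u = 0) (c : F) (hc0 : c ≠ 0) (hc : c + c ^ q = 0)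
    (hK : InM M (qrefl q u c)) : ∃ l : F, l ≠ 0 ∧ Rat F₀ P (l • u) := by
  classical
  have hF := h.hF
  by_cases hu0 : u = 0
  · exact ⟨1, one_ne_zero, by rw [hu0, smul_zero]; exact rat_zero⟩
  obtain ⟨v, hv, hvv, hvu⟩ := h.exists_iso_ne (by omega) u hu0
  have hv0 : v ≠ 0 := by
    intro h0
    rw [h0, hform_zero_left] at hvu
    exact hvu rfl
  obtain ⟨v', hv', hv'v', hvv', hv'v⟩ := h.exists_partner (by omega) v hv hv0
  -- all the ratios are rational
  have hratio : ∀ w, TIPair F₀ P q v w → hh w u / hh v u ∈ F₀ := by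
    intro w t
    by_contra hnot
    obtain ⟨v'', w', hv'', hw', e1, e2, e3, e4⟩ := h.exists_duals (by omega) t
    exact h.cfg_false hn hHM hMI t₀ hA
      (⟨t, hv'', hw', e1, e2, e3, e4, huu, hc0, hc, hK, hvu⟩ : Cfg F₀ P q M v w v'' w' u c) hnot
  have hperp : ∀ x, Rat F₀ P x → hh v x = 0 → hh x u / hh v u ∈ F₀ := by
    intro x hx hvx
    obtain ⟨e₁, e₂, he₁, he₂, hsplit, h11, h22, hp⟩ := h.exists_split ![v]
      (by
        intro i
        fin_cases i
        exact hv) x hx (by simp; omega)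
    have h12 : hh v e₁ = 0 ∧ hh v e₂ = 0 := hp 0 hvx
    have key : ∀ e, Rat F₀ P e → hh e e = 0 → hh v e = 0 → hh e u / hh v u ∈ F₀ := by
      intro e he hee hve
      by_cases hind : ∀ a ∈ F₀, e ≠ a • v
      · apply hratio e
        refine ⟨hv, he, hvv, hee, hve, hind, ?_⟩
        intro a ha hva
        have ha0 : a ≠ 0 := by
          intro h0
          rw [h0, zero_smul] at hva
          exact hv0 hva
        apply hind a⁻¹ (F₀.inv_mem ha)
        rw [hva, smul_smul, inv_mul_cancel₀ ha0, one_smul]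
      · push Not at hind
        obtain ⟨a, ha, hea⟩ := hind
        rw [hea, hform_smul_left, mul_div_assoc, div_self hvu, mul_one]
        exact ha
    rw [hsplit, hform_add_left, add_div]
    exact F₀.add_mem (key e₁ he₁ h11 h12.1) (key e₂ he₂ h22 h12.2)
  -- normalise
  obtain ⟨a, ha⟩ : ∃ a : F, a = ((hh v u) ^ q)⁻¹ := ⟨_, rfl⟩
  have hpq0 : (hh v u) ^ q ≠ 0 := pow_ne_zero _ hvu
  have ha0 : a ≠ 0 := by rw [ha]; exact inv_ne_zero hpq0
  have haq : a ^ q = (hh v u)⁻¹ := by rw [ha, inv_pow, pow_q_pow_q' hF]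
  obtain ⟨u₁, hu₁⟩ : ∃ u₁ : Fin n → F, u₁ = a • u := ⟨_, rfl⟩
  have hxu₁ : ∀ x, hh x u₁ = hh x u / hh v u := by
    intro x
    rw [hu₁, hform_smul_right, haq, div_eq_inv_mul]
  have hvu₁ : hh v u₁ = 1 := by rw [hxu₁, div_self hvu]
  obtain ⟨γ, hγ⟩ : ∃ γ : F, γ = hh u₁ v' := ⟨_, rfl⟩
  have hγq : γ ^ q = hh v' u₁ := by rw [hγ, hform_conj hF]
  obtain ⟨y₁, hy₁⟩ : ∃ y₁ : Fin n → F, y₁ = u₁ - γ • v := ⟨_, rfl⟩
  have hy₁r : Rat F₀ P y₁ := by
    apply h.rat_of_pairings
    intro x hx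
    obtain ⟨xW, hxW⟩ : ∃ xW : Fin n → F, xW = x - (hh x v') • v - (hh x v) • v' := ⟨_, rfl⟩
    have hxWr : Rat F₀ P xW := by
      rw [hxW]
      exact rat_sub (rat_sub hx (rat_smul (h.val x v' hx hv') hv))
        (rat_smul (h.val x v hx hv) hv')
    have hxWv : hh xW v = 0 := by
      rw [hxW, hform_sub_left, hform_sub_left, hform_smul_left, hform_smul_left, hvv, hv'v]
      ring
    have hvxW : hh v xW = 0 := hh0_symm hF hxWv
    obtain ⟨l₁, hl₁⟩ : ∃ l₁ : F, l₁ = hh x v' := ⟨_, rfl⟩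
    obtain ⟨l₂, hl₂⟩ : ∃ l₂ : F, l₂ = hh x v := ⟨_, rfl⟩
    have hx' : x = xW + l₁ • v + l₂ • v' := by rw [hxW, hl₁, hl₂]; abel
    have e1 : hh x y₁ = hh xW u₁ + l₁ := by
      rw [hy₁, hform_sub_right hF, hform_smul_right, hx']
      simp only [hform_add_left, hform_smul_left, hvu₁, hvv, hv'v, hxWv, ← hγq]
      ring
    rw [e1, hxu₁, hl₁]
    exact F₀.add_mem (hperp xW hxWr hvxW) (h.val x v' hx hv')
  have hu₁eq : u₁ = y₁ + γ • v := by rw [hy₁]; abel
  -- a rational isotropic vector orthogonal to everything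
  obtain ⟨e, z', he, hz', hee, hes, hz's, hez'⟩ := h.exists_iso_perp ![v, v', y₁]
    (by
      intro i
      fin_cases i
      · exact hv
      · exact hv'
      · exact hy₁r) (by simp; omega)
  have hve : hh v e = 0 := (hes 0).1
  have hv'e : hh v' e = 0 := (hes 1).1
  have hy₁e : hh y₁ e = 0 := (hes 2).1
  have he0 : e ≠ 0 := by
    intro h0
    rw [h0, hform_zero_left] at hez'
    exact hez' rfl
  have hue : hh u e = 0 := by
    have : u = a⁻¹ • u₁ := by rw [hu₁, smul_smul, inv_mul_cancel₀ ha0, one_smul]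
    rw [this, hform_smul_left, hu₁eq, hform_add_left, hform_smul_left, hy₁e, hve]
    ring
  have hune : ∀ b : F, u ≠ b • e := by
    intro b hb
    apply hvu
    rw [hb, hform_smul_right, hve, mul_zero]
  obtain ⟨l, y₀, δ, hl0, hy₀, hyd⟩ := h.center_rat_mod hn hHM t₀ hA u huu c hc0 hc hK e he he0 hee
    hue hune
  have h1 : l ^ q * hh v u ∈ F₀ := by
    have : hh v (l • u) = hh v (y₀ + δ • e) := by rw [hyd]
    rw [hform_smul_right, hform_add_right hF, hform_smul_right, hve, mul_zero, add_zero] at this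
    rw [this]
    exact h.val v y₀ hv hy₀
  obtain ⟨m, hm⟩ : ∃ m : F, m = l * (hh v u) ^ q := ⟨_, rfl⟩
  have hmm : m ∈ F₀ := by
    have : m = (l ^ q * hh v u) ^ q := by rw [hm, mul_pow, pow_q_pow_q' hF]
    rw [this]
    exact F₀.pow_mem h1 q
  have hm0 : m ≠ 0 := by rw [hm]; exact mul_ne_zero hl0 hpq0
  have hlu : l • u = m • u₁ := by
    rw [hu₁, smul_smul, hm, ha, mul_assoc, mul_inv_cancel₀ hpq0, mul_one]
  have h2 : (m * γ) ^ q ∈ F₀ := by
    have : hh v' (l • u) = hh v' (y₀ + δ • e) := by rw [hyd]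
    rw [hlu, hu₁eq, hform_smul_right, hform_add_right hF, hform_smul_right, hv'v, mul_one,
      hform_add_right hF, hform_smul_right, hv'e, mul_zero, add_zero] at this
    have e : (m * γ) ^ q = hh v' y₀ - m ^ q * hh v' y₁ := by
      rw [mul_pow]
      linear_combination this
    rw [e]
    exact F₀.sub_mem (h.val _ _ hv' hy₀) (F₀.mul_mem (F₀.pow_mem hmm q) (h.val _ _ hv' hy₁r))
  have hγm : γ ∈ F₀ := by
    have h3 : m * γ ∈ F₀ := by
      rw [← pow_q_pow_q' hF (m * γ)]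
      exact F₀.pow_mem h2 q
    have : γ = m⁻¹ * (m * γ) := by rw [← mul_assoc, inv_mul_cancel₀ hm0, one_mul]
    rw [this]
    exact F₀.mul_mem (F₀.inv_mem hmm) h3
  refine ⟨a, ha0, ?_⟩
  rw [← hu₁, hu₁eq]
  exact rat_add hy₁r (rat_smul hγm hv)

end r5

end Cfsg.Agent.Lib.Helper61.SubfieldUr
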