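import Mathlib
import Cfsg.Prelude.Def_GeometricClasses
import Cfsg.Agent.Lib.Helper61.SubfieldUrK

/-!
Subfield subgroups `SU_n(q₀) < SU_n(q)` for a subfield of odd prime index: maximality.
-/

set_option autoImplicit false
set_option linter.unusedSectionVars false
set_option linter.unusedVariables false

namespace Cfsg.Agent.Lib.Helper61.SubfieldUr

open Matrix Cfsg.Agent.Lib.Helper08 Cfsg.Agent.Lib.Helper51 Cfsg.Agent.Lib.Helper61.SubfieldSU
  Cfsg.Agent.Lib.Helper61.SubfieldSO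

section r6
variable {F : Type*} [Field F] [Fintype F] {q n r : ℕ}

local notation "GLn" => Matrix.GeneralLinearGroup (Fin n) F
local notation "hh" => hform (Fin n) F q

variable {F₀ : Subfield F} {P : Matrix.GeneralLinearGroup (Fin n) F}
variable {M : Subgroup (Matrix.GeneralLinearGroup (Fin n) F)}

theorem gl_inj (g : GLn) {x : Fin n → F} (hx : g.1 *ᵥ x = 0) : x = 0 := by
  have := gl_inv_act' g x
  rw [hx, Matrix.mulVec_zero] at this
  exact this.symm

/-- comparing the scalars attached to an orthogonal pair -/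
theorem RU.ratio_TI (h : RU F₀ P q r) (hn : 6 < n) (g : GLn) (hg : IsIsoMat q g.1)
    (hgr : ∀ a, Rat F₀ P a → hh a a = 0 → ∃ c : F, c ≠ 0 ∧ Rat F₀ P (c • g.1 *ᵥ a))
    {x y : Fin n → F} (t : TIPair F₀ P q x y) (cx cy : F) (hcx : cx ≠ 0) (hcy : cy ≠ 0)
    (hrx : Rat F₀ P (cx • g.1 *ᵥ x)) (hry : Rat F₀ P (cy • g.1 *ᵥ y)) : cx / cy ∈ F₀ := by
  have hF := h.hF
  have hyx : hh y x = 0 := t.hwv hF
  obtain ⟨X, hX⟩ : ∃ X : Fin n → F, X = cx • g.1 *ᵥ x := ⟨_, rfl⟩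
  obtain ⟨Y, hY⟩ : ∃ Y : Fin n → F, Y = cy • g.1 *ᵥ y := ⟨_, rfl⟩
  rw [← hX] at hrx
  rw [← hY] at hry
  have hX0 : X ≠ 0 := by
    intro h0
    rw [hX] at h0
    rcases smul_eq_zero.mp h0 with h1 | h1
    · exact hcx h1
    · exact t.v_ne (gl_inj g h1)
  have hY0 : Y ≠ 0 := by
    intro h0
    rw [hY] at h0
    rcases smul_eq_zero.mp h0 with h1 | h1
    · exact hcy h1
    · exact t.w_ne (gl_inj g h1)
  have hXY : ∀ a : F, X ≠ a • Y := by
    intro a he
    rw [hX, hY, smul_smul] at he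
    have h0 : g.1 *ᵥ (cx • x + (-(a * cy)) • y) = 0 := by
      rw [Matrix.mulVec_add, Matrix.mulVec_smul, Matrix.mulVec_smul, he, neg_smul]
      abel
    exact hcx (h.pair_indep hn t (gl_inj g h0)).1
  have hYX : ∀ a : F, Y ≠ a • X := by
    intro a he
    rw [hX, hY, smul_smul] at he
    have h0 : g.1 *ᵥ ((-(a * cx)) • x + cy • y) = 0 := by
      rw [Matrix.mulVec_add, Matrix.mulVec_smul, Matrix.mulVec_smul, he, neg_smul]
      abel
    exact hcy (h.pair_indep hn t (gl_inj g h0)).2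
  obtain ⟨z₁, hz₁, hYz₁, hXz₁⟩ := h.exists_perp Y X hry hrx hY0 (fun a _ => hXY a)
  obtain ⟨z₂, hz₂, hXz₂, hYz₂⟩ := h.exists_perp X Y hrx hry hX0 (fun a _ => hYX a)
  have hxy_iso : hh (x + y) (x + y) = 0 := by
    simp only [hform_add_left, hform_add_right hF, t.hvv, t.hww, t.hvw, hyx]
    ring
  obtain ⟨c₃, hc₃, hr₃⟩ := hgr (x + y) (rat_add t.hv t.hw) hxy_iso
  have hZ : c₃ • g.1 *ᵥ (x + y) = (c₃ / cx) • X + (c₃ / cy) • Y := by
    rw [hX, hY, smul_smul, smul_smul, div_mul_cancel₀ _ hcx, div_mul_cancel₀ _ hcy,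
      Matrix.mulVec_add, smul_add]
  rw [hZ] at hr₃
  have h1 : c₃ / cx ∈ F₀ := by
    have hm := h.val _ _ hr₃ hz₁
    rw [hform_add_left, hform_smul_left, hform_smul_left, hYz₁, mul_zero, add_zero] at hm
    have : c₃ / cx = (c₃ / cx * hh X z₁) / hh X z₁ := by
      rw [mul_div_assoc, div_self hXz₁, mul_one]
    rw [this]
    exact F₀.div_mem hm (h.val _ _ hrx hz₁)
  have h2 : c₃ / cy ∈ F₀ := by
    have hm := h.val _ _ hr₃ hz₂
    rw [hform_add_left, hform_smul_left, hform_smul_left, hXz₂, mul_zero, zero_add] at hm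
    have : c₃ / cy = (c₃ / cy * hh Y z₂) / hh Y z₂ := by
      rw [mul_div_assoc, div_self hYz₂, mul_one]
    rw [this]
    exact F₀.div_mem hm (h.val _ _ hry hz₂)
  have : cx / cy = (c₃ / cy) / (c₃ / cx) := by
    field_simp
  rw [this]
  exact F₀.div_mem h2 h1

/-- an isometry mapping rational isotropic points to rational points preserves the rational
structure up to a scalar -/
theorem RU.uniform (h : RU F₀ P q r) (hn : 8 < n) (g : GLn) (hg : IsIsoMat q g.1)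
    (hgr : ∀ a, Rat F₀ P a → hh a a = 0 → ∃ c : F, c ≠ 0 ∧ Rat F₀ P (c • g.1 *ᵥ a)) :
    ∃ c : F, c ≠ 0 ∧ ∀ x, Rat F₀ P x → Rat F₀ P (c • g.1 *ᵥ x) := by
  classical
  have hF := h.hF
  obtain ⟨a₀, z₀, ha₀, hz₀, haa, -, -, haz₀⟩ := h.exists_iso_perp (fun i : Fin 0 => 0)
    (fun i => i.elim0) (by simp; omega)
  have ha₀0 : a₀ ≠ 0 := by
    intro h0
    rw [h0, hform_zero_left] at haz₀
    exact haz₀ rfl
  obtain ⟨c, hc, hca⟩ := hgr a₀ ha₀ haa
  refine ⟨c, hc, ?_⟩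
  have key : ∀ y, Rat F₀ P y → hh y y = 0 → Rat F₀ P (c • g.1 *ᵥ y) := by
    intro y hy hyy
    by_cases hy0 : y = 0
    · rw [hy0, Matrix.mulVec_zero, smul_zero]
      exact rat_zero
    obtain ⟨cy, hcy, hcyr⟩ := hgr y hy hyy
    obtain ⟨e, z', he, hz', hee, hes, hz's, hez'⟩ := h.exists_iso_perp ![a₀, y]
      (by
        intro i
        fin_cases i
        · exact ha₀
        · exact hy) (by simp; omega)
    have hae : hh a₀ e = 0 := (hes 0).1
    have hye : hh y e = 0 := (hes 1).1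
    have haz' : hh a₀ z' = 0 := (hz's 0).1
    have hyz' : hh y z' = 0 := (hz's 1).1
    have t1 : TIPair F₀ P q a₀ e := TIPair.of_witness hF ha₀ he haa hee hae ha₀0 haz' hez'
    have t2 : TIPair F₀ P q y e := TIPair.of_witness hF hy he hyy hee hye hy0 hyz' hez'
    obtain ⟨ce, hce, hcer⟩ := hgr e he hee
    have r1 := h.ratio_TI (by omega) g hg hgr t1 c ce hc hce hca hcer
    have r2 := h.ratio_TI (by omega) g hg hgr t2 cy ce hcy hce hcyr hcer
    have e1 : c • g.1 *ᵥ y = ((c / ce) / (cy / ce)) • (cy • g.1 *ᵥ y) := by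
      rw [smul_smul]
      congr 1
      field_simp
    rw [e1]
    exact rat_smul (F₀.div_mem r1 r2) hcyr
  intro x hx
  obtain ⟨e₁, e₂, he₁, he₂, hsplit, h11, h22, -⟩ := h.exists_split (fun i : Fin 0 => 0)
    (fun i => i.elim0) x hx (by simp; omega)
  rw [hsplit, Matrix.mulVec_add, smul_add]
  exact rat_add (key e₁ he₁ h11) (key e₂ he₂ h22)

/-- small overgroups are contained in the subfield subgroup -/
theorem RU.le_H_of_small (h : RU F₀ P q r) (hn : 12 < n)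
    (hHM : Cfsg.Geo.subfieldSubgroup F₀ P ⊓
      (Cfsg.GU n F q ⊓ Cfsg.Geo.specialLinear (Fin n) F) ≤ M)
    (hMI : M ≤ Cfsg.GU n F q ⊓ Cfsg.Geo.specialLinear (Fin n) F)
    {v₀ w₀ : Fin n → F} (t₀ : TIPair F₀ P q v₀ w₀) (hA : ∀ a ∈ AB F₀ q M v₀ w₀, a ∈ F₀) :
    M ≤ Cfsg.Geo.subfieldSubgroup F₀ P ⊓
      (Cfsg.GU n F q ⊓ Cfsg.Geo.specialLinear (Fin n) F) := by
  classical
  have hF := h.hF
  obtain ⟨ζ, hζm, hζ0, hζ⟩ := h.exists_skew0
  intro g hgM
  refine Subgroup.mem_inf.mpr ⟨?_, hMI hgM⟩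
  have hiso : IsIsoMat q g.1 := ((mem_GUSL_iff g).mp (hMI hgM)).1
  have hgr : ∀ a, Rat F₀ P a → hh a a = 0 → ∃ c : F, c ≠ 0 ∧ Rat F₀ P (c • g.1 *ᵥ a) := by
    intro a ha haa
    have hK0 : InM M (qrefl q a ζ) := h.tv_inM hHM a ha haa ζ hζm hζ
    have hconj := qrefl_conj g.1 hiso a ζ
    have hK1 : InM M (qrefl q (g.1 *ᵥ a) ζ) := hK0.conj g hgM (qrefl_unit hF a ζ haa) hconj
    have hiso' : hh (g.1 *ᵥ a) (g.1 *ᵥ a) = 0 := by rw [hiso]; exact haa
    exact h.center_rat hn hHM hMI t₀ hA _ hiso' ζ hζ0 hζ hK1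
  obtain ⟨c, hc, hall⟩ := h.uniform (by omega) g hiso hgr
  exact mem_subfield_of_rat g c hc hall

/-- an element outside the subfield -/
theorem RU.exists_not_mem (h : RU F₀ P q r) : ∃ θ : F, θ ∉ F₀ := by
  classical
  by_contra hcon
  push Not at hcon
  have h3 := h.three_le
  have e : Nat.card F₀ = Fintype.card F := by
    rw [← Nat.card_eq_fintype_card]
    exact Nat.card_congr (Equiv.subtypeUnivEquiv hcon)
  have hc := h.hcard
  rw [← e] at hc
  have h1 : 1 < Nat.card F₀ := by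
    rw [e]
    exact Fintype.one_lt_card
  have : Nat.card F₀ ^ 1 < Nat.card F₀ ^ r := Nat.pow_lt_pow_right h1 (by omega)
  rw [pow_one] at this
  omega

/-- the subfield subgroup is proper -/
theorem RU.exists_not_mem_H (h : RU F₀ P q r) (hn : 12 < n) :
    ∃ g : GLn, g ∈ Cfsg.GU n F q ⊓ Cfsg.Geo.specialLinear (Fin n) F ∧
      g ∉ Cfsg.Geo.subfieldSubgroup F₀ P := by
  classical
  have hF := h.hF
  obtain ⟨ζ, hζm, hζ0, hζ⟩ := h.exists_skew0
  obtain ⟨θ, hθ⟩ := h.exists_not_mem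
  obtain ⟨e₁, f₁, he₁, hf₁, h11, hf11, hef₁, hfe₁, -, -⟩ := h.exists_hyp_perp (fun i : Fin 0 => 0)
    (fun i => i.elim0) (by simp; omega)
  obtain ⟨e₂, f₂, he₂, hf₂, h22, hf22, hef₂, hfe₂, hes, hfs⟩ := h.exists_hyp_perp ![e₁, f₁]
    (by
      intro i
      fin_cases i
      · exact he₁
      · exact hf₁) (by simp; omega)
  have h12 : hh e₁ e₂ = 0 := (hes 0).1
  have h21 : hh e₂ e₁ = 0 := (hes 0).2
  have hf1e2 : hh f₁ e₂ = 0 := (hes 1).1
  have he2f1 : hh e₂ f₁ = 0 := (hes 1).2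
  have he1f2 : hh e₁ f₂ = 0 := (hfs 0).1
  have hf1f2 : hh f₁ f₂ = 0 := (hfs 1).1
  obtain ⟨u, hu⟩ : ∃ u : Fin n → F, u = e₁ + θ • e₂ := ⟨_, rfl⟩
  have huu : hh u u = 0 := by
    rw [hu]
    simp only [hform_add_left, hform_add_right hF, hform_smul_left, hform_smul_right, h11, h22,
      h12, h21]
    ring
  obtain ⟨T, hT⟩ : ∃ T : GLn, T.1 = qrefl q u ζ := ⟨(qrefl_unit hF u ζ huu).unit, rfl⟩
  refine ⟨T, ?_, ?_⟩
  · rw [mem_GUSL_iff, hT]
    exact ⟨qrefl_iso_skew hF u huu ζ hζ, by rw [det_qrefl', huu, mul_zero, add_zero]⟩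
  · intro hmem
    obtain ⟨c, hc, hr⟩ := rat_of_mem_subfield T hmem f₁ hf₁
    have hTf : T.1 *ᵥ f₁ = f₁ + ζ • u := by
      rw [hT, qrefl_mulVec]
      congr 2
      rw [hu, hform_add_right hF, hform_smul_right, hfe₁, hf1e2]
      ring
    rw [hTf] at hr
    have m1 := h.val _ _ hr hf₁
    have m2 := h.val _ _ hr hf₂
    rw [hform_smul_left, hform_add_left, hform_smul_left, hu, hform_add_left, hform_smul_left,
      hf11, hef₁, he2f1] at m1
    rw [hform_smul_left, hform_add_left, hform_smul_left, hu, hform_add_left, hform_smul_left,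
      hf1f2, he1f2, hef₂] at m2
    have m1' : c * ζ ∈ F₀ := by
      have : c * ζ = c * (0 + ζ * (1 + θ * 0)) := by ring
      rw [this]
      exact m1
    have m2' : c * ζ * θ ∈ F₀ := by
      have : c * ζ * θ = c * (0 + ζ * (0 + θ * 1)) := by ring
      rw [this]
      exact m2
    apply hθ
    have hcζ : c * ζ ≠ 0 := mul_ne_zero hc hζ0
    have : θ = (c * ζ)⁻¹ * (c * ζ * θ) := by
      rw [← mul_assoc, inv_mul_cancel₀ hcζ, one_mul]
    rw [this]
    exact F₀.mul_mem (F₀.inv_mem m1') m2'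

/-- **Maximality of the subfield subgroup `SU_n(q₀)` of `SU_n(q)`, `q = q₀^r`, `r` an odd
prime** -/
theorem RU.isMaximalIn (h : RU F₀ P q r) (hn : 12 < n) :
    Cfsg.Geo.IsMaximalIn (Cfsg.GU n F q ⊓ Cfsg.Geo.specialLinear (Fin n) F)
      (Cfsg.Geo.subfieldSubgroup F₀ P ⊓
        (Cfsg.GU n F q ⊓ Cfsg.Geo.specialLinear (Fin n) F)) := by
  classical
  have hF := h.hF
  refine ⟨?_, ?_⟩
  · refine lt_of_le_of_ne inf_le_right ?_
    intro heq
    obtain ⟨g, hg, hgH⟩ := h.exists_not_mem_H hn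
    rw [← heq] at hg
    exact hgH (Subgroup.mem_inf.mp hg).1
  · intro M hHM hMI
    obtain ⟨e₁, f₁, he₁, hf₁, h11, hf11, hef₁, hfe₁, -, -⟩ :=
      h.exists_hyp_perp (fun i : Fin 0 => 0) (fun i => i.elim0) (by simp; omega)
    obtain ⟨e₂, f₂, he₂, hf₂, h22, hf22, hef₂, hfe₂, hes, hfs⟩ := h.exists_hyp_perp ![e₁, f₁]
      (by
        intro i
        fin_cases i
        · exact he₁
        · exact hf₁) (by simp; omega)
    have h12 : hh e₁ e₂ = 0 := (hes 0).1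
    have he1f2 : hh e₁ f₂ = 0 := (hfs 0).1
    have he₁0 : e₁ ≠ 0 := by
      intro h0
      rw [h0, hform_zero_left] at hef₁
      exact zero_ne_one hef₁
    have t₀ : TIPair F₀ P q e₁ e₂ :=
      TIPair.of_witness hF he₁ he₂ h11 h22 h12 he₁0 he1f2 (by rw [hef₂]; exact one_ne_zero)
    rcases h.AB_dichotomy (by omega) hHM t₀ with hA | hall
    · left
      exact le_antisymm (h.le_H_of_small hn hHM hMI t₀ hA) hHM
    · right
      exact le_antisymm hMI (h.le_of_AB_univ (by omega) hHM t₀ hall)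

end r6

end Cfsg.Agent.Lib.Helper61.SubfieldUr
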