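import Mathlib
import Cfsg.Agent.Lib.Helper94.THDefs

/-!
# Pack K-TH (S1632), leaf THB4 (keystone 163206): the one-dimensional Poisson step
from `jacobiTheta₂_functional_equation`, scaled by `a > 0`.
-/

set_option autoImplicit false

namespace Cfsg.Agent.Lib.Helper61.TH

open Matrix Complex ModularForm
open UpperHalfPlane hiding I
open scoped Real MatrixGroups
open Cfsg.Agent.Lib.Helper94.TH

theorem ofReal_mul_cpow_half {a : ℝ} (ha : 0 < a) {z : ℂ} (hz : z ≠ 0) :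
    ((a : ℂ) * z) ^ (1 / 2 : ℂ) = ((Real.sqrt a : ℝ) : ℂ) * z ^ (1 / 2 : ℂ) := by
  have ha' : (a : ℂ) ≠ 0 := ofReal_ne_zero.mpr ha.ne'
  rw [cpow_def_of_ne_zero (mul_ne_zero ha' hz), cpow_def_of_ne_zero hz, log_ofReal_mul ha hz,
    add_mul, Complex.exp_add]
  congr 1
  rw [Real.sqrt_eq_rpow, ofReal_cpow ha.le, cpow_def_of_ne_zero ha', ofReal_log ha.le]
  push_cast
  rfl

/-- THB4 -/
theorem jacobi_step {a : ℝ} (ha : 0 < a) {τ : ℂ} (hτ : 0 < τ.im) (w : ℂ) :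
    Summable (fun m : ℤ => ‖cexp (π * I * (τ * ((a * (m : ℝ) ^ 2 : ℝ) : ℂ) + 2 * (m : ℂ) * w))‖) ∧
    Summable (fun k : ℤ => ‖cexp (-(π * I / τ) * (((k : ℂ) - w) ^ 2 / (a : ℂ)))‖) ∧
    ∑' m : ℤ, cexp (π * I * (τ * ((a * (m : ℝ) ^ 2 : ℝ) : ℂ) + 2 * (m : ℂ) * w)) =
      (((Real.sqrt a)⁻¹ : ℝ) : ℂ) * rt τ *
        ∑' k : ℤ, cexp (-(π * I / τ) * (((k : ℂ) - w) ^ 2 / (a : ℂ))) := by
  have hτ0 : τ ≠ 0 := by
    rintro rfl
    simp at hτ
  have ha' : (a : ℂ) ≠ 0 := ofReal_ne_zero.mpr ha.ne'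
  have haτ : (a : ℂ) * τ ≠ 0 := mul_ne_zero ha' hτ0
  have him1 : 0 < ((a : ℂ) * τ).im := by
    rw [im_ofReal_mul]
    exact mul_pos ha hτ
  have him2 : 0 < (-1 / ((a : ℂ) * τ)).im := by
    rw [neg_div, neg_im, one_div, inv_im, neg_div, neg_neg]
    exact div_pos him1 (normSq_pos.mpr haτ)
  have h1 : ∀ m : ℤ, cexp (π * I * (τ * ((a * (m : ℝ) ^ 2 : ℝ) : ℂ) + 2 * (m : ℂ) * w)) =
      jacobiTheta₂_term m w ((a : ℂ) * τ) := by
    intro m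
    unfold jacobiTheta₂_term
    congr 1
    push_cast
    ring
  have h2 : ∀ k : ℤ, cexp (-(π * I / τ) * (((k : ℂ) - w) ^ 2 / (a : ℂ))) =
      cexp (-π * I * w ^ 2 / ((a : ℂ) * τ)) *
        jacobiTheta₂_term k (w / ((a : ℂ) * τ)) (-1 / ((a : ℂ) * τ)) := by
    intro k
    unfold jacobiTheta₂_term
    rw [← Complex.exp_add]
    congr 1
    field_simp
    ring
  have hs1 : Summable (fun m : ℤ => jacobiTheta₂_term m w ((a : ℂ) * τ)) :=
    (summable_jacobiTheta₂_term_iff _ _).mpr him1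
  have hs2 : Summable (fun k : ℤ =>
      jacobiTheta₂_term k (w / ((a : ℂ) * τ)) (-1 / ((a : ℂ) * τ))) :=
    (summable_jacobiTheta₂_term_iff _ _).mpr him2
  refine ⟨?_, ?_, ?_⟩
  · simp_rw [h1]
    exact hs1.norm
  · simp_rw [h2, norm_mul]
    exact hs2.norm.mul_left _
  · simp_rw [h1, h2]
    rw [tsum_mul_left]
    change jacobiTheta₂ w ((a : ℂ) * τ) = _
    rw [jacobiTheta₂_functional_equation]
    change _ = _ * (cexp (-π * I * w ^ 2 / ((a : ℂ) * τ)) *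
      jacobiTheta₂ (w / ((a : ℂ) * τ)) (-1 / ((a : ℂ) * τ)))
    have hz : -I * τ ≠ 0 := mul_ne_zero (neg_ne_zero.mpr I_ne_zero) hτ0
    have hpre : 1 / (-I * ((a : ℂ) * τ)) ^ (1 / 2 : ℂ) =
        (((Real.sqrt a)⁻¹ : ℝ) : ℂ) * rt τ := by
      have : -I * ((a : ℂ) * τ) = (a : ℂ) * (-I * τ) := by ring
      rw [this, ofReal_mul_cpow_half ha hz, rt]
      push_cast
      simp only [one_div, mul_inv]
    rw [hpre]
    ring

end Cfsg.Agent.Lib.Helper61.TH
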