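import Mathlib
import Cfsg.Agent.Lib.Helper94.THDefs
import Cfsg.Agent.Lib.Helper90.THUnif
import Cfsg.Agent.Lib.Helper93.THB3

/-!
# Pack K-TH (S1632), leaf THB5b (keystone 163208): norm-summability of the dual theta family.

Induction on `n` along the recursion of `dq`, with the statement strengthened to a bound that is
uniform in real shifts of the characteristic `z`.
-/

set_option autoImplicit false

namespace Cfsg.Agent.Lib.Helper61.TH

open Matrix Complex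
open scoped Real
open Cfsg.Agent.Lib.Helper94.TH

/-- the recursion of the dual term -/
theorem ThDTerm_cons {n : ℕ} (A : Matrix (Fin (n + 1)) (Fin (n + 1)) ℝ) (τ : ℂ)
    (z : Fin (n + 1) → ℂ) (k0 : ℤ) (k' : Fin n → ℤ) :
    ThDTerm (n + 1) A τ z (Fin.cons k0 k') =
      cexp (-(π * I / τ) / (A 0 0 : ℂ) * ((k0 : ℂ) - z 0) ^ 2) *
        ThDTerm n (schur A) τ
          (fun i => z i.succ + ((k0 : ℂ) - z 0) * (A 0 i.succ : ℂ) / (A 0 0 : ℂ)) k' := by
  unfold ThDTerm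
  rw [← Complex.exp_add]
  congr 1
  rw [dq]
  simp only [Fin.cons_zero, Fin.cons_succ]
  have h : (fun i : Fin n => ((k' i : ℂ) - z i.succ) -
        ((k0 : ℂ) - z 0) * (A 0 i.succ : ℂ) / (A 0 0 : ℂ)) =
      (fun i => (k' i : ℂ) -
        (z i.succ + ((k0 : ℂ) - z 0) * (A 0 i.succ : ℂ) / (A 0 0 : ℂ))) := by
    funext i
    ring
  rw [h]
  ring

theorem re_coeff_neg {a : ℝ} (ha : 0 < a) {τ : ℂ} (hτ : 0 < τ.im) :
    (-(π * I / τ) / (a : ℂ)).re < 0 := by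
  have hτ0 : τ ≠ 0 := by
    rintro rfl
    simp at hτ
  have hns : 0 < normSq τ := normSq_pos.mpr hτ0
  have h1 : -(π * I / τ) / (a : ℂ) = ((-(π / a) : ℝ) : ℂ) * (I / τ) := by
    have ha' : (a : ℂ) ≠ 0 := ofReal_ne_zero.mpr ha.ne'
    push_cast
    field_simp
  rw [h1, re_ofReal_mul, div_re]
  simp only [I_re, I_im, zero_mul, zero_div, one_mul, zero_add]
  have h2 : 0 < τ.im / normSq τ := div_pos hτ hns
  have h3 : 0 < π / a := div_pos Real.pi_pos ha
  nlinarith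

/-- the uniform statement -/
theorem ThD_unif : ∀ (n : ℕ) (A : Matrix (Fin n) (Fin n) ℝ), IsPD A → ∀ (τ : ℂ), 0 < τ.im →
    ∀ z : Fin n → ℂ, ∃ C : ℝ, ∀ s : Fin n → ℝ,
      Summable (fun k : Fin n → ℤ => ‖ThDTerm n A τ (fun i => z i + (s i : ℂ)) k‖) ∧
      ∑' k : Fin n → ℤ, ‖ThDTerm n A τ (fun i => z i + (s i : ℂ)) k‖ ≤ C := by
  intro n
  induction n with
  | zero =>
    intro A _ τ _ z
    refine ⟨1, fun s => ⟨summable_of_hasFiniteSupport (Set.toFinite _), ?_⟩⟩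
    rw [tsum_eq_single (default : Fin 0 → ℤ)
      (fun b hb => absurd (Subsingleton.elim b default) hb)]
    simp [ThDTerm, dq]
  | succ n ih =>
    intro A hA τ hτ z
    obtain ⟨ha, hS⟩ := Cfsg.Agent.Lib.Helper93.TH.schur_isPD_aux hA
    obtain ⟨c, hcdef⟩ : ∃ c : ℂ, c = -(π * I / τ) / (A 0 0 : ℂ) := ⟨_, rfl⟩
    have hc : c.re < 0 := by
      rw [hcdef]
      exact re_coeff_neg ha hτ
    obtain ⟨C1, hC1⟩ := Cfsg.Agent.Lib.Helper90.TH.cgauss_unif c hc (z 0)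
    obtain ⟨Cn, hCn⟩ := ih (schur A) hS τ hτ
      (fun i => z i.succ - z 0 * (A 0 i.succ : ℂ) / (A 0 0 : ℂ))
    have hCnnn : 0 ≤ Cn := (tsum_nonneg (fun _ => norm_nonneg _)).trans (hCn 0).2
    refine ⟨C1 * Cn, fun s => ?_⟩
    obtain ⟨f, hfdef⟩ : ∃ f : ℤ × (Fin n → ℤ) → ℝ, f = fun p =>
        ‖ThDTerm (n + 1) A τ (fun i => z i + (s i : ℂ)) (Fin.cons p.1 p.2)‖ := ⟨_, rfl⟩
    have hf_eq : ∀ (k0 : ℤ) (k' : Fin n → ℤ), f (k0, k') =
        ‖cexp (c * ((k0 : ℂ) - z 0 - (s 0 : ℂ)) ^ 2)‖ *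
          ‖ThDTerm n (schur A) τ
            (fun i => (z i.succ - z 0 * (A 0 i.succ : ℂ) / (A 0 0 : ℂ)) +
              ((s i.succ + ((k0 : ℝ) - s 0) * A 0 i.succ / A 0 0 : ℝ) : ℂ)) k'‖ := by
      intro k0 k'
      rw [hfdef]
      simp only
      rw [ThDTerm_cons, norm_mul, hcdef]
      congr 2
      · congr 1
        ring
      · congr 1
        funext i
        push_cast
        ring
    have hinner : ∀ k0 : ℤ, Summable (fun k' => f (k0, k')) ∧
        ∑' k', f (k0, k') ≤ ‖cexp (c * ((k0 : ℂ) - z 0 - (s 0 : ℂ)) ^ 2)‖ * Cn := by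
      intro k0
      obtain ⟨h1, h2⟩ := hCn (fun i => s i.succ + ((k0 : ℝ) - s 0) * A 0 i.succ / A 0 0)
      constructor
      · simp_rw [hf_eq]
        exact h1.mul_left _
      · simp_rw [hf_eq]
        rw [tsum_mul_left]
        exact mul_le_mul_of_nonneg_left h2 (norm_nonneg _)
    obtain ⟨hF1, hF2⟩ := hC1 (s 0)
    have hfnn : 0 ≤ f := by
      intro p
      rw [hfdef]
      exact norm_nonneg _
    have houter : Summable (fun k0 => ∑' k', f (k0, k')) :=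
      Summable.of_nonneg_of_le (fun k0 => tsum_nonneg (fun k' => hfnn (k0, k')))
        (fun k0 => (hinner k0).2) (hF1.mul_right Cn)
    have hfsum : Summable f :=
      (summable_prod_of_nonneg hfnn).mpr ⟨fun k0 => (hinner k0).1, houter⟩
    have hftsum : ∑' p, f p ≤ C1 * Cn := by
      rw [hfsum.tsum_prod' (fun k0 => (hinner k0).1)]
      calc ∑' k0, ∑' k', f (k0, k')
          ≤ ∑' k0 : ℤ, ‖cexp (c * ((k0 : ℂ) - z 0 - (s 0 : ℂ)) ^ 2)‖ * Cn :=
            Summable.tsum_le_tsum (fun k0 => (hinner k0).2) houter (hF1.mul_right Cn)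
        _ = (∑' k0 : ℤ, ‖cexp (c * ((k0 : ℂ) - z 0 - (s 0 : ℂ)) ^ 2)‖) * Cn := tsum_mul_right
        _ ≤ C1 * Cn := mul_le_mul_of_nonneg_right hF2 hCnnn
    have hcomp : ∀ p : ℤ × (Fin n → ℤ),
        ‖ThDTerm (n + 1) A τ (fun i => z i + (s i : ℂ))
          ((Fin.consEquiv (fun _ : Fin (n + 1) => ℤ)) p)‖ = f p := by
      intro p
      rw [hfdef]
      rfl
    constructor
    · rw [← (Fin.consEquiv (fun _ : Fin (n + 1) => ℤ)).summable_iff]
      refine hfsum.congr (fun p => ?_)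
      exact (hcomp p).symm
    · rw [← (Fin.consEquiv (fun _ : Fin (n + 1) => ℤ)).tsum_eq]
      simp_rw [hcomp]
      exact hftsum

/-- THB5b -/
theorem summable_ThDTerm {n : ℕ} {A : Matrix (Fin n) (Fin n) ℝ} (hA : IsPD A) {τ : ℂ}
    (hτ : 0 < τ.im) (z : Fin n → ℂ) : Summable (fun k : Fin n → ℤ => ‖ThDTerm n A τ z k‖) := by
  obtain ⟨C, hC⟩ := ThD_unif n A hA τ hτ z
  have h := (hC 0).1
  simpa using h

end Cfsg.Agent.Lib.Helper61.TH
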