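import Mathlib
import Cfsg.Agent.S0596
import Cfsg.Agent.Lib.Lead.ThompsonF
import Cfsg.Agent.Lib.Helper52.QuadAction
import Cfsg.Agent.Lib.Helper33.SolvPSolv
import Cfsg.Agent.Lib.Helper16.ZJ
import Cfsg.Agent.Lib.Helper61.SolvableCore

/-!
# Thompson factorization for solvable groups (S0109)
-/

set_option autoImplicit false
open Cfsg
open scoped commutatorElement

namespace Cfsg.Agent.Lib.Helper61.ThompsonFact

section crit

variable {Y : Type*} [Group Y] [Finite Y] {W : Type*} [CommGroup W] [Finite W] {p : ℕ}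
  [Fact p.Prime]

open SemidirectProduct in
/-- quadratic elements of a solvable group acting faithfully lie in `O_p`
(with abelian Sylow 2-subgroups if `p = 3`). -/
theorem mem_pCore_of_quadratic_solvable (hp : p ≠ 2) (hexp : ∀ w : W, w ^ p = 1)
    (c : Y →* MulAut W) (hc : Function.Injective c) (y : Y)
    (hy : ∀ w, c y (c y w / w) = c y w / w) (hs : Group.IsSolvable Y)
    (h3 : p = 3 → ∀ T : Sylow 2 Y, IsMulCommutative T) : y ∈ Cfsg.pCore p Y := by
  have : Fact (Nat.Prime 2) := ⟨Nat.prime_two⟩
  by_cases hp3 : p = 3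
  · exact Cfsg.Agent.Lib.Helper52.mem_pCore_of_quadratic_action hp hexp c hc y hy default
      (h3 hp3 default)
  · by_contra hcon
    obtain ⟨hV, hHV, hf, hq⟩ :=
      Cfsg.Agent.Lib.Helper52.semidirect_model (p := p) hexp c hc y hy
    have : Finite (W ⋊[c] Y) := Finite.of_equiv _ (equivProd (φ := c)).symm
    let e : Y ≃* (inr : Y →* W ⋊[c] Y).range := MonoidHom.ofInjective (inr_injective (φ := c))
    have hsolv : Group.IsSolvable (inr : Y →* W ⋊[c] Y).range :=
      Group.isSolvable_of_surjective (f := e.toMonoidHom) e.surjective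
    have hsep : IsPSolvable p (inr : Y →* W ⋊[c] Y).range :=
      Cfsg.Agent.Lib.Helper33.isPSolvable_of_isSolvable p _
    have hres := Cfsg.Agent.S0596.result hp _ _ hV hHV hf hsep (inr y) ⟨y, rfl⟩ hq (by
      rintro ⟨h, hh, hhy⟩
      apply hcon
      have h1 : h = e y := Subtype.ext hhy
      rw [← Cfsg.Agent.Lib.Helper52.pCore_map_equiv p e] at hh
      obtain ⟨y', hy', hy'e⟩ := hh
      have : y' = y := e.injective (hy'e.trans h1)
      exact this ▸ hy')
    exact hp3 hres.1

end crit

section main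

universe u
variable {G : Type u} [Group G] [Finite G] {p : ℕ} [Fact p.Prime]

/-- **Thompson factorization** for solvable groups with `O_{p'}(G) = 1`. -/
theorem thompson_factorization (hp : p ≠ 2) (hs : Group.IsSolvable G)
    (h3 : p = 3 → ∀ T : Sylow 2 G, IsMulCommutative T)
    (hF : ∀ N : Subgroup G, N.Normal → Nat.Coprime (Nat.card N) p → N = ⊥) (P : Sylow p G)
    (g : G) :
    ∃ a ∈ Subgroup.normalizer (Cfsg.thompsonSubgroupOf p (P : Subgroup G) : Set G),
      ∃ c ∈ Subgroup.centralizer {x : G | x ∈ (P : Subgroup G) ∧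
        (∀ y ∈ (P : Subgroup G), x * y = y * x) ∧ x ^ p = 1}, g = a * c := by
  classical
  set Zs : Set G := {x : G | x ∈ (P : Subgroup G) ∧
    (∀ y ∈ (P : Subgroup G), x * y = y * x) ∧ x ^ p = 1} with hZs
  have hO : pPrimeCore p G = ⊥ := by
    rw [eq_bot_iff]
    apply sSup_le
    rintro N ⟨hN, hNc⟩
    rw [hF N hN hNc]
  set Q := pCore p G with hQ
  have hQn : Q.Normal := Cfsg.Agent.Lib.Helper52.pCore_normal p G
  have hCQ : Subgroup.centralizer (Q : Set G) ≤ Q := centralizer_pCore_le p hs hO
  have hQP : Q ≤ (P : Subgroup G) := pCore_le_sylow P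
  have hZQ : Zs ⊆ ((Q ⊓ Subgroup.centralizer (Q : Set G) : Subgroup G) : Set G) := by
    intro x hx
    have h1 : x ∈ Subgroup.centralizer (Q : Set G) := by
      rw [Subgroup.mem_centralizer_iff]
      intro y hy
      exact (hx.2.1 y (hQP hy)).symm
    exact ⟨hCQ h1, h1⟩
  have hCQn : (Subgroup.centralizer (Q : Set G)).Normal := Subgroup.normal_centralizer
  have hZQn : (Q ⊓ Subgroup.centralizer (Q : Set G)).Normal := inferInstance
  set V := Subgroup.normalClosure Zs with hV
  have hVn : V.Normal := Subgroup.normalClosure_normal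
  have hVZQ : V ≤ Q ⊓ Subgroup.centralizer (Q : Set G) := Subgroup.normalClosure_le_normal hZQ
  have hVcomm : ∀ x ∈ V, ∀ y ∈ V, x * y = y * x := by
    intro x hx y hy
    have h1 : x ∈ Subgroup.centralizer (Q : Set G) := (hVZQ hx).2
    have h2 : y ∈ Q := (hVZQ hy).1
    rw [Subgroup.mem_centralizer_iff] at h1
    exact (h1 y h2).symm
  have hVexp : ∀ v ∈ V, v ^ p = 1 := by
    intro v hv
    rw [hV] at hv
    unfold Subgroup.normalClosure at hv
    induction hv using Subgroup.closure_induction with
    | mem x hx =>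
      obtain ⟨z, hz, hzx⟩ := Group.mem_conjugatesOfSet_iff.mp hx
      obtain ⟨g, rfl⟩ := isConj_iff.mp hzx
      rw [conj_pow, hz.2.2]; simp
    | one => exact one_pow p
    | mul x y hx hy ihx ihy =>
      have hc : Commute x y := hVcomm x hx y hy
      rw [hc.mul_pow, ihx, ihy, one_mul]
    | inv x hx ih => rw [inv_pow, ih, inv_one]
  have hVea : IsElementaryAbelian p V :=
    ⟨⟨⟨fun a b => Subtype.ext (hVcomm a a.2 b b.2)⟩⟩, hVexp⟩
  have hVP : V ≤ (P : Subgroup G) := hVZQ.trans (inf_le_left.trans hQP)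
  set C := Subgroup.centralizer (V : Set G) with hC
  have hCn : C.Normal := Subgroup.normal_centralizer
  have hCZ : C ≤ Subgroup.centralizer Zs :=
    Subgroup.centralizer_le Subgroup.subset_normalClosure
  by_cases hJ : thompsonSubgroupOf p (P : Subgroup G) ≤ C
  · obtain ⟨a, ha, c, hc, rfl⟩ := Cfsg.Agent.Lib.Helper16.ZJ.frattini_inf_normal P C g
    refine ⟨a, ?_, c, hCZ hc, rfl⟩
    have hJeq : thompsonSubgroupOf p ((P : Subgroup G) ⊓ C)
        = thompsonSubgroupOf p (P : Subgroup G) :=
      Cfsg.Agent.Lib.Helper02.thompsonOf_eq_of_le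
        (le_inf (Cfsg.Agent.Lib.Helper02.thompsonOf_le _) hJ) inf_le_left
    have := Cfsg.Agent.Lib.Helper02.normalizer_le_normalizer_thompsonOf (p := p)
      ((P : Subgroup G) ⊓ C) ha
    rw [hJeq] at this
    exact this
  · exfalso
    obtain ⟨b, hbP, hbp, hbC, hbq⟩ := Cfsg.Agent.Lib.Lead.exists_b P V hVea hVP hJ
    letI : CommGroup V :=
      { (inferInstance : Group V) with
        mul_comm := fun x y => Subtype.ext (hVcomm x x.2 y y.2) }
    have hexp : ∀ v : V, v ^ p = 1 := fun v => Subtype.ext (by simpa using hVexp v v.2)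
    have hker : C ≤ (MulAut.conjNormal (H := V)).ker := by
      intro g hg
      rw [MonoidHom.mem_ker]
      ext v
      rw [MulAut.conjNormal_apply]
      have := Subgroup.mem_centralizer_iff.mp hg v v.2
      show g * v * g⁻¹ = v
      rw [← this]; simp
    let cbar : G ⧸ C →* MulAut V := QuotientGroup.lift _ MulAut.conjNormal hker
    have hinj : Function.Injective cbar := by
      rw [injective_iff_map_eq_one]
      intro x hx
      induction x using QuotientGroup.induction_on with
      | H g =>
        rw [QuotientGroup.lift_mk] at hx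
        rw [QuotientGroup.eq_one_iff, Subgroup.mem_centralizer_iff]
        intro v hv
        have h1 : g * v * g⁻¹ = v := by
          rw [← MulAut.conjNormal_apply (H := V) g ⟨v, hv⟩, hx]; rfl
        calc v * g = (g * v * g⁻¹) * g := by rw [h1]
          _ = g * v := by simp
    have hsY : Group.IsSolvable (G ⧸ C) := inferInstance
    have : Fact (Nat.Prime 2) := ⟨Nat.prime_two⟩
    have h3Y : p = 3 → ∀ T : Sylow 2 (G ⧸ C), IsMulCommutative T := fun h T =>
      Cfsg.Agent.Lib.Helper52.sylow_two_comm_of_surjective (QuotientGroup.mk' C)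
        (QuotientGroup.mk'_surjective C) default (h3 h default) T
    have hmem : (QuotientGroup.mk b : G ⧸ C) ∈ pCore p (G ⧸ C) := by
      refine mem_pCore_of_quadratic_solvable hp hexp cbar hinj _ ?_ hsY h3Y
      intro v
      have e : cbar (QuotientGroup.mk b) = MulAut.conjNormal b := QuotientGroup.lift_mk _ _ b
      rw [e]
      apply Subtype.ext
      rw [MulAut.conjNormal_apply, Subgroup.coe_div, MulAut.conjNormal_apply, div_eq_mul_inv]
      have hc := hbq (v : G) v.2
      set k := (v : G) * b * (v : G)⁻¹ * b⁻¹ with hk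
      have h1 : b * (v : G) * b⁻¹ * (v : G)⁻¹ = k⁻¹ := by rw [hk]; group
      rw [h1]
      have h2 : Commute b k⁻¹ := (show Commute b k from hc).inv_right
      calc b * k⁻¹ * b⁻¹ = (k⁻¹ * b) * b⁻¹ := by rw [h2.eq]
        _ = k⁻¹ := by group
    set D := (pCore p (G ⧸ C)).comap (QuotientGroup.mk' C) with hD
    have hDn : D.Normal := (Cfsg.Agent.Lib.Helper52.pCore_normal p (G ⧸ C)).comap _
    have hDZ : ∀ d ∈ D, d ∈ Subgroup.centralizer Zs := by
      intro d hd
      have hd' : (QuotientGroup.mk' C d) ∈ pCore p (G ⧸ C) := hd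
      have hsyl := pCore_le_sylow (P.mapSurjective (QuotientGroup.mk'_surjective C)) hd'
      rw [Sylow.coe_mapSurjective] at hsyl
      obtain ⟨x, hxP, hxd⟩ := hsyl
      have hxc : x⁻¹ * d ∈ C := QuotientGroup.eq.mp hxd
      have hxZ : x ∈ Subgroup.centralizer Zs := by
        rw [Subgroup.mem_centralizer_iff]
        intro z hz
        exact hz.2.1 x hxP
      have : d = x * (x⁻¹ * d) := by group
      rw [this]
      exact Subgroup.mul_mem _ hxZ (hCZ hxc)
    have hDC : D ≤ C := by
      intro d hd
      rw [hC, Subgroup.mem_centralizer_iff]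
      intro v hv
      have hle : V ≤ Subgroup.centralizer ({d} : Set G) := by
        rw [hV]; unfold Subgroup.normalClosure
        rw [Subgroup.closure_le]
        intro w hw
        obtain ⟨z, hz, hzw⟩ := Group.mem_conjugatesOfSet_iff.mp hw
        obtain ⟨g, rfl⟩ := isConj_iff.mp hzw
        have hgd : g⁻¹ * d * g ∈ D := by
          have := hDn.conj_mem d hd g⁻¹
          simpa using this
        have h1 := Subgroup.mem_centralizer_iff.mp (hDZ _ hgd) z hz
        show g * z * g⁻¹ ∈ Subgroup.centralizer ({d} : Set G)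
        rw [Subgroup.mem_centralizer_iff]
        intro h hh
        rw [Set.mem_singleton_iff] at hh
        subst hh
        calc h * (g * z * g⁻¹) = g * ((g⁻¹ * h * g) * z) * g⁻¹ := by group
          _ = g * (z * (g⁻¹ * h * g)) * g⁻¹ := by rw [h1]
          _ = g * z * g⁻¹ * h := by group
      have := Subgroup.mem_centralizer_iff.mp (hle hv) d (Set.mem_singleton d)
      exact this.symm
    exact hbC (hDC hmem)

end main

end Cfsg.Agent.Lib.Helper61.ThompsonFact
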