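import Mathlib

/-!
Transfer into an abelian group `A` through `ϕ : H →* A` when conjugates of powers of `g ∈ H`
that fall into `H` have the same `ϕ`-value as the power itself: `V(g) = ϕ(g) ^ [G:H]`.
-/

namespace Cfsg.Agent.Lib.Helper61

open Subgroup

theorem transfer_eq_pow_of_conj {G : Type*} [Group G] {H : Subgroup G} [H.FiniteIndex]
    {A : Type*} [CommGroup A] (ϕ : H →* A) (g : G) (hg : g ∈ H)
    (key : ∀ (k : ℕ) (g₀ : G) (hk : g₀⁻¹ * g ^ k * g₀ ∈ H),
      ϕ ⟨g₀⁻¹ * g ^ k * g₀, hk⟩ = ϕ ⟨g, hg⟩ ^ k) :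
    MonoidHom.transfer ϕ g = ϕ ⟨g, hg⟩ ^ H.index := by
  have : Fintype (Quotient (MulAction.orbitRel (zpowers (g : G)) (G ⧸ H))) :=
    Fintype.ofFinite _
  rw [index_eq_sum_minimalPeriod H g, ← Finset.prod_pow_eq_pow_sum,
    MonoidHom.transfer_eq_prod_quotient_orbitRel_zpowers_quot]
  apply Finset.prod_congr rfl
  intro q _
  exact key _ _ _

/-- A `p`-element whose `n`-th power (with `n` prime to `p`) lies in a subgroup lies in it. -/
theorem mem_of_pow_mem_of_coprime_orderOf {G : Type*} [Group G] (K : Subgroup G) (g : G) (n : ℕ)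
    (hc : (orderOf g).Coprime n) (h : g ^ n ∈ K) : g ∈ K := by
  have hz : g ∈ Subgroup.zpowers (g ^ n) := by
    rw [mem_zpowers_pow_iff]
    exact hc.symm
  exact (Subgroup.zpowers_le.mpr h) hz

end Cfsg.Agent.Lib.Helper61
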